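import Cfsg.Agent.H65.BSWEnd
import Mathlib.GroupTheory.Nilpotent
import Mathlib.GroupTheory.SchurZassenhaus

/-!
The Brauer-Suzuki-Wall theorem: the second case.
-/

set_option autoImplicit false
set_option linter.unusedSectionVars false
set_option maxHeartbeats 1000000

namespace H65.BSW

open Subgroup Cfsg
open scoped Classical ComplexConjugate

universe u

variable {G : Type u} [Group G] [Fintype G] {t s : G} {K : Subgroup G} (h : Hyp t s K)
include h

/-- An odd element of the shape `d * v` with `v` inverting `d` is trivial. -/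
theorem mem_of_odd {D : Subgroup G} {v n : G} (hv : v * v = 1)
    (hinv : ∀ d ∈ D, v * d * v⁻¹ = d⁻¹) (hn : n ∈ D ∨ n * v ∈ D) (hodd : Odd (orderOf n)) :
    n ∈ D := by
  rcases hn with hn | hn
  · exact hn
  · have hvi : v⁻¹ = v := inv_eq_of_mul_eq_one_right hv
    have e := hinv _ hn
    have hsq : n ^ 2 = 1 := by
      rw [mul_inv_rev, hvi] at e
      calc n ^ 2 = n * (v * v) * (n * (v * v)) := by rw [hv, mul_one, pow_two]
        _ = (n * v) * (v * (n * v) * v) := by simp only [mul_assoc]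
        _ = (n * v) * (v * n⁻¹) := by rw [e]
        _ = n * (v * v) * n⁻¹ := by simp only [mul_assoc]
        _ = 1 := by rw [hv, mul_one, mul_inv_cancel]
    have h2 : orderOf n ∣ 2 := orderOf_dvd_of_pow_eq_one hsq
    have h1 : orderOf n = 1 := by
      rcases (Nat.dvd_prime Nat.prime_two).1 h2 with r | r
      · exact r
      · rw [r] at hodd; exact absurd hodd (by decide)
    rw [orderOf_eq_one_iff.1 h1]
    exact one_mem _

theorem norm_K_odd {X : Subgroup G} (hX : X ≤ K) (hX1 : X ≠ ⊥) {n : G}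
    (hn : n ∈ normalizer (X : Set G)) (hodd : Odd (orderOf n)) : n ∈ K := by
  rw [normalizer_K h hX hX1] at hn
  by_contra hnK
  rw [(outer h hn hnK).1] at hodd
  exact absurd hodd (by decide)

/-- The order of the group in the second case. -/
theorem minus_card (S : Data h) (hd : S.δ = -1) :
    (centralizer ({t} : Set G)).index = (2 * Nat.card K - 1) * (Nat.card K - 1) ∧
    Nat.card G = 2 * Nat.card K * ((2 * Nat.card K - 1) * (Nat.card K - 1)) := by
  have hk2 : 2 ≤ Nat.card K := two_le h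
  have hN := S.hN
  rw [hd] at hN
  have e : (centralizer ({t} : Set G)).index = (2 * Nat.card K - 1) * (Nat.card K - 1) := by
    apply Nat.cast_injective (R := ℤ)
    rw [Nat.cast_mul, Nat.cast_sub (by omega), Nat.cast_sub (by omega)]
    push_cast
    linarith
  exact ⟨e, by rw [card_G h, e]⟩

/-- The elements outside the conjugates of `K` in the second case. -/
theorem minus_sets (S : Data h) (hd : S.δ = -1) :
    (∀ g, g ≠ 1 → ¬ InU K g → ∀ a, orderOf a = 2 → a * g * a⁻¹ = g⁻¹ →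
      ecount g = Nat.card K - 1) ∧
    ∃ W : Finset G, W.card = 4 * Nat.card K * (Nat.card K - 1) ∧
      ((2 < Nat.card K → ∃ g, g ≠ 1 ∧ ¬ InU K g ∧ ∃ a, orderOf a = 2 ∧ a * g * a⁻¹ = g⁻¹)) ∧
      ∀ g, g ∈ W ↔ g ≠ 1 ∧ ¬ InU K g ∧ ∀ a, orderOf a = 2 → a * g * a⁻¹ ≠ g⁻¹ := by
  obtain ⟨sW, s1, s2⟩ := sums h S
  have hN := S.hN
  rw [hd] at s1 s2 hN
  set k := Nat.card K with hk
  have hk2 : 2 ≤ k := two_le h
  set N := (centralizer ({t} : Set G)).index with hNdef
  have hN' : (N : ℤ) = (2 * k - 1) * (k - 1) := by linarith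
  have hsum : ∑ g ∈ outSet K, (aval h S g ^ 2 - aval h S g) = 0 := by
    rw [Finset.sum_sub_distrib, s1, s2, hN']; ring
  have hm : ∀ g ∈ outSet K, aval h S g = 0 ∨ aval h S g = 1 := by
    intro g hg
    have hnn : ∀ x ∈ outSet K, 0 ≤ aval h S x ^ 2 - aval h S x := fun x _ => by
      rcases lt_or_ge (aval h S x) 1 with r | r <;> nlinarith
    have := (Finset.sum_eq_zero_iff_of_nonneg hnn).1 hsum g hg
    have e : aval h S g * (aval h S g - 1) = 0 := by linear_combination this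
    exact (mul_eq_zero.1 e).imp id fun r => by omega
  have hreal : ∀ g, g ≠ 1 → ¬ InU K g →
      ((∃ a, orderOf a = 2 ∧ a * g * a⁻¹ = g⁻¹) ↔ aval h S g = 1) ∧
      (aval h S g = 1 → ecount g = k - 1) := by
    intro g hg1 hgU
    have he := (aval_spec h S hgU).2.2 hd
    have hk1 : ((k - 1 : ℕ) : ℤ) = (k : ℤ) - 1 := by omega
    refine ⟨⟨fun ⟨a, ha, hag⟩ => ?_, fun r => ?_⟩, fun r => ?_⟩
    · refine (hm g ((mem_outSet h).2 ⟨hg1, hgU⟩)).resolve_left fun r => ?_
      rw [r, mul_zero, (real_cent h hg1 hgU ha hag).2.2] at he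
      have : 0 < Nat.card (centralizer ({g} : Set G)) := Nat.card_pos
      omega
    · refine ecount_pos h ?_
      rw [r, mul_one] at he
      omega
    · rw [r, mul_one] at he
      omega
  refine ⟨fun g hg1 hgU a ha hag => (hreal g hg1 hgU).2 ((hreal g hg1 hgU).1.1 ⟨a, ha, hag⟩), ?_⟩
  set W₁ := (outSet K).filter fun g => aval h S g = 1 with hW₁
  have hW₁c : (W₁.card : ℤ) = (2 * (k : ℤ) - 1) * ((k : ℤ) * (k - 2)) := by
    have e : ∑ g ∈ outSet K, aval h S g = (W₁.card : ℤ) := by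
      have e1 : ∀ g ∈ outSet K, aval h S g = (if aval h S g = 1 then 1 else 0) := fun g hg => by
        rcases hm g hg with r | r <;> rw [r] <;> norm_num
      rw [Finset.sum_congr rfl e1, Finset.sum_boole]
    rw [s1, hN'] at e
    linear_combination -e
  refine ⟨outSet K \ W₁, ?_, fun hk3 => ?_, fun g => ?_⟩
  · have hle : W₁.card ≤ (outSet K).card := Finset.card_filter_le _ _
    apply Nat.cast_injective (R := ℤ)
    rw [Finset.card_sdiff_of_subset (Finset.filter_subset _ _), Nat.cast_sub hle, hW₁c, sW,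
      Nat.cast_mul, Nat.cast_sub (by omega : 1 ≤ k), hN']
    push_cast
    ring
  · obtain ⟨g, hg⟩ : W₁.Nonempty := by
      rw [← Finset.card_pos]
      have : (0 : ℤ) < W₁.card := by
        rw [hW₁c]; exact mul_pos (by omega) (mul_pos (by omega) (by omega))
      exact_mod_cast this
    obtain ⟨hgW, hg1⟩ := Finset.mem_filter.1 hg
    obtain ⟨g1, gU⟩ := (mem_outSet h).1 hgW
    exact ⟨g, g1, gU, (hreal g g1 gU).1.2 hg1⟩
  · simp only [Finset.mem_sdiff, hW₁, Finset.mem_filter, mem_outSet h]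
    constructor
    · rintro ⟨⟨g1, gU⟩, hne⟩
      exact ⟨g1, gU, fun a ha hag => hne ⟨⟨g1, gU⟩, (hreal g g1 gU).1.1 ⟨a, ha, hag⟩⟩⟩
    · rintro ⟨g1, gU, hno⟩
      refine ⟨⟨g1, gU⟩, fun q => ?_⟩
      obtain ⟨a, ha, hag⟩ := (hreal g g1 gU).1.2 q.2
      exact hno a ha hag

/-- The torus of order `k - 1`. -/
theorem exists_D (S : Data h) (hd : S.δ = -1) :
    ∃ D : Subgroup G, Nat.card D = Nat.card K - 1 ∧ (∀ x ∈ D, ∀ y ∈ D, x * y = y * x) ∧
      (∀ x ∈ D, t * x * t⁻¹ = x⁻¹) ∧ (∀ x ∈ D, x ≠ 1 → ¬ InU K x) ∧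
      ∀ X : Subgroup G, X ≤ D → X ≠ ⊥ →
        normalizer (X : Set G) = normalizer (D : Set G) ∧
        normalizer (D : Set G) = D ⊔ zpowers t ∧
        ∀ n ∈ normalizer (X : Set G), Odd (orderOf n) → n ∈ D := by
  obtain ⟨hec, W, -, hne, -⟩ := minus_sets h S hd
  set k := Nat.card K with hk
  have hk2 : 2 ≤ k := two_le h
  rcases hk2.eq_or_lt with hk3 | hk3
  · refine ⟨⊥, ?_, fun x hx y hy => ?_, fun x hx => ?_, fun x hx hx1 => absurd (mem_bot.1 hx) hx1,
      fun X hX hX1 => absurd (le_bot_iff.1 hX) hX1⟩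
    · rw [Subgroup.card_bot, ← hk3]
    · rw [mem_bot.1 hx, one_mul, mul_one]
    · rw [mem_bot.1 hx]; group
  · obtain ⟨x₀, hx₀1, hx₀U, a, ha, hax⟩ := hne hk3
    obtain ⟨c, hc⟩ := isConj_iff.1 (h.conj a t ha h.t2)
    set x := c * x₀ * c⁻¹ with hx
    have hxU : ¬ InU K x := fun q => hx₀U ((inU_conj_iff h c).1 q)
    have hx1 : x ≠ 1 := fun q => hx₀1 (conj_eq_one_iff.1 q)
    have htx : t * x * t⁻¹ = x⁻¹ := by
      rw [← hc, hx, show c * a * c⁻¹ * (c * x₀ * c⁻¹) * (c * a * c⁻¹)⁻¹ = c * (a * x₀ * a⁻¹) * c⁻¹ by group,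
        hax]
      group
    obtain ⟨hinv, hcent, hcard⟩ := real_cent h hx1 hxU h.t2 htx
    set D := centralizer ({x} : Set G) with hD
    have hDc : Nat.card D = k - 1 := by rw [← hcard, hec x hx1 hxU t h.t2 htx]
    have hxD : x ∈ D := mem_centralizer_singleton_iff.2 rfl
    have hDU : ∀ y ∈ D, y ≠ 1 → ¬ InU K y := fun y hy hy1 =>
      (not_inU_cent h hx1 hxU hy).resolve_left hy1
    have hcomm : ∀ y ∈ D, ∀ z ∈ D, y * z = z * y := fun y hy z hz => by
      by_cases hz1 : z = 1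
      · rw [hz1, one_mul, mul_one]
      · exact mem_centralizer_singleton_iff.1 ((hcent z hz hz1).symm ▸ hy)
    have hnorm := norm_of_cent hcent
    -- the part centralising `t`
    set L := normalizer (D : Set G) ⊓ centralizer ({t} : Set G) with hL
    have hLK : L ≤ K := fun y hy => mem_K_of_norm h hxD hx1 hDU hinv le_rfl hy.2 hy.1
    have hLd : Nat.card L ∣ Nat.card D - 1 := card_dvd_of_free
      (fun y hy d hd' => (mem_normalizer_iff.1 hy.1 d).1 hd')
      (fun y hy d hd' hd1 e => by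
        by_contra hy1
        exact hDU d hd' hd1 (inU_of_commute h (x := y) ⟨1, y, hLK hy, hy1, by group⟩
          (mul_inv_eq_iff_eq_mul.1 e).symm hd1))
    have htL : t ∈ L := ⟨mem_normalizer_iff.2 fun y => ⟨fun hy => by rw [hinv y hy]; exact inv_mem hy,
      fun hy => by
        have := hinv _ hy
        rw [show t * (t * y * t⁻¹) * t⁻¹ = (t * t) * y * (t * t)⁻¹ by group, t_mul h] at this
        rw [show y = (1 : G) * y * 1⁻¹ by group, this]
        exact inv_mem hy⟩, h.le h.tK⟩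
    have hLeq : zpowers t = L := by
      refine Subgroup.eq_of_le_of_card_ge (zpowers_le.2 htL) ?_
      rw [Nat.card_zpowers, h.t2]
      refine Nat.le_of_dvd two_pos ?_
      rw [hDc] at hLd
      obtain ⟨i, hi⟩ := hLd
      obtain ⟨j, hj⟩ : Nat.card L ∣ k := card_dvd_of_le hLK
      refine (Int.natCast_dvd_natCast (n := 2)).1 ⟨(j : ℤ) - i, ?_⟩
      have hi' : ((k - 1 - 1 : ℕ) : ℤ) = ((Nat.card L * i : ℕ) : ℤ) := by rw [hi]
      have hj' : (k : ℤ) = ((Nat.card L * j : ℕ) : ℤ) := by rw [← hj]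
      push_cast at hi' hj' ⊢
      rw [mul_sub, ← hj', ← hi']
      omega
    have huniq : ∀ v : G, orderOf v = 2 → (∀ y ∈ D, v * y * v⁻¹ = y⁻¹) → v * t ∈ D := fun v hv hvD => by
      refine mem_centralizer_singleton_iff.2 ?_
      have e1 : t * x = x⁻¹ * t := mul_inv_eq_iff_eq_mul.1 htx
      have e2 : v * x⁻¹ = x * v := by
        have := mul_inv_eq_iff_eq_mul.1 (hvD x⁻¹ (inv_mem hxD))
        rwa [inv_inv] at this
      rw [mul_assoc, e1, ← mul_assoc, e2, mul_assoc]
    have hodd := odd_cent h hx1 hxU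
    have hmem : ∀ n ∈ normalizer (D : Set G), n ∈ D ∨ n * t ∈ D := by
      intro n hn
      obtain ⟨w, hw, hwn⟩ := norm_inter h (t_mul h) hodd hinv huniq h.t2 hn
      have hl : w * n ∈ L := ⟨mul_mem (le_normalizer hw) hn, hwn⟩
      rw [← hLeq] at hl
      obtain ⟨i, hi⟩ := mem_zpowers_iff.1 hl
      rw [← zpow_mod_orderOf, h.t2] at hi
      rcases Int.emod_two_eq_zero_or_one i with e | e <;> norm_num [e] at hi
      · left
        rw [eq_inv_of_mul_eq_one_right hi.symm]; exact inv_mem hw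
      · right
        rw [show n * t = w⁻¹ * (w * n * t) by group, ← hi, t_mul h, mul_one]
        exact inv_mem hw
    refine ⟨D, hDc, hcomm, hinv, hDU, fun X hX hX1 => ?_⟩
    obtain ⟨y, hy, hy1⟩ := X.bot_or_exists_ne_one.resolve_left hX1
    have hsub : ∀ n ∈ normalizer (X : Set G), n ∈ normalizer (D : Set G) := fun n hn =>
      hnorm y (hX hy) hy1 n (hX ((mem_normalizer_iff.1 hn y).1 hy))
    have hsup : normalizer (D : Set G) = D ⊔ zpowers t := by
      refine le_antisymm (fun n hn => ?_) (sup_le le_normalizer (zpowers_le.2 htL.1))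
      rcases hmem n hn with r | r
      · exact mem_sup_left r
      · rw [show n = n * t * t⁻¹ by group]
        exact mul_mem_sup r (inv_mem (mem_zpowers t))
    refine ⟨le_antisymm hsub ?_, hsup, fun n hn hno =>
      mem_of_odd h (t_mul h) hinv (hmem n (hsub n hn)) hno⟩
    rw [hsup, sup_le_iff]
    refine ⟨fun d hd' => ?_, zpowers_le.2 ?_⟩
    · refine mem_normalizer_iff.2 fun z => ⟨fun hz => ?_, fun hz => ?_⟩
      · rw [hcomm d hd' z (hX hz), mul_inv_cancel_right]; exact hz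
      · have hzD : z ∈ D := by
          have := mul_mem (mul_mem (inv_mem hd') (hX hz)) hd'
          rwa [show d⁻¹ * (d * z * d⁻¹) * d = z by group] at this
        rwa [hcomm d hd' z hzD, mul_inv_cancel_right] at hz
    · refine mem_normalizer_iff.2 fun z => ⟨fun hz => ?_, fun hz => ?_⟩
      · rw [hinv z (hX hz)]; exact inv_mem hz
      · have e := hinv _ (hX hz)
        rw [show t * (t * z * t⁻¹) * t⁻¹ = (t * t) * z * (t * t)⁻¹ by group, t_mul h, one_mul,
          inv_one, mul_one] at e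
        rw [e]; exact inv_mem hz

theorem inU_orderOf {g : G} (hg : InU K g) : orderOf g ∣ Nat.card K := by
  obtain ⟨c, y, hy, -, rfl⟩ := hg
  rw [← MulAut.conj_apply, MulEquiv.orderOf_eq]
  exact Subgroup.orderOf_dvd_natCard K hy

theorem case_minus (S : Data h) (hd : S.δ = -1) : Conclusion h := by
  obtain ⟨-, W, hWc, -, hW⟩ := minus_sets h S hd
  obtain ⟨D, hDc, hDcomm, hDt, hDU, hDN⟩ := exists_D h S hd
  obtain ⟨hN, hG⟩ := minus_card h S hd
  set k := Nat.card K with hk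
  have hk2 : 2 ≤ k := two_le h
  have hkeven : 2 ∣ k := even_K h
  obtain ⟨q, hq⟩ : ∃ q, q = 2 * k - 1 := ⟨_, rfl⟩
  rw [← hq] at hN hG
  -- indices
  have hKi : K.index = 2 * (q * (k - 1)) := by
    apply Nat.eq_of_mul_eq_mul_left (show 0 < k by omega)
    rw [hk, K.card_mul_index, hG]; ring
  have hDi : D.index = 2 * k * q := by
    apply Nat.eq_of_mul_eq_mul_left (show 0 < k - 1 by omega)
    rw [← hDc, D.card_mul_index, hG, hDc]; ring
  have hcop : ∀ r : ℕ, r.Prime → r ∣ q → ¬ r ∣ k ∧ ¬ r ∣ k - 1 ∧ r ≠ 2 := by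
    intro r hr hrq
    refine ⟨fun hrk => ?_, fun hrk => ?_, ?_⟩
    · have := Nat.dvd_sub (hrk.mul_left 2) hrq
      rw [hq, show 2 * k - (2 * k - 1) = 1 by omega] at this
      exact hr.not_dvd_one this
    · have := Nat.dvd_sub hrq (hrk.mul_left 2)
      rw [hq, show 2 * k - 1 - 2 * (k - 1) = 1 by omega] at this
      exact hr.not_dvd_one this
    · rintro rfl; rw [hq] at hrq; omega
  have hrK : ∀ r : ℕ, r.Prime → r ≠ 2 → r ∣ k → ¬ r ∣ K.index := by
    intro r hr hr2 hrk hri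
    rw [hKi] at hri
    rcases hr.dvd_mul.1 hri with e | e
    · exact hr2 ((Nat.prime_dvd_prime_iff_eq hr Nat.prime_two).1 e)
    rcases hr.dvd_mul.1 e with e | e
    · exact (hcop r hr e).1 hrk
    · have := Nat.dvd_sub hrk e
      rw [show k - (k - 1) = 1 by omega] at this
      exact hr.not_dvd_one this
  have hrD : ∀ r : ℕ, r.Prime → r ∣ k - 1 → ¬ r ∣ D.index := by
    intro r hr hrk hri
    rw [hDi] at hri
    rcases hr.dvd_mul.1 hri with e | e
    rcases hr.dvd_mul.1 e with e | e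
    · have e2 := (Nat.prime_dvd_prime_iff_eq hr Nat.prime_two).1 e
      subst e2
      omega
    · have := Nat.dvd_sub e hrk
      rw [show k - (k - 1) = 1 by omega] at this
      exact hr.not_dvd_one this
    · exact (hcop r hr e).2.1 hrk
  -- the set `W`
  have hWconj : ∀ g ∈ W, ∀ c : G, c * g * c⁻¹ ∈ W := by
    intro g hg c
    obtain ⟨g1, gU, gno⟩ := (hW g).1 hg
    refine (hW _).2 ⟨fun e => g1 (conj_eq_one_iff.1 e), fun e => gU ((inU_conj_iff h c).1 e),
      fun a ha hag => gno (c⁻¹ * a * c) ?_ ?_⟩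
    · rw [show c⁻¹ * a * c = c⁻¹ * a * c⁻¹⁻¹ by group, ← MulAut.conj_apply, MulEquiv.orderOf_eq, ha]
    · calc c⁻¹ * a * c * g * (c⁻¹ * a * c)⁻¹ = c⁻¹ * (a * (c * g * c⁻¹) * a⁻¹) * c := by group
        _ = g⁻¹ := by rw [hag]; group
  have hWcent : ∀ g ∈ W, ∀ x ∈ centralizer ({g} : Set G), x ≠ 1 → x ∈ W := by
    intro g hg x hx hx1
    obtain ⟨g1, gU, gno⟩ := (hW g).1 hg
    have hxU := (not_inU_cent h g1 gU hx).resolve_left hx1
    exact (hW x).2 ⟨hx1, hxU, fun a ha hax => gno a ha ((real_cent h hx1 hxU ha hax).1 g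
      (mem_centralizer_singleton_iff.2 (mem_centralizer_singleton_iff.1 hx).symm))⟩
  have hWinv : ∀ g ∈ W, g⁻¹ ∈ W := fun g hg =>
    hWcent g hg _ (inv_mem (mem_centralizer_singleton_iff.2 rfl)) (inv_ne_one.2 ((hW g).1 hg).1)
  have hWord : ∀ g ∈ W, Nat.card (centralizer ({g} : Set G)) = q := by
    intro g hg
    obtain ⟨g1, gU, gno⟩ := (hW g).1 hg
    set C := centralizer ({g} : Set G) with hC
    have hodd : Odd (Nat.card C) := odd_cent h g1 gU
    have hpr : ∀ r : ℕ, r.Prime → r ∣ Nat.card C → r ≠ 2 ∧ ¬ r ∣ k ∧ ¬ r ∣ k - 1 := by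
      intro r hr hrC
      haveI : Fact r.Prime := ⟨hr⟩
      have hr2 : r ≠ 2 := by rintro rfl; exact hodd.not_two_dvd_nat hrC
      obtain ⟨w, hw⟩ := exists_prime_orderOf_dvd_card' r hrC
      have hw' : orderOf (w : G) = r := by rw [Subgroup.orderOf_coe, hw]
      have hw1 : (w : G) ≠ 1 := fun e => by rw [e, orderOf_one] at hw'; exact hr.one_lt.ne hw'
      obtain ⟨-, wU, wno⟩ := (hW _).1 (hWcent g hg w w.2 hw1)
      refine ⟨hr2, fun hrk => ?_, fun hrk => ?_⟩
      · obtain ⟨c, hc⟩ := conj_into (hrK r hr hr2 hrk) (x := (w : G)) ⟨1, by rw [hw', pow_one]⟩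
        exact wU ((inU_conj_iff h c).1 ⟨1, _, hc, fun e => hw1 (conj_eq_one_iff.1 e), by group⟩)
      · obtain ⟨c, hc⟩ := conj_into (hrD r hr hrk) (x := (w : G)) ⟨1, by rw [hw', pow_one]⟩
        refine wno (c⁻¹ * t * c) ?_ ?_
        · rw [show c⁻¹ * t * c = c⁻¹ * t * c⁻¹⁻¹ by group, ← MulAut.conj_apply, MulEquiv.orderOf_eq, h.t2]
        · calc c⁻¹ * t * c * w * (c⁻¹ * t * c)⁻¹ = c⁻¹ * (t * (c * w * c⁻¹) * t⁻¹) * c := by group
            _ = (w : G)⁻¹ := by rw [hDt _ hc]; group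
    have hdvd : Nat.card C ∣ q := by
      have hd' : Nat.card C ∣ (2 * (k * (k - 1))) * q := by
        refine (Subgroup.card_subgroup_dvd_card C).trans (dvd_of_eq ?_)
        rw [hG]; ring
      refine (Nat.coprime_of_dvd fun r hr hrC hr2 => ?_).dvd_of_dvd_mul_left hd'
      obtain ⟨q1, q2, q3⟩ := hpr r hr hrC
      rcases hr.dvd_mul.1 hr2 with e | e
      · exact q1 ((Nat.prime_dvd_prime_iff_eq hr Nat.prime_two).1 e)
      rcases hr.dvd_mul.1 e with e | e
      exacts [q2 e, q3 e]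
    have hcls : (clsF g).card ≤ W.card := Finset.card_le_card fun x hx => by
      obtain ⟨c, -, rfl⟩ := Finset.mem_image.1 hx
      exact hWconj g hg c
    have hcc := card_clsF g
    rw [hG] at hcc
    rw [hWc] at hcls
    have hlow : q ≤ 2 * Nat.card C := by
      have h1 : 2 * k * (q * (k - 1)) ≤ 4 * k * (k - 1) * Nat.card C := by
        rw [← hcc]; exact Nat.mul_le_mul_right _ hcls
      refine Nat.le_of_mul_le_mul_left (c := 2 * k * (k - 1)) ?_
        (Nat.mul_pos (by omega) (by omega))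
      calc 2 * k * (k - 1) * q = 2 * k * (q * (k - 1)) := by ring
        _ ≤ 4 * k * (k - 1) * Nat.card C := h1
        _ = 2 * k * (k - 1) * (2 * Nat.card C) := by ring
    obtain ⟨d, hd'⟩ := hdvd
    have hd2 : d ≤ 2 := by
      refine Nat.le_of_mul_le_mul_left (c := Nat.card C) ?_ Nat.card_pos
      rw [← hd', mul_comm]; exact hlow
    have hd0 : d ≠ 0 := by rintro rfl; omega
    have hd2' : d ≠ 2 := by rintro rfl; omega
    obtain rfl : d = 1 := by omega
    rw [hd', mul_one]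
  have hhalf : ∀ g ∈ W, (clsF g).card = 2 * k * (k - 1) := by
    intro g hg
    have hcc := card_clsF g
    rw [hWord g hg, hG] at hcc
    apply Nat.eq_of_mul_eq_mul_right (show 0 < q by omega)
    rw [hcc]; ring
  obtain ⟨g₀, hg₀⟩ : W.Nonempty := by
    rw [← Finset.card_pos, hWc]
    exact Nat.mul_pos (by omega) (by omega)
  -- `W` consists of two classes
  have hclasses : ∀ x ∈ W, ∃ c : G, c * g₀ * c⁻¹ = x ∨ c * g₀⁻¹ * c⁻¹ = x := by
    obtain ⟨g1, gU, gno⟩ := (hW g₀).1 hg₀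
    have hdis : Disjoint (clsF g₀) (clsF g₀⁻¹) := by
      rw [Finset.disjoint_left]
      intro x hx hx'
      obtain ⟨c, -, rfl⟩ := Finset.mem_image.1 hx
      obtain ⟨d, -, hd'⟩ := Finset.mem_image.1 hx'
      set e := d⁻¹ * c with he
      have hflip : e * g₀ * e⁻¹ = g₀⁻¹ := by
        calc e * g₀ * e⁻¹ = d⁻¹ * (c * g₀ * c⁻¹) * d := by rw [he]; group
          _ = g₀⁻¹ := by rw [← hd']; group
      have hflip2 : ∀ i : ℕ, e ^ i * g₀ * (e ^ i)⁻¹ = if Even i then g₀ else g₀⁻¹ := by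
        intro i
        induction i with
        | zero => simp
        | succ i ih =>
          rw [show e ^ (i + 1) * g₀ * (e ^ (i + 1))⁻¹ = e * (e ^ i * g₀ * (e ^ i)⁻¹) * e⁻¹ by
            rw [pow_succ']; group, ih]
          by_cases hi : Even i
          · rw [if_pos hi, if_neg (by simp [Nat.even_add_one, hi]), hflip]
          · rw [if_neg hi, if_pos (by simp [Nat.even_add_one, hi]), ← conj_inv, hflip, inv_inv]
      obtain ⟨j, m, hm2, hej⟩ := Nat.exists_eq_pow_mul_and_not_dvd (orderOf_pos e).ne' 2 (by norm_num)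
      have hm : ¬ Even m := fun r => hm2 r.two_dvd
      have hv := hflip2 m
      rw [if_neg hm] at hv
      have hv2 : (e ^ m) ^ 2 ∈ centralizer ({g₀} : Set G) := by
        refine mem_centralizer_singleton_iff.2 ?_
        have h2 := hflip2 (m * 2)
        rw [if_pos ⟨m, by ring⟩, pow_mul] at h2
        exact mul_inv_eq_iff_eq_mul.1 h2
      have hv1 : (e ^ m) ^ 2 = 1 := by
        rw [← orderOf_eq_one_iff]
        have h1 := Subgroup.orderOf_dvd_natCard _ hv2
        have h2 : orderOf ((e ^ m) ^ 2) ∣ 2 ^ j := by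
          refine orderOf_dvd_of_pow_eq_one ?_
          rw [← pow_mul, ← pow_mul, show m * (2 * 2 ^ j) = 2 ^ j * m * 2 by ring, ← hej, pow_mul,
            pow_orderOf_eq_one, one_pow]
        exact Nat.eq_one_of_dvd_coprimes
          ((odd_cent h g1 gU).coprime_two_left.pow_left j).symm h1 h2
      by_cases hone : e ^ m = 1
      · rw [hone, inv_one, one_mul, mul_one] at hv
        exact gU (invol_inU h (orderOf_eq_prime (by rw [pow_two]; nth_rewrite 2 [hv]; group) g1))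
      · exact gno _ (orderOf_eq_prime hv1 hone) hv
    have hsub : clsF g₀ ∪ clsF g₀⁻¹ ⊆ W := by
      intro x hx
      rcases Finset.mem_union.1 hx with r | r <;> obtain ⟨c, -, rfl⟩ := Finset.mem_image.1 r
      exacts [hWconj _ hg₀ c, hWconj _ (hWinv _ hg₀) c]
    have heq := Finset.eq_of_subset_of_card_le hsub (by
      rw [Finset.card_union_of_disjoint hdis, hhalf _ hg₀, hhalf _ (hWinv _ hg₀), hWc]
      exact le_of_eq (by ring))
    intro x hx
    rw [← heq] at hx
    rcases Finset.mem_union.1 hx with r | r <;> obtain ⟨c, -, hc⟩ := Finset.mem_image.1 r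
    exacts [⟨c, Or.inl hc⟩, ⟨c, Or.inr hc⟩]
  set n₀ := orderOf g₀ with hn₀
  have hall : ∀ x ∈ W, orderOf x = n₀ := by
    intro x hx
    obtain ⟨c, r | r⟩ := hclasses x hx <;> rw [← r, ← MulAut.conj_apply, MulEquiv.orderOf_eq]
    rw [orderOf_inv]
  have hn₀1 : n₀ ≠ 1 := fun e => ((hW g₀).1 hg₀).1 (orderOf_eq_one_iff.1 e)
  have hpp : n₀.minFac.Prime := Nat.minFac_prime hn₀1
  obtain ⟨p, hp, hn₀p⟩ : ∃ p : ℕ, p.Prime ∧ n₀ = p := by
    refine ⟨_, hpp, ?_⟩
    have hd1 : n₀ / n₀.minFac ∣ n₀ := Nat.div_dvd_of_dvd (Nat.minFac_dvd _)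
    have ho : orderOf (g₀ ^ (n₀ / n₀.minFac)) = n₀.minFac := by
      rw [orderOf_pow_of_dvd (Nat.div_pos (Nat.minFac_le (orderOf_pos g₀)) hpp.pos).ne' hd1, ← hn₀,
        Nat.div_div_self (Nat.minFac_dvd _) (orderOf_pos g₀).ne']
    rw [← ho]
    refine (hall _ (hWcent g₀ hg₀ _ (pow_mem (mem_centralizer_singleton_iff.2 rfl) _) fun e => ?_)).symm
    rw [e, orderOf_one] at ho
    exact hpp.one_lt.ne ho
  haveI : Fact p.Prime := ⟨hp⟩
  have hpq : p ∣ q := by
    rw [← hWord g₀ hg₀, ← hn₀p]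
    exact Subgroup.orderOf_dvd_natCard _ (mem_centralizer_singleton_iff.2 rfl)
  have hCp : ∀ g ∈ W, IsPGroup p (centralizer ({g} : Set G)) := by
    intro g hg
    refine IsPGroup.iff_orderOf.2 fun x => ?_
    by_cases hx1 : (x : G) = 1
    · exact ⟨0, by rw [← Subgroup.orderOf_coe, hx1, orderOf_one, pow_zero]⟩
    · exact ⟨1, by rw [← Subgroup.orderOf_coe, hall _ (hWcent g hg x x.2 hx1), hn₀p, pow_one]⟩
  have hsyl : ∀ g ∈ W, ∃ P : Sylow p G, (P : Subgroup G) = centralizer ({g} : Set G) := by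
    intro g hg
    obtain ⟨P, hP⟩ := (hCp g hg).exists_le_sylow
    refine ⟨P, (Subgroup.eq_of_le_of_card_ge hP ?_).symm⟩
    rw [hWord g hg]
    refine Nat.le_of_dvd (by omega) ?_
    have hd' : Nat.card P ∣ (2 * (k * (k - 1))) * q := by
      refine (Subgroup.card_subgroup_dvd_card _).trans (dvd_of_eq ?_)
      rw [hG]; ring
    obtain ⟨j, hj⟩ := IsPGroup.iff_card.1 P.isPGroup'
    have hco : p.Coprime (2 * (k * (k - 1))) := (Nat.Prime.coprime_iff_not_dvd hp).2 fun r => by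
      obtain ⟨a1, a2, a3⟩ := hcop p hp hpq
      rcases hp.dvd_mul.1 r with e | e
      · exact a3 ((Nat.prime_dvd_prime_iff_eq hp Nat.prime_two).1 e)
      rcases hp.dvd_mul.1 e with e | e
      exacts [a1 e, a2 e]
    rw [hj] at hd' ⊢
    exact (hco.pow_left j).dvd_of_dvd_mul_left hd'
  obtain ⟨P₀, hP₀⟩ := hsyl g₀ hg₀
  have hPW : ∀ (P : Sylow p G), ∀ x ∈ (P : Subgroup G), x ≠ 1 → x ∈ W := by
    intro P x hx hx1
    obtain ⟨c, hc⟩ := MulAction.exists_smul_eq G P P₀
    have h1 : c * x * c⁻¹ ∈ (P₀ : Subgroup G) := by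
      rw [← hc, Sylow.coe_subgroup_smul]
      exact smul_mem_pointwise_smul x (MulAut.conj c) _ hx
    rw [hP₀] at h1
    have h2 := hWconj _ (hWcent g₀ hg₀ _ h1 fun e => hx1 (conj_eq_one_iff.1 e)) c⁻¹
    rwa [show c⁻¹ * (c * x * c⁻¹) * c⁻¹⁻¹ = x by group] at h2
  -- trivial intersection
  have hTI : ∀ P R : Sylow p G, (P : Subgroup G) ⊓ R ≠ ⊥ → P = R := by
    haveI := Fintype.ofFinite (Sylow p G)
    by_contra hcon
    push Not at hcon
    obtain ⟨P1, R1, hne1, hPR1⟩ := hcon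
    set T := (Finset.univ : Finset (Sylow p G × Sylow p G)).filter
      fun z => (z.1 : Subgroup G) ⊓ z.2 ≠ ⊥ ∧ z.1 ≠ z.2 with hT
    obtain ⟨⟨P, R⟩, hmem, hmax⟩ := T.exists_max_image
      (fun z => Nat.card ((z.1 : Subgroup G) ⊓ z.2 : Subgroup G))
      ⟨(P1, R1), Finset.mem_filter.2 ⟨Finset.mem_univ _, hne1, hPR1⟩⟩
    obtain ⟨hI0, hPR⟩ := (Finset.mem_filter.1 hmem).2
    simp only at hI0 hPR hmax
    set I := (P : Subgroup G) ⊓ R with hI
    set M := normalizer (I : Set G) with hM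
    have hMno : ∀ v ∈ M, orderOf v ≠ 2 := by
      intro v hv hv2
      have hvv : v * v = 1 := by rw [← pow_two, ← hv2]; exact pow_orderOf_eq_one v
      have hinv := fpf_inverts hvv (fun z hz => (mem_normalizer_iff.1 hv z).1 hz) (fun z hz e => by
        by_contra hz1
        exact ((hW z).1 (hPW P z hz.1 hz1)).2.1
          (inU_of_commute h (invol_inU h hv2) (mul_inv_eq_iff_eq_mul.1 e).symm hz1))
      obtain ⟨z, hz, hz1⟩ := I.bot_or_exists_ne_one.resolve_left hI0
      exact ((hW z).1 (hPW P z hz.1 hz1)).2.2 v hv2 (hinv z hz)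
    have hModd : Odd (Nat.card M) := by
      haveI : Fact (Nat.Prime 2) := ⟨Nat.prime_two⟩
      rw [← Nat.not_even_iff_odd, even_iff_two_dvd]
      intro h2
      obtain ⟨w, hw⟩ := exists_prime_orderOf_dvd_card' 2 h2
      exact hMno w w.2 (by rw [Subgroup.orderOf_coe, hw])
    have hB : ∀ r : ℕ, r.Prime → r ≠ p → r ∣ Nat.card M → ∀ X : Subgroup G, X ≤ M → IsPGroup r X →
        X ≠ ⊥ → ∀ n ∈ M, n ∈ normalizer (X : Set G) → ∀ y ∈ X, y * n = n * y := by
      intro r hr hrp hrM X _ hXr hX0 n hnM hnX y hy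
      haveI : Fact r.Prime := ⟨hr⟩
      have hr2 : r ≠ 2 := by rintro rfl; exact hModd.not_two_dvd_nat hrM
      have hrq : ¬ r ∣ q := by
        intro hrq
        obtain ⟨j, hj⟩ := IsPGroup.iff_card.1 (hCp g₀ hg₀)
        rw [hWord g₀ hg₀] at hj
        rw [hj] at hrq
        exact hrp ((Nat.prime_dvd_prime_iff_eq hr hp).1 (hr.dvd_of_dvd_pow hrq))
      have hno : Odd (orderOf n) := hModd.of_dvd_nat (Subgroup.orderOf_dvd_natCard _ hnM)
      have key : ∀ A : Subgroup G, ¬ r ∣ A.index → (∀ a ∈ A, ∀ b ∈ A, a * b = b * a) →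
          (∀ X' : Subgroup G, X' ≤ A → X' ≠ ⊥ → ∀ n' ∈ normalizer (X' : Set G), Odd (orderOf n') → n' ∈ A) →
          y * n = n * y := by
        intro A hA hAcomm hAN
        obtain ⟨c, hc⟩ := pgroup_conj_into hA hXr
        have hn' := hAN _ hc (conjMap_ne_bot hX0 c) _ (norm_conjMap hnX c)
          (by rwa [← MulAut.conj_apply, MulEquiv.orderOf_eq])
        have e := hAcomm _ (hc ⟨y, hy, rfl⟩) _ hn'
        change c * y * c⁻¹ * (c * n * c⁻¹) = c * n * c⁻¹ * (c * y * c⁻¹) at e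
        calc y * n = c⁻¹ * (c * y * c⁻¹ * (c * n * c⁻¹)) * c := by group
          _ = n * y := by rw [e]; group
      have hrdvd : r ∣ 2 * k * (q * (k - 1)) := by
        rw [← hG]; exact hrM.trans (Subgroup.card_subgroup_dvd_card M)
      rcases hr.dvd_mul.1 hrdvd with e | e
      · rcases hr.dvd_mul.1 e with e | e
        · exact absurd ((Nat.prime_dvd_prime_iff_eq hr Nat.prime_two).1 e) hr2
        · exact key K (hrK r hr hr2 e) h.comm fun X' hX' hX'0 n' hn' => norm_K_odd h hX' hX'0 hn'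
      · rcases hr.dvd_mul.1 e with e | e
        · exact absurd e hrq
        · exact key D (hrD r hr e) hDcomm fun X' hX' hX'0 n' hn' => (hDN X' hX' hX'0).2.2 n' hn'
    obtain ⟨U, hU⟩ := (pclosure_isPGroup M hB).exists_le_sylow
    have hgrow : ∀ Z : Sylow p G, I < (Z : Subgroup G) → U = Z := by
      intro Z hIZ
      haveI := Z.isPGroup'.isNilpotent
      have hlt : I.subgroupOf (Z : Subgroup G) < ⊤ := by
        rw [lt_top_iff_ne_top, Ne, subgroupOf_eq_top]
        exact hIZ.not_ge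
      obtain ⟨y, hyN, hyI⟩ := SetLike.exists_of_lt
        (Group.normalizerCondition_of_isNilpotent _ hlt)
      have hyM : (y : G) ∈ M := by
        refine mem_normalizer_iff.2 fun z => ⟨fun hz => ?_, fun hz => ?_⟩
        · exact (mem_normalizer_iff.1 hyN ⟨z, hIZ.le hz⟩).1 hz
        · have hzZ : z ∈ (Z : Subgroup G) := by
            have := mul_mem (mul_mem (inv_mem y.2) (hIZ.le hz)) y.2
            rwa [show (y : G)⁻¹ * ((y : G) * z * (y : G)⁻¹) * y = z by group] at this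
          exact (mem_normalizer_iff.1 hyN ⟨z, hzZ⟩).2 hz
      have hpe : ∀ w ∈ (Z : Subgroup G), w ∈ M → w ∈ (U : Subgroup G) := fun w hw hwM =>
        hU (subset_closure ⟨hwM, by
          obtain ⟨j, hj⟩ := IsPGroup.iff_orderOf.1 Z.isPGroup' ⟨w, hw⟩
          exact ⟨j, by rw [← hj, Subgroup.orderOf_mk]⟩⟩)
      by_contra hUZ
      have hle : I ≤ (U : Subgroup G) ⊓ Z := fun w hw =>
        ⟨hpe w (hIZ.le hw) (le_normalizer hw), hIZ.le hw⟩
      have hlt2 : I < (U : Subgroup G) ⊓ Z :=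
        lt_of_le_of_ne hle fun e => hyI (show (y : G) ∈ I by rw [e]; exact ⟨hpe y y.2 hyM, y.2⟩)
      have hne0 : (U : Subgroup G) ⊓ Z ≠ ⊥ := fun e => by
        rw [e] at hle; exact hI0 (le_bot_iff.1 hle)
      have hmax' : Nat.card ((U : Subgroup G) ⊓ Z : Subgroup G) ≤ Nat.card I :=
        hmax (U, Z) (Finset.mem_filter.2 ⟨Finset.mem_univ _, hne0, hUZ⟩)
      exact hlt2.ne (Subgroup.eq_of_le_of_card_ge hlt2.le hmax')
    have h1 : U = P := hgrow P (lt_of_le_of_ne inf_le_left fun e => hPR (Sylow.ext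
      (Subgroup.eq_of_le_of_card_ge (inf_eq_left.1 e) (by
        rw [P.card_eq_multiplicity, R.card_eq_multiplicity]))))
    have h2 : U = R := hgrow R (lt_of_le_of_ne inf_le_right fun e => hPR (Sylow.ext
      (Subgroup.eq_of_le_of_card_ge (inf_eq_right.1 e) (by
        rw [P.card_eq_multiplicity, R.card_eq_multiplicity])).symm))
    exact hPR (h1.symm.trans h2)
  have hcentP : ∀ (P : Sylow p G), ∀ x ∈ (P : Subgroup G), x ≠ 1 →
      centralizer ({x} : Set G) = (P : Subgroup G) := by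
    intro P x hx hx1
    obtain ⟨R, hR⟩ := hsyl x (hPW P x hx hx1)
    have hxR : x ∈ (R : Subgroup G) := hR ▸ mem_centralizer_singleton_iff.2 rfl
    rw [← hR, hTI R P fun e => hx1 (mem_bot.1 (e ▸ (⟨hxR, hx⟩ : x ∈ (R : Subgroup G) ⊓ P)))]
  set Q₀ : Subgroup G := (P₀ : Subgroup G) with hQ₀
  have hQ₀c : Nat.card Q₀ = q := by rw [hP₀, hWord g₀ hg₀]
  have hg₀Q : g₀ ∈ Q₀ := by rw [hP₀]; exact mem_centralizer_singleton_iff.2 rfl
  have hcount := (card_conjugates (norm_of_cent (hcentP P₀)) W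
    (fun y hy hy1 c => hWconj _ (hPW P₀ y hy hy1) c)).2 (fun x hx => by
      obtain ⟨c, r | r⟩ := hclasses x hx
      · exact ⟨c, g₀, hg₀Q, ((hW g₀).1 hg₀).1, r⟩
      · exact ⟨c, g₀⁻¹, inv_mem hg₀Q, inv_ne_one.2 ((hW g₀).1 hg₀).1, r⟩)
  set M₀ := normalizer (Q₀ : Set G) with hM₀
  have hM₀c : Nat.card M₀ = q * (k - 1) := by
    rw [hQ₀c, hG, hWc] at hcount
    apply Nat.eq_of_mul_eq_mul_right (show 0 < 4 * k * (k - 1) from Nat.mul_pos (by omega) (by omega))
    rw [← hcount, show q - 1 = 2 * (k - 1) by omega]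
    ring
  have hq_cop : ∀ j : ℕ, (∀ r : ℕ, r.Prime → r ∣ j → r ∣ k - 1) → Nat.Coprime q j :=
    fun j hj => Nat.coprime_of_dvd fun r hr hrq hrj => (hcop r hr hrq).2.1 (hj r hr hrj)
  -- a conjugate normalised by `D`
  obtain ⟨c, hcD⟩ : ∃ c : G, D ≤ normalizer ((Q₀.map (MulAut.conj c).toMonoidHom : Subgroup G) : Set G) := by
    have hNQ : Nat.card (Q₀.subgroupOf M₀) = q := by
      rw [Nat.card_congr (Subgroup.subgroupOfEquivOfLe le_normalizer).toEquiv, hQ₀c]
    have hidx : (Q₀.subgroupOf M₀).index = k - 1 := by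
      apply Nat.eq_of_mul_eq_mul_left (show 0 < q by omega)
      rw [← hM₀c, ← hNQ, Subgroup.card_mul_index]
    haveI : (Q₀.subgroupOf M₀).Normal := Subgroup.normal_in_normalizer
    obtain ⟨E', hE'⟩ := exists_right_complement'_of_coprime (N := Q₀.subgroupOf M₀)
      (by rw [hNQ, hidx]; exact hq_cop _ fun r _ e => e)
    set E : Subgroup G := E'.map M₀.subtype with hE
    have hEc : Nat.card E = k - 1 := by
      rw [hE, Subgroup.card_map_of_injective M₀.subtype_injective]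
      apply Nat.eq_of_mul_eq_mul_left (show 0 < q by omega)
      have := hE'.card_mul_card
      rw [hNQ] at this
      rw [this, hM₀c]
    have hEM : E ≤ M₀ := map_subtype_le _
    rcases eq_or_ne E ⊥ with hE0 | hE0
    · refine ⟨1, ?_⟩
      rw [hE0, Subgroup.card_bot] at hEc
      rw [Subgroup.eq_bot_of_card_eq D (by omega)]
      exact bot_le
    have hEodd : ∀ n ∈ E, Odd (orderOf n) := fun n hn => by
      refine Odd.of_dvd_nat ?_ (Subgroup.orderOf_dvd_natCard E hn)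
      rw [hEc, Nat.odd_iff]; omega
    obtain ⟨r, hr, hrE⟩ := Nat.exists_prime_and_dvd (n := Nat.card E)
      (fun e => hE0 (Subgroup.eq_bot_of_card_eq E e))
    haveI : Fact r.Prime := ⟨hr⟩
    have hJ : IsPGroup r (closure {x : G | x ∈ E ∧ ∃ j, orderOf x = r ^ j}) := by
      refine pclosure_isPGroup E fun r' hr' _ hr'E X _ hXr hX0 n hnE hnX y hy => ?_
      haveI : Fact r'.Prime := ⟨hr'⟩
      obtain ⟨c, hc⟩ := pgroup_conj_into (hrD r' hr' (hEc ▸ hr'E)) hXr
      have hn' := (hDN _ hc (conjMap_ne_bot hX0 c)).2.2 _ (norm_conjMap hnX c)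
        (by rw [← MulAut.conj_apply, MulEquiv.orderOf_eq]; exact hEodd n hnE)
      have e := hDcomm _ (hc ⟨y, hy, rfl⟩) _ hn'
      change c * y * c⁻¹ * (c * n * c⁻¹) = c * n * c⁻¹ * (c * y * c⁻¹) at e
      calc y * n = c⁻¹ * (c * y * c⁻¹ * (c * n * c⁻¹)) * c := by group
        _ = n * y := by rw [e]; group
    set J := closure {x : G | x ∈ E ∧ ∃ j, orderOf x = r ^ j} with hJdef
    have hJ0 : J ≠ ⊥ := by
      obtain ⟨w, hw⟩ := exists_prime_orderOf_dvd_card' r hrE
      intro e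
      have hwJ : (w : G) ∈ J := subset_closure ⟨w.2, 1, by rw [Subgroup.orderOf_coe, hw, pow_one]⟩
      rw [e, mem_bot] at hwJ
      rw [← Subgroup.orderOf_coe, hwJ, orderOf_one] at hw
      exact hr.one_lt.ne hw
    have hEJ : ∀ n ∈ E, n ∈ normalizer (J : Set G) := by
      intro n hn
      have key : ∀ m ∈ E, ∀ z ∈ J, m * z * m⁻¹ ∈ J := by
        intro m hm z hz
        have : J.map (MulAut.conj m).toMonoidHom ≤ J := by
          rw [hJdef, MonoidHom.map_closure]
          refine closure_mono ?_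
          rintro _ ⟨x, ⟨hxE, j, hxj⟩, rfl⟩
          refine ⟨mul_mem (mul_mem hm hxE) (inv_mem hm), j, ?_⟩
          rw [← hxj]
          exact MulEquiv.orderOf_eq (MulAut.conj m) x
        exact this ⟨z, hz, rfl⟩
      refine mem_normalizer_iff.2 fun z => ⟨key n hn z, fun hz => ?_⟩
      have := key n⁻¹ (inv_mem hn) _ hz
      rwa [show n⁻¹ * (n * z * n⁻¹) * n⁻¹⁻¹ = z by group] at this
    obtain ⟨c, hc⟩ := pgroup_conj_into (hrD r hr (hEc ▸ hrE)) hJ
    refine ⟨c, ?_⟩
    have hsub : E.map (MulAut.conj c).toMonoidHom ≤ D := by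
      rintro _ ⟨n, hn, rfl⟩
      exact (hDN _ hc (conjMap_ne_bot hJ0 c)).2.2 _ (norm_conjMap (hEJ n hn) c)
        (by
          show Odd (orderOf (MulAut.conj c n))
          rw [MulEquiv.orderOf_eq]; exact hEodd n hn)
    rw [← Subgroup.eq_of_le_of_card_ge hsub (le_of_eq (by
      rw [hDc, Subgroup.card_map_of_injective (MulAut.conj c).injective, hEc]))]
    rintro _ ⟨n, hn, rfl⟩
    exact norm_conjMap (hEM hn) c
  set Q : Subgroup G := Q₀.map (MulAut.conj c).toMonoidHom with hQdef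
  have hQc : Nat.card Q = q := by
    rw [hQdef, Subgroup.card_map_of_injective (MulAut.conj c).injective, hQ₀c]
  have hcent : ∀ x ∈ Q, x ≠ 1 → centralizer ({x} : Set G) = Q := by
    intro x hx hx1
    have hP : (((c • P₀ : Sylow p G)) : Subgroup G) = Q := by
      rw [hQdef, Sylow.coe_subgroup_smul]; rfl
    rw [← hP] at hx ⊢
    exact hcentP _ x hx hx1
  have hcopQD : Nat.Coprime (Nat.card Q) (Nat.card D) := by
    rw [hQc, hDc]; exact hq_cop _ fun r _ e => e
  have hQD : Q ⊓ D = ⊥ := inf_eq_bot_of_coprime hcopQD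
  have hnQ : normalizer (Q : Set G) = Q ⊔ D := by
    refine (Subgroup.eq_of_le_of_card_ge (sup_le le_normalizer hcD) ?_).symm
    have e : Nat.card (normalizer (Q : Set G)) = q * (k - 1) := by
      have hcnt := (card_conjugates (norm_of_cent hcent) W
        (fun y hy hy1 d => by
          obtain ⟨z, hz, rfl⟩ := hy
          exact hWconj _ (hWconj _ (hPW P₀ z hz fun e => hy1 (by simp [e])) c) d)).2 (fun x hx => by
          obtain ⟨d, r | r⟩ := hclasses x hx
          · exact ⟨d * c⁻¹, c * g₀ * c⁻¹, ⟨g₀, hg₀Q, rfl⟩,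
              fun e => ((hW g₀).1 hg₀).1 (conj_eq_one_iff.1 e), by rw [← r]; group⟩
          · exact ⟨d * c⁻¹, c * g₀⁻¹ * c⁻¹, ⟨g₀⁻¹, inv_mem hg₀Q, rfl⟩,
              fun e => ((hW g₀).1 hg₀).1 (inv_eq_one.1 (conj_eq_one_iff.1 e)), by rw [← r]; group⟩)
      rw [hQc, hG, hWc] at hcnt
      apply Nat.eq_of_mul_eq_mul_right (show 0 < 4 * k * (k - 1) from Nat.mul_pos (by omega) (by omega))
      rw [← hcnt, show q - 1 = 2 * (k - 1) by omega]
      ring
    rw [e, ← hQc, ← hDc]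
    exact Nat.le_of_dvd Nat.card_pos (hcopQD.mul_dvd_of_dvd_of_dvd
      (card_dvd_of_le le_sup_left) (card_dvd_of_le le_sup_right))
  refine ⟨Q, D, ?_, hcent, ⟨⟨fun x y => Subtype.ext (hDcomm _ x.2 _ y.2)⟩⟩, ?_, hQD, hnQ,
    fun X hX hX1 => ?_⟩
  · rw [hG, hQc, show q + 1 = 2 * k by omega, show q - 1 = 2 * (k - 1) by omega]
    ring
  · rw [hQc, hDc]; omega
  · refine ⟨(hDN X hX hX1).1, t, h.t2, fun htD => ?_, hDt, (hDN X hX hX1).2.1⟩
    exact hDU t htD (t_ne h) ⟨1, t, h.tK, t_ne h, by group⟩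

end H65.BSW
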