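import Mathlib.GroupTheory.SpecificGroups.Alternating
import Mathlib.GroupTheory.Sylow
import Mathlib.Data.Finite.Perm
import Cfsg.Agent.H65.Dihedral

/-!
Groups of order 12 without central involution.
-/

set_option autoImplicit false

namespace H65

open Subgroup
open scoped Pointwise

variable {G : Type*} [Group G] [Finite G]

theorem commute_of_normalizes_order_three {y a : G} (hy : orderOf y = 3)
    (hmem : a * y * a⁻¹ ∈ zpowers y) : a * y * a⁻¹ = y ∨ a * y * a⁻¹ = y⁻¹ := by
  obtain ⟨k, hk⟩ := mem_zpowers_iff.1 hmem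
  have h3 : y ^ (3 : ℤ) = 1 := by
    rw [show (3 : ℤ) = ((3 : ℕ) : ℤ) from rfl, zpow_natCast, ← hy, pow_orderOf_eq_one]
  have he : a * y * a⁻¹ = y ^ (k % 3) := by
    rw [← hk]
    conv_lhs => rw [← Int.emod_add_mul_ediv k 3, zpow_add, zpow_mul, h3, one_zpow, mul_one]
  have h0 : 0 ≤ k % 3 := Int.emod_nonneg k (by norm_num)
  have h1 : k % 3 < 3 := Int.emod_lt_of_pos k (by norm_num)
  have hcases : k % 3 = 0 ∨ k % 3 = 1 ∨ k % 3 = 2 := by omega
  rcases hcases with h | h | h
  · rw [h, zpow_zero, conj_eq_one_iff] at he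
    simp [he] at hy
  · left; rw [he, h, zpow_one]
  · right
    rw [he, h, eq_inv_iff_mul_eq_one, ← zpow_add_one]
    exact h3

/-- A group of order 12 with no central involution is `A₄`. -/
theorem alternating_four_of_card (hG : Nat.card G = 12)
    (hz : ∀ z : G, orderOf z = 2 → z ∉ center G) :
    Nonempty (G ≃* alternatingGroup (Fin 4)) := by
  classical
  have hfac3 : Fact (Nat.Prime 3) := ⟨Nat.prime_three⟩
  obtain ⟨Q⟩ : Nonempty (Sylow 3 G) := inferInstance
  have hQ : Nat.card (Q : Subgroup G) = 3 := by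
    rw [Q.card_eq_multiplicity, hG, show (12 : ℕ) = 3 ^ 1 * 4 from rfl,
      Nat.factorization_mul (by norm_num) (by norm_num), Finsupp.add_apply,
      Nat.prime_three.factorization_pow, Finsupp.single_eq_same,
      Nat.factorization_eq_zero_of_not_dvd (by norm_num)]
    norm_num
  have hidx : (Q : Subgroup G).index = 4 := by
    have h := (Q : Subgroup G).index_mul_card
    rw [hQ, hG] at h
    omega
  have hdvd := Q.card_dvd_index
  rw [hidx] at hdvd
  have hmod := card_sylow_modEq_one 3 G
  have hn : Nat.card (Sylow 3 G) = 1 ∨ Nat.card (Sylow 3 G) = 4 := by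
    have h4 := Nat.le_of_dvd (by norm_num) hdvd
    have h0 : 0 < Nat.card (Sylow 3 G) := Nat.card_pos
    rw [Nat.ModEq] at hmod
    interval_cases h : Nat.card (Sylow 3 G) <;> simp_all
  rcases hn with hn | hn
  · -- a normal Sylow 3-subgroup gives a central involution
    exfalso
    have hsub : Subsingleton (Sylow 3 G) := (Nat.card_eq_one_iff_unique.1 hn).1
    have hnorm : ∀ (a y : G), y ∈ (Q : Subgroup G) → a * y * a⁻¹ ∈ (Q : Subgroup G) := by
      intro a y hy
      have e : a • Q = Q := Subsingleton.elim _ _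
      rw [← e]
      exact ⟨y, hy, rfl⟩
    obtain ⟨⟨y, hyQ⟩, hy⟩ := exists_prime_orderOf_dvd_card' (G := (Q : Subgroup G)) 3 (dvd_of_eq hQ.symm)
    rw [Subgroup.orderOf_mk] at hy
    have hgen : zpowers y = (Q : Subgroup G) := by
      refine eq_of_le_of_card_ge (zpowers_le.2 hyQ) ?_
      rw [Nat.card_zpowers, hy, hQ]
    have hact : ∀ a : G, a * y * a⁻¹ = y ∨ a * y * a⁻¹ = y⁻¹ := fun a =>
      commute_of_normalizes_order_three hy (hgen ▸ hnorm a y hyQ)
    obtain ⟨P⟩ : Nonempty (Sylow 2 G) := inferInstance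
    have hP : Nat.card (P : Subgroup G) = 2 ^ 2 := by
      rw [P.card_eq_multiplicity, hG, show (12 : ℕ) = 2 ^ 2 * 3 from rfl,
        Nat.factorization_mul (by norm_num) (by norm_num), Finsupp.add_apply,
        Nat.prime_two.factorization_pow, Finsupp.single_eq_same,
        Nat.factorization_eq_zero_of_not_dvd (by norm_num)]
    have hfac2 : Fact (Nat.Prime 2) := ⟨Nat.prime_two⟩
    have hcommP := IsPGroup.commutative_of_card_eq_prime_sq hP
    -- an involution of `P` fixing `y`
    obtain ⟨s, hsP, hs, hsy⟩ : ∃ s ∈ (P : Subgroup G), orderOf s = 2 ∧ s * y * s⁻¹ = y := by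
      obtain ⟨⟨t, htP⟩, ht⟩ := exists_prime_orderOf_dvd_card' (G := (P : Subgroup G)) 2
        (hP ▸ dvd_pow_self 2 two_ne_zero)
      rw [Subgroup.orderOf_mk] at ht
      rcases hact t with h1 | h1
      · exact ⟨t, htP, ht, h1⟩
      obtain ⟨⟨u, huP⟩, hu⟩ : ∃ u : (P : Subgroup G), u ∉ zpowers (⟨t, htP⟩ : (P : Subgroup G)) := by
        by_contra hcon
        push Not at hcon
        have h2 : zpowers (⟨t, htP⟩ : (P : Subgroup G)) = ⊤ := eq_top_iff.2 fun x _ => hcon x
        have h3 := congrArg (fun K : Subgroup (P : Subgroup G) => Nat.card K) h2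
        simp only [Nat.card_zpowers, Subgroup.card_top, Subgroup.orderOf_mk, ht, hP] at h3
        omega
      have hu1 : u ≠ 1 := fun h => hu (by
        have e : (⟨u, huP⟩ : (P : Subgroup G)) = 1 := Subtype.ext h
        rw [e]; exact one_mem _)
      have hut : u * t ≠ 1 := fun h => hu (by
        have e : (⟨u, huP⟩ : (P : Subgroup G)) = (⟨t, htP⟩ : (P : Subgroup G))⁻¹ :=
          Subtype.ext (eq_inv_of_mul_eq_one_left h)
        rw [e]; exact inv_mem (mem_zpowers _))
      obtain ⟨v, hvP, hv1, hv⟩ : ∃ v ∈ (P : Subgroup G), v ≠ 1 ∧ v * y * v⁻¹ = y := by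
        rcases hact u with h2 | h2
        · exact ⟨u, huP, hu1, h2⟩
        · refine ⟨u * t, mul_mem huP htP, hut, ?_⟩
          calc u * t * y * (u * t)⁻¹ = u * (t * y * t⁻¹) * u⁻¹ := by group
            _ = (u * y * u⁻¹)⁻¹ := by rw [h1]; group
            _ = y := by rw [h2, inv_inv]
      have hv4 : orderOf v ∣ 2 ^ 2 := by
        have := orderOf_dvd_natCard (⟨v, hvP⟩ : (P : Subgroup G))
        rwa [Subgroup.orderOf_mk, hP] at this
      obtain ⟨j, hj, hj'⟩ := (Nat.dvd_prime_pow Nat.prime_two).1 hv4
      interval_cases j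
      · exact absurd (orderOf_eq_one_iff.1 hj') hv1
      · exact ⟨v, hvP, hj', hv⟩
      · refine ⟨v ^ 2, pow_mem hvP 2, ?_, ?_⟩
        · rw [orderOf_pow, hj']; rfl
        · have hc : Commute v y := mul_inv_eq_iff_eq_mul.1 hv
          rw [mul_inv_eq_iff_eq_mul]
          exact (hc.pow_left 2).eq
    refine hz s hs ?_
    have hle : (P : Subgroup G) ≤ centralizer ({s} : Set G) := fun a ha => by
      rw [mem_centralizer_iff]
      intro b hb
      rw [Set.mem_singleton_iff.1 hb]
      exact congrArg Subtype.val (hcommP ⟨s, hsP⟩ ⟨a, ha⟩)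
    have hyle : zpowers y ≤ centralizer ({s} : Set G) := zpowers_le.2 (by
      rw [mem_centralizer_iff]
      intro b hb
      rw [Set.mem_singleton_iff.1 hb]
      exact mul_inv_eq_iff_eq_mul.1 hsy)
    have h4 := card_dvd_of_le hle
    have h3 := card_dvd_of_le hyle
    rw [hP] at h4
    rw [Nat.card_zpowers, hy] at h3
    have h12 : 12 ∣ Nat.card (centralizer ({s} : Set G)) :=
      (show Nat.Coprime 4 3 by decide).mul_dvd_of_dvd_of_dvd h4 h3
    have htop : centralizer ({s} : Set G) = ⊤ :=
      eq_top_of_le_card _ (by rw [hG]; exact Nat.le_of_dvd Nat.card_pos h12)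
    rw [mem_center_iff]
    intro g
    have : g ∈ centralizer ({s} : Set G) := htop ▸ mem_top g
    exact (mem_centralizer_iff.1 this s rfl).symm
  · -- four Sylow 3-subgroups: a faithful action
    have hNQ : normalizer (Q : Set G) = (Q : Subgroup G) := by
      refine (eq_of_le_of_card_ge le_normalizer ?_).symm
      have h1 := (normalizer (Q : Set G)).index_mul_card
      rw [← Q.card_eq_index_normalizer, hn, hG] at h1
      rw [hQ]
      exact (show Nat.card (normalizer (Q : Set G)) ≤ 3 by omega)
    let f : G →* Equiv.Perm (Sylow 3 G) := MulAction.toPermHom G (Sylow 3 G)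
    have hker : ∀ g : G, f g = 1 → ∀ R : Sylow 3 G, g • R = R := fun g hg R => by
      have := congrArg (fun σ : Equiv.Perm (Sylow 3 G) => σ R) hg
      simpa [f] using this
    have hinj : Function.Injective f := by
      rw [injective_iff_map_eq_one]
      intro g hg
      by_contra hg1
      have hgQ : g ∈ (Q : Subgroup G) := by
        rw [← hNQ]
        exact Sylow.smul_eq_iff_mem_normalizer.1 (hker g hg Q)
      have hgen : zpowers g = (Q : Subgroup G) := by
        refine eq_of_le_of_card_ge (zpowers_le.2 hgQ) ?_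
        rw [Nat.card_zpowers, hQ]
        have hd := orderOf_dvd_natCard (⟨g, hgQ⟩ : (Q : Subgroup G))
        rw [Subgroup.orderOf_mk, hQ] at hd
        rcases (Nat.dvd_prime Nat.prime_three).1 hd with h | h
        · exact absurd (orderOf_eq_one_iff.1 h) hg1
        · omega
      have : Subsingleton (Sylow 3 G) := ⟨fun R₁ R₂ => by
        have h : ∀ R : Sylow 3 G, R = Q := by
          intro R
          obtain ⟨a, rfl⟩ := MulAction.exists_smul_eq G Q R
          have h2 := Sylow.smul_eq_iff_mem_normalizer.1 (hker g hg (a • Q))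
          -- `a⁻¹ g a` normalises `Q`, hence lies in it
          have h3 : a⁻¹ * g * a ∈ (Q : Subgroup G) := by
            rw [← hNQ]
            refine Sylow.smul_eq_iff_mem_normalizer.1 ?_
            rw [mul_smul, mul_smul, hker g hg (a • Q), inv_smul_smul]
          rw [Sylow.smul_eq_iff_mem_normalizer, hNQ]
          have h4 : a⁻¹ * g * a ∈ zpowers g := hgen ▸ h3
          have h5 : a⁻¹ ∈ normalizer ((zpowers g : Subgroup G) : Set G) := by
            rw [mem_normalizer_iff_map_conj_eq, MonoidHom.map_zpowers]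
            refine eq_of_le_of_card_ge (zpowers_le.2 (by simpa using h4)) ?_
            rw [Nat.card_zpowers, Nat.card_zpowers]
            exact (MulEquiv.orderOf_eq (MulAut.conj a⁻¹) g).ge
          rw [hgen] at h5
          simpa using inv_mem (hNQ.le h5)
        rw [h R₁, h R₂]⟩
      have := Nat.card_of_subsingleton Q
      omega
    let e : Sylow 3 G ≃ Fin 4 := Finite.equivFinOfCardEq hn
    let F : G →* Equiv.Perm (Fin 4) := e.permCongrHom.toMonoidHom.comp f
    have hFinj : Function.Injective F := e.permCongrHom.injective.comp hinj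
    have hidx2 : F.range.index = 2 := by
      have h := F.range.index_mul_card
      rw [Nat.card_perm, Nat.card_fin, ← Nat.card_congr (MonoidHom.ofInjective hFinj).toEquiv,
        hG] at h
      have : Nat.factorial 4 = 24 := rfl
      omega
    have hr := Equiv.Perm.eq_alternatingGroup_of_index_eq_two hidx2
    exact ⟨(MonoidHom.ofInjective hFinj).trans (MulEquiv.subgroupCongr hr)⟩

end H65
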