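import Cfsg.Agent.H65.BSWMinus
import Cfsg.Agent.H65.BSWAction
import Cfsg.Agent.H68.DihedralFusion
import Cfsg.Prelude.Def_Involutions

/-!
Simple groups with dihedral Sylow `2`-subgroups and a generalized dihedral involution centralizer.
-/

set_option autoImplicit false

namespace H65

open Subgroup

variable {G : Type*} [Group G] [Finite G]

/-- A cyclic subgroup of index two containing `t` in a dihedral `2`-group. -/
theorem dihedral_outside {S A : Subgroup G} {c t : G} (h : H68.Dih S c) (hAS : A ≤ S)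
    (hA : IsCyclic A) (hidx : A.relIndex S = 2) (ht : orderOf t = 2) (htA : t ∈ A) :
    ∀ x ∈ S, x ∉ A → x * x = 1 ∧ ∀ a ∈ A, x * a * x⁻¹ = a⁻¹ := by
  have hcardA : Nat.card A = orderOf c := by
    have h1 := (A.subgroupOf S).card_mul_index
    rw [Nat.card_congr (subgroupOfEquivOfLe hAS).toEquiv, h.card_eq] at h1
    rw [relIndex] at hidx
    rw [hidx] at h1
    omega
  obtain ⟨⟨a₀, ha₀⟩, hgen⟩ := IsCyclic.exists_generator (α := A)
  have hA₀ : A = zpowers a₀ := by
    refine le_antisymm (fun x hx => ?_) (zpowers_le.2 ha₀)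
    obtain ⟨i, hi⟩ := mem_zpowers_iff.1 (hgen ⟨x, hx⟩)
    exact mem_zpowers_iff.2 ⟨i, congrArg Subtype.val hi⟩
  have hord : orderOf a₀ = orderOf c := by rw [← hcardA, hA₀, Nat.card_zpowers]
  by_cases h2 : orderOf c = 2
  · -- the four-group
    have hsq : ∀ x ∈ S, x * x = 1 := fun x hx => by
      by_cases hxc : x ∈ zpowers c
      · have := orderOf_dvd_iff_pow_eq_one.1 (h2 ▸ orderOf_dvd_of_mem_zpowers hxc)
        rwa [pow_two] at this
      · exact h.invol x hx hxc
    intro x hx hxA
    refine ⟨hsq x hx, fun a ha => ?_⟩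
    have hinv : ∀ z ∈ S, z⁻¹ = z := fun z hz => inv_eq_of_mul_eq_one_right (hsq z hz)
    have h3 := hinv _ (S.mul_mem hx (hAS ha))
    rw [mul_inv_rev, hinv x hx, hinv a (hAS ha)] at h3
    rw [hinv x hx, hinv a (hAS ha), ← h3, mul_assoc, hsq x hx, mul_one]
  · have hA' : A = zpowers c := by
      have hac : a₀ ∈ zpowers c := by
        by_contra hac
        apply h2
        rw [← hord]
        exact orderOf_eq_prime (by rw [pow_two]; exact h.invol a₀ (hAS ha₀) hac) fun e =>
          hac (e ▸ one_mem _)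
      rw [hA₀]
      exact eq_of_le_of_card_ge (zpowers_le.2 hac) (by rw [Nat.card_zpowers, Nat.card_zpowers, hord])
    subst hA'
    intro x hx hxA
    refine ⟨h.invol x hx hxA, fun a ha => ?_⟩
    obtain ⟨i, rfl⟩ := mem_zpowers_iff.1 ha
    rw [h.conj_zpow' hx hxA i, zpow_neg]

theorem dihedral_final [IsSimpleGroup G] (S : Sylow 2 G) (n : ℕ) (hn : 2 ≤ n)
    (e : (S : Subgroup G) ≃* DihedralGroup n) (t : G) (ht : orderOf t = 2)
    (htS : t ∈ (S : Subgroup G)) (htZ : ∀ s ∈ (S : Subgroup G), s * t = t * s) (O : Subgroup G)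
    (hO : O = (Cfsg.oddCore (centralizer ({t} : Set G))).map (centralizer ({t} : Set G)).subtype)
    (hOodd : Odd (Nat.card O))
    (ha : O ≠ ⊥ → IsCyclic ((S : Subgroup G) ⊓ centralizer (O : Set G) : Subgroup G) ∧
      ((S : Subgroup G) ⊓ centralizer (O : Set G)).relIndex (S : Subgroup G) = 2)
    (hb : ∀ s ∈ (S : Subgroup G), s ∉ centralizer (O : Set G) → ∀ y ∈ O, s * y * s⁻¹ = y⁻¹)
    (hc : ∀ Y : Subgroup G, Y ≤ O → Y ≠ ⊥ → normalizer (Y : Set G) ≤ centralizer ({t} : Set G)) :
    ∃ (F : Type) (_ : Field F) (_ : Fintype F), Odd (Fintype.card F) ∧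
      Nonempty (G ≃* Matrix.ProjectiveSpecialLinearGroup (Fin 2) F) := by
  classical
  haveI : Fact (Nat.Prime 2) := ⟨Nat.prime_two⟩
  obtain ⟨c, hD, hcn⟩ := H68.exists_dih S.isPGroup' hn e
  have hScard : Nat.card (S : Subgroup G) = 2 * orderOf c := hD.card_eq
  have hna : ¬ IsMulCommutative G := fun hcm => by
    haveI := hcm
    letI : CommGroup G := { (inferInstance : Group G) with mul_comm := hcm.is_comm.comm }
    have hp := IsSimpleGroup.prime_card (α := G)
    have hdvd := Subgroup.card_subgroup_dvd_card (S : Subgroup G)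
    rcases (Nat.dvd_prime hp).1 hdvd with h | h
    · omega
    · rw [hScard] at h
      rcases (Nat.dvd_prime hp).1 (h ▸ dvd_mul_right 2 (orderOf c)) with h' | h' <;> omega
  have hidx2 : ∀ H : Subgroup G, H.index ≠ 2 := fun H hH => by
    haveI := normal_of_index_eq_two hH
    rcases (inferInstance : H.Normal).eq_bot_or_eq_top with r | r
    · rw [r, index_bot] at hH
      have := Subgroup.card_subgroup_dvd_card (S : Subgroup G)
      rw [hH] at this
      have := Nat.le_of_dvd two_pos this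
      omega
    · rw [r, index_top] at hH; omega
  -- the cyclic subgroup `A`
  obtain ⟨A, hAS, hAc, hAidx, htA, hAO, hout⟩ : ∃ A : Subgroup G, A ≤ (S : Subgroup G) ∧ IsCyclic A ∧
      A.relIndex (S : Subgroup G) = 2 ∧ t ∈ A ∧ (∀ a ∈ A, ∀ y ∈ O, a * y = y * a) ∧
      ∀ s ∈ (S : Subgroup G), s ∉ A → ∀ y ∈ O, s * y * s⁻¹ = y⁻¹ := by
    by_cases hO1 : O = ⊥
    · have hrel : ∀ A : Subgroup G, A ≤ (S : Subgroup G) → Nat.card A = orderOf c →
          A.relIndex (S : Subgroup G) = 2 := fun A hA hcard => by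
        have h1 := (A.subgroupOf (S : Subgroup G)).card_mul_index
        rw [Nat.card_congr (subgroupOfEquivOfLe hA).toEquiv, hScard, hcard, mul_comm 2] at h1
        exact Nat.eq_of_mul_eq_mul_left (orderOf_pos c) h1
      have htriv : ∀ y ∈ O, y = 1 := fun y hy => by rwa [hO1, mem_bot] at hy
      obtain ⟨a, haS, hat, hao⟩ : ∃ a, a ∈ (S : Subgroup G) ∧ t ∈ zpowers a ∧ orderOf a = orderOf c := by
        by_cases h2 : orderOf c = 2
        · exact ⟨t, htS, mem_zpowers t, ht.trans h2.symm⟩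
        · refine ⟨c, hD.mem, ?_, rfl⟩
          by_contra htc
          have h3 := hD.conj_zpow' htS htc 1
          rw [zpow_one, ← htZ c hD.mem, mul_inv_cancel_right, zpow_neg, zpow_one] at h3
          exact h2 (orderOf_eq_prime (by rw [pow_two]; nth_rw 2 [h3]; exact mul_inv_cancel c)
            fun e => by rw [e, orderOf_one] at hcn; omega)
      exact ⟨zpowers a, zpowers_le.2 haS, inferInstance, hrel _ (zpowers_le.2 haS)
        (by rw [Nat.card_zpowers, hao]), hat, fun x _ y hy => by simp [htriv y hy],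
        fun s _ _ y hy => by simp [htriv y hy]⟩
    · refine ⟨_, inf_le_left, (ha hO1).1, (ha hO1).2, ⟨htS, ?_⟩, fun a ha y hy =>
        ((mem_centralizer_iff.1 ha.2) y hy).symm, fun s hs hsA y hy =>
        hb s hs (fun h => hsA ⟨hs, h⟩) y hy⟩
      refine mem_centralizer_iff.2 ?_
      intro y hy
      rw [hO] at hy
      obtain ⟨y', -, rfl⟩ := hy
      exact mem_centralizer_singleton_iff.1 y'.2
  have hside := dihedral_outside hD hAS hAc hAidx ht htA
  -- an element outside `A`
  obtain ⟨s, hsS, hsA⟩ : ∃ s ∈ (S : Subgroup G), s ∉ A := by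
    by_contra hne
    push Not at hne
    rw [(relIndex_eq_one).2 hne] at hAidx
    omega
  have hs2 : orderOf s = 2 := two_iff.2 ⟨(hside s hsS hsA).1, fun e => hsA (e ▸ one_mem _)⟩
  have hsinv : ∀ y ∈ O, s * y * s⁻¹ = y⁻¹ := hout s hsS hsA
  have hOcomm : ∀ x ∈ O, ∀ y ∈ O, x * y = y * x := fun x hx y hy => by
    have e : s * (x * y) * s⁻¹ = (s * x * s⁻¹) * (s * y * s⁻¹) := by group
    rw [hsinv _ (mul_mem hx hy), hsinv x hx, hsinv y hy, mul_inv_rev] at e
    simpa using congrArg (·⁻¹) e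
  have hAcomm : ∀ x ∈ A, ∀ y ∈ A, x * y = y * x := fun x hx y hy => by
    haveI := hAc
    letI := IsCyclic.commGroup (α := A)
    exact congrArg Subtype.val (mul_comm (⟨x, hx⟩ : A) ⟨y, hy⟩)
  have hAp : IsPGroup 2 A := S.isPGroup'.to_le hAS
  have hOA : ∀ x ∈ O, x ∈ A → x = 1 := fun x hxO hxA => by
    obtain ⟨k, hk⟩ := (IsPGroup.iff_orderOf.1 hAp) ⟨x, hxA⟩
    rw [orderOf_mk] at hk
    have h1 : orderOf x ∣ Nat.card O := orderOf_mk x hxO ▸ orderOf_dvd_natCard (⟨x, hxO⟩ : O)
    rw [hk] at h1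
    rcases k with _ | k
    · exact orderOf_eq_one_iff.1 hk
    · exact absurd ((dvd_pow_self 2 (Nat.succ_ne_zero k)).trans h1) hOodd.not_two_dvd_nat
  -- the abelian subgroup `K`
  let K : Subgroup G :=
    { carrier := {x | ∃ y ∈ O, ∃ a ∈ A, x = y * a}
      one_mem' := ⟨1, one_mem _, 1, one_mem _, (mul_one 1).symm⟩
      mul_mem' := by
        rintro _ _ ⟨y, hy, a, ha, rfl⟩ ⟨y', hy', a', ha', rfl⟩
        exact ⟨y * y', mul_mem hy hy', a * a', mul_mem ha ha', by
          rw [mul_assoc y a, ← mul_assoc a y', hAO a ha y' hy']; group⟩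
      inv_mem' := by
        rintro _ ⟨y, hy, a, ha, rfl⟩
        exact ⟨y⁻¹, inv_mem hy, a⁻¹, inv_mem ha, by
          rw [mul_inv_rev, hAO _ (inv_mem ha) _ (inv_mem hy)]⟩ }
  have hOK : ∀ y ∈ O, y ∈ K := fun y hy => ⟨y, hy, 1, one_mem _, (mul_one y).symm⟩
  have hAK : ∀ a ∈ A, a ∈ K := fun a ha => ⟨1, one_mem _, a, ha, (one_mul a).symm⟩
  have hKcomm : ∀ x ∈ K, ∀ z ∈ K, x * z = z * x := by
    rintro _ ⟨y, hy, a, ha, rfl⟩ _ ⟨y', hy', a', ha', rfl⟩
    calc y * a * (y' * a') = y * (a * y') * a' := by group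
      _ = (y * y') * (a * a') := by rw [hAO a ha y' hy']; group
      _ = (y' * y) * (a' * a) := by rw [hOcomm y hy y' hy', hAcomm a ha a' ha']
      _ = y' * (y * a') * a := by group
      _ = y' * a' * (y * a) := by rw [← hAO a' ha' y hy]; group
  have hKinv : ∀ x ∈ K, s * x * s⁻¹ = x⁻¹ := by
    rintro _ ⟨y, hy, a, ha, rfl⟩
    rw [show s * (y * a) * s⁻¹ = (s * y * s⁻¹) * (s * a * s⁻¹) by group, hsinv y hy,
      (hside s hsS hsA).2 a ha, mul_inv_rev, hAO _ (inv_mem ha) _ (inv_mem hy)]
  -- the involution of `K`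
  have hK2 : ∀ x ∈ K, x * x = 1 → x ∈ zpowers t := by
    rintro _ ⟨y, hy, a, ha, rfl⟩ hxx
    have hsq : y * y * (a * a) = 1 := by
      rw [← hxx]
      calc y * y * (a * a) = y * (y * a) * a := by group
        _ = y * (a * y) * a := by rw [hAO a ha y hy]
        _ = y * a * (y * a) := by group
    have hy2 : y * y = 1 := hOA _ (mul_mem hy hy) (by
      rw [eq_inv_of_mul_eq_one_left hsq]; exact inv_mem (mul_mem ha ha))
    have hy1 : y = 1 := by
      by_contra h
      have h2 : orderOf y = 2 := two_iff.2 ⟨hy2, h⟩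
      have := orderOf_mk y hy ▸ orderOf_dvd_natCard (⟨y, hy⟩ : O)
      rw [h2] at this
      exact hOodd.not_two_dvd_nat this
    subst hy1
    rw [one_mul] at hxx ⊢
    by_cases ha1 : a = 1
    · exact ha1 ▸ one_mem _
    · rw [two_unique hAc (two_iff.2 ⟨hxx, ha1⟩) ht ha htA]; exact mem_zpowers t
  have hKle : K ≤ centralizer ({t} : Set G) := by
    rintro _ ⟨y, hy, a, ha, rfl⟩
    refine mul_mem ?_ (mem_centralizer_singleton_iff.2 (hAcomm a ha t htA))
    rw [hO] at hy
    obtain ⟨y', -, rfl⟩ := hy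
    exact y'.2
  have hsC : s ∈ centralizer ({t} : Set G) := mem_centralizer_singleton_iff.2 (htZ s hsS)
  have hsK : s ∉ K := fun h => by
    have h2 : s ∈ zpowers t := hK2 s h (hside s hsS hsA).1
    exact hsA (zpowers_le.2 htA h2)
  -- the centralizer of `t`
  have hsup : K ⊔ zpowers s = centralizer ({t} : Set G) := by
    refine le_antisymm (sup_le hKle (zpowers_le.2 hsC)) ?_
    set C := centralizer ({t} : Set G) with hCdef
    obtain ⟨N, hNn, hNodd, k, hk⟩ := exists_complement_of_dihedral S n e ht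
    have hSC : (S : Subgroup G) ≤ C := fun x hx => mem_centralizer_singleton_iff.2 (htZ x hx)
    have hNO : N.map C.subtype ≤ O := by
      rw [hO]
      exact map_mono (le_sSup ⟨hNn, Nat.coprime_two_right.2 hNodd⟩)
    have hSK : (S : Subgroup G) ≤ K ⊔ zpowers s := fun x hx => by
      by_cases hxA : x ∈ A
      · exact mem_sup_left (hAK x hxA)
      · have h1 : x * s ∈ A := by
          have h2 : (A.subgroupOf (S : Subgroup G)).index = 2 := hAidx
          have := mul_mem_iff_of_index_two h2 (a := ⟨x, hx⟩) (b := ⟨s, hsS⟩)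
          simp only [mem_subgroupOf] at this
          exact this.2 ⟨fun h => absurd h hxA, fun h => absurd h hsA⟩
        rw [show x = x * s * s⁻¹ by group]
        exact mul_mem (mem_sup_left (hAK _ h1)) (mem_sup_right (inv_mem (mem_zpowers s)))
    have hNK : N.map C.subtype ≤ K ⊔ zpowers s := fun x hx => mem_sup_left (hOK x (hNO hx))
    -- compare orders
    have hNC : N.map C.subtype ≤ C := map_subtype_le N
    have hd1 : Nat.card N ∣ Nat.card ↥(K ⊔ zpowers s) := by
      rw [← card_map_of_injective (K := N) C.subtype_injective]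
      exact card_dvd_of_le hNK
    have hd2 : 2 ^ k ∣ Nat.card ↥(K ⊔ zpowers s) := by
      refine dvd_trans ?_ (card_dvd_of_le hSK)
      have h1 := N.card_mul_index
      rw [hk] at h1
      have h2 : 2 ^ k ∣ Nat.card G := (h1 ▸ dvd_mul_left _ _).trans (card_subgroup_dvd_card C)
      exact S.pow_dvd_card_of_pow_dvd_card h2
    have hdC : Nat.card C ∣ Nat.card ↥(K ⊔ zpowers s) := by
      rw [← N.card_mul_index, hk]
      exact (Nat.Coprime.pow_right k (Nat.coprime_two_right.2 hNodd)).mul_dvd_of_dvd_of_dvd hd1 hd2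
    exact (eq_of_le_of_card_ge (sup_le hKle (zpowers_le.2 hsC))
      (Nat.le_of_dvd Nat.card_pos hdC)).ge
  -- the centralizer of an element of odd order of `K`
  have hCK : ∀ x ∈ O, x ≠ 1 → ∀ g : G, g * x = x * g → g ∈ K := fun x hx hx1 g hg => by
    have hgC : g ∈ centralizer ({t} : Set G) := hc (zpowers x) (zpowers_le.2 hx) (by simpa using hx1)
      (mem_normalizer_iff.2 fun w => by
        constructor
        · intro hw
          obtain ⟨i, rfl⟩ := mem_zpowers_iff.1 hw
          rw [((show Commute g x from hg).zpow_right i).eq, mul_inv_cancel_right]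
          exact zpow_mem (mem_zpowers x) i
        · intro hw
          obtain ⟨i, hi⟩ := mem_zpowers_iff.1 hw
          rw [show w = g⁻¹ * x ^ i * g by rw [hi]; group,
            mul_assoc, ← ((show Commute g x from hg).zpow_right i).eq, inv_mul_cancel_left]
          exact zpow_mem (mem_zpowers x) i)
    rw [← hsup] at hgC
    have hnorm : zpowers s ≤ normalizer (K : Set G) := zpowers_le.2 (mem_normalizer_iff.2 fun w =>
      ⟨fun hw => by rw [hKinv w hw]; exact inv_mem hw, fun hw => by
        have := hKinv _ hw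
        rw [show s * (s * w * s⁻¹) * s⁻¹ = (s * s) * w * (s * s)⁻¹ by group, mul_self_of_two hs2,
          inv_one, one_mul, mul_one] at this
        rw [this]; exact inv_mem hw⟩)
    obtain ⟨y, hy, z, hz, rfl⟩ := H1.exists_mul_of_mem_sup hnorm hgC
    rw [eq_comm] at hg
    obtain ⟨i, rfl⟩ := mem_zpowers_iff.1 hz
    rcases Int.even_or_odd i with ⟨j, rfl⟩ | ⟨j, rfl⟩
    · rw [← two_mul, zpow_mul, zpow_two, mul_self_of_two hs2, one_zpow, mul_one]
      exact hy
    · exfalso
      have hsi : s ^ (2 * j + 1) = s := by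
        rw [zpow_add, zpow_mul, zpow_two, mul_self_of_two hs2, one_zpow, one_mul, zpow_one]
      rw [hsi] at hg
      have h1 : s * x * s⁻¹ = x := by
        calc s * x * s⁻¹ = y⁻¹ * (y * s * x) * s⁻¹ := by group
          _ = y⁻¹ * (x * y) := by rw [← hg]; group
          _ = x := by rw [hKcomm x (hOK x hx) y hy, inv_mul_cancel_left]
      rw [hsinv x hx] at h1
      have h2 : x * x = 1 := by nth_rw 1 [← h1]; exact inv_mul_cancel x
      have := orderOf_mk x hx ▸ orderOf_dvd_natCard (⟨x, hx⟩ : O)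
      rw [two_iff.2 ⟨h2, hx1⟩] at this
      exact hOodd.not_two_dvd_nat this
  have hconj : ∀ x y : G, orderOf x = 2 → orderOf y = 2 → IsConj x y := fun x y hx hy =>
    (H68.isConj_dz S hD hidx2 hx).trans (H68.isConj_dz S hD hidx2 hy).symm
  have hTI : ∀ g : G, g ∉ centralizer ({t} : Set G) → ∀ x ∈ K, g * x * g⁻¹ ∈ K → x = 1 := by
    intro g hg x hx hgx
    by_contra hx1
    have hgt : ∀ m : ℕ, orderOf (x ^ m) = 2 → False := fun m hm => by
      have h1 : x ^ m = t := by
        have := hK2 _ (pow_mem hx m) (mul_self_of_two hm)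
        exact two_unique (C := zpowers t) inferInstance hm ht this (mem_zpowers t)
      have h2 : orderOf (g * x * g⁻¹) = orderOf x := by
        rw [← MulAut.conj_apply, MulEquiv.orderOf_eq]
      have h3 : g * t * g⁻¹ ∈ zpowers t := by
        refine hK2 _ ?_ (mul_self_of_two (two_conj ht g))
        rw [← h1, ← conj_pow]
        exact pow_mem hgx m
      have h4 := two_unique (C := zpowers t) inferInstance (two_conj ht g) ht h3 (mem_zpowers t)
      exact hg (mem_centralizer_singleton_iff.2 (mul_inv_eq_iff_eq_mul.1 h4))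
    rcases Nat.even_or_odd (orderOf x) with ⟨m, hm⟩ | hodd
    · refine hgt m (orderOf_eq_prime ?_ fun e => ?_)
      · rw [← pow_mul, show m * 2 = orderOf x by omega, pow_orderOf_eq_one]
      · have := Nat.le_of_dvd (by have := orderOf_pos x; omega) (orderOf_dvd_of_pow_eq_one e)
        have := orderOf_pos x; omega
    · have hOmem : ∀ z ∈ K, Odd (orderOf z) → z ∈ O := by
        rintro _ ⟨y, hy, a, ha, rfl⟩ hz
        have hya : Commute y a := (hAO a ha y hy).symm
        obtain ⟨j, hj⟩ := (IsPGroup.iff_orderOf.1 hAp) ⟨a, ha⟩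
        rw [orderOf_mk] at hj
        have h1 : a ^ (orderOf (y * a)) ∈ O := by
          have e := pow_orderOf_eq_one (y * a)
          rw [hya.mul_pow] at e
          rw [eq_inv_of_mul_eq_one_right e]
          exact inv_mem (pow_mem hy _)
        have h2 : a ^ (orderOf (y * a)) = 1 := hOA _ h1 (pow_mem ha _)
        have h3 : orderOf a ∣ orderOf (y * a) := orderOf_dvd_of_pow_eq_one h2
        rcases j with _ | j
        · rw [orderOf_eq_one_iff.1 hj, mul_one]; exact hy
        · exact absurd ((hj ▸ dvd_pow_self 2 (Nat.succ_ne_zero j)).trans h3) hz.not_two_dvd_nat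
      have hxO := hOmem x hx hodd
      have hyO := hOmem _ hgx (by rw [← MulAut.conj_apply, MulEquiv.orderOf_eq]; exact hodd)
      have h1 : g * t * g⁻¹ ∈ K := hCK _ hyO (fun e => hx1 (conj_eq_one_iff.1 e)) _ (by
        calc g * t * g⁻¹ * (g * x * g⁻¹) = g * (t * x) * g⁻¹ := by group
          _ = g * (x * t) * g⁻¹ := by
            rw [mem_centralizer_singleton_iff.1 (hKle hx)]
          _ = g * x * g⁻¹ * (g * t * g⁻¹) := by group)
      have h2 := hK2 _ h1 (mul_self_of_two (two_conj ht g))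
      have h3 := two_unique (C := zpowers t) inferInstance (two_conj ht g) ht h2 (mem_zpowers t)
      exact hg (mem_centralizer_singleton_iff.2 (mul_inv_eq_iff_eq_mul.1 h3))
  have hcK : K ⊓ centralizer ({s} : Set G) = zpowers t := by
    refine le_antisymm (fun x hx => hK2 x hx.1 ?_) (zpowers_le.2 ⟨hAK t htA, ?_⟩)
    · have h1 := hKinv x hx.1
      rw [show s * x * s⁻¹ = x by rw [← mem_centralizer_singleton_iff.1 hx.2, mul_inv_cancel_right]] at h1
      nth_rw 1 [h1]
      exact inv_mul_cancel x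
    · exact mem_centralizer_singleton_iff.2 (htZ s hsS).symm
  have h : BSW.Hyp t s K :=
    ⟨ht, hs2, hKcomm, hAK t htA, hKle, hsC, hsK, hsup, hcK, hKinv, hTI, hconj⟩
  haveI := Fintype.ofFinite G
  obtain ⟨Dt⟩ := BSW.exists_data h
  have hcon : BSW.Conclusion h := by
    rcases Dt.hδ with hd | hd
    · exact BSW.case_plus h Dt hd
    · exact BSW.case_minus h Dt hd
  obtain ⟨Q, D, h1, h2, h3, h4, h5, h6, h7⟩ := hcon
  exact psl_of_bsw hna Q D h1 h2 h3 h4 h5 h6 h7

end H65
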