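import Cfsg.Agent.H65.CyclicNormal
import Cfsg.Agent.H6.Transfer
import Mathlib.GroupTheory.SpecificGroups.Cyclic
import Mathlib.GroupTheory.Order.Min

/-!
Normal four-groups, and 2-rank at least three of involution centralisers.
-/

set_option autoImplicit false

namespace H65

open Subgroup

/-- An abelian `p`-group with at most `p` roots of `x ^ p = 1` is cyclic. -/
theorem isCyclic_of_roots_le {A : Type*} [CommGroup A] [Finite A] {p : ℕ} [hpf : Fact p.Prime]
    (hA : IsPGroup p A) (h : Nat.card (powMonoidHom p : A →* A).ker ≤ p) : IsCyclic A := by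
  have hle : ∀ k : ℕ, Nat.card (powMonoidHom (p ^ k) : A →* A).ker ≤ p ^ k := by
    intro k
    induction k with
    | zero =>
      have : (powMonoidHom (p ^ 0) : A →* A).ker = ⊥ := by
        ext x; simp [MonoidHom.mem_ker, powMonoidHom]
      rw [this]; simp
    | succ k ih =>
      set K := (powMonoidHom (p ^ (k + 1)) : A →* A).ker
      let f := ((powMonoidHom p : A →* A)).domRestrict K
      have h1 := f.ker.card_mul_index
      rw [index_ker] at h1
      have h2 : Nat.card f.range ≤ p ^ k := by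
        refine (card_le_of_le ?_).trans ih
        rintro _ ⟨x, rfl⟩
        show ((x : A) ^ p) ^ (p ^ k) = 1
        rw [← pow_mul, ← pow_succ']
        exact x.2
      have h3 : Nat.card f.ker ≤ p := by
        refine le_trans ?_ h
        refine Nat.card_le_card_of_injective
          (fun x => (⟨(x.1 : A), x.2⟩ : (powMonoidHom p : A →* A).ker)) ?_
        intro x y hxy
        exact Subtype.ext (Subtype.ext (Subtype.mk.inj hxy))
      rw [← h1, pow_succ']
      exact Nat.mul_le_mul h3 h2
  obtain ⟨k, hk⟩ := isPGroup_iff_exponent_eq_pow.1 hA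
  refine IsCyclic.of_exponent_eq_card (le_antisymm (Nat.le_of_dvd Nat.card_pos
    Group.exponent_dvd_nat_card) ?_)
  rw [hk]
  have htop : (powMonoidHom (p ^ k) : A →* A).ker = ⊤ := eq_top_iff.2 fun x _ => by
    rw [MonoidHom.mem_ker]
    show x ^ p ^ k = 1
    rw [← hk]
    exact Monoid.pow_exponent_eq_one x
  calc Nat.card A = Nat.card (powMonoidHom (p ^ k) : A →* A).ker := by rw [htop, Subgroup.card_top]
    _ ≤ p ^ k := hle k

variable {P : Type*} [Group P] [Finite P]

/-- A noncyclic abelian normal subgroup of a `p`-group contains a normal elementary abelian subgroup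
of order `p²`. -/
theorem exists_normal_sq_of_noncyclic {p : ℕ} [hpf : Fact p.Prime] (hP : IsPGroup p P)
    {A : Subgroup P} (hAn : A.Normal) (hA : IsMulCommutative A) (hAc : ¬ IsCyclic A) :
    ∃ V : Subgroup P, V.Normal ∧ V ≤ A ∧ Nat.card V = p * p ∧ ∀ v ∈ V, v ^ p = 1 := by
  have hc : ∀ x ∈ A, ∀ y ∈ A, x * y = y * x := fun x hx y hy =>
    congrArg Subtype.val (hA.is_comm.comm ⟨x, hx⟩ ⟨y, hy⟩)
  let R : Subgroup P :=
    { carrier := {x | x ∈ A ∧ x ^ p = 1}
      one_mem' := ⟨one_mem _, one_pow _⟩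
      mul_mem' := fun {x y} hx hy => ⟨mul_mem hx.1 hy.1, by
        rw [Commute.mul_pow (hc x hx.1 y hy.1), hx.2, hy.2, one_mul]⟩
      inv_mem' := fun {x} hx => ⟨inv_mem hx.1, by rw [inv_pow, hx.2, inv_one]⟩ }
  have hRn : R.Normal := ⟨fun x hx g => ⟨hAn.conj_mem x hx.1 g, by rw [conj_pow, hx.2]; group⟩⟩
  have hRcard : p < Nat.card R := by
    by_contra hle
    apply hAc
    letI : CommGroup A := { (inferInstance : Group A) with mul_comm := hA.is_comm.comm }
    refine isCyclic_of_roots_le (hP.to_subgroup A) (le_trans ?_ (not_lt.1 hle))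
    refine Nat.card_le_card_of_injective
      (fun x => (⟨(x.1 : P), x.1.2, congrArg Subtype.val x.2⟩ : R)) ?_
    intro x y hxy
    exact Subtype.ext (Subtype.ext (Subtype.mk.inj hxy))
  have hR : R ≠ ⊥ := by
    intro h
    rw [h, Subgroup.card_bot] at hRcard
    have := hpf.out.one_lt
    omega
  obtain ⟨z, hzR, hzZ, hz⟩ := H6.exists_mem_center_orderOf hP hR
  have hzn : (zpowers z).Normal := H6.normal_of_le_center (zpowers_le.2 hzZ)
  have hlt : zpowers z < R := by
    refine lt_of_le_of_ne (zpowers_le.2 hzR) fun h => ?_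
    rw [← h, Nat.card_zpowers, hz] at hRcard
    exact lt_irrefl _ hRcard
  obtain ⟨V, hVn, -, hVR, hV⟩ := H6.exists_normal_between hP hlt
  exact ⟨V, hVn, fun v hv => (hVR hv).1, by rw [hV, Nat.card_zpowers, hz],
    fun v hv => (hVR hv).2⟩

/-- A group with a cyclic subgroup of index two has no elementary abelian subgroup of order 8. -/
theorem card_le_four_of_cyclic_index_two {a : P} (ha : Nat.card P = 2 * orderOf a) (E : Subgroup P)
    (hE : ∀ e ∈ E, e ^ 2 = 1) : Nat.card E ≤ 4 := by
  have hidx : (zpowers a).index = 2 := by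
    have h := (zpowers a).card_mul_index
    rw [Nat.card_zpowers, ha, mul_comm 2] at h
    exact Nat.eq_of_mul_eq_mul_left (orderOf_pos a) h
  have hn : (zpowers a).Normal := Subgroup.normal_of_index_eq_two hidx
  have h1 := ((zpowers a).subgroupOf E).card_mul_index
  have h2 : ((zpowers a).subgroupOf E).index ≤ 2 := by
    show (zpowers a).relIndex E ≤ 2
    exact Nat.le_of_dvd two_pos (hidx ▸ (zpowers a).relIndex_dvd_index_of_normal E)
  have h3 : Nat.card ((zpowers a).subgroupOf E) ≤ 2 := by
    have : IsCyclic ((zpowers a).subgroupOf E) :=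
      isCyclic_of_injective (f :=
        ({ toFun := fun x => (⟨x.1.1, x.2⟩ : zpowers a), map_one' := rfl, map_mul' := fun _ _ => rfl } :
          (zpowers a).subgroupOf E →* zpowers a))
        (fun x y h => Subtype.ext (Subtype.ext (Subtype.mk.inj h)))
    obtain ⟨g, hg⟩ := this.exists_generator
    rw [← orderOf_eq_card_of_forall_mem_zpowers hg]
    exact orderOf_le_of_pow_eq_one two_pos (Subtype.ext (Subtype.ext (hE _ g.1.2)))
  rw [← h1]
  exact Nat.mul_le_mul h3 h2

/-- A `2`-group of rank at least three has a normal four-subgroup. -/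
theorem exists_normal_four (hP : IsPGroup 2 P) (E : Subgroup P) (hE8 : Nat.card E = 8)
    (hE : ∀ e ∈ E, e ^ 2 = 1) :
    ∃ V : Subgroup P, V.Normal ∧ Nat.card V = 4 ∧ ∀ v ∈ V, v ^ 2 = 1 := by
  by_cases h : ∀ A : Subgroup P, A.Normal → IsMulCommutative A → IsCyclic A
  · exfalso
    have hEc : IsMulCommutative E := ⟨⟨fun x y => Subtype.ext (by
      have h1 := hE _ (mul_mem x.2 y.2)
      have hx := hE _ x.2
      have hy := hE _ y.2
      rw [sq] at h1 hx hy
      have hxi : (x : P)⁻¹ = x := inv_eq_of_mul_eq_one_right hx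
      have hyi : (y : P)⁻¹ = y := inv_eq_of_mul_eq_one_right hy
      calc (x : P) * y = ((x : P) * y)⁻¹ := (inv_eq_of_mul_eq_one_right h1).symm
        _ = y * x := by rw [mul_inv_rev, hxi, hyi])⟩⟩
    have hEn : ¬ IsCyclic E := by
      intro hcy
      obtain ⟨g, hg⟩ := hcy.exists_generator
      have h1 := orderOf_eq_card_of_forall_mem_zpowers hg
      have h2 : orderOf g ≤ 2 := orderOf_le_of_pow_eq_one two_pos (Subtype.ext (hE _ g.2))
      omega
    obtain ⟨-, hd⟩ := structure_of_cyclic_normal hP h ⟨E, hEc, hEn⟩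
    have hle : Nat.card E ≤ 4 := by
      rcases hd with ⟨n, hn, ⟨e⟩⟩ | ⟨n, hn, hcard, x, y, hx, -, -⟩
      · refine card_le_four_of_cyclic_index_two (a := e.symm (DihedralGroup.r 1)) ?_ E hE
        rw [MulEquiv.orderOf_eq, DihedralGroup.orderOf_r_one, Nat.card_congr e.toEquiv,
          DihedralGroup.nat_card]
      · exact card_le_four_of_cyclic_index_two (a := x) (by rw [hcard, hx, pow_succ']) E hE
    omega
  · push Not at h
    obtain ⟨A, hAn, hA, hAc⟩ := h
    obtain ⟨V, hV, -, hcard, hsq⟩ := exists_normal_sq_of_noncyclic hP hAn hA hAc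
    exact ⟨V, hV, hcard, hsq⟩

variable {G : Type*} [Group G] [Finite G]

/-- The elementary abelian group of order `8` generated by a four-group and an outside involution. -/
theorem exists_eight {V : Subgroup G} (hV4 : Nat.card V = 4) (hV : ∀ v ∈ V, v ^ 2 = 1)
    {w : G} (hw : w ^ 2 = 1) (hwV : w ∉ V) (hwc : ∀ v ∈ V, w * v = v * w) :
    ∃ E : Subgroup G, Nat.card E = 8 ∧ (∀ e ∈ E, e ^ 2 = 1) ∧ w ∈ E ∧ V ≤ E := by
  classical
  have hww : w * w = 1 := by rw [← sq]; exact hw
  let K : Subgroup G :=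
    { carrier := {g | g ∈ V ∨ w * g ∈ V}
      one_mem' := Or.inl (one_mem _)
      mul_mem' := by
        rintro g h (hg | hg) (hh | hh)
        · exact Or.inl (mul_mem hg hh)
        · right
          rw [← mul_assoc, hwc g hg, mul_assoc]
          exact mul_mem hg hh
        · right
          rw [← mul_assoc]
          exact mul_mem hg hh
        · left
          have e : g * h = (w * g) * (w * h) := by
            rw [← mul_assoc, ← hwc _ hg, ← mul_assoc, hww, one_mul]
          rw [e]
          exact mul_mem hg hh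
      inv_mem' := by
        rintro g (hg | hg)
        · exact Or.inl (inv_mem hg)
        · right
          have e : w * g⁻¹ = (w * g)⁻¹ := by
            have h2 := hwc _ (inv_mem hg)
            rw [mul_inv_rev, inv_eq_of_mul_eq_one_right hww] at h2 ⊢
            rw [mul_assoc g⁻¹, hww, mul_one] at h2
            calc w * g⁻¹ = w * (w * (g⁻¹ * w)) := by rw [h2]
              _ = g⁻¹ * w := by rw [← mul_assoc w w, hww, one_mul]
          rw [e]
          exact inv_mem hg }
  refine ⟨K, ?_, ?_, Or.inr (by rw [hww]; exact one_mem _), fun v hv => Or.inl hv⟩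
  · let e : V ⊕ V ≃ K :=
      { toFun := fun s => s.elim (fun v => ⟨v.1, Or.inl v.2⟩)
          (fun v => ⟨w * v.1, Or.inr (by rw [← mul_assoc, hww, one_mul]; exact v.2)⟩)
        invFun := fun g => if h : (g : G) ∈ V then Sum.inl ⟨g, h⟩ else
          Sum.inr ⟨w * g, g.2.resolve_left h⟩
        left_inv := by
          rintro (v | v)
          · simp
          · have : w * (v : G) ∉ V := fun h => hwV ((Subgroup.mul_mem_cancel_right _ v.2).1 h)
            simp [this, ← mul_assoc, hww]
        right_inv := by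
          intro g
          by_cases h : (g : G) ∈ V
          · simp [h]
          · simp [h, ← mul_assoc, hww] }
    rw [← Nat.card_congr e, Nat.card_sum, hV4]
  · rintro g (hg | hg)
    · exact hV g hg
    · have h1 := hV _ hg
      have h2 : Commute w (w * g) := hwc _ hg
      have e : g = w * (w * g) := by rw [← mul_assoc, hww, one_mul]
      rw [e, h2.mul_pow, hw, h1, one_mul]

/-- The main result: every involution centraliser has rank at least three. -/
theorem rank_three_centralizer (hno : ∀ H : Subgroup G, H.index ≠ 2) (E₀ : Subgroup G)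
    (hcardE : Nat.card E₀ = 8) (hE₀ : ∀ e ∈ E₀, e ^ 2 = 1) {x : G} (hx : orderOf x = 2) :
    ∃ E : Subgroup G, E ≤ centralizer ({x} : Set G) ∧ Nat.card E = 8 ∧ ∀ e ∈ E, e ^ 2 = 1 := by
  have h2 : Fact (Nat.Prime 2) := ⟨Nat.prime_two⟩
  obtain ⟨P, hP⟩ := (IsPGroup.of_card (p := 2) (n := 3) hcardE : IsPGroup 2 E₀).exists_le_sylow
  have hsq : ∀ {K : Subgroup G}, (∀ e ∈ K, e ^ 2 = 1) → ∀ a ∈ K, ∀ b ∈ K, a * b = b * a := by
    intro K hK a ha b hb
    have h1 := hK _ (mul_mem ha hb)
    have hx := hK _ ha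
    have hy := hK _ hb
    rw [sq] at h1 hx hy
    calc a * b = (a * b)⁻¹ := (inv_eq_of_mul_eq_one_right h1).symm
      _ = b * a := by
        rw [mul_inv_rev, inv_eq_of_mul_eq_one_right hx, inv_eq_of_mul_eq_one_right hy]
  -- a normal four-group of `P`
  obtain ⟨V', hV'n, hV'4, hV'2⟩ := exists_normal_four P.2 (E₀.subgroupOf (P : Subgroup G))
    (by rw [Nat.card_congr (Subgroup.subgroupOfEquivOfLe hP).toEquiv, hcardE])
    (fun e he => Subtype.ext (hE₀ _ he))
  set V := V'.map (P : Subgroup G).subtype with hV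
  have hVP : V ≤ (P : Subgroup G) := map_subtype_le V'
  have hV4 : Nat.card V = 4 := by
    rw [hV, Nat.card_congr (V'.equivMapOfInjective _ Subtype.val_injective).toEquiv.symm, hV'4]
  have hV2 : ∀ v ∈ V, v ^ 2 = 1 := by
    rintro _ ⟨v, hv, rfl⟩
    exact congrArg Subtype.val (hV'2 v hv)
  -- centraliser of `V'` in `P` has index at most two
  have hV'ne : V' ≠ ⊥ := by
    intro h; rw [h, Subgroup.card_bot] at hV'4; omega
  obtain ⟨z, hzV, hzZ, hz⟩ := H6.exists_mem_center_orderOf P.2 hV'ne
  have hP1 : (⊤ : Subgroup (P : Subgroup G)) ≠ ⊥ := fun h => by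
    have := hV'ne
    exact this (le_bot_iff.1 (h ▸ le_top))
  obtain ⟨M, hMidx, hMc⟩ : ∃ M : Subgroup (P : Subgroup G), M.index = 2 ∧
      ∀ m ∈ M, ∀ v ∈ V', m * v = v * m := by
    by_cases hall : ∀ m : (P : Subgroup G), ∀ v ∈ V', m * v = v * m
    · obtain ⟨M, hM⟩ : ∃ M : Subgroup (P : Subgroup G), IsCoatom M := by
        rcases IsCoatomic.eq_top_or_exists_le_coatom (⊥ : Subgroup (P : Subgroup G)) with h | h
        · exact absurd h.symm hP1
        · obtain ⟨M, hM, -⟩ := h
          exact ⟨M, hM⟩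
      exact ⟨M, H6.index_eq_prime_of_isCoatom P.2 hM, fun m _ v hv => hall m v hv⟩
    push Not at hall
    obtain ⟨g, v, hv, hgv⟩ := hall
    have hvz : v ∉ zpowers z := fun h => hgv (by
      obtain ⟨k, rfl⟩ := mem_zpowers_iff.1 h
      exact ((show Commute g z from (mem_center_iff.1 hzZ g)).zpow_right k).eq)
    have hv1 : v ≠ 1 := fun h => hvz (h ▸ one_mem _)
    have hz1 : z ≠ 1 := ne_one_of_two hz
    have hvv : v * v = 1 := by rw [← sq]; exact hV'2 v hv
    have hzz : z * z = 1 := mul_self_of_two hz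
    have hzvc : ∀ m : (P : Subgroup G), m * z = z * m := mem_center_iff.1 hzZ
    -- the elements of `V'`
    have hmem : ∀ u ∈ V', u = 1 ∨ u = z ∨ u = v ∨ u = z * v := by
      intro u hu
      have : Finite V' := inferInstance
      have hK : IsKleinFour V' :=
        { card_four := hV'4
          exponent_two := by
            refine (Nat.prime_two.eq_one_or_self_of_dvd _ ?_).resolve_left ?_
            · exact Monoid.exponent_dvd_of_forall_pow_eq_one fun x => Subtype.ext (hV'2 _ x.2)
            · intro h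
              rw [Monoid.exp_eq_one_iff] at h
              exact hv1 (congrArg Subtype.val (h.elim ⟨v, hv⟩ 1)) }
      by_cases h1 : u = 1
      · exact Or.inl h1
      by_cases h2 : u = z
      · exact Or.inr (Or.inl h2)
      by_cases h3 : u = v
      · exact Or.inr (Or.inr (Or.inl h3))
      right; right; right
      exact congrArg Subtype.val (@IsKleinFour.eq_mul_of_ne_all _ _ hK ⟨z, hzV⟩ ⟨v, hv⟩ ⟨u, hu⟩
        (fun h => hz1 (congrArg Subtype.val h)) (fun h => hv1 (congrArg Subtype.val h))
        (fun h => hvz (by rw [← show z = v from congrArg Subtype.val h]; exact mem_zpowers z))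
        (fun h => h1 (congrArg Subtype.val h)) (fun h => h2 (congrArg Subtype.val h))
        (fun h => h3 (congrArg Subtype.val h)))
    refine ⟨centralizer ({v} : Set (P : Subgroup G)), ?_, ?_⟩
    · have hcase : ∀ m : (P : Subgroup G), m * v * m⁻¹ = v ∨ m * v * m⁻¹ = z * v := by
        intro m
        rcases hmem _ (hV'n.conj_mem v hv m) with h | h | h | h
        · exact absurd (conj_eq_one_iff.1 h) hv1
        · exfalso
          apply hvz
          have e : v = z := by
            calc v = m⁻¹ * (m * v * m⁻¹) * m := by group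
              _ = z := by rw [h, mul_assoc, ← hzvc, inv_mul_cancel_left]
          rw [e]; exact mem_zpowers z
        · exact Or.inl h
        · exact Or.inr h
      have hgz : g * v * g⁻¹ = z * v := (hcase g).resolve_left fun h =>
        hgv (mul_inv_eq_iff_eq_mul.1 h)
      rw [Subgroup.index_eq_two_iff']
      refine ⟨g, fun b => ?_⟩
      simp only [mem_centralizer_singleton_iff]
      have hgb : g * b * v * (g * b)⁻¹ = g * (b * v * b⁻¹) * g⁻¹ := by group
      rcases hcase b with h | h
      · refine Or.inr ⟨(mul_inv_eq_iff_eq_mul.1 h), fun hc => hgv ?_⟩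
        rw [← mul_inv_eq_iff_eq_mul, hgb, h] at hc
        exact mul_inv_eq_iff_eq_mul.1 hc
      · refine Or.inl ⟨?_, fun hc => hgv ?_⟩
        · rw [← mul_inv_eq_iff_eq_mul, hgb, h]
          calc g * (z * v) * g⁻¹ = (g * z) * g⁻¹ * (g * v * g⁻¹) := by group
            _ = z * (z * v) := by rw [hzvc g, hgz, mul_inv_cancel_right]
            _ = v := by rw [← mul_assoc, hzz, one_mul]
        · rw [← mul_inv_eq_iff_eq_mul, h] at hc
          exact absurd (mul_eq_right.1 hc) hz1
    · intro m hm u hu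
      rw [mem_centralizer_singleton_iff] at hm
      rcases hmem u hu with rfl | rfl | rfl | rfl
      · simp
      · exact hzvc m
      · exact hm
      · exact ((show Commute m z from hzvc m).mul_right (show Commute m v from hm)).eq
  set Q := M.map (P : Subgroup G).subtype with hQ
  have hQP : Q ≤ (P : Subgroup G) := map_subtype_le M
  have hQi : Q.relIndex (P : Subgroup G) = 2 := by
    show (Q.subgroupOf (P : Subgroup G)).index = 2
    rw [hQ, Subgroup.subgroupOf, comap_map_eq_self_of_injective Subtype.val_injective, hMidx]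
  rcases H6.thompson_transfer P Q hQP hQi x hx with ⟨N, -, hN, -⟩ | ⟨g, hg⟩
  · exact absurd hN (hno N)
  obtain ⟨y, hyM, hy⟩ := hg
  have hy2 : (y : G) ^ 2 = 1 := by
    have : orderOf (y : G) = 2 := by
      show orderOf ((P : Subgroup G).subtype y) = 2
      rw [hy]; exact two_conj hx g
    exact orderOf_dvd_iff_pow_eq_one.1 this.dvd
  have hyV : ∀ v ∈ V, (y : G) * v = v * y := by
    rintro _ ⟨v, hv, rfl⟩
    exact congrArg Subtype.val (hMc y hyM v hv)
  -- it is enough to treat `y`
  suffices h : ∃ E : Subgroup G, (∀ e ∈ E, (y : G) * e = e * y) ∧ Nat.card E = 8 ∧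
      ∀ e ∈ E, e ^ 2 = 1 by
    obtain ⟨E, hEc, hE8, hE2⟩ := h
    refine ⟨E.map (MulAut.conj g⁻¹).toMonoidHom, ?_, ?_, ?_⟩
    · rintro _ ⟨e, he, rfl⟩
      rw [mem_centralizer_singleton_iff]
      have hy' : (y : G) = g * x * g⁻¹ := hy
      have h1 := hEc e he
      rw [hy'] at h1
      show g⁻¹ * e * g⁻¹⁻¹ * x = x * (g⁻¹ * e * g⁻¹⁻¹)
      calc g⁻¹ * e * g⁻¹⁻¹ * x = g⁻¹ * (e * (g * x * g⁻¹)) * g := by group
        _ = x * (g⁻¹ * e * g⁻¹⁻¹) := by rw [← h1]; group
    · rw [Nat.card_congr (E.equivMapOfInjective _ (MulAut.conj g⁻¹).injective).toEquiv.symm, hE8]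
    · rintro _ ⟨e, he, rfl⟩
      rw [← map_pow, hE2 e he, map_one]
  by_cases hyin : (y : G) ∈ V
  swap
  · obtain ⟨E, hE8, hE2, hyE, -⟩ := exists_eight hV4 hV2 hy2 hyin hyV
    exact ⟨E, fun e he => hsq hE2 _ hyE e he, hE8, hE2⟩
  -- `y ∈ V`
  by_cases hW : ∃ w ∈ E₀, w ∉ V ∧ ∀ v ∈ V, w * v = v * w
  · obtain ⟨w, hwE, hwV, hwc⟩ := hW
    obtain ⟨E, hE8, hE2, -, hVE⟩ := exists_eight hV4 hV2 (hE₀ w hwE) hwV hwc
    exact ⟨E, fun e he => hsq hE2 _ (hVE hyin) e he, hE8, hE2⟩
  push Not at hW
  refine ⟨E₀, ?_, hcardE, hE₀⟩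
  -- the subgroup `C_E(V)` has order at least four, so it is `V`
  have hle : E₀ ⊓ Q ≤ V := by
    rintro w ⟨hwE, m, hm, rfl⟩
    by_contra hwV
    obtain ⟨v, hv, hne⟩ := hW _ hwE hwV
    obtain ⟨v, hv', rfl⟩ := hv
    exact hne (congrArg Subtype.val (hMc m hm v hv'))
  have hcardW : 4 ≤ Nat.card (E₀ ⊓ Q : Subgroup G) := by
    have h1 := (Q.subgroupOf E₀).card_mul_index
    rw [Nat.card_congr ((Subgroup.subgroupOfEquivOfLe (inf_le_left : E₀ ⊓ Q ≤ E₀)).toEquiv).symm,
      Subgroup.inf_subgroupOf_left]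
    have hdvd : Q.relIndex E₀ ≤ 2 := by
      rw [← hQi]
      have hne : Q.relIndex (P : Subgroup G) ≠ 0 := by rw [hQi]; norm_num
      exact Subgroup.relIndex_le_of_le_right hP hne
    rw [hcardE] at h1
    have h2 : Nat.card (Q.subgroupOf E₀) * (Q.subgroupOf E₀).index ≤
        Nat.card (Q.subgroupOf E₀) * 2 := Nat.mul_le_mul_left _ hdvd
    omega
  have heq : E₀ ⊓ Q = V := eq_of_le_of_card_ge hle (by rw [hV4]; exact hcardW)
  have hVE : V ≤ E₀ := heq ▸ inf_le_left
  exact fun e he => hsq hE₀ _ (hVE hyin) e he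

end H65
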