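import Mathlib
import Cfsg.Agent.H10.PSolvable
import Cfsg.Agent.H20.PPart

/-!
# Two elements of order `p` generating a `p`-solvable group with abelian Sylow subgroups
-/

set_option autoImplicit false
set_option linter.style.haveILetI false
set_option linter.unusedSectionVars false

open Cfsg

namespace H65.PairReg

variable {p : ℕ} [hp : Fact p.Prime]

theorem comm_of_sylow {G : Type*} [Group G] [Finite G] (P : Sylow p G)
    (hP : ∀ a ∈ (P : Subgroup G), ∀ b ∈ (P : Subgroup G), a * b = b * a) {A : Subgroup G}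
    (hA : IsPGroup p A) {a b : G} (ha : a ∈ A) (hb : b ∈ A) : a * b = b * a := by
  obtain ⟨Q, hQ⟩ := hA.exists_le_sylow
  let e := Sylow.equiv Q P
  have h : e ⟨a, hQ ha⟩ * e ⟨b, hQ hb⟩ = e ⟨b, hQ hb⟩ * e ⟨a, hQ ha⟩ :=
    Subtype.ext (hP _ (e ⟨a, hQ ha⟩).2 _ (e ⟨b, hQ hb⟩).2)
  rw [← map_mul, ← map_mul] at h
  exact congrArg Subtype.val (e.injective h)

theorem isPGroup_zpowers {G : Type*} [Group G] [Finite G] {x : G} {k : ℕ} (hx : orderOf x = p ^ k) :
    IsPGroup p (Subgroup.zpowers x) :=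
  IsPGroup.of_card (n := k) (by rw [Nat.card_zpowers, hx])

/-- The quotient by `O_{p'}` is an abelian `p`-group. -/
theorem quotient_pGroup {H : Type*} [Group H] [Finite H] (hsol : IsPSolvable p H) (Q : Sylow p H)
    (hQ : ∀ a ∈ (Q : Subgroup H), ∀ b ∈ (Q : Subgroup H), a * b = b * a) (s : Set H)
    (hgen : Subgroup.closure s = ⊤) (hs : ∀ x ∈ s, ∃ k : ℕ, orderOf x = p ^ k) :
    IsPGroup p (H ⧸ pPrimeCore p H) ∧ ∀ a b : H ⧸ pPrimeCore p H, a * b = b * a := by
  set f := QuotientGroup.mk' (pPrimeCore p H) with hf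
  have hsurj := QuotientGroup.mk'_surjective (pPrimeCore p H)
  let R : Sylow p (H ⧸ pPrimeCore p H) := Q.mapSurjective hsurj
  have hR : ∀ a ∈ (R : Subgroup (H ⧸ pPrimeCore p H)),
      ∀ b ∈ (R : Subgroup (H ⧸ pPrimeCore p H)), a * b = b * a := by
    intro a ha b hb
    rw [Sylow.coe_mapSurjective, Subgroup.mem_map] at ha hb
    obtain ⟨a', ha', rfl⟩ := ha
    obtain ⟨b', hb', rfl⟩ := hb
    rw [← map_mul, ← map_mul, hQ a' ha' b' hb']
  have hle : pCore p (H ⧸ pPrimeCore p H) ≤ (R : Subgroup (H ⧸ pPrimeCore p H)) := by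
    obtain ⟨S, hS⟩ := (H10.pCore_isPGroup (p := p) (G := H ⧸ pPrimeCore p H)).exists_le_sylow
    obtain ⟨g, hg⟩ := MulAction.exists_smul_eq (H ⧸ pPrimeCore p H) S R
    intro a ha
    rw [← hg, Sylow.coe_subgroup_smul, Subgroup.mem_pointwise_smul_iff_inv_smul_mem]
    refine hS ?_
    have := (H10.pCore_normal (p := p) (G := H ⧸ pPrimeCore p H)).conj_mem a ha g⁻¹
    simpa [MulAut.smul_def] using this
  have hR2 : (R : Subgroup (H ⧸ pPrimeCore p H)) ≤ pCore p (H ⧸ pPrimeCore p H) := fun a ha =>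
    H10.centralizer_pCore_le (H10.isPSolvable_quotient hsol _) H10.pPrimeCore_quotient_pPrimeCore
      (Subgroup.mem_centralizer_iff.2 fun b hb => hR b (hle hb) a ha)
  have hEq : pCore p (H ⧸ pPrimeCore p H) = R := le_antisymm hle hR2
  haveI : (R : Subgroup (H ⧸ pPrimeCore p H)).Normal := hEq ▸ H10.pCore_normal
  have htop : (R : Subgroup (H ⧸ pPrimeCore p H)) = ⊤ := by
    rw [eq_top_iff, ← Subgroup.map_top_of_surjective f hsurj, ← hgen, MonoidHom.map_closure,
      Subgroup.closure_le]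
    rintro _ ⟨x, hx, rfl⟩
    obtain ⟨k, hk⟩ := hs x hx
    have hd : orderOf (f x) ∣ p ^ k := hk ▸ orderOf_map_dvd f x
    obtain ⟨j, -, hj⟩ := (Nat.dvd_prime_pow hp.out).1 hd
    obtain ⟨S, hS⟩ := (isPGroup_zpowers hj).exists_le_sylow
    haveI := Sylow.unique_of_normal R inferInstance
    rw [Subsingleton.elim S R] at hS
    exact hS (Subgroup.mem_zpowers _)
  refine ⟨fun a => ?_, fun a b => hR a (htop ▸ Subgroup.mem_top a) b (htop ▸ Subgroup.mem_top b)⟩
  obtain ⟨k, hk⟩ := R.isPGroup' ⟨a, htop ▸ Subgroup.mem_top a⟩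
  exact ⟨k, congrArg Subtype.val hk⟩

variable {G : Type*} [Group G] [Finite G]

theorem not_dvd_card_pPrimeCore : ¬ p ∣ Nat.card (pPrimeCore p G) := fun hd =>
  hp.out.coprime_iff_not_dvd.1 (H10.pPrimeCore_coprime (p := p) (G := G)).symm hd

theorem eq_one_of_map {w : G} {k : ℕ} (hw : orderOf w = p ^ k) (hmem : w ∈ pPrimeCore p G) :
    w = 1 := by
  rw [← orderOf_eq_one_iff]
  refine Nat.eq_one_of_dvd_coprimes (Nat.Coprime.pow_left k
    (hp.out.coprime_iff_not_dvd.2 (not_dvd_card_pPrimeCore (p := p) (G := G)))) (dvd_of_eq hw) ?_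
  rw [← Subgroup.orderOf_mk w hmem]
  exact orderOf_dvd_natCard (G := pPrimeCore p G) _

theorem map_regular_eq_one (hQ : IsPGroup p (G ⧸ pPrimeCore p G)) {w : G}
    (hw : ¬ p ∣ orderOf w) : (w : G ⧸ pPrimeCore p G) = 1 := by
  obtain ⟨k, hk⟩ := hQ (w : G ⧸ pPrimeCore p G)
  rw [← orderOf_eq_one_iff]
  exact Nat.eq_one_of_dvd_coprimes (Nat.Coprime.pow_left k (hp.out.coprime_iff_not_dvd.2 hw))
    (orderOf_dvd_of_pow_eq_one hk) (orderOf_map_dvd (QuotientGroup.mk' _) w)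

/-- Facts about `x * z ^ j`. -/
theorem pair_facts (P : Sylow p G)
    (hP : ∀ a ∈ (P : Subgroup G), ∀ b ∈ (P : Subgroup G), a * b = b * a) {x z : G}
    (hx : orderOf x = p) (hz : orderOf z = p)
    (hsol : IsPSolvable p ↥(Subgroup.closure ({x, z} : Set G))) :
    (∀ i j : ℕ, i < p → j < p → ¬ p ∣ orderOf (x * z ^ i) → ¬ p ∣ orderOf (x * z ^ j) → i = j) ∧
    (∀ j : ℕ, ¬ p ∣ orderOf (x * z ^ j) → IsConj x⁻¹ (z ^ j)) ∧
    ∀ j : ℕ, H20.pPart p (x * z ^ j) ^ p = 1 := by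
  set H := Subgroup.closure ({x, z} : Set G) with hH
  let x' : H := ⟨x, Subgroup.subset_closure (Set.mem_insert _ _)⟩
  let z' : H := ⟨z, Subgroup.subset_closure (Set.mem_insert_of_mem _ rfl)⟩
  have hx' : orderOf x' = p := by rw [← Subgroup.orderOf_coe]; exact hx
  have hz' : orderOf z' = p := by rw [← Subgroup.orderOf_coe]; exact hz
  obtain ⟨Q, hxQ⟩ := (isPGroup_zpowers (x := x') (k := 1) (by rw [pow_one, hx'])).exists_le_sylow
  have hQ : ∀ a ∈ (Q : Subgroup H), ∀ b ∈ (Q : Subgroup H), a * b = b * a := fun a ha b hb =>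
    Subtype.ext (comm_of_sylow P hP ((Q.isPGroup'.map H.subtype))
      (Subgroup.mem_map_of_mem _ ha) (Subgroup.mem_map_of_mem _ hb))
  have hgen : Subgroup.closure ({x', z'} : Set H) = ⊤ := by
    apply Subgroup.map_injective H.subtype_injective
    rw [MonoidHom.map_closure, ← MonoidHom.range_eq_map, Subgroup.range_subtype, Set.image_pair]
    rfl
  obtain ⟨hpg, hcomm⟩ := quotient_pGroup hsol Q hQ {x', z'} hgen (by
    rintro w (rfl | rfl)
    · exact ⟨1, by rw [pow_one, hx']⟩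
    · exact ⟨1, by rw [pow_one, hz']⟩)
  set f := QuotientGroup.mk' (pPrimeCore p H) with hf
  have hreg : ∀ j : ℕ, ¬ p ∣ orderOf (x * z ^ j) → f x' * f z' ^ j = 1 := by
    intro j hj
    rw [← map_pow, ← map_mul]
    exact map_regular_eq_one hpg (w := x' * z' ^ j) (by rw [← Subgroup.orderOf_coe]; exact hj)
  have hfz : f z' ^ p = 1 := by rw [← map_pow, orderOf_dvd_iff_pow_eq_one.1 hz'.dvd, map_one]
  have hfx : f x' ^ p = 1 := by rw [← map_pow, orderOf_dvd_iff_pow_eq_one.1 hx'.dvd, map_one]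
  have hfx1 : f x' ≠ 1 := fun h => hp.out.ne_one (by
    rw [← hx', eq_one_of_map (k := 1) (by rw [pow_one, hx'])
      ((QuotientGroup.eq_one_iff _).1 h), orderOf_one])
  refine ⟨fun i j hi hj h1 h2 => ?_, fun j hj => ?_, fun j => ?_⟩
  · have h := mul_left_cancel ((hreg i h1).trans (hreg j h2).symm)
    by_cases hz1 : f z' = 1
    · exact absurd (by simpa [hz1] using hreg i h1) hfx1
    · rwa [pow_inj_mod, orderOf_eq_prime hfz hz1, Nat.mod_eq_of_lt hi, Nat.mod_eq_of_lt hj] at h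
  · obtain ⟨S, hS⟩ := (isPGroup_zpowers (x := z') (k := 1) (by rw [pow_one, hz'])).exists_le_sylow
    obtain ⟨g, hg⟩ := MulAction.exists_smul_eq H S Q
    have hmem : g * z' * g⁻¹ ∈ (Q : Subgroup H) := by
      rw [← hg, Sylow.coe_subgroup_smul]
      exact ⟨z', hS (Subgroup.mem_zpowers _), rfl⟩
    have hw : g * z' ^ j * g⁻¹ * x' ∈ (Q : Subgroup H) := by
      rw [← conj_pow]
      exact mul_mem (pow_mem hmem j) (hxQ (Subgroup.mem_zpowers _))
    have hone : f (g * z' ^ j * g⁻¹ * x') = 1 := by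
      rw [map_mul, map_mul, map_mul, map_inv, map_pow, hcomm (f g), mul_inv_cancel_right, hcomm]
      exact hreg j hj
    obtain ⟨k, hk⟩ := IsPGroup.iff_orderOf.1 Q.isPGroup' ⟨_, hw⟩
    have h1 := eq_one_of_map (G := H) (w := g * z' ^ j * g⁻¹ * x') (k := k) (by
      rw [← hk]
      exact orderOf_injective (Q : Subgroup H).subtype Subtype.val_injective ⟨_, hw⟩) ((QuotientGroup.eq_one_iff _).1 hone)
    refine isConj_iff.2 ⟨(g : G)⁻¹, ?_⟩
    have h2 : (g : G) * z ^ j * (g : G)⁻¹ * x = 1 := congrArg Subtype.val h1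
    rw [← eq_inv_iff_mul_eq_one] at h2
    rw [← h2]
    group
  · have h1 : f ((x' * z' ^ j) ^ p) = 1 := by
      have hc : Commute (f x') (f z' ^ j) := hcomm _ _
      rw [map_pow, map_mul, map_pow, hc.mul_pow,
        hfx, ← pow_mul, mul_comm, pow_mul, hfz, one_pow, one_mul]
    have h2 : ¬ p ∣ orderOf ((x * z ^ j) ^ p) := fun hd => not_dvd_card_pPrimeCore (p := p) (G := H)
      (hd.trans (by
        rw [show orderOf ((x * z ^ j) ^ p) = orderOf ((x' * z' ^ j) ^ p) from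
          Subgroup.orderOf_coe ((x' * z' ^ j) ^ p),
          ← Subgroup.orderOf_mk _ ((QuotientGroup.eq_one_iff _).1 h1)]
        exact orderOf_dvd_natCard (G := pPrimeCore p H) _))
    have h3 := H20.isPPart_pPart (p := p) (x * z ^ j)
    obtain ⟨y, hy1, hy2, ⟨k, hk⟩, hy4⟩ := h3
    have h4 : H20.pPart p ((x * z ^ j) ^ p) = H20.pPart p (x * z ^ j) ^ p := by
      refine ((H20.isPPart_unique' (y := y ^ p) ?_ (hy2.pow_pow p p) ?_ ?_).1).symm
      · rw [← hy2.mul_pow, hy1]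
      · obtain ⟨i, -, hi⟩ := (Nat.dvd_prime_pow hp.out).1
          (hk ▸ orderOf_pow_dvd (x := H20.pPart p (x * z ^ j)) p)
        exact ⟨i, hi⟩
      · exact fun hd => hy4 (hd.trans (orderOf_pow_dvd p))
    rw [← h4, H20.pPart_eq_one_iff.2 h2]

end H65.PairReg
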