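import Mathlib
import Cfsg.Agent.H20.PrincipalColumn
import Cfsg.Agent.H20.FreeAction
import Cfsg.Agent.H12.Products

/-!
# Conjugate pairs whose product lies in a given `p`-section

For a `p`-element `u` whose centralizer has a normal `p`-complement, the indicator of the
`p`-section of `u` is a combination of principal block characters, so counting pairs only
involves the principal block.
-/

set_option autoImplicit false
set_option linter.style.haveILetI false
set_option linter.unusedSectionVars false

open Cfsg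
open scoped ComplexConjugate Classical

namespace H65.SecPair

universe u

variable {G : Type u} [Group G] [Fintype G] {p : ℕ} [hp : Fact p.Prime]

/-- The indicator of the `p`-section of `u`. -/
noncomputable def sect (p : ℕ) (u g : G) : ℂ := if IsConj u (H20.pPart p g) then 1 else 0

theorem sect_classFun (u : G) : IsClassFunction G (sect p u) := by
  intro g c
  unfold sect
  have h : IsConj (H20.pPart p g) (c * H20.pPart p g * c⁻¹) := isConj_iff.2 ⟨c, rfl⟩
  refine if_congr ?_ rfl rfl
  rw [H20.pPart_conj]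
  exact ⟨fun h1 => h1.trans h.symm, fun h1 => h1.trans h⟩

theorem sum_conj_eq {F : G → ℂ} (hF : IsClassFunction G F) (u a : G) :
    (∑ g : G, if H20.pPart p g = a * u * a⁻¹ then F g else 0) =
      ∑ g : G, if H20.pPart p g = u then F g else 0 := by
  symm
  refine Fintype.sum_equiv (MulAut.conj a).toEquiv _ _ fun g => ?_
  have h : (MulAut.conj a).toEquiv g = a * g * a⁻¹ := rfl
  rw [h, H20.pPart_conj, hF g a]
  exact if_congr ⟨fun h => by rw [h], fun h => mul_left_cancel (mul_right_cancel h)⟩ rfl rfl

theorem sum_sect {F : G → ℂ} (hF : IsClassFunction G F) (u : G) :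
    (Nat.card (Subgroup.centralizer ({u} : Set G)) : ℂ) * ∑ g : G, sect p u g * F g =
      (Nat.card G : ℂ) * ∑ g : G, if H20.pPart p g = u then F g else 0 := by
  have h1 : ∀ w : G, (∑ a : G, if w = a * u * a⁻¹ then (1 : ℂ) else 0) =
      if IsConj u w then (Nat.card (Subgroup.centralizer ({u} : Set G)) : ℂ) else 0 := by
    intro w
    rw [Finset.sum_boole]
    by_cases hw : IsConj u w
    · rw [if_pos hw]
      obtain ⟨c, hc⟩ := isConj_iff.1 hw
      rw [Nat.card_eq_fintype_card, Fintype.card_subtype]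
      norm_cast
      refine Finset.card_equiv (Equiv.mulLeft c⁻¹) fun a => ?_
      simp only [Finset.mem_filter, Finset.mem_univ, true_and, Equiv.coe_mulLeft]
      rw [Subgroup.mem_centralizer_singleton_iff, ← hc]
      constructor
      · intro h
        calc c⁻¹ * a * u = c⁻¹ * (a * u * a⁻¹) * a := by group
          _ = c⁻¹ * (c * u * c⁻¹) * a := by rw [h]
          _ = u * (c⁻¹ * a) := by group
      · intro h
        calc c * u * c⁻¹ = c * (u * (c⁻¹ * a)) * a⁻¹ := by group
          _ = c * (c⁻¹ * a * u) * a⁻¹ := by rw [h]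
          _ = a * u * a⁻¹ := by group
    · rw [if_neg hw, Finset.filter_eq_empty_iff.2 fun a _ h => hw (isConj_iff.2 ⟨a, h.symm⟩)]
      simp
  have h2 : ∀ g : G, (Nat.card (Subgroup.centralizer ({u} : Set G)) : ℂ) * (sect p u g * F g) =
      ∑ a : G, if H20.pPart p g = a * u * a⁻¹ then F g else 0 := by
    intro g
    rw [← mul_assoc, sect, mul_ite, mul_one, mul_zero, ← h1, Finset.sum_mul]
    exact Finset.sum_congr rfl fun a _ => by split_ifs <;> simp
  rw [Finset.mul_sum, Finset.sum_congr rfl fun g _ => h2 g, Finset.sum_comm,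
    Finset.sum_congr rfl fun a _ => sum_conj_eq hF u a, Finset.sum_const, Finset.card_univ,
    nsmul_eq_mul, Nat.card_eq_fintype_card]

/-- The order of a Sylow subgroup of the centralizer. -/
noncomputable def cOrd (p : ℕ) (u : G) : ℕ :=
  p ^ (Nat.card (Subgroup.centralizer ({u} : Set G))).factorization p

theorem cOrd_pos (u : G) : 0 < cOrd p u := pow_pos hp.out.pos _

theorem complement_data {u : G}
    (hC : HasNormalPComplement p (Subgroup.centralizer ({u} : Set G))) :
    ∃ N : Subgroup (Subgroup.centralizer ({u} : Set G)),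
      (∀ c : Subgroup.centralizer ({u} : Set G), c ∈ N ↔ ¬ p ∣ orderOf c) ∧
        Nat.card N * cOrd p u = Nat.card (Subgroup.centralizer ({u} : Set G)) ∧
        (pPrimeCore p (Subgroup.centralizer ({u} : Set G))).index = cOrd p u := by
  obtain ⟨Q, N, hN, hNQ⟩ := hC
  haveI := hN
  have hcard : N.index = cOrd p u := by
    rw [hNQ.symm.index_eq_card]
    exact Q.card_eq_multiplicity
  have hNQc : Nat.card N * cOrd p u = Nat.card (Subgroup.centralizer ({u} : Set G)) := by
    rw [← hcard]; exact N.card_mul_index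
  have hpN : ¬ p ∣ Nat.card N := by
    rw [← hNQ.index_eq_card]; exact Q.not_dvd_index
  refine ⟨N, fun c => ⟨fun hc hd => hpN (hd.trans ?_), fun hc => ?_⟩, hNQc, ?_⟩
  · rw [← Subgroup.orderOf_mk c hc]
    exact orderOf_dvd_natCard (G := N) _
  · exact H21.mem_of_coprime_index N (by
      rw [hcard]; exact Nat.Coprime.pow_right _ (hp.out.coprime_iff_not_dvd.2 hc).symm)
  · have hle : N ≤ pPrimeCore p (Subgroup.centralizer ({u} : Set G)) :=
      le_sSup ⟨hN, (hp.out.coprime_iff_not_dvd.2 hpN).symm⟩
    haveI := H1.pPrimeCore_normal' p (Subgroup.centralizer ({u} : Set G))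
    have hge : pPrimeCore p (Subgroup.centralizer ({u} : Set G)) ≤ N := fun c hc =>
      H21.mem_of_coprime_index N (by
        rw [hcard]
        refine Nat.Coprime.pow_right _ (Nat.Coprime.coprime_dvd_left ?_
          (H1.card_pPrimeCore_coprime p (Subgroup.centralizer ({u} : Set G))))
        rw [← Subgroup.orderOf_mk c hc]
        exact orderOf_dvd_natCard (G := pPrimeCore p (Subgroup.centralizer ({u} : Set G))) _)
    rw [le_antisymm hge hle, hcard]

theorem sum_fibre {u : G} (hu : ∃ k : ℕ, orderOf u = p ^ k)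
    (hC : HasNormalPComplement p (Subgroup.centralizer ({u} : Set G))) (F : G → ℂ) (v : ℂ)
    (hF : ∀ c : Subgroup.centralizer ({u} : Set G), ¬ p ∣ orderOf c → F (u * c) = v) :
    (cOrd p u : ℂ) * (∑ g : G, if H20.pPart p g = u then F g else 0) =
      (Nat.card (Subgroup.centralizer ({u} : Set G)) : ℂ) * v := by
  obtain ⟨N, hN, hcard, -⟩ := complement_data hC
  have himg : (Finset.univ.filter fun g => H20.pPart p g = u) =
      (Finset.univ : Finset N).image (fun c : N => u * ((c : Subgroup.centralizer ({u} : Set G)) : G)) := by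
    ext g
    simp only [Finset.mem_filter, Finset.mem_univ, true_and, Finset.mem_image]
    constructor
    · intro hg
      obtain ⟨w, h1, h2, -, h4⟩ := H20.isPPart_pPart (p := p) g
      rw [hg] at h1 h2
      have hwC : w ∈ Subgroup.centralizer ({u} : Set G) :=
        Subgroup.mem_centralizer_singleton_iff.2 h2.eq.symm
      exact ⟨⟨⟨w, hwC⟩, (hN _).2 (by rwa [Subgroup.orderOf_mk])⟩, h1⟩
    · rintro ⟨⟨c, hc⟩, rfl⟩
      exact H20.centralizer_le_of_pPart u c hu ((hN c).1 hc)
  rw [← Finset.sum_filter, himg, Finset.sum_image fun a _ b _ h =>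
    Subtype.ext (Subtype.ext (mul_left_cancel h)),
    Finset.sum_congr rfl fun c _ => hF _ ((hN _).1 c.2), Finset.sum_const, Finset.card_univ,
    nsmul_eq_mul, ← Nat.card_eq_fintype_card, ← hcard]
  push_cast
  ring

variable {M : Ideal AlgInt} [hMp : M.IsPrime]

theorem irr_shift (hM : IsPModular p M) {u : G} (hu : ∃ k : ℕ, orderOf u = p ^ k)
    (hC : HasNormalPComplement p (Subgroup.centralizer ({u} : Set G))) {χ : IrrCharacter G}
    (hχ : χ ∈ principalBlock M G) (c : Subgroup.centralizer ({u} : Set G))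
    (hc : ¬ p ∣ orderOf c) : (χ : G → ℂ) (u * (c : G)) = (χ : G → ℂ) u := by
  haveI : Fintype (Subgroup.centralizer ({u} : Set G)) := Fintype.ofFinite _
  have h1 := H20.principal_shift hM hu hχ c hc
  have h2 := H20.principal_shift hM hu hχ (1 : Subgroup.centralizer ({u} : Set G))
    (by simp [hp.out.ne_one])
  rw [Subgroup.coe_one, mul_one] at h2
  rw [h1, h2, H20.blockPart_eq_sum, H20.blockPart_eq_sum]
  refine Finset.sum_congr rfl fun φ _ => ?_
  by_cases hφ : φ ∈ principalBlock M (Subgroup.centralizer ({u} : Set G))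
  · rw [if_pos hφ, if_pos hφ, H22.Sub.apply_regular_of_complement hM hC hφ hc]
  · rw [if_neg hφ, if_neg hφ]

theorem column_norm (hM : IsPModular p M) {u : G} (hu : ∃ k : ℕ, orderOf u = p ^ k)
    (hC : HasNormalPComplement p (Subgroup.centralizer ({u} : Set G))) :
    ∑ χ ∈ (principalBlock M G).toFinset, (χ : G → ℂ) u * conj ((χ : G → ℂ) u) =
      (cOrd p u : ℂ) := by
  haveI : Fintype (Subgroup.centralizer ({u} : Set G)) := Fintype.ofFinite _
  have h1 := H20.principal_column hM hu
    (y₁ := (1 : Subgroup.centralizer ({u} : Set G))) (y := 1)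
    (by simp [hp.out.ne_one]) (by simp [hp.out.ne_one])
  rw [Subgroup.coe_one, mul_one] at h1
  obtain ⟨N, -, -, hidx⟩ := complement_data hC
  rw [← finsum_mem_eq_toFinset_sum, h1,
    H20.principal_sum_sq_of_complement hM ⟨_, hidx⟩ (by simp [hp.out.ne_one])]
  rfl

theorem classInner_sect (u : G) {F : G → ℂ} (hF : IsClassFunction G F) :
    (Nat.card (Subgroup.centralizer ({u} : Set G)) : ℂ) * classInner (sect p u) F =
      ∑ g : G, if H20.pPart p g = u then conj (F g) else 0 := by
  rw [H12.classInner_def, mul_left_comm, sum_sect (fun g c => by rw [hF g c]) u,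
    inv_mul_cancel_left₀ H12.card_ne_zero']

theorem coeff_mem (hM : IsPModular p M) {u : G} (hu : ∃ k : ℕ, orderOf u = p ^ k)
    (hC : HasNormalPComplement p (Subgroup.centralizer ({u} : Set G))) {χ : IrrCharacter G}
    (hχ : χ ∈ principalBlock M G) :
    classInner (sect p u) (χ : G → ℂ) = conj ((χ : G → ℂ) u) / (cOrd p u : ℂ) := by
  have h1 := classInner_sect (p := p) u (H12.irr_isClassFunction χ)
  have h2 := sum_fibre hu hC (fun g => conj ((χ : G → ℂ) g)) (conj ((χ : G → ℂ) u))
    fun c hc => by rw [irr_shift hM hu hC hχ c hc]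
  rw [← h1] at h2
  rw [eq_div_iff (Nat.cast_ne_zero.2 (cOrd_pos u).ne')]
  exact mul_left_cancel₀ (Nat.cast_ne_zero.2
    (Nat.card_pos (α := Subgroup.centralizer ({u} : Set G))).ne') (by linear_combination h2)

theorem norm_sect {u : G} (hu : ∃ k : ℕ, orderOf u = p ^ k)
    (hC : HasNormalPComplement p (Subgroup.centralizer ({u} : Set G))) :
    classInner (sect p u) (sect p u) = ((cOrd p u : ℂ))⁻¹ := by
  have h1 := classInner_sect (p := p) u (sect_classFun (p := p) u)
  have h2 := sum_fibre hu hC (fun g => conj (sect p u g)) 1 fun c hc => by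
    rw [sect, H20.centralizer_le_of_pPart (p := p) u c hu hc, if_pos (IsConj.refl u), map_one]
  rw [← h1] at h2
  refine eq_inv_of_mul_eq_one_left ?_
  exact mul_left_cancel₀ (Nat.cast_ne_zero.2
    (Nat.card_pos (α := Subgroup.centralizer ({u} : Set G))).ne') (by linear_combination h2)

theorem coeff_notMem (hM : IsPModular p M) {u : G} (hu : ∃ k : ℕ, orderOf u = p ^ k)
    (hC : HasNormalPComplement p (Subgroup.centralizer ({u} : Set G))) {χ : IrrCharacter G}
    (hχ : χ ∉ principalBlock M G) : classInner (sect p u) (χ : G → ℂ) = 0 := by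
  have hq : (cOrd p u : ℂ) ≠ 0 := Nat.cast_ne_zero.2 (cOrd_pos u).ne'
  have h := H12.classInner_eq_sum_mul (sect_classFun (p := p) u) (sect_classFun (p := p) u)
  rw [norm_sect hu hC,
    ← Finset.sum_filter_add_sum_filter_not _ (fun ξ => ξ ∈ principalBlock M G)] at h
  have hin : ∑ ξ ∈ Finset.univ.filter (fun ξ => ξ ∈ principalBlock M G),
      classInner (sect p u) (ξ : G → ℂ) * conj (classInner (sect p u) (ξ : G → ℂ)) =
        (cOrd p u : ℂ)⁻¹ := by
    have hB : Finset.univ.filter (fun ξ => ξ ∈ principalBlock M G) =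
        (principalBlock M G).toFinset := by ext; simp
    rw [hB, Finset.sum_congr rfl (g := fun ξ : IrrCharacter G =>
        ((cOrd p u : ℂ)⁻¹ * (cOrd p u : ℂ)⁻¹) * ((ξ : G → ℂ) u * conj ((ξ : G → ℂ) u)))
      (fun ξ hξ => by
        rw [coeff_mem hM hu hC (Set.mem_toFinset.1 hξ), map_div₀, Complex.conj_conj,
          Complex.conj_natCast]
        ring), ← Finset.mul_sum, column_norm hM hu hC]
    field_simp
  rw [hin, left_eq_add] at h
  simp only [Complex.mul_conj, ← Complex.ofReal_sum, Complex.ofReal_eq_zero] at h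
  have := (Finset.sum_eq_zero_iff_of_nonneg fun ξ _ => Complex.normSq_nonneg _).1 h χ
    (Finset.mem_filter.2 ⟨Finset.mem_univ _, hχ⟩)
  exact Complex.normSq_eq_zero.1 this

/-- Brauer's count: the number of `a` with `x * (a y a⁻¹)` in the section of `u`. -/
theorem sum_sect_mul (hM : IsPModular p M) {u : G} (hu : ∃ k : ℕ, orderOf u = p ^ k)
    (hC : HasNormalPComplement p (Subgroup.centralizer ({u} : Set G))) (x y : G) :
    (cOrd p u : ℂ) * ∑ a : G, sect p u (x * (a * y * a⁻¹)) =
      (Nat.card G : ℂ) * ∑ χ ∈ (principalBlock M G).toFinset,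
        conj ((χ : G → ℂ) u) * (χ : G → ℂ) x * (χ : G → ℂ) y / (χ : G → ℂ) 1 := by
  have hq : (cOrd p u : ℂ) ≠ 0 := Nat.cast_ne_zero.2 (cOrd_pos u).ne'
  simp only [H12.classFunction_apply_eq_sum (sect_classFun (p := p) u)]
  rw [Finset.sum_comm, Finset.mul_sum, Finset.mul_sum,
    ← Finset.sum_subset (Finset.subset_univ (principalBlock M G).toFinset) fun χ _ hχ => by
      simp [coeff_notMem hM hu hC (fun h => hχ (Set.mem_toFinset.2 h))]]
  refine Finset.sum_congr rfl fun χ hχ => ?_
  rw [← Finset.mul_sum, H12.irr_class_product, coeff_mem hM hu hC (Set.mem_toFinset.1 hχ)]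
  field_simp

end H65.SecPair
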