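import Mathlib
import Cfsg.Agent.H65.SectionPairs
import Cfsg.Agent.H65.PairRegular
import Cfsg.Agent.H20.OrthConv
import Cfsg.Agent.H22.ValueMod
import Cfsg.Agent.H62.InvertCount
import Cfsg.Agent.H24.Arith

/-!
# Simple groups with one class of nontrivial `p`-elements in an abelian Sylow subgroup
-/

set_option autoImplicit false
set_option linter.style.haveILetI false
set_option linter.unusedSectionVars false

open Cfsg
open scoped ComplexConjugate Classical

namespace H65.ElemPair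

universe u

theorem norm_irr_le {G : Type u} [Group G] [Fintype G] (χ : IrrCharacter G) (g : G) :
    ‖(χ : G → ℂ) g‖ ≤ (charDegree (χ : G → ℂ) : ℝ) := by
  obtain ⟨n, ρ, -, h⟩ := χ.2
  have h1 : (Module.finrank ℂ (Fin n → ℂ) : ℂ) = (charDegree (χ : G → ℂ) : ℂ) := by
    rw [← Representation.char_one (ρ := ρ), h, H12.irr_apply_one]
    rfl
  rw [← h]
  exact (H12.norm_character_le ρ g).trans (by rw [show Module.finrank ℂ (Fin n → ℂ) =
    charDegree (χ : G → ℂ) by exact_mod_cast h1, h])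

theorem exists_int_value {G : Type u} [Group G] [Fintype G] (P : Subgroup G) [Fintype P] {x : G}
    (hx : x ∈ P) (hx1 : x ≠ 1) (χ : IrrCharacter G)
    (hconst : ∀ y ∈ P, y ≠ 1 → (χ : G → ℂ) y = (χ : G → ℂ) x) :
    ∃ c : ℤ, (χ : G → ℂ) x = c ∧ (Nat.card P : ℤ) ∣ (charDegree (χ : G → ℂ) : ℤ) - c := by
  obtain ⟨m, hm⟩ := H12.IsCharacter.classInner_nat (H12.IsCharacter.res (H12.isCharacter_irr χ) P)
    (H12.isCharacter_monoidHom (1 : P →* ℂˣ))
  rw [H12.classInner_def] at hm
  simp only [MonoidHom.one_apply, Units.val_one, map_one, mul_one] at hm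
  rw [← Finset.add_sum_erase _ _ (Finset.mem_univ (1 : P)),
    Finset.sum_congr rfl (g := fun _ => (χ : G → ℂ) x) (fun (y : P) hy => hconst (y : G) y.2 fun h =>
      Finset.ne_of_mem_erase hy (Subtype.ext h)), Finset.sum_const,
    Finset.card_erase_of_mem (Finset.mem_univ _), Finset.card_univ, ← Nat.card_eq_fintype_card,
    nsmul_eq_mul, OneMemClass.coe_one, H12.irr_apply_one] at hm
  haveI : Nontrivial P := ⟨⟨x, hx⟩, 1, fun h => hx1 (congrArg Subtype.val h)⟩
  have hq : 1 < Nat.card P := Finite.one_lt_card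
  rw [Nat.cast_sub hq.le, Nat.cast_one, inv_mul_eq_iff_eq_mul₀ (by
    exact_mod_cast (show Nat.card P ≠ 0 by omega))] at hm
  change (charDegree (χ : G → ℂ) : ℂ) + ((Nat.card P : ℂ) - 1) * (χ : G → ℂ) x =
    (Nat.card P : ℂ) * (m : ℂ) at hm
  set q := Nat.card P
  set d := charDegree (χ : G → ℂ)
  have hq0 : ((q : ℂ) - 1) ≠ 0 := sub_ne_zero.2 (by exact_mod_cast (show q ≠ 1 by omega))
  have hr : (χ : G → ℂ) x =
      ((((q : ℤ) * m - d : ℤ) : ℚ) / ((q : ℤ) - 1 : ℤ) : ℚ) := by
    push_cast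
    rw [eq_div_iff hq0]
    linear_combination hm
  have hint := H20.isIntegral_irr χ x
  rw [hr, ← eq_ratCast (algebraMap ℚ ℂ), isIntegral_algebraMap_iff (algebraMap ℚ ℂ).injective,
    IsIntegrallyClosed.isIntegral_iff] at hint
  obtain ⟨c, hc⟩ := hint
  have hxc : (χ : G → ℂ) x = (c : ℂ) := by rw [hr, ← hc]; simp
  refine ⟨c, hxc, (m : ℤ) - c, ?_⟩
  rw [hxc] at hm
  have : (d : ℤ) + ((q : ℤ) - 1) * c = (q : ℤ) * m := by exact_mod_cast hm
  linear_combination this

theorem arith {p q C : ℕ} (hp : 3 ≤ p) (hp2 : p ≠ 4) (hq : p ≤ q) (hq9 : p = 3 → 9 ≤ q)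
    (hC : C * C + 1 ≤ q) :
    ((p : ℝ) - 1) * (1 + ((q : ℝ) - 1) * C / ((q : ℝ) - C)) < (q : ℝ) * ((p : ℝ) - 2) := by
  have hC' : (C : ℝ) * C + 1 ≤ q := by exact_mod_cast hC
  have hCq : (C : ℝ) < q := by
    have : C < q := by nlinarith [Nat.le_mul_self C]
    exact_mod_cast this
  have hC0 : (0 : ℝ) ≤ C := Nat.cast_nonneg _
  rw [show (1 : ℝ) + ((q : ℝ) - 1) * C / ((q : ℝ) - C) =
    (((q : ℝ) - C) + ((q : ℝ) - 1) * C) / ((q : ℝ) - C) by field_simp [sub_ne_zero.2 hCq.ne'],
    ← mul_div_assoc, div_lt_iff₀ (by linarith)]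
  rcases (show p = 3 ∨ 5 ≤ p by omega) with rfl | hp5
  · have h9 : (9 : ℝ) ≤ q := by exact_mod_cast hq9 rfl
    push_cast
    rcases (show C ≤ 2 ∨ C = 3 ∨ 4 ≤ C by omega) with h | h | h
    · have : (C : ℝ) ≤ 2 := by exact_mod_cast h
      nlinarith
    · subst h
      push_cast at hC' hCq ⊢
      nlinarith
    · have : (4 : ℝ) ≤ C := by exact_mod_cast h
      nlinarith [mul_le_mul_of_nonneg_left this hC0]
  · have hp5' : (5 : ℝ) ≤ p := by exact_mod_cast hp5
    have hq5 : (5 : ℝ) ≤ q := by exact_mod_cast hp5.trans hq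
    have key : 4 * (((q : ℝ) - C) + ((q : ℝ) - 1) * C) < 3 * (q * ((q : ℝ) - C)) := by
      rcases (show C ≤ 1 ∨ C = 2 ∨ 3 ≤ C by omega) with h | h | h
      · have : (C : ℝ) ≤ 1 := by exact_mod_cast h
        nlinarith
      · subst h
        push_cast at hC' hCq ⊢
        nlinarith
      · have : (3 : ℝ) ≤ C := by exact_mod_cast h
        nlinarith [mul_le_mul_of_nonneg_left this hC0]
    have hA : 0 ≤ ((q : ℝ) - C) + ((q : ℝ) - 1) * C := by nlinarith
    nlinarith

variable {G : Type u} [Group G] [Fintype G] {p : ℕ} [hp : Fact p.Prime]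

theorem prime_eq_two [IsSimpleGroup G] (P : Sylow p G) {x : G} (hx : x ∈ (P : Subgroup G))
    (hx1 : x ≠ 1) (hexp : ∀ y ∈ (P : Subgroup G), y ^ p = 1)
    (hab : ∀ a ∈ (P : Subgroup G), ∀ b ∈ (P : Subgroup G), a * b = b * a)
    (hconj : ∀ y ∈ (P : Subgroup G), y ≠ 1 → IsConj x y)
    (hC : HasNormalPComplement p (Subgroup.centralizer ({x} : Set G)))
    (hsol : ∀ a b : G, orderOf a = p → orderOf b = p →
      IsPSolvable p ↥(Subgroup.closure ({a, b} : Set G))) : p = 2 := by
  by_contra hne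
  have hp3 : 3 ≤ p := by have := hp.out.two_le; omega
  have hord : orderOf x = p := orderOf_eq_prime (hexp x hx) hx1
  have hxk : ∃ k : ℕ, orderOf x = p ^ k := ⟨1, by rw [hord, pow_one]⟩
  obtain ⟨M, hM⟩ := H22.exists_isPModular p hp.out
  haveI := H20.isPrime_of_modular hM
  set q := SecPair.cOrd p x with hq
  have hPC : (P : Subgroup G) ≤ Subgroup.centralizer ({x} : Set G) := fun w hw =>
    Subgroup.mem_centralizer_singleton_iff.2 (hab w hw x hx)
  have hPq : Nat.card (P : Subgroup G) = q := by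
    rw [hq, SecPair.cOrd, ← (P.subtype hPC).card_eq_multiplicity]
    exact Nat.card_congr (Subgroup.subgroupOfEquivOfLe hPC).toEquiv.symm
  have hpq : p ∣ q := by
    rw [← hPq]
    have h := Subgroup.orderOf_dvd_natCard (P : Subgroup G) hx
    rwa [hord] at h
  choose c hc hcd using fun χ : IrrCharacter G => exists_int_value (P : Subgroup G) hx hx1 χ
    fun y hy hy1 => by
      obtain ⟨g, hg⟩ := isConj_iff.1 (hconj y hy hy1)
      rw [← hg, H12.irr_isClassFunction χ x g]
  rw [hPq] at hcd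
  set B := (principalBlock M G).toFinset
  set d : IrrCharacter G → ℕ := fun χ => charDegree (χ : G → ℂ) with hd
  have hd0 : ∀ χ, (0 : ℝ) < d χ := fun χ => by exact_mod_cast H12.irr_degree_pos χ
  have hone : H12.oneIrr G ∈ B := Set.mem_toFinset.2 (H20.mem_blockOf_self (H12.oneIrr G))
  have hc1 : c (H12.oneIrr G) = 1 := by
    have := hc (H12.oneIrr G)
    rw [H12.oneIrr_apply] at this
    exact_mod_cast this.symm
  have hd1 : d (H12.oneIrr G) = 1 := H24.charDegree_oneIrr
  have hsq : ∑ χ ∈ B, c χ ^ 2 = (q : ℤ) := by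
    have h := SecPair.column_norm hM hxk hC
    simp only [hc, map_intCast] at h
    rw [← hq] at h
    have h' : ((∑ χ ∈ B, c χ * c χ : ℤ) : ℂ) = ((q : ℤ) : ℂ) := by push_cast; exact h
    simp only [pow_two]
    exact_mod_cast h'
  have hdeg : ∑ χ ∈ B, c χ * (d χ : ℤ) = 0 := by
    have h := H12.classFunction_apply_eq_sum (SecPair.sect_classFun (p := p) x) 1
    have h0 : SecPair.sect p x 1 = 0 := by
      rw [SecPair.sect, H20.pPart_eq_one_iff.2 (by simp [hp.out.ne_one]),
        if_neg fun h => hx1 (isConj_one_left.1 h)]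
    rw [h0, ← Finset.sum_subset (Finset.subset_univ B) fun χ _ hχ => by
      simp [SecPair.coeff_notMem hM hxk hC fun h => hχ (Set.mem_toFinset.2 h)]] at h
    rw [Finset.sum_congr rfl (g := fun χ => ((q : ℂ))⁻¹ * ((c χ * (d χ : ℤ) : ℤ) : ℂ)) (fun χ hχ => by
      rw [SecPair.coeff_mem hM hxk hC (Set.mem_toFinset.1 hχ), hc, map_intCast,
        H12.irr_apply_one, ← hq]
      push_cast
      rw [hd]
      simp only [H24.charDegree_eq_degree]
      ring), ← Finset.mul_sum, eq_comm, mul_eq_zero, inv_eq_zero] at h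
    rcases h with h | h
    · exact absurd (by exact_mod_cast h) (SecPair.cOrd_pos (p := p) x).ne'
    · exact_mod_cast h
  -- the count
  set N : G → G → ℕ := fun y a => if IsConj x (H20.pPart p (x * (a * y * a⁻¹))) then 1 else 0
  set S : ℝ := ∑ χ ∈ B, (c χ : ℝ) ^ 3 / d χ with hS
  have hval : ∀ y ∈ (P : Subgroup G), y ≠ 1 →
      (q : ℝ) * ∑ a : G, (N y a : ℝ) = (Nat.card G : ℝ) * S := by
    intro y hy hy1
    apply Complex.ofReal_injective
    have h := SecPair.sum_sect_mul hM hxk hC x y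
    obtain ⟨g, hg⟩ := isConj_iff.1 (hconj y hy hy1)
    simp only [SecPair.sect] at h
    rw [hS]
    push_cast
    convert h using 2
    · refine Finset.sum_congr rfl fun a _ => ?_
      simp only [N]
      split_ifs <;> simp
    · refine Finset.sum_congr rfl fun χ _ => ?_
      rw [← hg, H12.irr_isClassFunction χ x g, hc, H12.irr_apply_one, map_intCast]
      simp only [hd, H24.charDegree_eq_degree]
      push_cast
      ring
  have hper : ∀ a : G, ∑ j ∈ Finset.Icc 1 (p - 1), (1 - (N (x ^ j) a : ℝ)) ≤ 1 := by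
    intro a
    have hz : orderOf (a * x * a⁻¹) = p := by rw [H20.orderOf_conj', hord]
    have hfacts := (PairReg.pair_facts P hab hord hz (hsol _ _ hord hz)).1
    have hzero : ∀ j, p ∣ orderOf (x * (a * x * a⁻¹) ^ j) → (N (x ^ j) a : ℝ) = 1 := by
      intro j hj
      simp only [N]
      rw [if_pos ?_, Nat.cast_one]
      rw [conj_pow] at hj
      set g := x * (a * x ^ j * a⁻¹)
      obtain ⟨k, hk⟩ := H20.exists_orderOf_pPart (p := p) g
      have hne1 : H20.pPart p g ≠ 1 := fun h => H20.pPart_eq_one_iff.1 h hj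
      obtain ⟨Q, hQ⟩ := (PairReg.isPGroup_zpowers (p := p) hk).exists_le_sylow
      obtain ⟨b, hb⟩ := MulAction.exists_smul_eq G Q P
      have hmem : b * H20.pPart p g * b⁻¹ ∈ (P : Subgroup G) := by
        rw [← hb, Sylow.coe_subgroup_smul]
        exact ⟨_, hQ (Subgroup.mem_zpowers _), rfl⟩
      exact (hconj _ hmem fun h => hne1 (mul_left_cancel
        ((mul_inv_eq_one.1 h).trans (mul_one b).symm))).trans
          (isConj_iff.2 ⟨b, rfl⟩ : IsConj (H20.pPart p g) _).symm
    have hle : ∀ j, (1 - (N (x ^ j) a : ℝ)) ≤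
        if ¬ p ∣ orderOf (x * (a * x * a⁻¹) ^ j) then 1 else 0 := by
      intro j
      by_cases hj : p ∣ orderOf (x * (a * x * a⁻¹) ^ j)
      · rw [if_neg (not_not.2 hj), hzero j hj, sub_self]
      · rw [if_pos hj]
        exact sub_le_self _ (Nat.cast_nonneg _)
    refine (Finset.sum_le_sum fun j _ => hle j).trans ?_
    rw [Finset.sum_boole]
    norm_cast
    refine Finset.card_le_one.2 fun i hi j hj => ?_
    simp only [Finset.mem_filter, Finset.mem_Icc] at hi hj
    exact hfacts i j (by omega) (by omega) hi.2 hj.2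
  have hineq : (q : ℝ) * ((p : ℝ) - 2) ≤ ((p : ℝ) - 1) * S := by
    have hq0 : (0 : ℝ) < q := by exact_mod_cast SecPair.cOrd_pos (p := p) x
    have hG : (0 : ℝ) < Nat.card G := by exact_mod_cast Nat.card_pos
    have h1 : ∑ a : G, ∑ j ∈ Finset.Icc 1 (p - 1), (1 - (N (x ^ j) a : ℝ)) ≤ (Nat.card G : ℝ) := by
      refine (Finset.sum_le_sum fun a _ => hper a).trans ?_
      simp [Nat.card_eq_fintype_card]
    rw [Finset.sum_comm] at h1
    have h2 : (q : ℝ) * ∑ j ∈ Finset.Icc 1 (p - 1), ∑ a : G, (1 - (N (x ^ j) a : ℝ)) =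
        ((p : ℝ) - 1) * ((q : ℝ) * Nat.card G - (Nat.card G : ℝ) * S) := by
      rw [Finset.mul_sum, Finset.sum_congr rfl (g := fun _ => (q : ℝ) * Nat.card G - (Nat.card G : ℝ) * S)
        (fun j hj => ?_), Finset.sum_const, Nat.card_Icc, nsmul_eq_mul]
      · rw [show p - 1 + 1 - 1 = p - 1 by omega, Nat.cast_sub hp.out.one_le, Nat.cast_one]
      · rw [Finset.sum_sub_distrib, mul_sub, hval (x ^ j) (pow_mem hx j) ?_]
        · simp [Nat.card_eq_fintype_card]
        · intro h
          have h' := Nat.le_of_dvd (by have := (Finset.mem_Icc.1 hj).1; omega)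
            (orderOf_dvd_of_pow_eq_one h)
          rw [hord] at h'
          have := (Finset.mem_Icc.1 hj).2
          omega
    have h3 := mul_le_mul_of_nonneg_left h1 hq0.le
    rw [h2] at h3
    have h4 : (Nat.card G : ℝ) * ((q : ℝ) * ((p : ℝ) - 2) - ((p : ℝ) - 1) * S) ≤ 0 := by
      linarith
    by_contra hcon
    exact absurd h4 (not_le.2 (mul_pos hG (by linarith)))
  -- nontrivial characters
  have hck : ∀ χ, χ ≠ H12.oneIrr G → c χ ≠ (d χ : ℤ) := fun χ hχ h => hχ
    (H62.irr_eq_one_of_apply_eq_degree χ hx1 (by rw [hc, h]; rfl))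
  set R := B.erase (H12.oneIrr G)
  have hsqR : ∑ χ ∈ R, c χ ^ 2 = (q : ℤ) - 1 := by
    rw [← hsq, ← Finset.add_sum_erase _ _ hone, hc1]; ring
  have hdegR : ∑ χ ∈ R, c χ * (d χ : ℤ) = -1 := by
    rw [← Finset.add_sum_erase _ _ hone, hc1, hd1] at hdeg; push_cast at hdeg; linarith
  have hSR : S = 1 + ∑ χ ∈ R, (c χ : ℝ) ^ 3 / d χ := by
    rw [hS, ← Finset.add_sum_erase _ _ hone, hc1, hd1]; simp [R]
  have hqp : p ≤ q := Nat.le_of_dvd (SecPair.cOrd_pos (p := p) x) hpq
  by_cases hsmall : p = 3 ∧ q < 9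
  · obtain ⟨h3, hq9⟩ := hsmall
    have hq3 : q = 3 := by
      subst h3
      obtain ⟨k, hk⟩ := P.isPGroup'.exists_card_eq
      rw [hPq] at hk
      rw [hk] at hpq hq9 ⊢
      rcases k with _ | _ | k
      · norm_num at hpq
      · norm_num
      · have h9 : 3 ^ 2 ≤ 3 ^ (k + 1 + 1) := Nat.pow_le_pow_right (by omega) (by omega)
        omega
    set T := R.filter fun χ => c χ ≠ 0 with hT
    have hrest : ∀ χ ∈ R, χ ∉ T → c χ = 0 := fun χ h1 h2 => by
      by_contra h
      exact h2 (Finset.mem_filter.2 ⟨h1, h⟩)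
    have hsqT : ∑ χ ∈ T, c χ ^ 2 = 2 := by
      rw [Finset.sum_subset (Finset.filter_subset _ _) fun χ h1 h2 => by
        rw [hrest χ h1 h2]; ring, hsqR, hq3]
      rfl
    have hone' : ∀ χ ∈ T, c χ ^ 2 = 1 := by
      intro χ hχ
      have h1 : c χ ^ 2 ≤ 2 := hsqT ▸ Finset.single_le_sum (fun _ _ => sq_nonneg _) hχ
      have h2 := (Finset.mem_filter.1 hχ).2
      have : c χ ≤ 1 ∧ -1 ≤ c χ := ⟨by nlinarith, by nlinarith⟩
      rcases (show c χ = 1 ∨ c χ = -1 by omega) with h | h <;> rw [h] <;> rfl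
    have hcard : T.card = 2 := by
      rw [Finset.sum_congr rfl hone'] at hsqT
      simp only [Finset.sum_const, nsmul_eq_mul, mul_one] at hsqT
      exact_mod_cast hsqT
    obtain ⟨u, v, huv, hTuv⟩ := Finset.card_eq_two.1 hcard
    have hu : u ∈ T := by rw [hTuv]; simp
    have hv : v ∈ T := by rw [hTuv]; simp
    have hdegT : c u * (d u : ℤ) + c v * (d v : ℤ) = -1 := by
      rw [← hdegR, ← Finset.sum_subset (Finset.filter_subset _ _) (fun χ h1 h2 => by
        rw [hrest χ h1 h2, zero_mul]), ← hT, hTuv, Finset.sum_pair huv]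
    have hST : S = 1 + ((c u : ℝ) ^ 3 / d u + (c v : ℝ) ^ 3 / d v) := by
      rw [hSR, ← Finset.sum_subset (Finset.filter_subset _ _) (fun χ h1 h2 => by
        rw [hrest χ h1 h2]; simp), ← hT, hTuv, Finset.sum_pair huv]
    have key : ∀ a b : IrrCharacter G, a ∈ T → b ∈ T → c a = 1 → c b = -1 →
        c a * (d a : ℤ) + c b * (d b : ℤ) = -1 →
        (3 : ℝ) ≤ 2 * (1 + ((c a : ℝ) ^ 3 / d a + (c b : ℝ) ^ 3 / d b)) → False := by
      intro a b ha hb hca hcb hab' hs
      have ha2 : (2 : ℝ) ≤ d a := by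
        have h1 := hck a (Finset.ne_of_mem_erase (Finset.mem_filter.1 ha).1)
        have h2 : 0 < d a := H12.irr_degree_pos a
        have : d a ≠ 1 := fun h => h1 (by rw [hca, h]; rfl)
        exact_mod_cast (show 2 ≤ d a by omega)
      have hdb : (d b : ℝ) = d a + 1 := by
        rw [hca, hcb] at hab'
        have : (d b : ℤ) = d a + 1 := by linarith
        exact_mod_cast this
      rw [hca, hcb, hdb] at hs
      push_cast at hs
      have hpos : (0 : ℝ) < d a := by linarith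
      have e : (1 : ℝ) ^ 3 / (d a : ℝ) + (-1) ^ 3 / ((d a : ℝ) + 1) =
          1 / ((d a : ℝ) * ((d a : ℝ) + 1)) := by field_simp; ring
      rw [e] at hs
      have : 1 / ((d a : ℝ) * ((d a : ℝ) + 1)) ≤ 1 / 6 :=
        one_div_le_one_div_of_le (by norm_num) (by nlinarith)
      linarith
    rw [h3, hq3, hST] at hineq
    norm_num at hineq
    have hu1 := hone' u hu
    have hv1 := hone' v hv
    rcases sq_eq_one_iff.1 hu1 with hu' | hu' <;> rcases sq_eq_one_iff.1 hv1 with hv' | hv'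
    · rw [hu', hv'] at hdegT; omega
    · exact key u v hu hv hu' hv' hdegT (by linarith)
    · exact key v u hv hu hv' hu' (by linarith) (by linarith)
    · have h1 : 0 < d u := H12.irr_degree_pos u
      have h2 : 0 < d v := H12.irr_degree_pos v
      rw [hu', hv'] at hdegT; omega
  · set C := Nat.sqrt (q - 1) with hCdef
    have hCC : C * C + 1 ≤ q := by
      have h1 : C * C ≤ q - 1 := Nat.sqrt_le (q - 1)
      have h2 : 0 < q := SecPair.cOrd_pos (p := p) x
      omega
    have hCq : (C : ℝ) < q := by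
      have : C < q := by nlinarith [Nat.le_mul_self C]
      exact_mod_cast this
    have hbound : ∀ χ ∈ R, (c χ : ℝ) ^ 3 / d χ ≤ (c χ : ℝ) ^ 2 * (C / ((q : ℝ) - C)) := by
      intro χ hχ
      have hcC : (c χ).natAbs ≤ C := by
        rw [hCdef, Nat.le_sqrt]
        have h1 : c χ ^ 2 ≤ (q : ℤ) - 1 :=
          hsqR ▸ Finset.single_le_sum (fun _ _ => sq_nonneg _) hχ
        zify [show 1 ≤ q from SecPair.cOrd_pos (p := p) x]
        rw [abs_mul_abs_self]
        linarith [pow_two (c χ)]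
      have hdq : (q : ℤ) ≤ (d χ : ℤ) + (c χ).natAbs := by
        have h1 : (d χ : ℤ) - c χ ≠ 0 := sub_ne_zero.2 (hck χ (Finset.ne_of_mem_erase hχ)).symm
        have h2 := Nat.le_of_dvd (Int.natAbs_pos.2 h1) (Int.natCast_dvd.1 (hcd χ))
        omega
      have hCd : (q : ℝ) - C ≤ d χ := by
        have : (q : ℤ) - C ≤ (d χ : ℤ) := by omega
        exact_mod_cast this
      have habs : |(c χ : ℝ)| ≤ C := by
        rw [← Int.cast_abs]
        have : |c χ| ≤ (C : ℤ) := by rw [Int.abs_eq_natAbs]; exact_mod_cast hcC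
        exact_mod_cast this
      calc (c χ : ℝ) ^ 3 / d χ = (c χ : ℝ) ^ 2 * ((c χ : ℝ) / d χ) := by ring
        _ ≤ (c χ : ℝ) ^ 2 * (C / ((q : ℝ) - C)) := by
          refine mul_le_mul_of_nonneg_left ?_ (sq_nonneg _)
          calc (c χ : ℝ) / d χ ≤ (C : ℝ) / d χ :=
                div_le_div_of_nonneg_right ((le_abs_self _).trans habs) (hd0 χ).le
            _ ≤ C / ((q : ℝ) - C) := div_le_div_of_nonneg_left (Nat.cast_nonneg _)
                (by linarith) hCd
    have hSle : S ≤ 1 + ((q : ℝ) - 1) * C / ((q : ℝ) - C) := by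
      rw [hSR]
      refine add_le_add le_rfl ((Finset.sum_le_sum hbound).trans ?_)
      rw [← Finset.sum_mul, show (∑ χ ∈ R, (c χ : ℝ) ^ 2) = (q : ℝ) - 1 by exact_mod_cast hsqR,
        mul_div_assoc]
    have hp4 : p ≠ 4 := fun h => by have := hp.out; rw [h] at this; norm_num at this
    have := arith hp3 hp4 hqp (fun h => by by_contra h9; exact hsmall ⟨h, by omega⟩) hCC
    have hp1 : (0 : ℝ) ≤ (p : ℝ) - 1 := by
      have : (3 : ℝ) ≤ p := by exact_mod_cast hp3
      linarith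
    linarith [mul_le_mul_of_nonneg_left hSle hp1]

end H65.ElemPair
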