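import Cfsg.Agent.H65.BlichfeldtHall
import Cfsg.Agent.H12.Monomial

/-!
Jordan's bound for finite linear groups: prime by prime, an abelian subgroup of small index in a
Sylow subgroup, and the abelian Hall subgroup for the large primes.
-/

set_option autoImplicit false

namespace H65

open Subgroup Cfsg
open scoped Pointwise commutatorElement

universe u

variable {G : Type u} [Group G] [Finite G] {n : ℕ}

theorem JB_indFun_eq_one [Fintype G] (H : Subgroup G) (ν : H →* ℂˣ) {a b : G}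
    (ha : a ∈ H.normalCore) (hb : b ∈ H.normalCore) :
    indFun H (fun h => (ν h : ℂ)) (a * b * a⁻¹ * b⁻¹) = indFun H (fun h => (ν h : ℂ)) 1 := by
  simp only [indFun]
  congr 1
  refine Finset.sum_congr rfl fun x _ => ?_
  have ha' : x⁻¹ * a * x ∈ H := by
    have := normalCore_normal (H := H) |>.conj_mem a ha x⁻¹
    rw [inv_inv] at this
    exact H.normalCore_le this
  have hb' : x⁻¹ * b * x ∈ H := by
    have := normalCore_normal (H := H) |>.conj_mem b hb x⁻¹
    rw [inv_inv] at this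
    exact H.normalCore_le this
  have hmem : x⁻¹ * (a * b * a⁻¹ * b⁻¹) * x ∈ H := by
    rw [show x⁻¹ * (a * b * a⁻¹ * b⁻¹) * x =
      (x⁻¹ * a * x) * (x⁻¹ * b * x) * (x⁻¹ * a * x)⁻¹ * (x⁻¹ * b * x)⁻¹ by group]
    exact mul_mem (mul_mem (mul_mem ha' hb') (inv_mem ha')) (inv_mem hb')
  have h1 : (⟨x⁻¹ * (a * b * a⁻¹ * b⁻¹) * x, hmem⟩ : H) =
      ⁅(⟨_, ha'⟩ : H), (⟨_, hb'⟩ : H)⁆ := by
    apply Subtype.ext
    simp only [commutatorElement_def, Subgroup.coe_mul, InvMemClass.coe_inv]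
    group
  rw [H12.extendByZero_mk _ _ hmem, H12.extendByZero_mk _ _
    (show x⁻¹ * 1 * x ∈ H by rw [mul_one, inv_mul_cancel]; exact H.one_mem), h1,
    map_commutatorElement, commutatorElement_eq_one_iff_commute.2 (Commute.all _ _)]
  rw [show (⟨x⁻¹ * 1 * x, _⟩ : H) = 1 from Subtype.ext (by simp), map_one]

/-- A nilpotent linear group of degree `n` has an abelian subgroup of index dividing `n!`. -/
theorem JB_abelian_index [Group.IsNilpotent G] {χ : G → ℂ} (hχ : IsCharacter G χ)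
    (hfaith : ∀ g : G, χ g = χ 1 → g = 1) (hn : H12.degree χ ≤ n) :
    ∃ D : Subgroup G, (∀ x ∈ D, ∀ y ∈ D, x * y = y * x) ∧ D.index ∣ n.factorial := by
  classical
  haveI := Fintype.ofFinite G
  obtain ⟨m, hm⟩ := H12.IsCharacter.exists_mult hχ
  choose H ν hν using fun ψ : IrrCharacter G => H12.nilpotent_monomial G ψ
  let act : G →* Equiv.Perm (Σ ψ : {ψ : IrrCharacter G // m ψ ≠ 0}, G ⧸ H ψ.1) :=
    MulAction.toPermHom G _
  refine ⟨act.ker, fun x hx y hy => ?_, ?_⟩
  · have hcore : ∀ g ∈ act.ker, ∀ ψ : IrrCharacter G, m ψ ≠ 0 → g ∈ (H ψ).normalCore := by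
      intro g hg ψ hψ
      rw [normalCore_eq_ker, MonoidHom.mem_ker]
      refine Equiv.ext fun q => ?_
      have := congrArg (fun e : Equiv.Perm _ => e ⟨⟨ψ, hψ⟩, q⟩) (MonoidHom.mem_ker.1 hg)
      simpa [act] using this
    have h1 := hfaith (x * y * x⁻¹ * y⁻¹) (BH_apply_eq_of_mult hχ m hm fun ψ hψ => by
      rw [← hν ψ]
      exact JB_indFun_eq_one (H ψ) (ν ψ) (hcore x hx ψ hψ) (hcore y hy ψ hψ))
    rwa [mul_inv_eq_one, mul_inv_eq_iff_eq_mul] at h1
  · rw [index_ker]
    refine (card_subgroup_dvd_card act.range).trans ?_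
    rw [Nat.card_perm]
    refine Nat.factorial_dvd_factorial (le_trans ?_ hn)
    rw [Nat.card_sigma, ← BH_degree_le_of_mult hχ m hm]
    have hdeg : ∀ ψ : IrrCharacter G, H12.degree (ψ : G → ℂ) = (H ψ).index := by
      intro ψ
      have h := H12.indFun_one (H ψ) (fun h => ((ν ψ h : ℂˣ) : ℂ))
      rw [hν ψ, H12.irr_apply_one, map_one, Units.val_one, mul_one] at h
      exact_mod_cast h
    calc ∑ ψ : {ψ : IrrCharacter G // m ψ ≠ 0}, Nat.card (G ⧸ H ψ.1)
        ≤ ∑ ψ : {ψ : IrrCharacter G // m ψ ≠ 0}, m ψ.1 * H12.degree (ψ.1 : G → ℂ) := by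
          refine Finset.sum_le_sum fun ψ _ => ?_
          rw [← index_eq_card, ← hdeg]
          exact Nat.le_mul_of_pos_left _ (Nat.pos_of_ne_zero ψ.2)
      _ ≤ ∑ ψ, m ψ * H12.degree (ψ : G → ℂ) := by
          rw [← Finset.sum_subtype (Finset.univ.filter fun ψ => m ψ ≠ 0) (by simp)
            (fun ψ => m ψ * H12.degree (ψ : G → ℂ))]
          exact Finset.sum_le_sum_of_subset (Finset.subset_univ _)

theorem JB_prod_dvd {s : Finset ℕ} {f : ℕ → ℕ} {N : ℕ} (hf : ∀ p ∈ s, f p ∣ N)
    (hpow : ∀ p ∈ s, p.Prime ∧ ∃ k, f p = p ^ k) : ∏ p ∈ s, f p ∣ N := by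
  classical
  induction s using Finset.induction_on with
  | empty => simp
  | @insert a s ha ih =>
    rw [Finset.prod_insert ha]
    refine Nat.Coprime.mul_dvd_of_dvd_of_dvd ?_ (hf a (Finset.mem_insert_self a s))
      (ih (fun p hp => hf p (Finset.mem_insert_of_mem hp))
        fun p hp => hpow p (Finset.mem_insert_of_mem hp))
    refine Nat.Coprime.prod_right fun p hp => ?_
    obtain ⟨hap, k, hk⟩ := hpow a (Finset.mem_insert_self a s)
    obtain ⟨hpp, l, hl⟩ := hpow p (Finset.mem_insert_of_mem hp)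
    rw [hk, hl]
    exact Nat.Coprime.pow _ _ ((Nat.coprime_primes hap hpp).2 fun e => ha (e ▸ hp))

theorem JB_index_dvd (A T : Subgroup G) : A.index ∣ A.relIndex T * T.index := by
  rw [← inf_relIndex_right, relIndex_mul_index inf_le_right]
  exact index_dvd_of_le inf_le_left

/-- Jordan's bound, given the normal abelian subgroup. -/
theorem JB_jordan {χ : G → ℂ} (hχ : IsCharacter G χ) (hfaith : ∀ g : G, χ g = χ 1 → g = 1)
    (hn : H12.degree χ ≤ n) (A : Subgroup G) {c : ℕ}
    (hA : ∀ H : Subgroup G, (∀ x ∈ H, ∀ y ∈ H, x * y = y * x) → A.relIndex H ≤ c) :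
    A.index ≤ n.factorial * c ^ (Nat.primeCounting (n + 1) + 1) := by
  classical
  obtain ⟨Hh, hHab, hH1, hH2⟩ := BH_exists_abelian_hall hχ hfaith hn
  set S := (Finset.range (n + 2)).filter Nat.Prime with hS
  have hloc : ∀ p ∈ S, ∃ T : Subgroup G, ¬ p ∣ T.index ∧
      ∃ d, d ∣ n.factorial ∧ (∃ k, d = p ^ k) ∧ A.relIndex T ≤ c * d := by
    intro p hp
    have hpp : p.Prime := (Finset.mem_filter.1 hp).2
    haveI : Fact p.Prime := ⟨hpp⟩
    obtain ⟨P⟩ : Nonempty (Sylow p G) := inferInstance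
    haveI := Fintype.ofFinite (P : Subgroup G)
    haveI : Group.IsNilpotent (P : Subgroup G) := P.isPGroup'.isNilpotent
    have hres : H12.degree (fun x : (P : Subgroup G) => χ x) ≤ n := hn
    obtain ⟨D, hD1, hD2⟩ := JB_abelian_index (H12.IsCharacter.res hχ (P : Subgroup G))
      (fun g hg => Subtype.ext (hfaith g hg)) hres
    refine ⟨P, P.not_dvd_index, D.index, hD2, ?_, ?_⟩
    · obtain ⟨k, hk⟩ := P.isPGroup'.index D
      exact ⟨k, hk⟩
    · set D' := D.map (P : Subgroup G).subtype with hD'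
      have hle : D' ≤ (P : Subgroup G) := map_subtype_le D
      have hrel : D'.relIndex (P : Subgroup G) = D.index := by
        rw [hD', relIndex, subgroupOf,
          comap_map_eq_self_of_injective (P : Subgroup G).subtype_injective]
      have h1 : A.relIndex D' ≤ c := hA D' (by
        rintro _ ⟨a, ha, rfl⟩ _ ⟨b, hb, rfl⟩
        exact congrArg Subtype.val (hD1 a ha b hb))
      calc A.relIndex (P : Subgroup G)
          ≤ (A ⊓ D').relIndex (P : Subgroup G) :=
            Nat.le_of_dvd (Nat.pos_of_ne_zero (index_ne_zero_of_finite (H := (_ : Subgroup _))))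
              (relIndex_dvd_of_le_left _ inf_le_left)
        _ = A.relIndex D' * D.index := by
            rw [← hrel, ← inf_relIndex_right A D',
              relIndex_mul_relIndex _ _ _ inf_le_right hle]
        _ ≤ c * D.index := Nat.mul_le_mul_right _ h1
  choose! T hT d hd1 hd2 hd3 using hloc
  have hdvd : A.index ∣ (∏ p ∈ S, A.relIndex (T p)) * A.relIndex Hh := by
    rw [Nat.dvd_iff_prime_pow_dvd_dvd]
    intro q k hq hqk
    rcases k.eq_zero_or_pos with rfl | hk
    · simp
    by_cases hqn : q ≤ n + 1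
    · have hqS : q ∈ S := Finset.mem_filter.2 ⟨Finset.mem_range.2 (by omega), hq⟩
      refine dvd_mul_of_dvd_left ?_ _
      refine dvd_trans ?_ (Finset.dvd_prod_of_mem (fun p => A.relIndex (T p)) hqS)
      exact (Nat.Coprime.pow_left k (hq.coprime_iff_not_dvd.2 (hT q hqS))).dvd_of_dvd_mul_right
        (hqk.trans (JB_index_dvd A (T q)))
    · refine dvd_mul_of_dvd_right ?_ _
      exact (Nat.Coprime.pow_left k (hq.coprime_iff_not_dvd.2 fun h => hqn (hH2 q hq h))).dvd_of_dvd_mul_right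
        (hqk.trans (JB_index_dvd A Hh))
  have hcard : S.card = Nat.primeCounting (n + 1) := by
    rw [Nat.primeCounting, Nat.primeCounting', Nat.count_eq_card_filter_range]
  calc A.index ≤ (∏ p ∈ S, A.relIndex (T p)) * A.relIndex Hh :=
        Nat.le_of_dvd (Nat.mul_pos (Finset.prod_pos fun p _ =>
          Nat.pos_of_ne_zero (index_ne_zero_of_finite (H := (_ : Subgroup _))))
          (Nat.pos_of_ne_zero (index_ne_zero_of_finite (H := (_ : Subgroup _))))) hdvd
    _ ≤ (∏ p ∈ S, c * d p) * c :=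
        Nat.mul_le_mul (Finset.prod_le_prod' fun p hp => hd3 p hp) (hA Hh hHab)
    _ = (∏ p ∈ S, d p) * c ^ (Nat.primeCounting (n + 1) + 1) := by
        rw [Finset.prod_mul_distrib, Finset.prod_const, hcard, pow_succ]
        ring
    _ ≤ n.factorial * c ^ (Nat.primeCounting (n + 1) + 1) :=
        Nat.mul_le_mul_right _ (Nat.le_of_dvd n.factorial_pos (JB_prod_dvd hd1 fun p hp =>
          ⟨(Finset.mem_filter.1 hp).2, hd2 p hp⟩))

end H65
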