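import Cfsg.Prelude.Def_Spor_Ly
import Mathlib.GroupTheory.QuotientGroup.Basic

/-!
A normal subgroup of the presented Lyons group containing the image of `a` is the whole group.
-/

set_option autoImplicit false
set_option maxRecDepth 10000

namespace H65.LyTop

open Cfsg.Spor (Ly)

theorem normal_top (M : Subgroup Cfsg.Spor.Ly) [M.Normal]
    (ha : PresentedGroup.of Cfsg.Spor.Ly.Gen.a ∈ M) : M = ⊤ := by
  let φ : FreeGroup Cfsg.Spor.Ly.Gen →* Cfsg.Spor.Ly ⧸ M :=
    (QuotientGroup.mk' M).comp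
      (PresentedGroup.mk (Cfsg.Spor.coxRelators Cfsg.Spor.Ly.edges ∪ {r | r ∈ Cfsg.Spor.Ly.extra}))
  have hlen : Cfsg.Spor.Ly.extra.length = 86 := rfl
  have ext : ∀ j (h : j < 86), φ (Cfsg.Spor.Ly.extra[j]'(by omega)) = 1 := fun j h => by
    show QuotientGroup.mk' M (PresentedGroup.mk _ _) = 1
    rw [PresentedGroup.one_of_mem (Or.inr (List.getElem_mem _)), map_one]
  have va : φ Cfsg.Spor.Ly.a = 1 := (QuotientGroup.eq_one_iff _).mpr ha
  have vc : φ Cfsg.Spor.Ly.c = 1 := by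
    have r6 := ext 5 (by norm_num)
    simp [Cfsg.Spor.Ly.extra, map_mul, va] at r6
    have r7 := ext 6 (by norm_num)
    simp [Cfsg.Spor.Ly.extra, map_mul, va] at r7
    have r22 := ext 21 (by norm_num)
    simp [Cfsg.Spor.Ly.extra, map_mul, va] at r22
    have r11 := ext 10 (by norm_num)
    simp [Cfsg.Spor.Ly.extra, map_mul, va] at r11
    rw [mul_inv_eq_one] at r6 r7
    rw [r7, r6] at r22
    rw [r6] at r11
    have h3 : φ Cfsg.Spor.Ly.c ^ 3 = 1 := by
      rw [← r22]; simp only [pow_succ, pow_zero, one_mul, mul_assoc]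
    calc φ Cfsg.Spor.Ly.c
        = φ Cfsg.Spor.Ly.c ^ 3 * φ Cfsg.Spor.Ly.c ^ 3 * (φ Cfsg.Spor.Ly.c ^ 5)⁻¹ := by group
      _ = 1 := by rw [h3, r11]; group
  have vc1 : φ Cfsg.Spor.Ly.c1 = 1 := by
    have r := ext 5 (by norm_num)
    simpa [Cfsg.Spor.Ly.extra, va, vc] using r
  have vc2 : φ Cfsg.Spor.Ly.c2 = 1 := by
    have r := ext 6 (by norm_num)
    simpa [Cfsg.Spor.Ly.extra, va, vc, vc1] using r
  have vc3 : φ Cfsg.Spor.Ly.c3 = 1 := by
    have r := ext 7 (by norm_num)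
    simpa [Cfsg.Spor.Ly.extra, va, vc, vc1, vc2] using r
  have vc4 : φ Cfsg.Spor.Ly.c4 = 1 := by
    have r := ext 8 (by norm_num)
    simpa [Cfsg.Spor.Ly.extra, va, vc, vc1, vc2, vc3] using r
  have vc5 : φ Cfsg.Spor.Ly.c5 = 1 := by
    have r := ext 9 (by norm_num)
    simpa [Cfsg.Spor.Ly.extra, va, vc, vc1, vc2, vc3, vc4] using r
  have vd : φ Cfsg.Spor.Ly.d = 1 := by
    have h2 := ext 39 (by norm_num)
    simp [Cfsg.Spor.Ly.extra, va, vc, vc1, vc2, vc3, vc4, vc5] at h2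
    have h3 := ext 43 (by norm_num)
    simp [Cfsg.Spor.Ly.extra, va, vc, vc1, vc2, vc3, vc4, vc5] at h3
    rw [pow_two] at h2
    rwa [h2, one_mul] at h3
  have vb : φ Cfsg.Spor.Ly.b = 1 := by
    have h2 := ext 35 (by norm_num)
    simp [Cfsg.Spor.Ly.extra, va, vc, vc1, vc2, vc3, vc4, vc5, vd] at h2
    calc φ Cfsg.Spor.Ly.b
        = φ Cfsg.Spor.Ly.e * ((φ Cfsg.Spor.Ly.e)⁻¹ * φ Cfsg.Spor.Ly.b * φ Cfsg.Spor.Ly.e) *
            (φ Cfsg.Spor.Ly.e)⁻¹ := by group
      _ = 1 := by rw [h2, mul_one, mul_inv_cancel]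
  have ve : φ Cfsg.Spor.Ly.e = 1 := by
    have r := ext 28 (by norm_num)
    simpa [Cfsg.Spor.Ly.extra, va, vc, vc1, vc2, vc3, vc4, vc5, vd, vb] using r
  have va1 : φ Cfsg.Spor.Ly.a1 = 1 := by
    have r := ext 44 (by norm_num)
    simpa [Cfsg.Spor.Ly.extra, va, vc, vc1, vc2, vc3, vc4, vc5, vd, vb, ve] using r
  have va2 : φ Cfsg.Spor.Ly.a2 = 1 := by
    have r := ext 45 (by norm_num)
    simpa [Cfsg.Spor.Ly.extra, va, vc, vc1, vc2, vc3, vc4, vc5, vd, vb, ve, va1] using r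
  have va3 : φ Cfsg.Spor.Ly.a3 = 1 := by
    have r := ext 46 (by norm_num)
    simpa [Cfsg.Spor.Ly.extra, va, vc, vc1, vc2, vc3, vc4, vc5, vd, vb, ve, va1, va2] using r
  have va4 : φ Cfsg.Spor.Ly.a4 = 1 := by
    have r := ext 47 (by norm_num)
    simpa [Cfsg.Spor.Ly.extra, va, vc, vc1, vc2, vc3, vc4, vc5, vd, vb, ve, va1, va2, va3] using r
  have vu : φ Cfsg.Spor.Ly.u = 1 := by
    have r := ext 48 (by norm_num)
    simpa [Cfsg.Spor.Ly.extra, va, vc, vc1, vc2, vc3, vc4, vc5, vd, vb, ve, va1, va2, va3, va4] using r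
  have vx23 : φ Cfsg.Spor.Ly.x23 = 1 := by
    have r := ext 49 (by norm_num)
    simpa [Cfsg.Spor.Ly.extra, va, vc, vc1, vc2, vc3, vc4, vc5, vd, vb, ve, va1, va2, va3, va4, vu] using r
  have vx24 : φ Cfsg.Spor.Ly.x24 = 1 := by
    have r := ext 50 (by norm_num)
    simpa [Cfsg.Spor.Ly.extra, va, vc, vc1, vc2, vc3, vc4, vc5, vd, vb, ve, va1, va2, va3, va4, vu, vx23] using r
  have vx25 : φ Cfsg.Spor.Ly.x25 = 1 := by
    have r := ext 51 (by norm_num)
    simpa [Cfsg.Spor.Ly.extra, va, vc, vc1, vc2, vc3, vc4, vc5, vd, vb, ve, va1, va2, va3, va4, vu, vx23, vx24] using r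
  have vx29 : φ Cfsg.Spor.Ly.x29 = 1 := by
    have r := ext 52 (by norm_num)
    simpa [Cfsg.Spor.Ly.extra, va, vc, vc1, vc2, vc3, vc4, vc5, vd, vb, ve, va1, va2, va3, va4, vu, vx23, vx24, vx25] using r
  have vx47 : φ Cfsg.Spor.Ly.x47 = 1 := by
    have r := ext 53 (by norm_num)
    simpa [Cfsg.Spor.Ly.extra, va, vc, vc1, vc2, vc3, vc4, vc5, vd, vb, ve, va1, va2, va3, va4, vu, vx23, vx24, vx25, vx29] using r
  have vx96 : φ Cfsg.Spor.Ly.x96 = 1 := by
    have r := ext 54 (by norm_num)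
    simpa [Cfsg.Spor.Ly.extra, va, vc, vc1, vc2, vc3, vc4, vc5, vd, vb, ve, va1, va2, va3, va4, vu, vx23, vx24, vx25, vx29, vx47] using r
  have vx129 : φ Cfsg.Spor.Ly.x129 = 1 := by
    have r := ext 55 (by norm_num)
    simpa [Cfsg.Spor.Ly.extra, va, vc, vc1, vc2, vc3, vc4, vc5, vd, vb, ve, va1, va2, va3, va4, vu, vx23, vx24, vx25, vx29, vx47, vx96] using r
  have vx162 : φ Cfsg.Spor.Ly.x162 = 1 := by
    have r := ext 56 (by norm_num)
    simpa [Cfsg.Spor.Ly.extra, va, vc, vc1, vc2, vc3, vc4, vc5, vd, vb, ve, va1, va2, va3, va4, vu, vx23, vx24, vx25, vx29, vx47, vx96, vx129] using r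
  have vx163 : φ Cfsg.Spor.Ly.x163 = 1 := by
    have r := ext 57 (by norm_num)
    simpa [Cfsg.Spor.Ly.extra, va, vc, vc1, vc2, vc3, vc4, vc5, vd, vb, ve, va1, va2, va3, va4, vu, vx23, vx24, vx25, vx29, vx47, vx96, vx129, vx162] using r
  have vx164 : φ Cfsg.Spor.Ly.x164 = 1 := by
    have r := ext 58 (by norm_num)
    simpa [Cfsg.Spor.Ly.extra, va, vc, vc1, vc2, vc3, vc4, vc5, vd, vb, ve, va1, va2, va3, va4, vu, vx23, vx24, vx25, vx29, vx47, vx96, vx129, vx162, vx163] using r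
  have vx165 : φ Cfsg.Spor.Ly.x165 = 1 := by
    have r := ext 59 (by norm_num)
    simpa [Cfsg.Spor.Ly.extra, va, vc, vc1, vc2, vc3, vc4, vc5, vd, vb, ve, va1, va2, va3, va4, vu, vx23, vx24, vx25, vx29, vx47, vx96, vx129, vx162, vx163, vx164] using r
  have vx166 : φ Cfsg.Spor.Ly.x166 = 1 := by
    have r := ext 60 (by norm_num)
    simpa [Cfsg.Spor.Ly.extra, va, vc, vc1, vc2, vc3, vc4, vc5, vd, vb, ve, va1, va2, va3, va4, vu, vx23, vx24, vx25, vx29, vx47, vx96, vx129, vx162, vx163, vx164, vx165] using r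
  have vx167 : φ Cfsg.Spor.Ly.x167 = 1 := by
    have r := ext 61 (by norm_num)
    simpa [Cfsg.Spor.Ly.extra, va, vc, vc1, vc2, vc3, vc4, vc5, vd, vb, ve, va1, va2, va3, va4, vu, vx23, vx24, vx25, vx29, vx47, vx96, vx129, vx162, vx163, vx164, vx165, vx166] using r
  have vx168 : φ Cfsg.Spor.Ly.x168 = 1 := by
    have r := ext 62 (by norm_num)
    simpa [Cfsg.Spor.Ly.extra, va, vc, vc1, vc2, vc3, vc4, vc5, vd, vb, ve, va1, va2, va3, va4, vu, vx23, vx24, vx25, vx29, vx47, vx96, vx129, vx162, vx163, vx164, vx165, vx166, vx167] using r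
  have vx169 : φ Cfsg.Spor.Ly.x169 = 1 := by
    have r := ext 63 (by norm_num)
    simpa [Cfsg.Spor.Ly.extra, va, vc, vc1, vc2, vc3, vc4, vc5, vd, vb, ve, va1, va2, va3, va4, vu, vx23, vx24, vx25, vx29, vx47, vx96, vx129, vx162, vx163, vx164, vx165, vx166, vx167, vx168] using r
  have vx364 : φ Cfsg.Spor.Ly.x364 = 1 := by
    have r := ext 64 (by norm_num)
    simpa [Cfsg.Spor.Ly.extra, va, vc, vc1, vc2, vc3, vc4, vc5, vd, vb, ve, va1, va2, va3, va4, vu, vx23, vx24, vx25, vx29, vx47, vx96, vx129, vx162, vx163, vx164, vx165, vx166, vx167, vx168, vx169] using r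
  have vx365 : φ Cfsg.Spor.Ly.x365 = 1 := by
    have r := ext 65 (by norm_num)
    simpa [Cfsg.Spor.Ly.extra, va, vc, vc1, vc2, vc3, vc4, vc5, vd, vb, ve, va1, va2, va3, va4, vu, vx23, vx24, vx25, vx29, vx47, vx96, vx129, vx162, vx163, vx164, vx165, vx166, vx167, vx168, vx169, vx364] using r
  have vx366 : φ Cfsg.Spor.Ly.x366 = 1 := by
    have r := ext 66 (by norm_num)
    simpa [Cfsg.Spor.Ly.extra, va, vc, vc1, vc2, vc3, vc4, vc5, vd, vb, ve, va1, va2, va3, va4, vu, vx23, vx24, vx25, vx29, vx47, vx96, vx129, vx162, vx163, vx164, vx165, vx166, vx167, vx168, vx169, vx364, vx365] using r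
  have vx367 : φ Cfsg.Spor.Ly.x367 = 1 := by
    have r := ext 67 (by norm_num)
    simpa [Cfsg.Spor.Ly.extra, va, vc, vc1, vc2, vc3, vc4, vc5, vd, vb, ve, va1, va2, va3, va4, vu, vx23, vx24, vx25, vx29, vx47, vx96, vx129, vx162, vx163, vx164, vx165, vx166, vx167, vx168, vx169, vx364, vx365, vx366] using r
  have vx368 : φ Cfsg.Spor.Ly.x368 = 1 := by
    have r := ext 68 (by norm_num)
    simpa [Cfsg.Spor.Ly.extra, va, vc, vc1, vc2, vc3, vc4, vc5, vd, vb, ve, va1, va2, va3, va4, vu, vx23, vx24, vx25, vx29, vx47, vx96, vx129, vx162, vx163, vx164, vx165, vx166, vx167, vx168, vx169, vx364, vx365, vx366, vx367] using r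
  have vx369 : φ Cfsg.Spor.Ly.x369 = 1 := by
    have r := ext 69 (by norm_num)
    simpa [Cfsg.Spor.Ly.extra, va, vc, vc1, vc2, vc3, vc4, vc5, vd, vb, ve, va1, va2, va3, va4, vu, vx23, vx24, vx25, vx29, vx47, vx96, vx129, vx162, vx163, vx164, vx165, vx166, vx167, vx168, vx169, vx364, vx365, vx366, vx367, vx368] using r
  have vx370 : φ Cfsg.Spor.Ly.x370 = 1 := by
    have r := ext 70 (by norm_num)
    simpa [Cfsg.Spor.Ly.extra, va, vc, vc1, vc2, vc3, vc4, vc5, vd, vb, ve, va1, va2, va3, va4, vu, vx23, vx24, vx25, vx29, vx47, vx96, vx129, vx162, vx163, vx164, vx165, vx166, vx167, vx168, vx169, vx364, vx365, vx366, vx367, vx368, vx369] using r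
  have vx371 : φ Cfsg.Spor.Ly.x371 = 1 := by
    have r := ext 71 (by norm_num)
    simpa [Cfsg.Spor.Ly.extra, va, vc, vc1, vc2, vc3, vc4, vc5, vd, vb, ve, va1, va2, va3, va4, vu, vx23, vx24, vx25, vx29, vx47, vx96, vx129, vx162, vx163, vx164, vx165, vx166, vx167, vx168, vx169, vx364, vx365, vx366, vx367, vx368, vx369, vx370] using r
  have vz : φ Cfsg.Spor.Ly.z = 1 := by
    have h2 := ext 80 (by norm_num)
    simp [Cfsg.Spor.Ly.extra, va, vc, vc1, vc2, vc3, vc4, vc5, vd, vb, ve, va1, va2, va3, va4, vu, vx23, vx24, vx25, vx29, vx47, vx96, vx129, vx162, vx163, vx164, vx165, vx166, vx167, vx168, vx169, vx364, vx365, vx366, vx367, vx368, vx369, vx370, vx371] at h2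
    have h3 := ext 81 (by norm_num)
    simp [Cfsg.Spor.Ly.extra, va, vc, vc1, vc2, vc3, vc4, vc5, vd, vb, ve, va1, va2, va3, va4, vu, vx23, vx24, vx25, vx29, vx47, vx96, vx129, vx162, vx163, vx164, vx165, vx166, vx167, vx168, vx169, vx364, vx365, vx366, vx367, vx368, vx369, vx370, vx371] at h3
    rwa [pow_succ, h2, one_mul] at h3
  have hall : φ = 1 := by
    ext g
    cases g
    all_goals first
      | exact va
      | exact vc
      | exact vc1
      | exact vc2
      | exact vc3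
      | exact vc4
      | exact vc5
      | exact vd
      | exact vb
      | exact ve
      | exact va1
      | exact va2
      | exact va3
      | exact va4
      | exact vu
      | exact vx23
      | exact vx24
      | exact vx25
      | exact vx29
      | exact vx47
      | exact vx96
      | exact vx129
      | exact vx162
      | exact vx163
      | exact vx164
      | exact vx165
      | exact vx166
      | exact vx167
      | exact vx168
      | exact vx169
      | exact vx364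
      | exact vx365
      | exact vx366
      | exact vx367
      | exact vx368
      | exact vx369
      | exact vx370
      | exact vx371
      | exact vz
  rw [eq_top_iff]
  intro x _
  obtain ⟨w, rfl⟩ := PresentedGroup.mk_surjective _ x
  exact (QuotientGroup.eq_one_iff _).mp (DFunLike.congr_fun hall w)

end H65.LyTop
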