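import Mathlib.Algebra.BigOperators.Ring.Finset
import Mathlib.Algebra.Order.BigOperators.Group.Finset
import Mathlib.Algebra.Order.Ring.Int
import Mathlib.Algebra.Ring.Parity
import Mathlib.Tactic.Linarith
import Mathlib.Tactic.Ring
import Mathlib.Data.Fintype.Card

/-!
Integer vectors of norm two and three with pairwise inner products one.
-/

set_option autoImplicit false

namespace H65

open Finset

variable {ι : Type*}

theorem DV_support (s : Finset ι) [DecidableEq ι] (v : ι → ℤ) {k : ℕ} (hk : k ≤ 3)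
    (hv : ∑ i ∈ s, v i ^ 2 = k) :
    ∃ t ⊆ s, t.card = k ∧ (∀ i ∈ t, v i = 1 ∨ v i = -1) ∧ ∀ i ∈ s, i ∉ t → v i = 0 := by
  have hsmall : ∀ i ∈ s, v i ≠ 0 → v i = 1 ∨ v i = -1 := by
    intro i hi hne
    have h1 := Finset.single_le_sum (f := fun i => v i ^ 2) (fun i _ => sq_nonneg (v i)) hi
    rw [hv] at h1
    have h2 : v i ≤ 1 := by nlinarith
    have h3 : -1 ≤ v i := by nlinarith
    omega
  refine ⟨s.filter fun i => v i ≠ 0, filter_subset _ _, ?_,
    fun i hi => hsmall i (mem_filter.1 hi).1 (mem_filter.1 hi).2,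
    fun i hi hni => by_contra fun h => hni (mem_filter.2 ⟨hi, h⟩)⟩
  have h1 : ∑ i ∈ s.filter (fun i => v i ≠ 0), v i ^ 2 = k := by
    rw [← hv]
    exact sum_filter_of_ne fun i _ h h0 => h (by rw [h0]; norm_num)
  rw [sum_congr rfl (fun i hi => show v i ^ 2 = 1 by
    rcases hsmall i (mem_filter.1 hi).1 (mem_filter.1 hi).2 with h | h <;> rw [h] <;> norm_num)] at h1
  simpa using h1

theorem DV_pair (s : Finset ι) [DecidableEq ι] (v : ι → ℤ) (x : ι → ℤ) (hx : ∀ i ∈ s, 0 < x i)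
    (hv : ∑ i ∈ s, v i ^ 2 = 2) (hd : ∑ i ∈ s, v i * x i = 1) :
    ∃ p ∈ s, ∃ q ∈ s, p ≠ q ∧ v p = 1 ∧ v q = -1 ∧ x p = x q + 1 ∧
      (∀ i ∈ s, i ≠ p → i ≠ q → v i = 0) ∧
      ∀ u : ι → ℤ, ∑ i ∈ s, v i * u i = u p - u q := by
  obtain ⟨t, hts, htc, ht1, ht0⟩ := DV_support s v (k := 2) (by norm_num) (by exact_mod_cast hv)
  obtain ⟨p, q, hpq, rfl⟩ := card_eq_two.1 htc
  have hp := hts (mem_insert_self p _)
  have hq := hts (mem_insert_of_mem (mem_singleton_self q))
  have hsum : ∀ u : ι → ℤ, ∑ i ∈ s, v i * u i = v p * u p + v q * u q := by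
    intro u
    rw [← sum_subset hts (fun i hi hni => by rw [ht0 i hi hni, zero_mul]), sum_pair hpq]
  rw [hsum] at hd
  have := hx p hp
  have := hx q hq
  rcases ht1 p (mem_insert_self p _) with h1 | h1 <;>
    rcases ht1 q (mem_insert_of_mem (mem_singleton_self q)) with h2 | h2 <;> rw [h1, h2] at hd
  · omega
  · exact ⟨p, hp, q, hq, hpq, h1, h2, by linarith, fun i hi a b => ht0 i hi (by simp [a, b]),
      fun u => by rw [hsum, h1, h2]; ring⟩
  · exact ⟨q, hq, p, hp, hpq.symm, h2, h1, by linarith, fun i hi a b => ht0 i hi (by simp [a, b]),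
      fun u => by rw [hsum, h1, h2]; ring⟩
  · omega

/-- The configuration of the vectors. -/
theorem DV_split (s : Finset ι) [DecidableEq ι] {m : ℕ} (hm : Odd m) (w : ℕ → ι → ℤ) (h : ι → ℤ)
    (x : ι → ℤ) (hx : ∀ i ∈ s, 0 < x i)
    (hnorm : ∀ j, j < m → ∑ i ∈ s, w j i ^ 2 = 2)
    (hip : ∀ j k, j < m → k < m → j ≠ k → ∑ i ∈ s, w j i * w k i = 1)
    (hh : ∑ i ∈ s, h i ^ 2 = 3)
    (hwh : ∀ j, j < m → ∑ i ∈ s, w j i * h i = 1)
    (hd : ∀ j, j < m → ∑ i ∈ s, w j i * x i = 1) (hdh : ∑ i ∈ s, h i * x i = 1) :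
    ∃ (a c d : ι) (b : ℕ → ι) (e : ℤ), (e = 1 ∨ e = -1) ∧ a ∈ s ∧ c ∈ s ∧ d ∈ s ∧
      a ≠ c ∧ a ≠ d ∧ c ≠ d ∧
      (∀ j, j < m → b j ∈ s ∧ b j ≠ a ∧ b j ≠ c ∧ b j ≠ d ∧ w j a = e ∧ w j (b j) = -e ∧
        ∀ i ∈ s, i ≠ a → i ≠ b j → w j i = 0) ∧
      (∀ j k, j < m → k < m → b j = b k → j = k) ∧
      h a = e ∧ (h c = 1 ∨ h c = -1) ∧ (h d = 1 ∨ h d = -1) ∧
      ∀ i ∈ s, i ≠ a → i ≠ c → i ≠ d → h i = 0 := by
  obtain ⟨t, hts, htc, ht1, ht0⟩ := DV_support s h (k := 3) le_rfl (by exact_mod_cast hh)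
  have hexP : ∀ j, j < m → ∃ p q, p ∈ s ∧ q ∈ s ∧ p ≠ q ∧ w j p = 1 ∧ w j q = -1 ∧ x p = x q + 1 ∧
      (∀ i ∈ s, i ≠ p → i ≠ q → w j i = 0) ∧ ∀ u : ι → ℤ, ∑ i ∈ s, w j i * u i = u p - u q := by
    intro j hj
    obtain ⟨p, hp, q, hq, r⟩ := DV_pair s (w j) x hx (hnorm j hj) (hd j hj)
    exact ⟨p, q, hp, hq, r⟩
  have hm0 : 0 < m := hm.pos
  obtain ⟨i₀, -⟩ := hexP 0 hm0
  haveI : Nonempty ι := ⟨i₀⟩
  choose! P Q hP hQ hPQ hwP hwQ hxPQ hw0 hwsum using hexP
  have hhval : ∀ i ∈ s, h i = 1 ∨ h i = 0 ∨ h i = -1 := fun i hi => by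
    by_cases hit : i ∈ t
    · rcases ht1 i hit with e | e
      · exact Or.inl e
      · exact Or.inr (Or.inr e)
    · exact Or.inr (Or.inl (ht0 i hi hit))
  have hshare : ∀ j k, j < m → k < m → j ≠ k →
      (P j = P k ∧ Q j ≠ Q k) ∨ (P j ≠ P k ∧ Q j = Q k) := by
    intro j k hj hk hjk
    have h1 := hip j k hj hk hjk
    rw [hwsum j hj] at h1
    by_cases hp : P j = P k
    · refine Or.inl ⟨hp, fun hq => ?_⟩
      rw [hp, hwP k hk, hq, hwQ k hk] at h1
      omega
    · refine Or.inr ⟨hp, by_contra fun hq => ?_⟩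
      by_cases hpq : P j = Q k
      · rw [hpq, hwQ k hk] at h1
        by_cases hqp : Q j = P k
        · rw [hqp, hwP k hk] at h1; omega
        · rw [hw0 k hk _ (hQ j hj) hqp hq] at h1; omega
      · rw [hw0 k hk _ (hP j hj) hp hpq] at h1
        by_cases hqp : Q j = P k
        · rw [hqp, hwP k hk] at h1; omega
        · rw [hw0 k hk _ (hQ j hj) hqp hq] at h1; omega
  -- a common centre
  have hstar : ∃ (a : ι) (b : ℕ → ι) (e : ℤ), (e = 1 ∨ e = -1) ∧ a ∈ s ∧ h a = e ∧
      (∀ j, j < m → b j ∈ s ∧ b j ≠ a ∧ w j a = e ∧ w j (b j) = -e ∧ h (b j) = 0 ∧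
        ∀ i ∈ s, i ≠ a → i ≠ b j → w j i = 0) ∧
      ∀ j k, j < m → k < m → b j = b k → j = k := by
    have hh1 : ∀ j, j < m → h (P j) - h (Q j) = 1 := fun j hj => by rw [← hwsum j hj]; exact hwh j hj
    by_cases hm1 : m = 1
    · subst hm1
      rcases hhval _ (hP 0 hm0) with e | e | e
      · refine ⟨P 0, fun _ => Q 0, 1, Or.inl rfl, hP 0 hm0, e, fun j hj => ?_, fun j k _ _ _ => by omega⟩
        obtain rfl : j = 0 := by omega
        exact ⟨hQ 0 hm0, (hPQ 0 hm0).symm, hwP 0 hm0, hwQ 0 hm0,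
          by have := hh1 0 hm0; show h (Q 0) = 0; omega, hw0 0 hm0⟩
      · refine ⟨Q 0, fun _ => P 0, -1, Or.inr rfl, hQ 0 hm0, by have := hh1 0 hm0; omega,
          fun j hj => ?_, fun j k _ _ _ => by omega⟩
        obtain rfl : j = 0 := by omega
        exact ⟨hP 0 hm0, hPQ 0 hm0, hwQ 0 hm0, by rw [hwP 0 hm0]; norm_num, e,
          fun i hi a b => hw0 0 hm0 i hi b a⟩
      · have := hh1 0 hm0
        rcases hhval _ (hQ 0 hm0) with e' | e' | e' <;> omega
    have h1m : 1 < m := by omega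
    -- all share the same entry
    have hall : (∀ j, j < m → P j = P 0) ∨ (∀ j, j < m → Q j = Q 0) := by
      rcases hshare 0 1 hm0 h1m (by omega) with ⟨hp, hq⟩ | ⟨hp, hq⟩
      · refine Or.inl fun j hj => by_contra fun hne => ?_
        have hj0 : j ≠ 0 := fun e => hne (e ▸ rfl)
        have hj1 : j ≠ 1 := fun e => hne (e ▸ hp.symm)
        have e0 := ((hshare j 0 hj hm0 hj0).resolve_left fun r => hne r.1).2
        have e1 := ((hshare j 1 hj h1m hj1).resolve_left fun r => hne (r.1.trans hp.symm)).2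
        exact hq (e0.symm.trans e1)
      · refine Or.inr fun j hj => by_contra fun hne => ?_
        have hj0 : j ≠ 0 := fun e => hne (e ▸ rfl)
        have hj1 : j ≠ 1 := fun e => hne (e ▸ hq.symm)
        have e0 := ((hshare j 0 hj hm0 hj0).resolve_right fun r => hne r.2).1
        have e1 := ((hshare j 1 hj h1m hj1).resolve_right fun r => hne (r.2.trans hq.symm)).1
        exact hp (e0.symm.trans e1)
    -- a centre where `h` vanishes forces three leaves carrying all of `h`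
    have hthree : ∀ (b : ℕ → ι) (u v : ℤ), (∀ j k, j < m → k < m → b j = b k → j = k) →
        (∀ j, j < m → b j ∈ s ∧ h (b j) = u ∧ x (b j) = v) → u ≠ 0 → False := by
      intro b u v hinj hb hu
      have himg : (range m).image b ⊆ t := by
        intro i hi
        obtain ⟨j, hj, rfl⟩ := mem_image.1 hi
        have hj' := mem_range.1 hj
        exact by_contra fun hn => hu ((hb j hj').2.1 ▸ ht0 _ (hb j hj').1 hn)
      have hcard : ((range m).image b).card = m := by
        rw [card_image_of_injOn (fun j hj k hk e => hinj j k (mem_range.1 hj) (mem_range.1 hk) e),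
          card_range]
      have hm3 : m = 3 := by
        have h2 := card_le_card himg
        obtain ⟨k, rfl⟩ := hm
        omega
      have heq : (range m).image b = t := eq_of_subset_of_card_le himg (by omega)
      rw [← sum_subset hts (fun i hi hni => by rw [ht0 i hi hni, zero_mul]), ← heq,
        sum_image (fun j hj k hk e => hinj j k (mem_range.1 hj) (mem_range.1 hk) e),
        sum_congr rfl (fun j hj => by rw [(hb j (mem_range.1 hj)).2.1, (hb j (mem_range.1 hj)).2.2]),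
        sum_const, card_range, hm3, nsmul_eq_mul] at hdh
      push_cast at hdh
      omega
    rcases hall with hall | hall
    · have hinj : ∀ j k, j < m → k < m → Q j = Q k → j = k := fun j k hj hk e => by_contra fun hne =>
        (hshare j k hj hk hne).elim (fun r => r.2 e) (fun r => r.1 ((hall j hj).trans (hall k hk).symm))
      have hhP : h (P 0) = 1 := by
        rcases hhval _ (hP 0 hm0) with e | e | e
        · exact e
        · exfalso
          refine hthree Q (-1) (x (P 0) - 1) hinj (fun j hj => ⟨hQ j hj, ?_, ?_⟩) (by norm_num)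
          · have := hh1 j hj; rw [hall j hj] at this; omega
          · have := hxPQ j hj; rw [hall j hj] at this; omega
        · have := hh1 0 hm0; rcases hhval _ (hQ 0 hm0) with e' | e' | e' <;> omega
      refine ⟨P 0, Q, 1, Or.inl rfl, hP 0 hm0, hhP, fun j hj => ⟨hQ j hj,
        fun e => hPQ j hj ((hall j hj).trans e.symm), hall j hj ▸ hwP j hj, hwQ j hj,
        ?_, fun i hi a b => hw0 j hj i hi (hall j hj ▸ a) b⟩, hinj⟩
      have := hh1 j hj; rw [hall j hj] at this; omega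
    · have hinj : ∀ j k, j < m → k < m → P j = P k → j = k := fun j k hj hk e => by_contra fun hne =>
        (hshare j k hj hk hne).elim (fun r => r.2 ((hall j hj).trans (hall k hk).symm)) (fun r => r.1 e)
      have hhQ : h (Q 0) = -1 := by
        rcases hhval _ (hQ 0 hm0) with e | e | e
        · have := hh1 0 hm0; rcases hhval _ (hP 0 hm0) with e' | e' | e' <;> omega
        · exfalso
          refine hthree P 1 (x (Q 0) + 1) hinj (fun j hj => ⟨hP j hj, ?_, ?_⟩) (by norm_num)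
          · have := hh1 j hj; rw [hall j hj] at this; omega
          · have := hxPQ j hj; rw [hall j hj] at this; omega
        · exact e
      refine ⟨Q 0, P, -1, Or.inr rfl, hQ 0 hm0, hhQ, fun j hj => ⟨hP j hj,
        fun e => hPQ j hj (e.trans (hall j hj).symm), hall j hj ▸ hwQ j hj, by rw [hwP j hj]; norm_num,
        ?_, fun i hi a b => hw0 j hj i hi b (hall j hj ▸ a)⟩, hinj⟩
      have := hh1 j hj; rw [hall j hj] at this; omega
  obtain ⟨a, b, e, he, ha, hha, hb, hinj⟩ := hstar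
  have hat : a ∈ t := by_contra fun hn => by
    rw [ht0 a ha hn] at hha
    rcases he with rfl | rfl <;> simp at hha
  obtain ⟨c, d, hcd, hte⟩ := card_eq_two.1 (by rw [card_erase_of_mem hat, htc] : (t.erase a).card = 2)
  have hc : c ∈ t.erase a := by rw [hte]; exact mem_insert_self c _
  have hd' : d ∈ t.erase a := by rw [hte]; exact mem_insert_of_mem (mem_singleton_self d)
  have hne : ∀ j, j < m → ∀ i ∈ t, b j ≠ i := fun j hj i hi e' => by
    have h0 := (hb j hj).2.2.2.2.1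
    rw [e'] at h0
    rcases ht1 i hi with r | r <;> rw [r] at h0 <;> simp at h0
  refine ⟨a, c, d, b, e, he, ha, hts (mem_of_mem_erase hc), hts (mem_of_mem_erase hd'),
    (mem_erase.1 hc).1.symm, (mem_erase.1 hd').1.symm, hcd, fun j hj => ?_, hinj, hha,
    ht1 c (mem_of_mem_erase hc), ht1 d (mem_of_mem_erase hd'), fun i hi h1 h2 h3 => ?_⟩
  · obtain ⟨r1, r2, r3, r4, -, r6⟩ := hb j hj
    exact ⟨r1, r2, hne j hj c (mem_of_mem_erase hc), hne j hj d (mem_of_mem_erase hd'), r3, r4, r6⟩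
  · refine ht0 i hi fun hit => ?_
    have : i ∈ t.erase a := mem_erase.2 ⟨h1, hit⟩
    rw [hte, mem_insert, mem_singleton] at this
    exact this.elim h2 h3

end H65
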