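import Cfsg.Agent.H65.DihedralColumns
import Cfsg.Agent.H65.DihedralVectors

/-!
The principal `2`-block of a group with dihedral Sylow `2`-subgroups: the exceptional characters
from the differences of characters of the cyclic part.
-/

set_option autoImplicit false
set_option linter.unusedSectionVars false

namespace H65

open Subgroup Cfsg H68
open scoped ComplexConjugate

universe u

variable {G : Type u} [Group G] [Fintype G]

theorem DB_dvd {N r : ℕ} (h : N ∣ r) (h0 : 0 < r) (h2 : r < 2 * N) : r = N := by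
  obtain ⟨c, rfl⟩ := h
  rcases c with _ | _ | c
  · omega
  · omega
  · exfalso; nlinarith

theorem DB_geom {N : ℕ} (hN : 0 < N) {ζ : ℂ} (hζ : IsPrimitiveRoot ζ N) (r : ℕ) :
    ∑ l ∈ Finset.range N, ζ ^ (r * l) = if N ∣ r then (N : ℂ) else 0 := by
  simp only [pow_mul]
  split_ifs with h
  · rw [(hζ.pow_eq_one_iff_dvd r).2 h]; simp
  · rw [geom_sum_eq (fun e => h ((hζ.pow_eq_one_iff_dvd r).1 e)), ← pow_mul, mul_comm, pow_mul,
      hζ.pow_eq_one, one_pow, sub_self, zero_div]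

theorem DB_pow_sub {N : ℕ} {ζ : ℂ} (hζ : IsPrimitiveRoot ζ N) {j : ℕ} (hj : j ≤ N) (l : ℕ) :
    ζ ^ ((N - j) * l) = (ζ ^ (j * l))⁻¹ := by
  apply eq_inv_of_mul_eq_one_left
  rw [← pow_add, ← add_mul, Nat.sub_add_cancel hj, pow_mul, hζ.pow_eq_one, one_pow]

/-- The multiplicities of the powers of `ζ` as eigenvalues of `σ`. -/
theorem DB_mult {N : ℕ} (hN : 0 < N) {ζ : ℂ} (hζ : IsPrimitiveRoot ζ N) {σ : G}
    (hσ : orderOf σ = N) (χ : IrrCharacter G) :
    ∃ a : ℕ → ℕ, (∀ l : ℕ, (χ : G → ℂ) (σ ^ l) = ∑ j ∈ Finset.range N, (a j : ℂ) * ζ ^ (j * l)) ∧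
      ∀ j < N, ∑ l ∈ Finset.range N, (χ : G → ℂ) (σ ^ l) * ζ ^ ((N - j) * l) = (N : ℂ) * (a j : ℂ) := by
  classical
  haveI : NeZero N := ⟨hN.ne'⟩
  obtain ⟨n, ρ, -, hχ⟩ := χ.2
  obtain ⟨μ, h1, h2, -⟩ := H12.exists_char_eigenvalues ρ σ
  have hex : ∀ i, ∃ j, j < N ∧ ζ ^ j = μ i := fun i => hζ.eq_pow_of_pow_eq_one (hσ ▸ h1 i)
  choose J hJ hJμ using hex
  set a : ℕ → ℕ := fun j => (Finset.univ.filter fun i => J i = j).card with ha
  have hrep : ∀ l : ℕ, (χ : G → ℂ) (σ ^ l) = ∑ j ∈ Finset.range N, (a j : ℂ) * ζ ^ (j * l) := by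
    intro l
    rw [← hχ, h2, ← Finset.sum_fiberwise_of_maps_to (g := J) (t := Finset.range N)
      (fun i _ => Finset.mem_range.2 (hJ i))]
    refine Finset.sum_congr rfl fun j _ => ?_
    rw [Finset.sum_congr rfl (fun i hi => show μ i ^ l = ζ ^ (j * l) by
      rw [← hJμ i, (Finset.mem_filter.1 hi).2, pow_mul]), Finset.sum_const, nsmul_eq_mul]
  refine ⟨a, hrep, fun j hj => ?_⟩
  rw [Finset.sum_congr rfl (fun l _ => by rw [hrep l, Finset.sum_mul]), Finset.sum_comm,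
    Finset.sum_congr rfl (fun i hi => show ∑ l ∈ Finset.range N, (a i : ℂ) * ζ ^ (i * l) * ζ ^ ((N - j) * l)
      = if i = j then (N : ℂ) * (a i : ℂ) else 0 by
    simp only [mul_assoc, ← Finset.mul_sum, ← pow_add, ← add_mul]
    rw [DB_geom hN hζ]
    have hi' := Finset.mem_range.1 hi
    by_cases hij : i = j
    · subst hij
      rw [if_pos ⟨1, by omega⟩, if_pos rfl, mul_comm]
    · rw [if_neg (fun hd => hij (by have := DB_dvd hd (by omega) (by omega); omega)), if_neg hij,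
        mul_zero]), Finset.sum_ite_eq', if_pos (Finset.mem_range.2 hj)]

variable {M : Ideal AlgInt} [M.IsPrime]

theorem DB_column (hM : IsPModular 2 M) (P : Sylow 2 G) {σ : G} (hD : Dih (P : Subgroup G) σ)
    {k m : ℕ} (e : (P : Subgroup G) ≃* DihedralGroup m) (hk : orderOf σ = 2 ^ (k + 2))
    {u v : G} (hu : u ∈ zpowers σ) (hv : v ∈ zpowers σ) (hu1 : u ≠ 1) [DecidableEq G] :
    ∑ χ ∈ H22.blockFinset (principalBlock M G), (χ : G → ℂ) u * conj ((χ : G → ℂ) v) =
      (if v = u then (2 : ℂ) ^ (k + 2) else 0) + (if v = u⁻¹ then (2 : ℂ) ^ (k + 2) else 0) := by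
  classical
  haveI : Fact (Nat.Prime 2) := ⟨Nat.prime_two⟩
  have hpow : ∀ w ∈ zpowers σ, ∃ i, orderOf w = 2 ^ i := fun w hw => by
    obtain ⟨i, -, hi⟩ := (Nat.dvd_prime_pow Nat.prime_two).1
      (hk ▸ Nat.card_zpowers σ ▸ Subgroup.orderOf_dvd_natCard _ hw)
    exact ⟨i, hi⟩
  have hnorm : ∑ χ ∈ H22.blockFinset (principalBlock M G), (χ : G → ℂ) u * conj ((χ : G → ℂ) u) =
      if u⁻¹ = u then (2 : ℂ) ^ (k + 3) else (2 : ℂ) ^ (k + 2) := by
    haveI := Fintype.ofFinite ↥(centralizer ({u} : Set G))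
    have h := H22.Sub.principal_section_orth hM (hpow u hu) 1 1 (by simp) (by simp)
    rw [H22.Sub.sum_principal_of_complement hM (DB_complement P hD e hu hu1) (by simp) (by simp),
      DB_factorization P hD hk hu hu1] at h
    simp only [OneMemClass.coe_one, mul_one] at h
    rw [h]
    split_ifs <;> norm_num
  by_cases hconj : IsConj u v
  · rw [Finset.sum_congr rfl fun χ _ => by
      rw [← H12.IsClassFunction.of_isConj (H12.irr_isClassFunction χ) hconj], hnorm]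
    rcases DB_fusion P hD hu hv hconj with e' | e' <;> rw [e']
    · by_cases hi : u⁻¹ = u
      · rw [if_pos hi, if_pos rfl, if_pos hi.symm]; ring
      · rw [if_neg hi, if_pos rfl, if_neg (Ne.symm hi), add_zero]
    · by_cases hi : u⁻¹ = u
      · rw [if_pos hi, if_pos rfl]; simp [hi]; ring
      · rw [if_neg hi, if_neg hi, if_pos rfl, zero_add]
  · rw [if_neg (fun (e' : v = u) => hconj (e'.symm ▸ IsConj.refl u)),
      if_neg (fun (e' : v = u⁻¹) => hconj (e'.symm ▸ DB_inv_conj P hD hu)), add_zero]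
    have h := H20.block_orthogonality hM (g := u) (h := v)
      (by rwa [H20.pPart_eq_self (hpow u hu), H20.pPart_eq_self (hpow v hv)])
      (H20.isPBlock_principalBlock (M := M) (G := G))
    rw [H22.finsum_mem_block] at h
    simpa only [H12.irr_inv] using h

theorem DB_ne_zero (hM : IsPModular 2 M) (P : Sylow 2 G) {σ : G} (hD : Dih (P : Subgroup G) σ)
    {χ : IrrCharacter G} (hχ : χ ∈ principalBlock M G) : (χ : G → ℂ) (dz σ) ≠ 0 := by
  haveI : Fact (Nat.Prime 2) := ⟨Nat.prime_two⟩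
  intro h0
  have h : MemLocalIdeal M (centralChar (fun _ : G => (1 : ℂ)) (dz σ) - centralChar (χ : G → ℂ) (dz σ)) :=
    hχ (dz σ)
  simp only [centralChar, h0, mul_zero, zero_div, sub_zero, mul_one, div_one] at h
  have h2 := (H20.natCast_memIdeal_iff hM _).1 h
  have hle : (P : Subgroup G) ≤ centralizer ({dz σ} : Set G) := fun w hw =>
    mem_centralizer_singleton_iff.2 (hD.dz_comm hw)
  exact P.not_dvd_index (h2.trans (index_dvd_of_le hle))

/-- The integer vectors of the block. -/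
theorem DB_vectors (hM : IsPModular 2 M) (P : Sylow 2 G) {σ : G} (hD : Dih (P : Subgroup G) σ)
    {k m : ℕ} (e : (P : Subgroup G) ≃* DihedralGroup m) (hk : orderOf σ = 2 ^ (k + 2))
    {ζ : ℂ} (hζ : IsPrimitiveRoot ζ (2 ^ (k + 2))) :
    ∃ v : IrrCharacter G → ℕ → ℤ,
      (∀ χ, v χ 0 = 0) ∧
      (∀ j, 0 < j → j < 2 ^ (k + 2) → v (H12.oneIrr G) j = -1) ∧
      (∀ χ : IrrCharacter G, ∀ l, 0 < l → l < 2 ^ (k + 2) →
        (χ : G → ℂ) (σ ^ l) = ∑ j ∈ Finset.range (2 ^ (k + 2)), (v χ j : ℂ) * ζ ^ (j * l)) ∧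
      (∀ i j, 0 < i → i < 2 ^ (k + 2) → 0 < j → j < 2 ^ (k + 2) →
        ∑ χ ∈ H22.blockFinset (principalBlock M G), v χ i * v χ j =
          (if i = j then 1 else 0) + (if i + j = 2 ^ (k + 2) then 1 else 0) + 2) ∧
      (∀ ρ : G, Odd (orderOf ρ) → ∀ j, j < 2 ^ (k + 2) →
        ∑ χ ∈ H22.blockFinset (principalBlock M G), (χ : G → ℂ) ρ * (v χ j : ℂ) = 0) := by
  classical
  haveI : Fact (Nat.Prime 2) := ⟨Nat.prime_two⟩
  set N := 2 ^ (k + 2) with hNdef
  have hN : 0 < N := Nat.two_pow_pos _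
  have hN' : (N : ℂ) ≠ 0 := by exact_mod_cast hN.ne'
  choose a harep hasum using fun χ : IrrCharacter G => DB_mult hN hζ hk χ
  have hv : ∀ (χ : IrrCharacter G) j, j < N → ∑ l ∈ Finset.range N,
      (χ : G → ℂ) (σ ^ l) * (ζ ^ ((N - j) * l) - 1) = (N : ℂ) * (((a χ j : ℤ) - a χ 0 : ℤ) : ℂ) := by
    intro χ j hj
    have h0 := hasum χ 0 hN
    simp only [Nat.sub_zero, pow_mul, hζ.pow_eq_one, one_pow, mul_one] at h0
    simp only [mul_sub, Finset.sum_sub_distrib, hasum χ j hj, mul_one, h0]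
    push_cast; ring
  have hroot : ∀ r : ℕ, conj (ζ ^ r) = (ζ ^ r)⁻¹ := fun r =>
    H12.conj_eq_inv_of_pow_eq_one hN.ne' (by rw [← pow_mul, mul_comm, pow_mul, hζ.pow_eq_one, one_pow])
  have hv' : ∀ (χ : IrrCharacter G) j, j < N → ∑ l ∈ Finset.range N,
      conj ((χ : G → ℂ) (σ ^ l)) * (ζ ^ (j * l) - 1) = (N : ℂ) * (((a χ j : ℤ) - a χ 0 : ℤ) : ℂ) := by
    intro χ j hj
    have h := congrArg conj (hv χ j hj)
    simp only [map_sum, map_mul, map_sub, map_one, map_natCast, map_intCast, hroot,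
      DB_pow_sub hζ hj.le, map_inv₀, inv_inv] at h
    exact h
  have hinj : ∀ l l', l < N → l' < N → σ ^ l = σ ^ l' → l = l' := fun l l' h h' =>
    pow_injOn_Iio_orderOf (by rwa [Set.mem_Iio, hk]) (by rwa [Set.mem_Iio, hk])
  refine ⟨fun χ j => (a χ j : ℤ) - a χ 0, fun χ => sub_self _, fun j hj0 hj => ?_,
    fun χ l hl0 hl => ?_, fun i j hi0 hi hj0 hj => ?_, fun ρ hρ j hj => ?_⟩
  · have h := hv (H12.oneIrr G) j hj
    simp only [H12.oneIrr_apply, one_mul, Finset.sum_sub_distrib, DB_geom hN hζ, Finset.sum_const,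
      Finset.card_range, nsmul_eq_mul, mul_one] at h
    rw [if_neg (fun hd => by have := DB_dvd hd (by omega) (by omega); omega)] at h
    have h' : ((((a (H12.oneIrr G) j : ℤ) - a (H12.oneIrr G) 0 : ℤ)) : ℂ) = ((-1 : ℤ) : ℂ) := by
      apply mul_left_cancel₀ hN'
      rw [← h]; push_cast; ring
    exact_mod_cast h'
  · have hg : ∑ j ∈ Finset.range N, ζ ^ (j * l) = 0 := by
      simp only [mul_comm _ l]
      rw [DB_geom hN hζ, if_neg (fun hd => absurd (Nat.le_of_dvd hl0 hd) (not_le.2 hl))]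
    rw [harep χ l]
    push_cast
    simp only [sub_mul, Finset.sum_sub_distrib, ← Finset.mul_sum, hg, mul_zero, sub_zero]
  · have hC : ∀ l ∈ Finset.range N,
        ∑ l' ∈ Finset.range N, (ζ ^ ((N - i) * l) - 1) * (ζ ^ (j * l') - 1) *
          ∑ χ ∈ H22.blockFinset (principalBlock M G),
            (χ : G → ℂ) (σ ^ l) * conj ((χ : G → ℂ) (σ ^ l')) =
        (N : ℂ) * ((ζ ^ ((N - i) * l) - 1) * ((ζ ^ (j * l) - 1) + (ζ ^ ((N - j) * l) - 1))) := by
      intro l hl
      have hl' := Finset.mem_range.1 hl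
      rcases Nat.eq_zero_or_pos l with rfl | hl0
      · simp
      have hne : σ ^ l ≠ 1 := fun h => hl0.ne' (hinj l 0 hl' hN (by rw [h, pow_zero]))
      have hterm : ∀ l' ∈ Finset.range N,
          (ζ ^ ((N - i) * l) - 1) * (ζ ^ (j * l') - 1) *
            ∑ χ ∈ H22.blockFinset (principalBlock M G),
              (χ : G → ℂ) (σ ^ l) * conj ((χ : G → ℂ) (σ ^ l')) =
          (if l' = l then (N : ℂ) * ((ζ ^ ((N - i) * l) - 1) * (ζ ^ (j * l) - 1)) else 0) +
          (if l' = N - l then (N : ℂ) * ((ζ ^ ((N - i) * l) - 1) * (ζ ^ (j * (N - l)) - 1)) else 0) := by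
        intro l' hl''
        have hl3 := Finset.mem_range.1 hl''
        have e1 : σ ^ l' = σ ^ l ↔ l' = l := ⟨hinj l' l hl3 hl', fun h => h ▸ rfl⟩
        have e2 : σ ^ l' = (σ ^ l)⁻¹ ↔ l' = N - l := by
          rw [← inv_eq_of_mul_eq_one_right (show σ ^ (N - l) * σ ^ l = 1 by
            rw [← pow_add, Nat.sub_add_cancel hl'.le, ← hk, pow_orderOf_eq_one]), inv_inv]
          exact ⟨hinj l' _ hl3 (by omega), fun h => h ▸ rfl⟩
        rw [DB_column hM P hD e hk (pow_mem (mem_zpowers σ) l) (pow_mem (mem_zpowers σ) l') hne]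
        simp only [e1, e2]
        have hc : ((2 : ℂ) ^ (k + 2)) = (N : ℂ) := by rw [hNdef]; push_cast; rfl
        rw [hc, mul_add]
        congr 1 <;> · split_ifs with h
                      · subst h; ring
                      · ring
      rw [Finset.sum_congr rfl hterm, Finset.sum_add_distrib, Finset.sum_ite_eq',
        Finset.sum_ite_eq', if_pos hl, if_pos (Finset.mem_range.2 (by omega))]
      have e3 : ζ ^ (j * (N - l)) = ζ ^ ((N - j) * l) := by
        rw [DB_pow_sub hζ hj.le, mul_comm j (N - l), DB_pow_sub hζ hl'.le, mul_comm l j]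
      rw [e3]; ring
    have hmain : (N : ℂ) * N * (∑ χ ∈ H22.blockFinset (principalBlock M G),
        ((((a χ i : ℤ) - a χ 0) * ((a χ j : ℤ) - a χ 0) : ℤ) : ℂ)) =
        ∑ l ∈ Finset.range N,
          (N : ℂ) * ((ζ ^ ((N - i) * l) - 1) * ((ζ ^ (j * l) - 1) + (ζ ^ ((N - j) * l) - 1))) := by
      rw [← Finset.sum_congr rfl hC, Finset.mul_sum]
      simp only [Finset.mul_sum]
      rw [Finset.sum_congr rfl (fun l _ => Finset.sum_comm), Finset.sum_comm]
      refine Finset.sum_congr rfl fun χ _ => ?_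
      rw [Int.cast_mul, show (N : ℂ) * N * ((((a χ i : ℤ) - a χ 0 : ℤ) : ℂ) * (((a χ j : ℤ) - a χ 0 : ℤ) : ℂ)) =
        ((N : ℂ) * (((a χ i : ℤ) - a χ 0 : ℤ) : ℂ)) * ((N : ℂ) * (((a χ j : ℤ) - a χ 0 : ℤ) : ℂ)) by ring,
        ← hv χ i hi, ← hv' χ j hj, Finset.sum_mul_sum]
      exact Finset.sum_congr rfl fun l _ => Finset.sum_congr rfl fun l' _ => by ring
    have hexp : ∀ l : ℕ, (ζ ^ ((N - i) * l) - 1) * ((ζ ^ (j * l) - 1) + (ζ ^ ((N - j) * l) - 1)) =
        ζ ^ ((N - i + j) * l) + ζ ^ ((N - i + (N - j)) * l) - 2 * ζ ^ ((N - i) * l)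
          - ζ ^ (j * l) - ζ ^ ((N - j) * l) + 2 := fun l => by
      simp only [add_mul, pow_add]; ring
    rw [← Finset.mul_sum, mul_assoc] at hmain
    have hmain' := mul_left_cancel₀ hN' hmain
    simp only [hexp, Finset.sum_add_distrib, Finset.sum_sub_distrib, ← Finset.mul_sum,
      DB_geom hN hζ, Finset.sum_const, Finset.card_range, nsmul_eq_mul] at hmain'
    have d1 : N ∣ N - i + j ↔ i = j := ⟨fun hd => by
      have := DB_dvd hd (by omega) (by omega); omega, fun h => ⟨1, by omega⟩⟩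
    have d2 : N ∣ N - i + (N - j) ↔ i + j = N := ⟨fun hd => by
      have := DB_dvd hd (by omega) (by omega); omega, fun h => ⟨1, by omega⟩⟩
    have d3 : ∀ r, 0 < r → r < N → ¬ N ∣ r := fun r h h' hd => absurd (Nat.le_of_dvd h hd) (not_le.2 h')
    rw [if_neg (d3 j hj0 hj), if_neg (d3 (N - j) (by omega) (by omega)),
      if_neg (d3 (N - i) (by omega) (by omega))] at hmain'
    simp only [d1, d2] at hmain'
    apply Int.cast_injective (α := ℂ)
    push_cast at hmain' ⊢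
    apply mul_left_cancel₀ hN'
    rw [hmain']
    split_ifs <;> ring
  · apply mul_left_cancel₀ hN'
    rw [mul_zero, Finset.mul_sum, Finset.sum_congr rfl (fun (χ : IrrCharacter G) _ =>
      show (N : ℂ) * ((χ : G → ℂ) ρ * (((a χ j : ℤ) - a χ 0 : ℤ) : ℂ)) =
        ∑ l ∈ Finset.range N, (χ : G → ℂ) ρ * conj ((χ : G → ℂ) (σ ^ l)) * (ζ ^ (j * l) - 1) by
        rw [← mul_assoc, mul_comm (N : ℂ), mul_assoc, ← hv' χ j hj, Finset.mul_sum]
        exact Finset.sum_congr rfl fun l _ => by ring), Finset.sum_comm]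
    refine Finset.sum_eq_zero fun l hl => ?_
    rcases Nat.eq_zero_or_pos l with rfl | hl0
    · simp
    rw [← Finset.sum_mul, H22.weakOrth_of_block hM H20.isPBlock_principalBlock ρ (σ ^ l)
      hρ.not_two_dvd_nat ?_, zero_mul]
    obtain ⟨e', -, he, -⟩ := DB_exists_pow P hD (pow_mem (mem_zpowers σ) l)
      (fun h => hl0.ne' (hinj l 0 (Finset.mem_range.1 hl) hN (by rw [h, pow_zero])))
    exact ⟨e', he⟩

/-- The principal `2`-block for dihedral Sylow `2`-subgroups. -/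
theorem DB_principal (hM : IsPModular 2 M) (P : Sylow 2 G) {σ : G} (hD : Dih (P : Subgroup G) σ)
    {k m₀ : ℕ} (e : (P : Subgroup G) ≃* DihedralGroup m₀) (hk : orderOf σ = 2 ^ (k + 2))
    {ζ : ℂ} (hζ : IsPrimitiveRoot ζ (2 ^ (k + 2))) :
    Nat.card (principalBlock M G) = 3 + 2 ^ (k + 1) ∧
    ∃ (χ₁ χ₂ χ₃ : IrrCharacter G) (χ' : Fin (2 ^ (k + 1) - 1) → IrrCharacter G) (δ₁ δ₂ δ₃ : ℤ),
      (δ₁ = 1 ∨ δ₁ = -1) ∧ (δ₂ = 1 ∨ δ₂ = -1) ∧ (δ₃ = 1 ∨ δ₃ = -1) ∧ Function.Injective χ' ∧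
      (χ₁ : G → ℂ) ≠ (fun _ => 1) ∧ (χ₂ : G → ℂ) ≠ (fun _ => 1) ∧ (χ₃ : G → ℂ) ≠ (fun _ => 1) ∧
      χ₁ ≠ χ₂ ∧ χ₁ ≠ χ₃ ∧ χ₂ ≠ χ₃ ∧
      (∀ j, χ' j ≠ χ₁ ∧ χ' j ≠ χ₂ ∧ χ' j ≠ χ₃ ∧ (χ' j : G → ℂ) ≠ (fun _ => 1)) ∧
      principalBlock M G = {χ : IrrCharacter G | (χ : G → ℂ) = (fun _ => 1) ∨ χ = χ₁ ∨ χ = χ₂ ∨
        χ = χ₃ ∨ ∃ j, χ = χ' j} ∧
      (∀ l : ℕ, 0 < l → l < 2 ^ (k + 2) → (χ₁ : G → ℂ) (σ ^ l) = δ₁ ∧
        (χ₂ : G → ℂ) (σ ^ l) = δ₂ * (-1) ^ (l + 1) ∧ (χ₃ : G → ℂ) (σ ^ l) = δ₃ * (-1) ^ (l + 1) ∧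
        ∀ j : Fin (2 ^ (k + 1) - 1), (χ' j : G → ℂ) (σ ^ l) =
          δ₁ * (ζ ^ (((j : ℕ) + 1) * l) + (ζ ^ (((j : ℕ) + 1) * l))⁻¹)) ∧
      ∀ ρ : G, Odd (orderOf ρ) → ∀ j : Fin (2 ^ (k + 1) - 1),
        1 + δ₁ * (χ₁ : G → ℂ) ρ = -δ₂ * (χ₂ : G → ℂ) ρ - δ₃ * (χ₃ : G → ℂ) ρ ∧
        1 + δ₁ * (χ₁ : G → ℂ) ρ = δ₁ * (χ' j : G → ℂ) ρ := by
  classical
  haveI : Fact (Nat.Prime 2) := ⟨Nat.prime_two⟩
  obtain ⟨v, hv0, hv1, hval, hgram, hodd⟩ := DB_vectors hM P hD e hk hζ
  set N := 2 ^ (k + 2) with hN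
  set H := 2 ^ (k + 1) with hH
  have hNH : N = 2 * H := by rw [hN, hH]; ring
  have hH2 : 2 ≤ H := by
    calc 2 = 2 ^ 1 := (pow_one 2).symm
      _ ≤ H := Nat.pow_le_pow_right two_pos (by omega)
  have hm : Odd (H - 1) := by
    obtain ⟨r, hr⟩ : Even H := even_two.pow_of_ne_zero (Nat.succ_ne_zero k)
    exact ⟨r - 1, by omega⟩
  set B := H22.blockFinset (principalBlock M G) with hB
  have hone : H12.oneIrr G ∈ B := H22.mem_blockFinset.2 (H20.mem_blockOf_self (H12.oneIrr G))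
  set S := B.erase (H12.oneIrr G) with hS
  have hgramS : ∀ i j, 0 < i → i < N → 0 < j → j < N → ∑ χ ∈ S, v χ i * v χ j =
      (if i = j then 1 else 0) + (if i + j = N then 1 else 0) + 1 := by
    intro i j hi0 hi hj0 hj
    have h := hgram i j hi0 hi hj0 hj
    rw [← Finset.add_sum_erase _ _ hone, hv1 i hi0 hi, hv1 j hj0 hj] at h
    linarith
  have hdegS : ∀ ρ : G, Odd (orderOf ρ) → ∀ j, 0 < j → j < N →
      ∑ χ ∈ S, (v χ j : ℂ) * (χ : G → ℂ) ρ = 1 := by
    intro ρ hρ j hj0 hj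
    have h := hodd ρ hρ j hj
    rw [← Finset.add_sum_erase _ _ hone, hv1 j hj0 hj, H12.oneIrr_apply] at h
    push_cast at h
    rw [Finset.sum_congr rfl fun χ _ => mul_comm _ _]
    linear_combination h
  have hdegZ : ∀ j, 0 < j → j < N → ∑ χ ∈ S, v χ j * (H12.degree (χ : G → ℂ) : ℤ) = 1 := by
    intro j hj0 hj
    have h := hdegS 1 (by simp) j hj0 hj
    simp only [H12.irr_apply_one] at h
    exact_mod_cast h
  obtain ⟨a, c, d, b, ε, hε, ha, hc, hd, hac, had, hcd, hb, hbinj, hha, hhc, hhd, hh0⟩ :=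
    DV_split S hm (fun j χ => v χ (j + 1)) (fun χ => v χ H) (fun χ => (H12.degree (χ : G → ℂ) : ℤ))
      (fun χ _ => by exact_mod_cast H12.irr_degree_pos χ)
      (fun j hj => by
        have h := hgramS (j + 1) (j + 1) (by omega) (by omega) (by omega) (by omega)
        rw [if_pos rfl, if_neg (by omega)] at h
        simpa [pow_two] using h)
      (fun i j hi hj hij => by
        have h := hgramS (i + 1) (j + 1) (by omega) (by omega) (by omega) (by omega)
        rw [if_neg (by omega), if_neg (by omega)] at h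
        simpa using h)
      (by
        have h := hgramS H H (by omega) (by omega) (by omega) (by omega)
        rw [if_pos rfl, if_pos (by omega)] at h
        simpa [pow_two] using h)
      (fun j hj => by
        have h := hgramS (j + 1) H (by omega) (by omega) (by omega) (by omega)
        rw [if_neg (by omega), if_neg (by omega)] at h
        simpa using h)
      (fun j hj => hdegZ (j + 1) (by omega) (by omega))
      (hdegZ H (by omega) (by omega))
  -- symmetry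
  have hsym : ∀ χ ∈ S, ∀ i, 0 < i → i < H → v χ (N - i) = v χ i := by
    intro χ hχ i hi0 hi
    have h : ∑ ψ ∈ S, (v ψ (N - i) - v ψ i) ^ 2 = 0 := by
      simp only [pow_two, sub_mul, mul_sub, Finset.sum_sub_distrib]
      rw [hgramS (N - i) (N - i) (by omega) (by omega) (by omega) (by omega),
        hgramS (N - i) i (by omega) (by omega) (by omega) (by omega),
        hgramS i (N - i) (by omega) (by omega) (by omega) (by omega),
        hgramS i i (by omega) (by omega) (by omega) (by omega)]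
      simp only [show (N - i = i) = False from eq_false (by omega),
        show (i = N - i) = False from eq_false (by omega),
        show (N - i + (N - i) = N) = False from eq_false (by omega),
        show (i + i = N) = False from eq_false (by omega),
        show (N - i + i = N) = True from eq_true (by omega),
        show (i + (N - i) = N) = True from eq_true (by omega), if_true, if_false]
      norm_num
    have := (Finset.sum_eq_zero_iff_of_nonneg (fun ψ _ => sq_nonneg _)).1 h χ hχ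
    exact sub_eq_zero.1 (pow_eq_zero_iff (n := 2) two_ne_zero |>.1 this)
  -- the vector of each member
  have hcases : ∀ χ ∈ S, ∀ j, 0 < j → j < N →
      ∃ i, 0 < i ∧ i ≤ H ∧ (j = i ∨ j = N - i) ∧ v χ j = v χ i := by
    intro χ hχ j hj0 hj
    by_cases h : j ≤ H
    · exact ⟨j, hj0, h, Or.inl rfl, rfl⟩
    · refine ⟨N - j, by omega, by omega, Or.inr (by omega), ?_⟩
      have := hsym χ hχ (N - j) (by omega) (by omega)
      rwa [show N - (N - j) = j by omega] at this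
  have hva : ∀ j, 0 < j → j < N → v a j = ε := by
    intro j hj0 hj
    obtain ⟨i, hi0, hi, -, he⟩ := hcases a ha j hj0 hj
    rw [he]
    rcases hi.lt_or_eq with hlt | rfl
    · obtain ⟨-, -, -, -, h, -⟩ := hb (i - 1) (by omega)
      simpa [Nat.sub_add_cancel hi0] using h
    · exact hha
  have hvh : ∀ χ ∈ S, χ ≠ a → (∀ i, i < H - 1 → χ ≠ b i) → ∀ j, 0 < j → j < N → j ≠ H → v χ j = 0 := by
    intro χ hχ hχa hχb j hj0 hj hjH
    obtain ⟨i, hi0, hi, hji, he⟩ := hcases χ hχ j hj0 hj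
    rw [he]
    obtain ⟨-, -, -, -, -, -, h⟩ := hb (i - 1) (by omega)
    simpa [Nat.sub_add_cancel hi0] using h χ hχ hχa (hχb _ (by omega))
  have hvb : ∀ t, t < H - 1 → ∀ j, 0 < j → j < N →
      v (b t) j = if j = t + 1 ∨ j = N - (t + 1) then -ε else 0 := by
    intro t ht j hj0 hj
    obtain ⟨hbS, hba, hbc, hbd, -, hbv, -⟩ := hb t ht
    obtain ⟨i, hi0, hi, hji, he⟩ := hcases (b t) hbS j hj0 hj
    rw [he]
    by_cases hit : i = t + 1
    · subst hit; rw [if_pos hji]; exact hbv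
    · rw [if_neg (by omega)]
      rcases hi.lt_or_eq with hlt | rfl
      · obtain ⟨-, -, -, -, -, -, h⟩ := hb (i - 1) (by omega)
        have hne : b t ≠ b (i - 1) := fun e' => by have := hbinj t (i - 1) ht (by omega) e'; omega
        simpa [Nat.sub_add_cancel hi0] using h (b t) hbS hba hne
      · exact hh0 (b t) hbS hba hbc hbd
  have hbne : ∀ χ, (χ = c ∨ χ = d) → χ ≠ a ∧ ∀ i, i < H - 1 → χ ≠ b i := by
    rintro χ (rfl | rfl)
    · exact ⟨hac.symm, fun i hi => ((hb i hi).2.2.1).symm⟩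
    · exact ⟨had.symm, fun i hi => ((hb i hi).2.2.2.1).symm⟩
  have hζH : ζ ^ H = -1 := by
    have h1 : IsPrimitiveRoot (ζ ^ H) 2 := hζ.pow (Nat.two_pow_pos _) (by show (2 : ℕ) ^ (k + 2) = 2 ^ (k + 1) * 2; ring)
    exact h1.eq_neg_one_of_two_right
  -- values
  have hvala : ∀ l, 0 < l → l < N → (a : G → ℂ) (σ ^ l) = ((-ε : ℤ) : ℂ) := by
    intro l hl0 hl
    rw [hval a l hl0 hl]
    have hsum : ∀ j ∈ Finset.range N, (v a j : ℂ) * ζ ^ (j * l) =
        (ε : ℂ) * ζ ^ (l * j) - (if j = 0 then (ε : ℂ) else 0) := by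
      intro j hj
      rcases Nat.eq_zero_or_pos j with rfl | hj0
      · simp [hv0]
      · rw [hva j hj0 (Finset.mem_range.1 hj), if_neg (by omega), sub_zero, mul_comm j l]
    rw [Finset.sum_congr rfl hsum, Finset.sum_sub_distrib, ← Finset.mul_sum, DB_geom (Nat.two_pow_pos _) hζ,
      if_neg (fun hd => absurd (Nat.le_of_dvd hl0 hd) (not_le.2 hl)), Finset.sum_ite_eq',
      if_pos (Finset.mem_range.2 (Nat.two_pow_pos _))]
    push_cast; ring
  have hvalh : ∀ χ ∈ S, χ ≠ a → (∀ i, i < H - 1 → χ ≠ b i) → ∀ l, 0 < l → l < N →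
      (χ : G → ℂ) (σ ^ l) = (v χ H : ℂ) * (-1) ^ l := by
    intro χ hχ hχa hχb l hl0 hl
    rw [hval χ l hl0 hl, Finset.sum_eq_single H]
    · rw [pow_mul, hζH]
    · intro j hj hjH
      rcases Nat.eq_zero_or_pos j with rfl | hj0
      · simp [hv0]
      · simp [hvh χ hχ hχa hχb j hj0 (Finset.mem_range.1 hj) hjH]
    · exact fun h => absurd (Finset.mem_range.2 (by omega)) h
  have hvalb : ∀ t, t < H - 1 → ∀ l, 0 < l → l < N → (b t : G → ℂ) (σ ^ l) =
      ((-ε : ℤ) : ℂ) * (ζ ^ ((t + 1) * l) + (ζ ^ ((t + 1) * l))⁻¹) := by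
    intro t ht l hl0 hl
    rw [hval (b t) l hl0 hl, Finset.sum_eq_add_of_mem (t + 1) (N - (t + 1))
      (Finset.mem_range.2 (by omega)) (Finset.mem_range.2 (by omega)) (by omega) (fun j hj hne => by
        rcases Nat.eq_zero_or_pos j with rfl | hj0
        · simp [hv0]
        · simp [hvb t ht j hj0 (Finset.mem_range.1 hj), hne.1, hne.2]),
      hvb t ht _ (by omega) (by omega), hvb t ht _ (by omega) (by omega), if_pos (Or.inl rfl),
      if_pos (Or.inr rfl), DB_pow_sub hζ (by omega)]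
    ring
  -- everything is listed
  have hall : ∀ χ ∈ S, χ = a ∨ χ = c ∨ χ = d ∨ ∃ i, i < H - 1 ∧ χ = b i := by
    intro χ hχ
    by_contra hno
    push Not at hno
    refine DB_ne_zero hM P hD (H22.mem_blockFinset.1 (Finset.mem_of_mem_erase hχ)) ?_
    rw [dz, hk, hNH, Nat.mul_div_cancel_left _ two_pos,
      hvalh χ hχ hno.1 (fun i hi => hno.2.2.2 i hi) H (by omega) (by omega),
      hh0 χ hχ hno.1 hno.2.1 hno.2.2.1]
    simp
  have hS1 : ∀ χ ∈ S, (χ : G → ℂ) ≠ (fun _ => 1) := fun χ hχ he =>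
    (Finset.mem_erase.1 hχ).1 (Subtype.ext he)
  have hset : principalBlock M G = {χ : IrrCharacter G | (χ : G → ℂ) = (fun _ => 1) ∨ χ = a ∨ χ = c ∨
      χ = d ∨ ∃ j : Fin (H - 1), χ = b j} := by
    ext χ
    constructor
    · intro hχ
      by_cases h1 : χ = H12.oneIrr G
      · exact Or.inl (h1 ▸ rfl)
      · rcases hall χ (Finset.mem_erase.2 ⟨h1, H22.mem_blockFinset.2 hχ⟩) with h | h | h | ⟨i, hi, h⟩
        · exact Or.inr (Or.inl h)
        · exact Or.inr (Or.inr (Or.inl h))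
        · exact Or.inr (Or.inr (Or.inr (Or.inl h)))
        · exact Or.inr (Or.inr (Or.inr (Or.inr ⟨⟨i, hi⟩, h⟩)))
    · rintro (h | rfl | rfl | rfl | ⟨j, rfl⟩)
      · rw [show χ = H12.oneIrr G from Subtype.ext h]; exact H22.mem_blockFinset.1 hone
      exacts [H22.mem_blockFinset.1 (Finset.mem_of_mem_erase ha),
        H22.mem_blockFinset.1 (Finset.mem_of_mem_erase hc),
        H22.mem_blockFinset.1 (Finset.mem_of_mem_erase hd),
        H22.mem_blockFinset.1 (Finset.mem_of_mem_erase (hb j j.2).1)]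
  refine ⟨?_, a, c, d, fun j => b j, -ε, -(v c H), -(v d H), by omega, by omega, by omega,
    fun i j h => Fin.ext (hbinj i j i.2 j.2 h), hS1 a ha, hS1 c hc, hS1 d hd, hac, had, hcd,
    fun j => ⟨(hb j j.2).2.1, (hb j j.2).2.2.1, (hb j j.2).2.2.2.1, hS1 _ (hb j j.2).1⟩, hset,
    fun l hl0 hl => ⟨hvala l hl0 hl, ?_, ?_, fun j => hvalb j j.2 l hl0 hl⟩, fun ρ hρ j => ?_⟩
  · rw [H22.natCard_block, ← hB]
    have hcardS : S.card = 3 + (H - 1) := by
      have : S = ({a, c, d} : Finset (IrrCharacter G)) ∪ (Finset.range (H - 1)).image b := by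
        ext χ
        simp only [Finset.mem_union, Finset.mem_insert, Finset.mem_singleton, Finset.mem_image,
          Finset.mem_range]
        constructor
        · intro hχ
          rcases hall χ hχ with h | h | h | ⟨i, hi, h⟩
          exacts [Or.inl (Or.inl h), Or.inl (Or.inr (Or.inl h)), Or.inl (Or.inr (Or.inr h)),
            Or.inr ⟨i, hi, h.symm⟩]
        · rintro ((rfl | rfl | rfl) | ⟨i, hi, rfl⟩)
          exacts [ha, hc, hd, (hb i hi).1]
      rw [this, Finset.card_union_of_disjoint, Finset.card_image_of_injOn, Finset.card_range,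
        Finset.card_eq_three.2 ⟨a, c, d, hac, had, hcd, rfl⟩]
      · exact fun i hi j hj h => hbinj i j (Finset.mem_range.1 hi) (Finset.mem_range.1 hj) h
      · rw [Finset.disjoint_left]
        intro χ hχ hχ'
        obtain ⟨i, hi, rfl⟩ := Finset.mem_image.1 hχ'
        simp only [Finset.mem_insert, Finset.mem_singleton] at hχ
        obtain ⟨-, h1, h2, h3, -⟩ := hb i (Finset.mem_range.1 hi)
        tauto
    rw [← Finset.card_erase_add_one hone, ← hS, hcardS]
    omega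
  · rw [hvalh c hc (hbne c (Or.inl rfl)).1 (hbne c (Or.inl rfl)).2 l hl0 hl]
    push_cast; ring
  · rw [hvalh d hd (hbne d (Or.inr rfl)).1 (hbne d (Or.inr rfl)).2 l hl0 hl]
    push_cast; ring
  · have hH' := hdegS ρ hρ H (by omega) (by omega)
    rw [← Finset.sum_subset (show ({a, c, d} : Finset (IrrCharacter G)) ⊆ S by
        simp [Finset.insert_subset_iff, ha, hc, hd]) (fun χ hχ hn => by
          simp only [Finset.mem_insert, Finset.mem_singleton, not_or] at hn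
          simp [hh0 χ hχ hn.1 hn.2.1 hn.2.2]),
      Finset.sum_insert (by simp [hac, had]), Finset.sum_pair hcd, hha] at hH'
    have hj := hdegS ρ hρ ((j : ℕ) + 1) (by omega) (by omega)
    obtain ⟨hbS, hba, -, -, hwa, hwb, hw0⟩ := hb j j.2
    rw [Finset.sum_eq_add_of_mem a (b j) ha hbS hba.symm (fun χ hχ hne => by
      simp [hw0 χ hχ hne.1 hne.2]), hwa, hwb] at hj
    push_cast at hj hH' ⊢
    exact ⟨by linear_combination -hH', by linear_combination -hj⟩

end H65
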