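import Cfsg.Agent.H85.D1.PrincipalMain
import Cfsg.Agent.H65.InvolutionThird
import Cfsg.Agent.H65.SimpleTools
import Cfsg.Agent.H62.Basic
import Cfsg.Agent.H12.Integral
import Cfsg.Agent.H20.Knorr

/-!
There is no simple group of order `459648 = 2 ^ 7 * 3 ^ 3 * 7 * 19`.

The normaliser of a Sylow `19`-subgroup `P` has order `456`, the centraliser has order `4 * 19`,
and an involution `u` commuting with `P` has a centraliser of order at most `456`; but two
non-trivial characters of the principal `19`-block have absolute value at least `18` at `u`.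
-/

set_option autoImplicit false
set_option linter.unusedSectionVars false

namespace H65.O459648

open Cfsg Subgroup
open scoped ComplexConjugate

universe v

/-- The elements killed by `a` in a group in which everything commutes. -/
def torsion {A : Type v} [Group A] (hA : ∀ x y : A, x * y = y * x) (a : ℕ) : Subgroup A where
  carrier := {z : A | z ^ a = 1}
  one_mem' := one_pow a
  mul_mem' := fun {y z} hy hz => by
    simp only [Set.mem_ofPred_eq] at hy hz ⊢
    rw [Commute.mul_pow (hA y z), hy, hz, one_mul]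
  inv_mem' := fun {y} hy => by
    simp only [Set.mem_ofPred_eq] at hy ⊢
    rw [inv_pow, hy, inv_one]

theorem mem_torsion {A : Type v} [Group A] {hA : ∀ x y : A, x * y = y * x} {a : ℕ} {z : A} :
    z ∈ torsion hA a ↔ z ^ a = 1 := Iff.rfl

theorem card_torsion_dvd {A : Type v} [Group A] [Finite A] (hA : ∀ x y : A, x * y = y * x)
    {a b : ℕ} (hab : Nat.Coprime a b) (hcard : Nat.card A = a * b) :
    Nat.card (torsion hA a) ∣ a := by
  refine Nat.Coprime.dvd_of_dvd_mul_right ?_ (hcard ▸ Subgroup.card_subgroup_dvd_card _)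
  refine Nat.coprime_of_dvd fun r hr hrT hrb => ?_
  haveI := Fact.mk hr
  obtain ⟨z, hz⟩ := exists_prime_orderOf_dvd_card' r hrT
  have h1 : r ∣ a := by
    rw [← hz, ← Subgroup.orderOf_coe]
    exact orderOf_dvd_of_pow_eq_one (mem_torsion.1 z.2)
  exact hr.one_lt.ne' (Nat.eq_one_of_dvd_coprimes hab h1 hrb)

/-- A proper subgroup of small index cannot have all cosets fixed by `x` fixed by `A`. -/
theorem no_action {G : Type v} [Group G] [Finite G] [IsSimpleGroup G] {H : Subgroup G} (hH : H ≠ ⊤)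
    {x : G} {p : ℕ} (hp : p.Prime) (hx : orderOf x = p)
    {A : Subgroup G} (hxA : x ∈ A) (hA : ∀ a ∈ A, ∀ b ∈ A, a * b = b * a)
    {q m : ℕ} (hq : q.Prime) (hm : m = q ∨ m = q * q) (hqp : q ≠ p) (hcard : Nat.card A = p * m)
    (hlt : H.index < p * m) (hlt2 : H.index < 2 * (p * q))
    (hfix : ∀ ω : G ⧸ H, x • ω = ω → ∀ a ∈ A, a • ω = ω) : False := by
  classical
  haveI : Fintype (G ⧸ H) := Fintype.ofFinite _
  haveI := Fact.mk hp
  let S : G ⧸ H → Subgroup A := fun ω => MulAction.stabilizer A ω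
  have horb : ∀ ω, Nat.card (MulAction.orbit A ω) * Nat.card (S ω) = p * m := fun ω => by
    rw [← hcard, ← Nat.card_prod]
    exact Nat.card_congr (MulAction.orbitProdStabilizerEquivGroup A ω)
  have hle : ∀ ω, Nat.card (MulAction.orbit A ω) ≤ H.index := fun ω =>
    Nat.card_le_card_of_injective Subtype.val Subtype.val_injective
  have hcopm : Nat.Coprime p m := by
    rcases hm with rfl | rfl
    · exact (Nat.coprime_primes hp hq).2 hqp.symm
    · exact ((Nat.coprime_primes hp hq).2 hqp.symm).mul_right ((Nat.coprime_primes hp hq).2 hqp.symm)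
  -- the stabilisers of the moved points
  have hS : ∀ ω : G ⧸ H, x • ω ≠ ω → Nat.card (S ω) ∣ m ∧ Nat.card (S ω) ≠ 1 := by
    intro ω hω
    refine ⟨?_, fun h1 => ?_⟩
    · have hd : Nat.card (S ω) ∣ p * m := ⟨_, ((mul_comm _ _).trans (horb ω)).symm⟩
      refine (Nat.Coprime.dvd_of_dvd_mul_left ?_ hd)
      refine Nat.Coprime.symm ((Nat.Prime.coprime_iff_not_dvd hp).2 fun hpd => hω ?_)
      obtain ⟨z, hz⟩ := exists_prime_orderOf_dvd_card' p hpd
      -- the elements of order `p` of `A` are the powers of `x`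
      have hA' : ∀ a b : A, a * b = b * a := fun a b => Subtype.ext (hA _ a.2 _ b.2)
      have hzo : orderOf (z : A) = p := by rw [Subgroup.orderOf_coe, hz]
      have hTle : Nat.card (torsion hA' p) ≤ p :=
        Nat.le_of_dvd hp.pos (card_torsion_dvd hA' hcopm hcard)
      have hzT : zpowers (z : A) = torsion hA' p := Subgroup.eq_of_le_of_card_ge
        (zpowers_le.2 (mem_torsion.2 (hzo ▸ pow_orderOf_eq_one (z : A))))
        (by rw [Nat.card_zpowers, hzo]; exact hTle)
      have hxz : (⟨x, hxA⟩ : A) ∈ zpowers (z : A) := by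
        rw [hzT, mem_torsion]
        exact Subtype.ext (hx ▸ pow_orderOf_eq_one x)
      exact (zpowers_le.2 z.2 : zpowers (z : A) ≤ S ω) hxz
    · have := horb ω
      rw [h1, mul_one] at this
      have := hle ω
      omega
  -- the elements of `q`-power order
  let hA' : ∀ a b : A, a * b = b * a := fun a b => Subtype.ext (hA _ a.2 _ b.2)
  let Xm : Subgroup A := torsion hA' m
  have hXm : Nat.card Xm ≤ m :=
    Nat.le_of_dvd (by rcases hm with rfl | rfl <;> simp [hq.pos])
      (card_torsion_dvd hA' hcopm.symm (hcard.trans (mul_comm p m)))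
  have hSX : ∀ ω : G ⧸ H, x • ω ≠ ω → S ω ≤ Xm := fun ω hω a ha => by
    show a ^ m = 1
    exact orderOf_dvd_iff_pow_eq_one.1 ((Subgroup.orderOf_dvd_natCard _ ha).trans (hS ω hω).1)
  -- a common non-trivial subgroup
  obtain ⟨Y, hY1, hY⟩ : ∃ Y : Subgroup A, Y ≠ ⊥ ∧ ∀ ω : G ⧸ H, x • ω ≠ ω → Y ≤ S ω := by
    by_cases hsmall : ∃ ω : G ⧸ H, x • ω ≠ ω ∧ Nat.card (S ω) ≠ m
    · obtain ⟨ω, hω, hωm⟩ := hsmall
      refine ⟨S ω, fun e => (hS ω hω).2 (by rw [e, Subgroup.card_bot]), fun ω' hω' => ?_⟩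
      have hcase : ∀ ω₁ : G ⧸ H, x • ω₁ ≠ ω₁ → Nat.card (S ω₁) = m ∨
          (Nat.card (S ω₁) = q ∧ m = q * q) := fun ω₁ h₁ => by
        obtain ⟨d1, d2⟩ := hS ω₁ h₁
        rcases hm with rfl | rfl
        · exact Or.inl (((Nat.dvd_prime hq).1 d1).resolve_left d2)
        · rw [← pow_two] at d1
          obtain ⟨i, hi, hi'⟩ := (Nat.dvd_prime_pow hq).1 d1
          interval_cases i
          · exact absurd hi' d2
          · exact Or.inr ⟨by rw [hi', pow_one], rfl⟩
          · exact Or.inl (by rw [hi', pow_two])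
      obtain ⟨hωq, hmqq⟩ := (hcase ω hω).resolve_left hωm
      rcases hcase ω' hω' with e | ⟨e, -⟩
      · have : S ω' = Xm := Subgroup.eq_of_le_of_card_ge (hSX ω' hω') (by omega)
        rw [this]; exact hSX ω hω
      · by_cases ho : ω' ∈ MulAction.orbit A ω
        · obtain ⟨a, rfl⟩ := ho
          intro b hb
          show b • (a • ω) = a • ω
          rw [← mul_smul, show b * a = a * b from Subtype.ext (hA _ b.2 _ a.2), mul_smul,
            MulAction.mem_stabilizer_iff.1 hb]
        · exfalso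
          have h1 : Nat.card (MulAction.orbit A ω) = p * q := by
            have := horb ω
            rw [hωq, hmqq, ← mul_assoc] at this
            exact Nat.eq_of_mul_eq_mul_right hq.pos this
          have h2 : Nat.card (MulAction.orbit A ω') = p * q := by
            have := horb ω'
            rw [e, hmqq, ← mul_assoc] at this
            exact Nat.eq_of_mul_eq_mul_right hq.pos this
          have hdis : Disjoint (MulAction.orbit A ω) (MulAction.orbit A ω') := by
            rw [Set.disjoint_left]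
            intro w hw hw'
            exact ho (by rw [← MulAction.orbit_eq_iff.2 hw, MulAction.orbit_eq_iff.2 hw']; exact MulAction.mem_orbit_self _)
          have h3 := Set.ncard_union_eq hdis (Set.toFinite _) (Set.toFinite _)
          rw [← Nat.card_coe_set_eq, ← Nat.card_coe_set_eq (MulAction.orbit A ω),
            ← Nat.card_coe_set_eq (MulAction.orbit A ω'), h1, h2] at h3
          have h4 : Nat.card ↥(MulAction.orbit A ω ∪ MulAction.orbit A ω') ≤ H.index :=
            Nat.card_le_card_of_injective Subtype.val Subtype.val_injective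
          omega
    · push Not at hsmall
      obtain ⟨ω₀, hω₀⟩ := exists_not_fixed hH (t := x) (fun e => by
        rw [e, orderOf_one] at hx; exact hp.one_lt.ne hx)
      refine ⟨S ω₀, fun e => (hS ω₀ hω₀).2 (by rw [e, Subgroup.card_bot]), fun ω hω => ?_⟩
      have : S ω = Xm := Subgroup.eq_of_le_of_card_ge (hSX ω hω) (by rw [hsmall ω hω]; exact hXm)
      rw [this]; exact hSX ω₀ hω₀
  obtain ⟨y, hy, hy1⟩ := Y.bot_or_exists_ne_one.resolve_left hY1
  obtain ⟨ω, hω⟩ := exists_not_fixed hH (t := (y : G)) (fun e => hy1 (Subtype.ext e))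
  refine hω ?_
  by_cases hxω : x • ω = ω
  · exact hfix ω hxω _ y.2
  · exact MulAction.mem_stabilizer_iff.1 (hY ω hxω hy)

section Chars

variable {G : Type v} [Group G] [Fintype G]

theorem sum_zpowers_dvd {χ : G → ℂ} (hχ : IsCharacter G χ) {w : G} :
    ∃ z : ℕ, ∑ i ∈ Finset.range (orderOf w), χ (w ^ i) = (orderOf w : ℂ) * (z : ℂ) := by
  classical
  haveI : Fintype (zpowers w) := Fintype.ofFinite _
  obtain ⟨k, hk⟩ := H12.IsCharacter.classInner_nat (H12.IsCharacter.res hχ (zpowers w))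
    (H12.isCharacter_monoidHom (1 : (zpowers w) →* ℂˣ))
  rw [H12.classInner_def] at hk
  have hsum : ∑ a : zpowers w, χ a = ∑ i ∈ Finset.range (orderOf w), χ (w ^ i) := by
    symm
    refine Finset.sum_bij (fun i _ => (⟨w ^ i, npow_mem_zpowers w i⟩ : zpowers w))
      (fun i _ => Finset.mem_univ _) ?_ ?_ fun i _ => rfl
    · intro i hi j hj e
      exact pow_injOn_Iio_orderOf (Finset.mem_range.1 hi) (Finset.mem_range.1 hj) (congrArg Subtype.val e)
    · rintro ⟨a, ha⟩ -
      obtain ⟨i, rfl⟩ := (mem_powers_iff_mem_zpowers.2 ha)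
      exact ⟨i % orderOf w, Finset.mem_range.2 (Nat.mod_lt _ (orderOf_pos w)),
        Subtype.ext (pow_mod_orderOf w i)⟩
  refine ⟨k, ?_⟩
  simp only [MonoidHom.one_apply, Units.val_one, map_one, mul_one] at hk
  rw [hsum, Nat.card_zpowers] at hk
  rw [← hk, ← mul_assoc, mul_inv_cancel₀ (by exact_mod_cast (orderOf_pos w).ne'), one_mul]

/-- The value of a character of even degree at an involution commuting with an element of order
`19`, if it is constant `ε` on the other elements of the group they generate. -/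
theorem sq_value_ge {χ : G → ℂ} (hχ : IsCharacter G χ) {x u : G} (hx : orderOf x = 19)
    (hu : orderOf u = 2) (hxu : Commute x u) {d ε : ℤ} (hd : χ 1 = (d : ℂ)) (heven : 2 ∣ d)
    (hε : ε = 1 ∨ ε = -1) (hmod : d ≡ ε [ZMOD 19])
    (hval : ∀ i j : ℕ, ¬ 19 ∣ i → χ (x ^ i * u ^ j) = (ε : ℂ)) :
    ∃ v : ℤ, χ u = (v : ℂ) ∧ 324 ≤ v * v := by
  classical
  have huu : u ^ 2 = 1 := hu ▸ pow_orderOf_eq_one u
  obtain ⟨c, hc⟩ := sum_zpowers_dvd hχ (w := u)
  rw [hu] at hc
  simp only [Finset.sum_range_succ, Finset.sum_range_zero, zero_add, pow_zero, pow_one, hd] at hc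
  refine ⟨2 * c - d, by push_cast at hc ⊢; linear_combination hc, ?_⟩
  have hw : orderOf (x * u) = 38 := by
    rw [hxu.orderOf_mul_eq_mul_orderOf_of_coprime (by rw [hx, hu]; norm_num), hx, hu]
  obtain ⟨b, hb⟩ := sum_zpowers_dvd hχ (w := x * u)
  rw [hw] at hb
  have hrest : ∑ i ∈ Finset.range 38, (χ ((x * u) ^ i) - (ε : ℂ)) =
      (χ ((x * u) ^ 0) - (ε : ℂ)) + (χ ((x * u) ^ 19) - (ε : ℂ)) := by
    refine Finset.sum_eq_add 0 19 (by norm_num) ?_ (by simp) (by simp)
    intro i hi hne
    rw [hxu.mul_pow, hval i i ?_, sub_self]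
    rintro ⟨j, rfl⟩
    have := Finset.mem_range.1 hi
    omega
  have h19 : (x * u) ^ 19 = u := by
    rw [hxu.mul_pow, show x ^ 19 = 1 by rw [← hx]; exact pow_orderOf_eq_one x, one_mul,
      show (19 : ℕ) = 2 * 9 + 1 from rfl, pow_succ, pow_mul, huu, one_pow, one_mul]
  rw [Finset.sum_sub_distrib, hb, h19, pow_zero, hd, Finset.sum_const, Finset.card_range,
    nsmul_eq_mul] at hrest
  have hv : χ u = ((2 * c - d : ℤ) : ℂ) := by push_cast at hc ⊢; linear_combination hc
  rw [hv] at hrest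
  have he : 38 * (b : ℤ) - 38 * ε = d - ε + ((2 * c - d) - ε) := by
    apply Int.cast_injective (α := ℂ)
    push_cast at hrest ⊢
    linear_combination hrest
  obtain ⟨i, hi⟩ := heven
  obtain ⟨j, hj⟩ : (19 : ℤ) ∣ ε - d := Int.ModEq.dvd hmod
  have hbig : 18 ≤ 2 * (c : ℤ) - d ∨ 2 * (c : ℤ) - d ≤ -18 := by omega
  rcases hbig with r | r <;> nlinarith

end Chars

theorem degree_cases {d : ℕ} (h : d < 678) (hdvd : d ∣ 459648) :
    (d % 19 = 1 ∨ d % 19 = 18 → d ∈ [1, 18, 56, 96, 189]) ∧
    (d % 19 = 2 ∨ d % 19 = 17 → d ∈ [2, 21, 36, 112, 192, 378]) ∧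
    (d % 19 = 3 ∨ d % 19 = 16 → d ∈ [3, 16, 54, 168, 288]) ∧
    (d % 19 = 6 ∨ d % 19 = 13 → d ∈ [6, 32, 63, 108, 336, 576]) := by
  have key : ∀ d ∈ Finset.range 678, d ∣ 459648 →
    (d % 19 = 1 ∨ d % 19 = 18 → d ∈ [1, 18, 56, 96, 189]) ∧
    (d % 19 = 2 ∨ d % 19 = 17 → d ∈ [2, 21, 36, 112, 192, 378]) ∧
    (d % 19 = 3 ∨ d % 19 = 16 → d ∈ [3, 16, 54, 168, 288]) ∧
    (d % 19 = 6 ∨ d % 19 = 13 → d ∈ [6, 32, 63, 108, 336, 576]) := by decide +kernel
  exact key d (Finset.mem_range.2 h) hdvd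

theorem sylow_cases {n : ℕ} (hn : n ∣ 24192) (h1 : n % 19 = 1) : n = 1 ∨ n = 96 ∨ n = 1008 := by
  obtain ⟨a, b, ha, hb, rfl⟩ := (Nat.dvd_mul (m := 128) (n := 189)).1 hn
  have ha' : a ∈ Nat.divisors 128 := Nat.mem_divisors.2 ⟨ha, by norm_num⟩
  have hb' : b ∈ Nat.divisors 189 := Nat.mem_divisors.2 ⟨hb, by norm_num⟩
  rw [show Nat.divisors 128 = {1, 2, 4, 8, 16, 32, 64, 128} by decide +kernel] at ha'
  rw [show Nat.divisors 189 = {1, 3, 7, 9, 21, 27, 63, 189} by decide +kernel] at hb'
  simp only [Finset.mem_insert, Finset.mem_singleton] at ha' hb'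
  rcases ha' with rfl | rfl | rfl | rfl | rfl | rfl | rfl | rfl <;>
    rcases hb' with rfl | rfl | rfl | rfl | rfl | rfl | rfl | rfl <;> omega

/-- The signed degrees leave at least two characters of even degree. -/
theorem two_even {α : Type*} [DecidableEq α] (T : Finset α) (w : α → ℤ) {e b : ℕ} {ε : ℤ}
    (he : e = 2 ∨ e = 3 ∨ e = 6) (hT : T.card = e - 1)
    (hw : ∀ a ∈ T, w a = -18 ∨ w a = -56 ∨ w a = 96 ∨ w a = -189)
    (hε : ε = 1 ∨ ε = -1) (hsum : 1 + ∑ a ∈ T, w a = ε * (b : ℤ))
    (hb : (e = 2 → b ∈ [2, 21, 36, 112, 192, 378]) ∧ (e = 3 → b ∈ [3, 16, 54, 168, 288]) ∧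
      (e = 6 → b ∈ [6, 32, 63, 108, 336, 576])) :
    e = 6 ∧ ∃ a ∈ T, ∃ c ∈ T, a ≠ c ∧ 2 ∣ w a ∧ 2 ∣ w c := by
  obtain ⟨b2, b3, b6⟩ := hb
  rcases he with rfl | rfl | rfl
  · exfalso
    obtain ⟨a, rfl⟩ := Finset.card_eq_one.1 hT
    rw [Finset.sum_singleton] at hsum
    have := hw a (Finset.mem_singleton_self a)
    have hb' := b2 rfl
    simp only [List.mem_cons, List.not_mem_nil, or_false] at hb'
    rcases hε with rfl | rfl <;> omega
  · exfalso
    obtain ⟨a, c, hac, rfl⟩ := Finset.card_eq_two.1 hT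
    rw [Finset.sum_pair hac] at hsum
    have := hw a (Finset.mem_insert_self _ _)
    have := hw c (by simp)
    have hb' := b3 rfl
    simp only [List.mem_cons, List.not_mem_nil, or_false] at hb'
    rcases hε with rfl | rfl <;> omega
  · refine ⟨rfl, ?_⟩
    have hb' := b6 rfl
    simp only [List.mem_cons, List.not_mem_nil, or_false] at hb'
    set U := T.filter (fun a => w a ≠ -189) with hU
    have hU2 : 2 ≤ U.card := by
      by_contra hlt
      have hs : ∑ a ∈ T, w a = -945 + ∑ a ∈ U, (w a + 189) := by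
        have e1 : ∑ a ∈ U, (w a + 189) = ∑ a ∈ T, (w a + 189) :=
          Finset.sum_filter_of_ne fun a _ h => fun e => h (by rw [e]; norm_num)
        rw [e1, Finset.sum_add_distrib, Finset.sum_const, hT]
        simp
      rw [hs] at hsum
      have hU1 : U.card = 0 ∨ U.card = 1 := by omega
      rcases hU1 with h0 | h0
      · rw [Finset.card_eq_zero] at h0
        rw [h0, Finset.sum_empty] at hsum
        rcases hε with rfl | rfl <;> omega
      · obtain ⟨a, ha⟩ := Finset.card_eq_one.1 h0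
        rw [ha, Finset.sum_singleton] at hsum
        have := hw a (Finset.mem_filter.1 (ha.symm ▸ Finset.mem_singleton_self a : a ∈ U)).1
        rcases hε with rfl | rfl <;> omega
    obtain ⟨a, ha, c, hc, hac⟩ := Finset.one_lt_card.1 hU2
    obtain ⟨haT, ha'⟩ := Finset.mem_filter.1 ha
    obtain ⟨hcT, hc'⟩ := Finset.mem_filter.1 hc
    have := hw a haT
    have := hw c hcT
    exact ⟨a, haT, c, hcT, hac, by omega, by omega⟩

theorem card_ne {G : Type v} [Group G] [Finite G] [IsSimpleGroup G] : Nat.card G ≠ 459648 := by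
  classical
  intro hn
  have hfac : Nat.card G = 19 ^ 1 * 24192 := by rw [hn]; norm_num
  haveI h19 : Fact (Nat.Prime 19) := ⟨by norm_num⟩
  haveI h7 : Fact (Nat.Prime 7) := ⟨by norm_num⟩
  haveI h2 : Fact (Nat.Prime 2) := ⟨Nat.prime_two⟩
  have hG : ¬ IsMulCommutative G := H62.not_comm_of_not_prime (by rw [hn]; norm_num)
  have hd19 : 19 ∣ Nat.card G := by rw [hn]; norm_num
  obtain ⟨P⟩ : Nonempty (Sylow 19 G) := inferInstance
  have hP : Nat.card P = 19 := by
    rw [H62.card_sylow_coe hfac (by norm_num) P]; norm_num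
  set N := normalizer ((P : Subgroup G) : Set G) with hN
  set C := centralizer ((P : Subgroup G) : Set G) with hC
  have hCN : C ≤ N := fun c hc => mem_normalizer_iff.2 fun z => by
    constructor
    · intro hz
      rw [← hc z hz, mul_inv_cancel_right]; exact hz
    · intro hz
      have e := hc _ hz
      have : z = c * z * c⁻¹ := mul_left_cancel (a := c) (by
        calc c * z = (c * z * c⁻¹) * c := by group
          _ = c * (c * z * c⁻¹) := e)
      rw [this]; exact hz
  obtain ⟨e, he⟩ : ∃ e, C.relIndex N = e := ⟨_, rfl⟩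
  have he18 : e ∣ 18 := he ▸ H62.relIndex_centralizer_dvd_prime _ hP
  have hec : e * Nat.card C = Nat.card N := by
    rw [← he, relIndex, ← Nat.card_congr (subgroupOfEquivOfLe hCN).toEquiv, mul_comm]
    exact Subgroup.card_mul_index _
  obtain ⟨x, hxP, hx1, hxo⟩ := H65.exists_sylow_generator P hP
  have hxeq : zpowers x = (P : Subgroup G) := (H65.sylow_eq_zpowers P hP hxP hx1).1
  have hxC : x ∈ C := fun z hz => by
    obtain ⟨i, rfl⟩ := mem_zpowers_iff.1 (hxeq.symm ▸ hz)
    exact ((Commute.refl x).zpow_left i).eq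
  have hnP := H62.card_normalizer_mul P
  -- the Sylow number
  have hn19 : Nat.card (Sylow 19 G) = 1008 := by
    rcases sylow_cases (H62.card_sylow_dvd hfac (by norm_num)) H62.card_sylow_mod with r | r | r
    · exact absurd r (H62.one_lt_card_sylow hG hd19).ne'
    · exfalso
      rw [r, hn] at hnP
      change Nat.card N * 96 = 459648 at hnP
      have hNc : Nat.card N = 4788 := by omega
      rw [hNc] at hec
      have h7C : 7 ∣ Nat.card C := by
        have : 7 ∣ e * Nat.card C := by rw [hec]; norm_num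
        rcases (Nat.Prime.dvd_mul h7.out).1 this with q | q
        · exact absurd (q.trans he18) (by norm_num)
        · exact q
      obtain ⟨y, hy⟩ := exists_prime_orderOf_dvd_card' 7 h7C
      have hyo : orderOf (y : G) = 7 := by rw [Subgroup.orderOf_coe, hy]
      have hxy : Commute x (y : G) := y.2 x hxP
      set A := zpowers (x * y) with hA
      have hAc : Nat.card A = 19 * 7 := by
        rw [hA, Nat.card_zpowers, hxy.orderOf_mul_eq_mul_orderOf_of_coprime (by rw [hxo, hyo]; norm_num),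
          hxo, hyo]
      have hpow : (x * (y : G)) ^ 7 = x ^ 7 := by
        rw [hxy.mul_pow, show (y : G) ^ 7 = 1 by rw [← hyo]; exact pow_orderOf_eq_one _, mul_one]
      have hxA : x ∈ A := by
        have : ((x * (y : G)) ^ 7) ^ 11 = x := by
          rw [hpow, ← pow_mul, show 7 * 11 = 19 * 4 + 1 from rfl, pow_succ, pow_mul, ← hxo,
            pow_orderOf_eq_one, one_pow, one_mul]
        rw [← this, ← pow_mul]; exact npow_mem_zpowers _ _
      have hidx : N.index = 96 := by rw [← r, P.card_eq_index_normalizer]; rfl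
      refine no_action (H := N) (H62.normalizer_sylow_ne_top hG hd19 P) (p := 19) (q := 7) (m := 7)
        h19.out hxo hxA ?_ h7.out (Or.inl rfl) (by norm_num) hAc
        (by rw [hidx]; norm_num) (by rw [hidx]; norm_num) fun ω hω a ha => ?_
      · rintro _ ⟨i, rfl⟩ _ ⟨j, rfl⟩
        exact ((Commute.refl _).zpow_zpow i j).eq
      · obtain ⟨g, rfl⟩ := QuotientGroup.mk_surjective ω
        rw [MulAction.Quotient.smul_mk, QuotientGroup.eq] at hω ⊢
        simp only [smul_eq_mul, mul_inv_rev] at hω ⊢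
        have hg : g⁻¹ * x * g ∈ N := by
          have := inv_mem hω
          simpa [mul_assoc] using this
        have hgP : g⁻¹ * x * g ∈ (P : Subgroup G) := by
          have hp : IsPGroup 19 (zpowers (g⁻¹ * x * g)) := IsPGroup.of_card (n := 1) (by
            rw [Nat.card_zpowers, show g⁻¹ * x * g = MulAut.conj g⁻¹ x by simp, MulEquiv.orderOf_eq,
              hxo, pow_one])
          have hle : zpowers (g⁻¹ * x * g) ≤ N := zpowers_le.2 hg
          have hsup : IsPGroup 19 (zpowers (g⁻¹ * x * g) ⊔ (P : Subgroup G) : Subgroup G) :=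
            IsPGroup.to_sup_of_normal_right' hp P.isPGroup' hle
          rw [← P.is_maximal' hsup le_sup_right]
          exact mem_sup_left (mem_zpowers _)
        have hgN : g ∈ N := by
          have hmap : (P : Subgroup G).map (MulAut.conj g⁻¹).toMonoidHom = (P : Subgroup G) := by
            refine Subgroup.eq_of_le_of_card_ge ?_
              (le_of_eq (Subgroup.card_map_of_injective (MulAut.conj g⁻¹).injective).symm)
            rintro _ ⟨z, hz, rfl⟩
            obtain ⟨i, rfl⟩ := mem_zpowers_iff.1 (hxeq.symm ▸ hz)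
            show (MulAut.conj g⁻¹) (x ^ i) ∈ _
            rw [map_zpow, MulAut.conj_apply, inv_inv]
            exact zpow_mem hgP i
          have : g⁻¹ ∈ N := mem_normalizer_iff.2 fun z => by
            constructor
            · intro hz; rw [← hmap]; exact ⟨z, hz, by simp⟩
            · intro hz
              rw [← hmap] at hz
              obtain ⟨w, hw, hwz⟩ := hz
              rwa [← mul_left_cancel (mul_right_cancel (show g⁻¹ * w * g⁻¹⁻¹ = g⁻¹ * z * g⁻¹⁻¹ from hwz))]
          simpa using inv_mem this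
        have haC : a ∈ C := (zpowers_le.2 (mul_mem hxC y.2) : zpowers (x * (y : G)) ≤ C) ha
        exact mul_mem (mul_mem (inv_mem hgN) (inv_mem (hCN haC))) hgN
    · exact r
  rw [hn19, hn] at hnP
  change Nat.card N * 1008 = 459648 at hnP
  have hNc : Nat.card N = 456 := by omega
  rw [hNc] at hec
  -- the principal block
  haveI : Fintype G := Fintype.ofFinite G
  obtain ⟨M, hM⟩ := H20.exists_isPModular (p := 19) h19.out
  haveI := H20.isPrime_of_modular hM
  obtain ⟨X, Y, hB, -, hXc, hYc, εX, ε, hX, hε, hY, -, hrel⟩ :=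
    H85.D1.principal_structure hP hM (by norm_num) he
  have hC19 : 19 ∣ Nat.card C := by
    rw [← hxo, ← Subgroup.orderOf_mk x hxC]; exact orderOf_dvd_natCard _
  have he' : e = 2 ∨ e = 3 ∨ e = 6 := by
    have h24 : e ∣ 24 := by
      obtain ⟨c, hc⟩ := hC19
      exact ⟨c, by rw [hc] at hec; linarith⟩
    have h6 : e ∣ 6 := Nat.dvd_gcd h24 he18
    have hle := Nat.le_of_dvd (by norm_num) h6
    have he1 : e ≠ 1 := by
      intro e1
      refine H62.not_normalizer_le_centralizer hG hd19 P ?_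
      rw [e1] at he
      exact relIndex_eq_one.1 he
    interval_cases e <;> first | omega | norm_num at h6
  have hcent : Subgroup.center G ≠ ⊤ := by
    rw [H62.center_eq_bot_of_simple hG]
    intro htop
    have : Nat.card (⊥ : Subgroup G) = Nat.card G := by rw [htop]; exact Subgroup.card_top
    rw [Subgroup.card_bot, hn] at this
    omega
  have hdeg : ∀ χ : IrrCharacter G, charDegree (χ : G → ℂ) < 678 ∧ charDegree (χ : G → ℂ) ∣ 459648 := by
    intro χ
    refine ⟨?_, hn ▸ H12.irr_degree_dvd_card χ⟩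
    have h1 := Finset.single_le_sum (f := fun ψ : IrrCharacter G => H12.degree (ψ : G → ℂ) ^ 2)
      (fun _ _ => Nat.zero_le _) (Finset.mem_univ χ)
    rw [H12.sum_degree_sq_nat, hn] at h1
    by_contra hlt
    have h2 : 678 ≤ H12.degree (χ : G → ℂ) := not_lt.1 hlt
    nlinarith [h1, h2]
  have heven : Even (Nat.card G) := by rw [hn]; decide
  have hone : H12.oneIrr G ∈ X := by
    have h1 : H12.oneIrr G ∈ X ∪ Y := by
      rw [← hB]; exact H20.mem_blockOf_self (M := M) (H12.oneIrr G)
    refine h1.resolve_right fun h1Y => ?_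
    have h2 := hY _ h1Y
    have hd : charDegree (H12.oneIrr G : G → ℂ) = 1 := by
      have := H21.charDegree_eq (H12.oneIrr G)
      rw [H12.oneIrr_apply] at this
      exact_mod_cast this.symm
    rw [hd, Int.modEq_iff_dvd] at h2
    push_cast at h2
    rcases hε with r | r <;> rw [r] at h2 <;> rcases he' with q | q | q <;> rw [q] at h2 <;> omega
  have hεone : εX (H12.oneIrr G) = 1 := by
    obtain ⟨hor, -, hv⟩ := hX _ hone
    have := hv x hxP hx1 1 (one_mem _) (by rw [orderOf_one]; norm_num)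
    rw [H12.oneIrr_apply] at this
    exact_mod_cast this.symm
  set Xs : Finset (IrrCharacter G) := X.toFinset with hXs
  set T := Xs.erase (H12.oneIrr G) with hT
  have honeXs : H12.oneIrr G ∈ Xs := by rw [hXs, Set.mem_toFinset]; exact hone
  have hXsc : Xs.card = e := by rw [hXs, ← hXc, Set.toFinset_card, Nat.card_eq_fintype_card]
  let w : IrrCharacter G → ℤ := fun χ => εX χ * (charDegree (χ : G → ℂ) : ℤ)
  have hw : ∀ χ ∈ T, w χ = -18 ∨ w χ = -56 ∨ w χ = 96 ∨ w χ = -189 := by
    intro χ hχ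
    obtain ⟨hne, hχX⟩ := Finset.mem_erase.1 hχ
    rw [hXs, Set.mem_toFinset] at hχX
    obtain ⟨hor, hmod, -⟩ := hX χ hχX
    obtain ⟨hlt, hdvd⟩ := hdeg χ
    have h3 : 2 < charDegree (χ : G → ℂ) := by
      by_contra hle
      exact hne (irr_eq_one_of_degree_le_two hcent heven χ (not_lt.1 hle))
    rw [Int.modEq_iff_dvd] at hmod
    push_cast at hmod
    have hmem := (degree_cases hlt hdvd).1 (by rcases hor with r | r <;> rw [r] at hmod <;> omega)
    simp only [List.mem_cons, List.not_mem_nil, or_false] at hmem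
    show εX χ * _ = _ ∨ εX χ * _ = _ ∨ εX χ * _ = _ ∨ εX χ * _ = _
    rcases hor with r | r <;> rw [r] at hmod ⊢ <;> omega
  obtain ⟨θ, hθ⟩ : Y.Nonempty := by
    rw [← Set.nonempty_coe_sort]
    refine (Nat.card_pos_iff.1 ?_).1
    rw [hYc]
    rcases he' with q | q | q <;> rw [q] <;> norm_num
  have hsum : 1 + ∑ χ ∈ T, w χ = ε * (charDegree (θ : G → ℂ) : ℤ) := by
    have h1 := hrel θ hθ 1 (by rw [orderOf_one]; norm_num)
    rw [← Set.coe_toFinset X, finsum_mem_coe_finset, ← hXs, ← Finset.add_sum_erase _ _ honeXs,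
      hεone, H12.oneIrr_apply, H21.charDegree_eq,
      Finset.sum_congr rfl (fun χ _ => by rw [H21.charDegree_eq])] at h1
    apply Int.cast_injective (α := ℂ)
    push_cast [w]
    push_cast at h1
    linear_combination -h1
  have hb : (e = 2 → charDegree (θ : G → ℂ) ∈ [2, 21, 36, 112, 192, 378]) ∧
      (e = 3 → charDegree (θ : G → ℂ) ∈ [3, 16, 54, 168, 288]) ∧
      (e = 6 → charDegree (θ : G → ℂ) ∈ [6, 32, 63, 108, 336, 576]) := by
    obtain ⟨hlt, hdvd⟩ := hdeg θ
    obtain ⟨-, c2, c3, c6⟩ := degree_cases hlt hdvd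
    have hmod := hY θ hθ
    rw [Int.modEq_iff_dvd] at hmod
    push_cast at hmod
    refine ⟨fun q => c2 ?_, fun q => c3 ?_, fun q => c6 ?_⟩ <;> rw [q] at hmod <;>
      rcases hε with r | r <;> rw [r] at hmod <;> omega
  obtain ⟨he6, χ₁, hχ₁, χ₂, hχ₂, h12, hev₁, hev₂⟩ :=
    two_even T w he' (by rw [hT, Finset.card_erase_of_mem honeXs, hXsc]) hw hε hsum hb
  rw [he6] at hec
  have hCc : Nat.card C = 76 := by omega
  -- `C` is abelian
  obtain ⟨Q⟩ : Nonempty (Sylow 2 C) := inferInstance
  have hQ : Nat.card Q = 4 := by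
    rw [H62.card_sylow_coe (show Nat.card C = 2 ^ 2 * 19 by rw [hCc]; norm_num) (by norm_num) Q]
    norm_num
  have hQab : ∀ a ∈ (Q : Subgroup C), ∀ b ∈ (Q : Subgroup C), a * b = b * a := fun a ha b hb => by
    have := IsPGroup.commutative_of_card_eq_prime_sq (p := 2) (G := Q) (by rw [hQ]; norm_num)
    exact congrArg Subtype.val (this ⟨a, ha⟩ ⟨b, hb⟩)
  set x' : C := ⟨x, hxC⟩
  have hx'c : ∀ c : C, x' * c = c * x' := fun c => Subtype.ext (c.2 x hxP)
  have htop : zpowers x' ⊔ (Q : Subgroup C) = ⊤ := by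
    refine Subgroup.eq_top_of_le_card _ ?_
    rw [hCc]
    refine Nat.le_of_dvd Nat.card_pos (Nat.Coprime.mul_dvd_of_dvd_of_dvd (show Nat.Coprime 19 4 by norm_num) ?_ ?_)
    · refine (dvd_of_eq ?_).trans (Subgroup.card_dvd_of_le le_sup_left)
      rw [Nat.card_zpowers, Subgroup.orderOf_mk, hxo]
    · exact hQ ▸ Subgroup.card_dvd_of_le le_sup_right
  have hCab : ∀ a b : C, a * b = b * a := by
    have hle : zpowers x' ⊔ (Q : Subgroup C) ≤ centralizer ((Q : Subgroup C) : Set C) :=
      sup_le (zpowers_le.2 fun z _ => (hx'c z).symm) fun a ha z hz => hQab z hz a ha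
    rw [htop] at hle
    have hle2 : zpowers x' ⊔ (Q : Subgroup C) ≤ center C := sup_le
      (zpowers_le.2 (Subgroup.mem_center_iff.2 fun c => (hx'c c).symm))
      fun a ha => Subgroup.mem_center_iff.2 fun c => (hle (mem_top c) a ha).symm
    rw [htop] at hle2
    exact fun a b => (Subgroup.mem_center_iff.1 (hle2 (mem_top a)) b).symm
  obtain ⟨u', hu'⟩ := exists_prime_orderOf_dvd_card' 2 (show 2 ∣ Nat.card C by rw [hCc]; norm_num)
  set u : G := (u' : G) with hu
  have huo : orderOf u = 2 := by rw [hu, Subgroup.orderOf_coe, hu']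
  have hxu : Commute x u := congrArg Subtype.val (hx'c u')
  -- the bound on `C(u)`
  set L := centralizer ({u} : Set G) with hL
  have hCL : C ≤ L := fun c hc => mem_centralizer_singleton_iff.2
    (congrArg Subtype.val (hCab ⟨c, hc⟩ u'))
  have hPC : (P : Subgroup G) ≤ C := hxeq ▸ zpowers_le.2 hxC
  have hPL : (P : Subgroup G) ≤ L := hPC.trans hCL
  set P' := P.subtype hPL with hP'
  have hP'c : ((P' : Subgroup L)) = (P : Subgroup G).subgroupOf L := rfl
  have hLtop : L ≠ ⊤ := by
    intro htop'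
    have : u ∈ Subgroup.center G := Subgroup.mem_center_iff.2 fun g =>
      (mem_centralizer_singleton_iff.1 (htop' ▸ mem_top g : g ∈ L))
    rw [H62.center_eq_bot_of_simple hG, mem_bot] at this
    rw [this, orderOf_one] at huo
    omega
  have hLnot : ¬ Nat.card (Sylow 19 L) = 96 ∧ ¬ Nat.card (Sylow 19 L) = 1008 := by
    suffices hbig : ¬ 96 ≤ Nat.card (Sylow 19 L) by omega
    intro hbig
    have hcardL : 96 * 76 ≤ Nat.card L := by
      rw [← H62.card_normalizer_mul P', mul_comm 96 76]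
      refine Nat.mul_le_mul ?_ hbig
      rw [← hCc, ← Nat.card_congr (subgroupOfEquivOfLe hCL).toEquiv]
      refine Subgroup.card_le_of_le fun c hc => ?_
      refine mem_normalizer_iff.2 fun z => ?_
      exact mem_normalizer_iff.1 (hCN (mem_subgroupOf.1 hc)) (z : G)
    have hidx : L.index ≤ 63 := by
      have := L.card_mul_index
      rw [hn] at this
      by_contra hgt
      nlinarith [this, hcardL, not_le.1 hgt]
    refine no_action hLtop (p := 19) (q := 2) (m := 4) h19.out hxo hxC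
      (fun a ha b hb => congrArg Subtype.val (hCab ⟨a, ha⟩ ⟨b, hb⟩)) Nat.prime_two (Or.inr rfl)
      (by norm_num) hCc (by omega) (by omega) fun ω hω a ha => ?_
    obtain ⟨g, rfl⟩ := QuotientGroup.mk_surjective ω
    rw [MulAction.Quotient.smul_mk, QuotientGroup.eq] at hω ⊢
    simp only [smul_eq_mul, mul_inv_rev] at hω ⊢
    have hg : g⁻¹ * x * g ∈ L := by
      have := inv_mem hω
      simpa [mul_assoc] using this
    have hp : IsPGroup 19 (zpowers (⟨g⁻¹ * x * g, hg⟩ : L)) := IsPGroup.of_card (n := 1) (by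
      rw [Nat.card_zpowers, Subgroup.orderOf_mk, show g⁻¹ * x * g = MulAut.conj g⁻¹ x by simp,
        MulEquiv.orderOf_eq, hxo, pow_one])
    obtain ⟨R, hR⟩ := hp.exists_le_sylow
    obtain ⟨l, hl⟩ := MulAction.exists_smul_eq L R P'
    have h1 : l * ⟨g⁻¹ * x * g, hg⟩ * l⁻¹ ∈ (P' : Subgroup L) := by
      rw [← hl, Sylow.coe_subgroup_smul]
      exact smul_mem_pointwise_smul _ (MulAut.conj l) _ (hR (mem_zpowers _))
    have h2 : (l : G) * (g⁻¹ * x * g) * (l : G)⁻¹ ∈ (P : Subgroup G) := h1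
    set n' := (l : G) * g⁻¹ with hn'
    have hn'x : n' * x * n'⁻¹ ∈ (P : Subgroup G) := by
      rw [hn', show (l : G) * g⁻¹ * x * ((l : G) * g⁻¹)⁻¹ = (l : G) * (g⁻¹ * x * g) * (l : G)⁻¹ by group]
      exact h2
    have hn'N : n' ∈ N := by
      have hmap : (P : Subgroup G).map (MulAut.conj n').toMonoidHom = (P : Subgroup G) := by
        refine Subgroup.eq_of_le_of_card_ge ?_
          (le_of_eq (Subgroup.card_map_of_injective (MulAut.conj n').injective).symm)
        rintro _ ⟨z, hz, rfl⟩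
        obtain ⟨i, rfl⟩ := mem_zpowers_iff.1 (hxeq.symm ▸ hz)
        show (MulAut.conj n') (x ^ i) ∈ _
        rw [map_zpow, MulAut.conj_apply]
        exact zpow_mem hn'x i
      refine mem_normalizer_iff.2 fun z => ⟨fun hz => ?_, fun hz => ?_⟩
      · rw [← hmap]; exact ⟨z, hz, rfl⟩
      · rw [← hmap] at hz
        obtain ⟨v, hv, hvz⟩ := hz
        rwa [← mul_left_cancel (mul_right_cancel (show n' * v * n'⁻¹ = n' * z * n'⁻¹ from hvz))]
    -- `C` is normalised by `n'`
    have hconj : n' * a⁻¹ * n'⁻¹ ∈ C := fun z hz => by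
      have hz' := (mem_normalizer_iff''.1 hn'N z).1 hz
      have := inv_mem (show a ∈ C from ha) _ hz'
      calc z * (n' * a⁻¹ * n'⁻¹) = n' * ((n'⁻¹ * z * n') * a⁻¹) * n'⁻¹ := by group
        _ = n' * (a⁻¹ * (n'⁻¹ * z * n')) * n'⁻¹ := by rw [this]
        _ = n' * a⁻¹ * n'⁻¹ * z := by group
    have := mul_mem (mul_mem (inv_mem l.2) (hCL hconj)) l.2
    rw [hn'] at this
    simpa [mul_assoc] using this
  have hLn : Nat.card (Sylow 19 L) = 1 := by
    have hdvdL : Nat.card (Sylow 19 L) ∣ 24192 := by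
      have hd1 : Nat.card (Sylow 19 L) * 19 ∣ Nat.card L := by
        rw [← H62.card_normalizer_mul P', mul_comm _ 19]
        refine Nat.mul_dvd_mul ?_ dvd_rfl
        refine (dvd_of_eq ?_).trans (Subgroup.card_dvd_of_le (le_normalizer (H := (P' : Subgroup L))))
        rw [hP'c, Nat.card_congr (subgroupOfEquivOfLe hPL).toEquiv, hP]
      have hd2 : Nat.card L ∣ 24192 * 19 := by
        rw [show 24192 * 19 = Nat.card G by rw [hn]]; exact Subgroup.card_subgroup_dvd_card L
      exact Nat.dvd_of_mul_dvd_mul_right (by norm_num) (hd1.trans hd2)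
    rcases sylow_cases hdvdL H62.card_sylow_mod with r | r | r
    exacts [r, absurd r hLnot.1, absurd r hLnot.2]
  have hLle : Nat.card L ≤ 456 := by
    rw [← hNc]
    refine Subgroup.card_le_of_le fun l hl => ?_
    have htopL := (H62.card_sylow_eq_one_iff P').1 hLn
    have hl' : (⟨l, hl⟩ : L) ∈ normalizer ((P' : Subgroup L) : Set L) := htopL ▸ mem_top _
    refine mem_normalizer_iff.2 fun z => ⟨fun hz => ?_, fun hz => ?_⟩
    · exact (mem_normalizer_iff.1 hl' ⟨z, hPL hz⟩).1 hz
    · have hzL : z ∈ L := by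
        have := mul_mem (mul_mem (inv_mem hl) (hPL hz)) hl
        rwa [show l⁻¹ * (l * z * l⁻¹) * l = z by group] at this
      exact (mem_normalizer_iff.1 hl' ⟨z, hzL⟩).2 hz
  -- the two characters
  have hbig : ∀ χ ∈ T, 2 ∣ w χ → ∃ v : ℤ, (χ : G → ℂ) u = (v : ℂ) ∧ 324 ≤ v * v := by
    intro χ hχ hev
    obtain ⟨-, hχX⟩ := Finset.mem_erase.1 hχ
    rw [hXs, Set.mem_toFinset] at hχX
    obtain ⟨hor, hmod, hval⟩ := hX χ hχX
    refine sq_value_ge (H12.isCharacter_irr χ) hxo huo hxu (d := (charDegree (χ : G → ℂ) : ℤ))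
      (by rw [H21.charDegree_eq]; push_cast; rfl) ?_ hor hmod fun i j hi => ?_
    · rcases hor with r | r <;> simpa [w, r] using hev
    · refine hval (x ^ i) (pow_mem hxP i) ?_ (u ^ j) (pow_mem u'.2 j) ?_
      · intro e1
        exact hi (hxo ▸ orderOf_dvd_of_pow_eq_one e1)
      · intro h'
        have := (h'.trans (orderOf_pow_dvd j)).trans (dvd_of_eq huo)
        norm_num at this
  obtain ⟨v₁, hv₁, hv₁'⟩ := hbig χ₁ hχ₁ hev₁
  obtain ⟨v₂, hv₂, hv₂'⟩ := hbig χ₂ hχ₂ hev₂
  have hcol := H12.column_orthogonality u u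
  rw [if_pos (IsConj.refl u)] at hcol
  have hcolR : ∑ χ : IrrCharacter G, Complex.normSq ((χ : G → ℂ) u) = (Nat.card L : ℝ) := by
    apply Complex.ofReal_injective
    rw [Complex.ofReal_sum, Complex.ofReal_natCast, ← hcol]
    exact Finset.sum_congr rfl fun χ _ => (Complex.mul_conj _).symm
  have h3 : ∑ χ ∈ ({H12.oneIrr G, χ₁, χ₂} : Finset (IrrCharacter G)),
      Complex.normSq ((χ : G → ℂ) u) ≤ (Nat.card L : ℝ) := by
    rw [← hcolR]
    exact Finset.sum_le_sum_of_subset_of_nonneg (Finset.subset_univ _) fun _ _ _ => Complex.normSq_nonneg _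
  have n1 : H12.oneIrr G ≠ χ₁ := fun q => (Finset.mem_erase.1 hχ₁).1 q.symm
  have n2 : H12.oneIrr G ≠ χ₂ := fun q => (Finset.mem_erase.1 hχ₂).1 q.symm
  rw [Finset.sum_insert (by simp [n1, n2]), Finset.sum_pair h12, H12.oneIrr_apply, hv₁, hv₂] at h3
  simp only [map_one, Complex.normSq_intCast] at h3
  have : (1 : ℤ) + (v₁ * v₁ + v₂ * v₂) ≤ (Nat.card L : ℤ) := by exact_mod_cast h3
  omega

end H65.O459648
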