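import Mathlib.GroupTheory.Sylow
import Mathlib.GroupTheory.Index
import Mathlib.GroupTheory.OrderOfElement
import Mathlib.Data.Complex.Basic
import Mathlib.Tactic.Group
import Mathlib.Tactic.Ring

/-!
The Brauer-Suzuki-Wall configuration: elementary facts.
-/

set_option autoImplicit false
set_option linter.unusedSectionVars false

namespace H65.BSW

open Subgroup
open scoped Classical

universe u

variable {G : Type u} [Group G]

/-- The Brauer-Suzuki-Wall configuration. -/
structure Hyp (t s : G) (K : Subgroup G) : Prop where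
  t2 : orderOf t = 2
  s2 : orderOf s = 2
  comm : ∀ x ∈ K, ∀ y ∈ K, x * y = y * x
  tK : t ∈ K
  le : K ≤ centralizer ({t} : Set G)
  sH : s ∈ centralizer ({t} : Set G)
  sK : s ∉ K
  sup : K ⊔ zpowers s = centralizer ({t} : Set G)
  cK : K ⊓ centralizer ({s} : Set G) = zpowers t
  inv : ∀ x ∈ K, s * x * s⁻¹ = x⁻¹
  ti : ∀ g : G, g ∉ centralizer ({t} : Set G) → ∀ x ∈ K, g * x * g⁻¹ ∈ K → x = 1
  conj : ∀ x y : G, orderOf x = 2 → orderOf y = 2 → IsConj x y

/-- Conjugate to a non-trivial element of `K`. -/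
def InU (K : Subgroup G) (g : G) : Prop := ∃ h : G, ∃ y ∈ K, y ≠ 1 ∧ h * y * h⁻¹ = g

/-- The number of involutions `a` with `a * g` again an involution. -/
noncomputable def ecount [Fintype G] (g : G) : ℕ :=
  (Finset.univ.filter fun a : G => orderOf a = 2 ∧ orderOf (a * g) = 2).card

variable {t s : G} {K : Subgroup G} (h : Hyp t s K)
include h

theorem t_mul : t * t = 1 := by rw [← pow_two, ← h.t2]; exact pow_orderOf_eq_one t
theorem s_mul : s * s = 1 := by rw [← pow_two, ← h.s2]; exact pow_orderOf_eq_one s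
theorem s_inv : s⁻¹ = s := inv_eq_of_mul_eq_one_right (s_mul h)
theorem t_ne : t ≠ 1 := fun e => by have := h.t2; rw [e, orderOf_one] at this; omega
theorem s_ne : s ≠ 1 := fun e => by have := h.s2; rw [e, orderOf_one] at this; omega

theorem s_conj {x : G} (hx : x ∈ K) : s * x = x⁻¹ * s := by
  rw [← h.inv x hx, inv_mul_cancel_right]

theorem s_conj' {x : G} (hx : x ∈ K) : x * s = s * x⁻¹ := by
  rw [s_conj h (K.inv_mem hx), inv_inv]

theorem mem_H_iff {g : G} : g ∈ centralizer ({t} : Set G) ↔ g ∈ K ∨ s * g ∈ K := by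
  constructor
  · intro hg
    rw [← h.sup, sup_eq_closure] at hg
    induction hg using closure_induction with
    | mem x hx =>
      rcases hx with hx | hx
      · exact Or.inl hx
      · obtain ⟨i, rfl⟩ := mem_zpowers_iff.1 hx
        rcases Int.even_or_odd i with ⟨j, rfl⟩ | ⟨j, rfl⟩
        · left
          rw [zpow_add, ← (Commute.refl s).mul_zpow, s_mul h, one_zpow]
          exact one_mem _
        · right
          rw [zpow_add, zpow_mul, show (s : G) ^ (2 : ℤ) = 1 by
            rw [show (2 : ℤ) = ((2 : ℕ) : ℤ) from rfl, zpow_natCast, pow_two, s_mul h], one_zpow,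
            one_mul, zpow_one, s_mul h]
          exact one_mem _
    | one => exact Or.inl (one_mem _)
    | mul a b _ _ ha hb =>
      rcases ha with ha | ha <;> rcases hb with hb | hb
      · exact Or.inl (mul_mem ha hb)
      · right
        rw [show s * (a * b) = (s * a * s⁻¹) * (s * b) by group, h.inv a ha]
        exact mul_mem (inv_mem ha) hb
      · right; rw [← mul_assoc]; exact mul_mem ha hb
      · left
        have e : a * b = (s * (s * a) * s⁻¹) * (s * b) * (s * s)⁻¹⁻¹ := by
          rw [s_mul h, inv_one, inv_one, mul_one, ← mul_assoc s s, s_mul h, one_mul]; group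
        rw [e, h.inv _ ha, s_mul h, inv_one, inv_one, mul_one]
        exact mul_mem (inv_mem ha) hb
    | inv a _ ha =>
      rcases ha with ha | ha
      · exact Or.inl (inv_mem ha)
      · right
        have e : s * a⁻¹ = s * ((s * a)⁻¹) * s⁻¹ * (s * s) := by group
        rw [e, h.inv _ (inv_mem ha), inv_inv, s_mul h, mul_one]
        exact ha
  · rintro (hg | hg)
    · exact h.le hg
    · have := mul_mem h.sH (h.le hg)
      rwa [← mul_assoc, s_mul h, one_mul] at this

/-- The only involution of `K`. -/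
theorem sq_eq_one {x : G} (hx : x ∈ K) (hx2 : x * x = 1) : x = 1 ∨ x = t := by
  have hxs : x ∈ K ⊓ centralizer ({s} : Set G) := ⟨hx, mem_centralizer_singleton_iff.2 (by
    rw [s_conj h hx, inv_eq_of_mul_eq_one_right hx2])⟩
  rw [h.cK] at hxs
  obtain ⟨i, rfl⟩ := mem_zpowers_iff.1 hxs
  rw [← zpow_mod_orderOf, h.t2]
  rcases Int.emod_two_eq_zero_or_one i with e | e <;> simp [e]

theorem invol_K {x : G} (hx : x ∈ K) (hx2 : orderOf x = 2) : x = t := by
  refine (sq_eq_one h hx ?_).resolve_left fun e => ?_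
  · rw [← pow_two, ← hx2]; exact pow_orderOf_eq_one x
  · rw [e, orderOf_one] at hx2; omega

/-- The elements of `H` outside `K` are involutions inverting `K`. -/
theorem outer {g : G} (hg : g ∈ centralizer ({t} : Set G)) (hgK : g ∉ K) :
    orderOf g = 2 ∧ ∀ x ∈ K, g * x * g⁻¹ = x⁻¹ := by
  have hsg := ((mem_H_iff h).1 hg).resolve_left hgK
  obtain ⟨y, hy, rfl⟩ : ∃ y ∈ K, g = s * y := ⟨s * g, hsg, by rw [← mul_assoc, s_mul h, one_mul]⟩
  refine ⟨orderOf_eq_prime ?_ (fun e => hgK (by rw [e]; exact one_mem _)), fun x hx => ?_⟩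
  · rw [pow_two, show s * y * (s * y) = (s * y * s⁻¹) * (s * s) * y by group, h.inv y hy, s_mul h,
      mul_one, inv_mul_cancel]
  · rw [show s * y * x * (s * y)⁻¹ = s * (y * x * y⁻¹) * s⁻¹ by group, h.comm y hy x hx,
      mul_inv_cancel_right, h.inv x hx]

theorem s_mul_not_mem {x : G} (hx : x ∈ K) : s * x ∉ K := fun e =>
  h.sK (by simpa using mul_mem e (inv_mem hx))

theorem conj_mem_imp {g y : G} (hy : y ∈ K) (hy1 : y ≠ 1) (hgy : g * y * g⁻¹ ∈ K) :
    g ∈ centralizer ({t} : Set G) := by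
  by_contra hg
  exact hy1 (h.ti g hg y hy hgy)

theorem conj_cases {g y : G} (hy : y ∈ K) (hy1 : y ≠ 1) (hgy : g * y * g⁻¹ ∈ K) :
    g * y * g⁻¹ = y ∨ g * y * g⁻¹ = y⁻¹ := by
  have hg := conj_mem_imp h hy hy1 hgy
  by_cases hgK : g ∈ K
  · left; rw [h.comm g hgK y hy, mul_inv_cancel_right]
  · right; exact (outer h hg hgK).2 y hy

theorem cent_le {y : G} (hy : y ∈ K) (hy1 : y ≠ 1) :
    centralizer ({y} : Set G) ≤ centralizer ({t} : Set G) := fun g hg =>
  conj_mem_imp h hy hy1 (by rw [mem_centralizer_singleton_iff.1 hg, mul_inv_cancel_right]; exact hy)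

theorem cent_eq {y : G} (hy : y ∈ K) (hy1 : y ≠ 1) (hyt : y ≠ t) :
    centralizer ({y} : Set G) = K := by
  refine le_antisymm (fun g hg => ?_) fun g hg => mem_centralizer_singleton_iff.2 (h.comm g hg y hy)
  by_contra hgK
  have e := (outer h (cent_le h hy hy1 hg) hgK).2 y hy
  rw [mem_centralizer_singleton_iff.1 hg, mul_inv_cancel_right] at e
  rcases sq_eq_one h hy (by nth_rewrite 2 [e]; exact mul_inv_cancel y) with r | r
  exacts [hy1 r, hyt r]

variable [Finite G]

theorem card_H : Nat.card (centralizer ({t} : Set G)) = 2 * Nat.card K := by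
  let f : Bool × K → centralizer ({t} : Set G) := fun q =>
    if q.1 then ⟨s * (q.2 : G), mul_mem h.sH (h.le q.2.2)⟩ else ⟨q.2, h.le q.2.2⟩
  have hf : Function.Bijective f := by
    constructor
    · rintro ⟨b, x⟩ ⟨b', x'⟩ e
      cases b <;> cases b' <;> simp only [f, Bool.false_eq_true, if_false, if_true, Subtype.mk.injEq] at e
      · exact Prod.ext rfl (Subtype.ext e)
      · exact absurd (e ▸ x.2) (s_mul_not_mem h x'.2)
      · exact absurd (e.symm ▸ x'.2) (s_mul_not_mem h x.2)
      · exact Prod.ext rfl (Subtype.ext (mul_left_cancel e))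
    · rintro ⟨g, hg⟩
      rcases (mem_H_iff h).1 hg with hgK | hgK
      · exact ⟨(false, ⟨g, hgK⟩), rfl⟩
      · exact ⟨(true, ⟨s * g, hgK⟩), Subtype.ext (by
          show s * (s * g) = g
          rw [← mul_assoc, s_mul h, one_mul])⟩
  rw [← Nat.card_eq_of_bijective f hf, Nat.card_prod, Nat.card_eq_fintype_card (α := Bool),
    Fintype.card_bool]

theorem even_K : 2 ∣ Nat.card K := by
  rw [← h.t2, ← Subgroup.orderOf_mk t h.tK]
  exact orderOf_dvd_natCard _

theorem two_le : 2 ≤ Nat.card K := Nat.le_of_dvd Nat.card_pos (even_K h)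

theorem card_G :
    Nat.card G = 2 * Nat.card K * (centralizer ({t} : Set G)).index := by
  rw [← card_H h, Subgroup.card_mul_index]

theorem odd_index : Odd (centralizer ({t} : Set G)).index := by
  haveI : Fact (Nat.Prime 2) := ⟨Nat.prime_two⟩
  obtain ⟨P⟩ : Nonempty (Sylow 2 G) := inferInstance
  have h2 : 2 ∣ Nat.card P := P.dvd_card_of_dvd_card (by rw [card_G h]; exact ⟨_, mul_assoc 2 _ _⟩)
  haveI : Nontrivial P := by
    rw [← Finite.one_lt_card_iff_nontrivial]
    exact lt_of_lt_of_le one_lt_two (Nat.le_of_dvd Nat.card_pos h2)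
  haveI := P.isPGroup'.center_nontrivial
  obtain ⟨z, hz1⟩ := exists_ne (1 : Subgroup.center P)
  have hz2 : 2 ∣ orderOf z := by
    obtain ⟨j, hj⟩ := IsPGroup.iff_orderOf.1 (P.isPGroup'.to_subgroup (Subgroup.center P)) z
    rw [hj]
    exact dvd_pow_self 2 fun e => hz1 (orderOf_eq_one_iff.1 (by rw [hj, e, pow_zero]))
  set w : G := (((z ^ (orderOf z / 2) : Subgroup.center P) : P) : G)
  have hw : orderOf w = 2 := by
    rw [show orderOf w = orderOf (z ^ (orderOf z / 2)) by
      simp only [w, Subgroup.orderOf_coe],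
      orderOf_pow_orderOf_div (orderOf_pos z).ne' hz2]
  obtain ⟨c, hc⟩ := isConj_iff.1 (h.conj t w h.t2 hw)
  have hPle : (P : Subgroup G) ≤ centralizer ({w} : Set G) := fun x hx =>
    mem_centralizer_singleton_iff.2
      (congrArg Subtype.val (Subgroup.mem_center_iff.1 (z ^ (orderOf z / 2)).2 ⟨x, hx⟩))
  have hcard : Nat.card (centralizer ({w} : Set G)) = 2 * Nat.card K := by
    have e : (centralizer ({t} : Set G)).map (MulAut.conj c).toMonoidHom =
        centralizer ({w} : Set G) := by
      ext g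
      rw [mem_map_equiv, mem_centralizer_singleton_iff, mem_centralizer_singleton_iff, ← hc,
        MulAut.conj_symm_apply]
      constructor
      · intro e
        calc g * (c * t * c⁻¹) = c * ((c⁻¹ * g * c) * t) * c⁻¹ := by group
          _ = c * (t * (c⁻¹ * g * c)) * c⁻¹ := by rw [e]
          _ = c * t * c⁻¹ * g := by group
      · intro e
        calc c⁻¹ * g * c * t = c⁻¹ * (g * (c * t * c⁻¹)) * c := by group
          _ = c⁻¹ * (c * t * c⁻¹ * g) * c := by rw [e]
          _ = t * (c⁻¹ * g * c) := by group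
    rw [← e, ← card_H h]
    exact Subgroup.card_map_of_injective (MulAut.conj c).injective
  rw [← Nat.not_even_iff_odd, even_iff_two_dvd]
  intro hN
  apply P.not_dvd_index
  obtain ⟨d, hd⟩ := card_dvd_of_le hPle
  rw [hcard] at hd
  have e : (P : Subgroup G).index = d * (centralizer ({t} : Set G)).index := by
    apply Nat.eq_of_mul_eq_mul_left (Nat.card_pos (α := (P : Subgroup G)))
    rw [Subgroup.card_mul_index, card_G h, hd, mul_assoc]
  rw [e]
  exact hN.mul_left d

theorem isConj_invol {a : G} : orderOf a = 2 ↔ IsConj t a := by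
  refine ⟨fun ha => h.conj t a h.t2 ha, fun ha => ?_⟩
  obtain ⟨c, rfl⟩ := isConj_iff.1 ha
  rw [← MulAut.conj_apply, MulEquiv.orderOf_eq, h.t2]

theorem invol_inU {a : G} (ha : orderOf a = 2) : InU K a := by
  obtain ⟨c, hc⟩ := isConj_iff.1 ((isConj_invol h).1 ha)
  exact ⟨c, t, h.tK, t_ne h, hc⟩

theorem inU_conj {g : G} (hg : InU K g) (c : G) : InU K (c * g * c⁻¹) := by
  obtain ⟨a, y, hy, hy1, rfl⟩ := hg
  exact ⟨c * a, y, hy, hy1, by group⟩

theorem inU_pow {g : G} (hg : InU K g) {i : ℕ} (hi : g ^ i ≠ 1) : InU K (g ^ i) := by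
  obtain ⟨a, y, hy, hy1, rfl⟩ := hg
  exact ⟨a, y ^ i, pow_mem hy i, fun e => hi (by rw [conj_pow, e, mul_one, mul_inv_cancel]),
    (conj_pow).symm⟩

variable [Fintype G]

theorem ecount_K {y : G} (hy : y ∈ K) (hy1 : y ≠ 1) : ecount y = Nat.card K := by
  rw [Nat.subtype_card (p := (· ∈ K)) (Finset.univ.filter (· ∈ K)) (by simp)]
  refine Finset.card_bij' (fun a _ => s * a) (fun x _ => s * x) ?_ ?_ ?_ ?_
  · intro a ha
    simp only [Finset.mem_filter, Finset.mem_univ, true_and] at ha ⊢
    obtain ⟨ha2, hay⟩ := ha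
    have haa : a * a = 1 := by rw [← pow_two, ← ha2]; exact pow_orderOf_eq_one a
    have hb : a * y * (a * y) = 1 := by rw [← pow_two, ← hay]; exact pow_orderOf_eq_one _
    have hflip : a * y * a⁻¹ = y⁻¹ := by
      rw [inv_eq_of_mul_eq_one_right haa]
      exact eq_inv_of_mul_eq_one_left (by simpa [mul_assoc] using hb)
    have haH := conj_mem_imp h hy hy1 (g := a) (by rw [hflip]; exact inv_mem hy)
    refine ((mem_H_iff h).1 haH).resolve_left fun haK => ?_
    rw [invol_K h haK ha2] at hay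
    have := invol_K h (mul_mem h.tK hy) hay
    exact hy1 (by simpa using this)
  · intro x hx
    simp only [Finset.mem_filter, Finset.mem_univ, true_and] at hx ⊢
    refine ⟨(outer h (mul_mem h.sH (h.le hx)) (s_mul_not_mem h hx)).1, ?_⟩
    rw [mul_assoc]
    exact (outer h (mul_mem h.sH (h.le (mul_mem hx hy))) (s_mul_not_mem h (mul_mem hx hy))).1
  · intro a _; rw [← mul_assoc, s_mul h, one_mul]
  · intro a _; rw [← mul_assoc, s_mul h, one_mul]

/-- The sum of a class function over the elements conjugate into `K`. -/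
theorem sum_inU (f : G → ℂ) (hf : ∀ a g : G, f (a * g * a⁻¹) = f g) :
    ∑ g ∈ Finset.univ.filter (InU K), f g = ((centralizer ({t} : Set G)).index : ℂ) *
      ∑ y ∈ Finset.univ.filter (fun y : G => y ∈ K ∧ y ≠ 1), f y := by
  set H := centralizer ({t} : Set G)
  set S : Finset (G × G) := Finset.univ ×ˢ Finset.univ.filter (fun y : G => y ∈ K ∧ y ≠ 1) with hS
  have hmaps : ∀ q ∈ S, q.1 * q.2 * q.1⁻¹ ∈ Finset.univ.filter (InU K) := fun q hq => by
    simp only [hS, Finset.mem_product, Finset.mem_filter, Finset.mem_univ, true_and] at hq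
    exact Finset.mem_filter.2 ⟨Finset.mem_univ _, q.1, q.2, hq.1, hq.2, rfl⟩
  have hfib : ∀ g ∈ Finset.univ.filter (InU K),
      (S.filter fun q => q.1 * q.2 * q.1⁻¹ = g).card = Nat.card H := by
    intro g hg
    obtain ⟨c, y, hy, hy1, rfl⟩ := (Finset.mem_filter.1 hg).2
    rw [Nat.subtype_card (p := (· ∈ H)) (Finset.univ.filter (· ∈ H)) (by simp)]
    refine Finset.card_bij' (fun q _ => c⁻¹ * q.1) (fun a _ => (c * a, a⁻¹ * y * a)) ?_ ?_ ?_ ?_
    · intro q hq
      simp only [hS, Finset.mem_filter, Finset.mem_product, Finset.mem_univ, true_and] at hq ⊢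
      refine conj_mem_imp h hq.1.1 hq.1.2 ?_
      rw [show c⁻¹ * q.1 * q.2 * (c⁻¹ * q.1)⁻¹ = c⁻¹ * (q.1 * q.2 * q.1⁻¹) * c by group, hq.2]
      simpa [mul_assoc] using hy
    · intro a ha
      simp only [Finset.mem_filter, Finset.mem_univ, true_and] at ha
      simp only [hS, Finset.mem_filter, Finset.mem_product, Finset.mem_univ, true_and]
      have haK : a⁻¹ * y * a ∈ K := by
        by_cases haK : a ∈ K
        · exact mul_mem (mul_mem (inv_mem haK) hy) haK
        · have e := (outer h (inv_mem ha) (fun e => haK (by simpa using inv_mem e))).2 y hy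
          rw [inv_inv] at e
          rw [e]; exact inv_mem hy
      exact ⟨⟨haK, fun e => hy1 (by
        calc y = a * (a⁻¹ * y * a) * a⁻¹ := by group
          _ = 1 := by rw [e]; group)⟩, by group⟩
    · intro q hq
      simp only [hS, Finset.mem_filter, Finset.mem_product, Finset.mem_univ, true_and] at hq
      refine Prod.ext (by group) ?_
      calc (c⁻¹ * q.1)⁻¹ * y * (c⁻¹ * q.1) = q.1⁻¹ * (c * y * c⁻¹) * q.1 := by group
        _ = q.2 := by rw [← hq.2]; group
    · intro a _; group
  have h1 : ∑ q ∈ S, f (q.1 * q.2 * q.1⁻¹) = (Nat.card G : ℂ) *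
      ∑ y ∈ Finset.univ.filter (fun y : G => y ∈ K ∧ y ≠ 1), f y := by
    simp only [hf]
    rw [hS, Finset.sum_product]
    dsimp only
    rw [Finset.sum_const, Finset.card_univ, nsmul_eq_mul, Nat.card_eq_fintype_card]
  rw [← Finset.sum_fiberwise_of_maps_to hmaps] at h1
  rw [Finset.sum_congr rfl fun g hg => by
    rw [Finset.sum_congr rfl fun q hq => congrArg f (Finset.mem_filter.1 hq).2, Finset.sum_const,
      hfib g hg, nsmul_eq_mul], ← Finset.mul_sum, ← Subgroup.card_mul_index H, Nat.cast_mul,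
    mul_assoc] at h1
  exact mul_left_cancel₀ (by exact_mod_cast Nat.card_pos.ne') h1

end H65.BSW
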