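import Cfsg.Agent.H65.DihedralVectors
import Mathlib.Tactic.LinearCombination
import Mathlib.Tactic.IntervalCases

/-!
Integer vectors of norm two and three with pairwise inner products one, any number of them.
-/

set_option autoImplicit false

namespace H65

open Finset

variable {ι : Type*}

/-- The configuration of the vectors. -/
theorem BV_split (s : Finset ι) [DecidableEq ι] {m : ℕ} (hm0 : 0 < m) (w : ℕ → ι → ℤ) (h : ι → ℤ)
    (x : ι → ℤ) (hx : ∀ i ∈ s, 0 < x i)
    (hnorm : ∀ j, j < m → ∑ i ∈ s, w j i ^ 2 = 2)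
    (hip : ∀ j k, j < m → k < m → j ≠ k → ∑ i ∈ s, w j i * w k i = 1)
    (hh : ∑ i ∈ s, h i ^ 2 = 3)
    (hwh : ∀ j, j < m → ∑ i ∈ s, w j i * h i = 1)
    (hd : ∀ j, j < m → ∑ i ∈ s, w j i * x i = 1) (hdh : ∑ i ∈ s, h i * x i = 1)
    (hex : m = 2 → ∀ (a i : ι) (b : ℕ → ι) (e : ℤ), (e = 1 ∨ e = -1) → a ∈ s → i ∈ s → b 0 ∈ s →
      b 1 ∈ s → a ≠ b 0 → a ≠ b 1 → b 0 ≠ b 1 → i ≠ a → i ≠ b 0 → i ≠ b 1 →
      (∀ j, j < 2 → w j a = e ∧ w j (b j) = -e ∧ (∀ l ∈ s, l ≠ a → l ≠ b j → w j l = 0) ∧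
        h (b j) = -e ∧ x a = x (b j) + e) →
      h a = 0 → (h i = 1 ∨ h i = -1) → (∀ l ∈ s, l ≠ b 0 → l ≠ b 1 → l ≠ i → h l = 0) →
      -2 * e * x (b 0) + h i * x i = 1 → False) :
    ∃ (a c d : ι) (b : ℕ → ι) (e : ℤ), (e = 1 ∨ e = -1) ∧ a ∈ s ∧ c ∈ s ∧ d ∈ s ∧
      a ≠ c ∧ a ≠ d ∧ c ≠ d ∧
      (∀ j, j < m → b j ∈ s ∧ b j ≠ a ∧ b j ≠ c ∧ b j ≠ d ∧ w j a = e ∧ w j (b j) = -e ∧
        ∀ i ∈ s, i ≠ a → i ≠ b j → w j i = 0) ∧
      (∀ j k, j < m → k < m → b j = b k → j = k) ∧
      h a = e ∧ (h c = 1 ∨ h c = -1) ∧ (h d = 1 ∨ h d = -1) ∧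
      ∀ i ∈ s, i ≠ a → i ≠ c → i ≠ d → h i = 0 := by
  obtain ⟨t, hts, htc, ht1, ht0⟩ := DV_support s h (k := 3) le_rfl (by exact_mod_cast hh)
  have hexP : ∀ j, j < m → ∃ p q, p ∈ s ∧ q ∈ s ∧ p ≠ q ∧ w j p = 1 ∧ w j q = -1 ∧ x p = x q + 1 ∧
      (∀ i ∈ s, i ≠ p → i ≠ q → w j i = 0) ∧ ∀ u : ι → ℤ, ∑ i ∈ s, w j i * u i = u p - u q := by
    intro j hj
    obtain ⟨p, hp, q, hq, r⟩ := DV_pair s (w j) x hx (hnorm j hj) (hd j hj)
    exact ⟨p, q, hp, hq, r⟩
  obtain ⟨i₀, -⟩ := hexP 0 hm0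
  haveI : Nonempty ι := ⟨i₀⟩
  choose! P Q hP hQ hPQ hwP hwQ hxPQ hw0 hwsum using hexP
  have hhval : ∀ i ∈ s, h i = 1 ∨ h i = 0 ∨ h i = -1 := fun i hi => by
    by_cases hit : i ∈ t
    · rcases ht1 i hit with e | e
      · exact Or.inl e
      · exact Or.inr (Or.inr e)
    · exact Or.inr (Or.inl (ht0 i hi hit))
  have hshare : ∀ j k, j < m → k < m → j ≠ k →
      (P j = P k ∧ Q j ≠ Q k) ∨ (P j ≠ P k ∧ Q j = Q k) := by
    intro j k hj hk hjk
    have h1 := hip j k hj hk hjk
    rw [hwsum j hj] at h1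
    by_cases hp : P j = P k
    · refine Or.inl ⟨hp, fun hq => ?_⟩
      rw [hp, hwP k hk, hq, hwQ k hk] at h1
      omega
    · refine Or.inr ⟨hp, by_contra fun hq => ?_⟩
      by_cases hpq : P j = Q k
      · rw [hpq, hwQ k hk] at h1
        by_cases hqp : Q j = P k
        · rw [hqp, hwP k hk] at h1; omega
        · rw [hw0 k hk _ (hQ j hj) hqp hq] at h1; omega
      · rw [hw0 k hk _ (hP j hj) hp hpq] at h1
        by_cases hqp : Q j = P k
        · rw [hqp, hwP k hk] at h1; omega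
        · rw [hw0 k hk _ (hQ j hj) hqp hq] at h1; omega
  -- a common centre
  have hstar : ∃ (a : ι) (b : ℕ → ι) (e : ℤ), (e = 1 ∨ e = -1) ∧ a ∈ s ∧ h a = e ∧
      (∀ j, j < m → b j ∈ s ∧ b j ≠ a ∧ w j a = e ∧ w j (b j) = -e ∧ h (b j) = 0 ∧
        ∀ i ∈ s, i ≠ a → i ≠ b j → w j i = 0) ∧
      ∀ j k, j < m → k < m → b j = b k → j = k := by
    have hh1 : ∀ j, j < m → h (P j) - h (Q j) = 1 := fun j hj => by rw [← hwsum j hj]; exact hwh j hj
    by_cases hm1 : m = 1
    · subst hm1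
      rcases hhval _ (hP 0 hm0) with e | e | e
      · refine ⟨P 0, fun _ => Q 0, 1, Or.inl rfl, hP 0 hm0, e, fun j hj => ?_, fun j k _ _ _ => by omega⟩
        obtain rfl : j = 0 := by omega
        exact ⟨hQ 0 hm0, (hPQ 0 hm0).symm, hwP 0 hm0, hwQ 0 hm0,
          by have := hh1 0 hm0; show h (Q 0) = 0; omega, hw0 0 hm0⟩
      · refine ⟨Q 0, fun _ => P 0, -1, Or.inr rfl, hQ 0 hm0, by have := hh1 0 hm0; omega,
          fun j hj => ?_, fun j k _ _ _ => by omega⟩
        obtain rfl : j = 0 := by omega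
        exact ⟨hP 0 hm0, hPQ 0 hm0, hwQ 0 hm0, by rw [hwP 0 hm0]; norm_num, e,
          fun i hi a b => hw0 0 hm0 i hi b a⟩
      · have := hh1 0 hm0
        rcases hhval _ (hQ 0 hm0) with e' | e' | e' <;> omega
    have h1m : 1 < m := by omega
    -- all share the same entry
    have hall : (∀ j, j < m → P j = P 0) ∨ (∀ j, j < m → Q j = Q 0) := by
      rcases hshare 0 1 hm0 h1m (by omega) with ⟨hp, hq⟩ | ⟨hp, hq⟩
      · refine Or.inl fun j hj => by_contra fun hne => ?_
        have hj0 : j ≠ 0 := fun e => hne (e ▸ rfl)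
        have hj1 : j ≠ 1 := fun e => hne (e ▸ hp.symm)
        have e0 := ((hshare j 0 hj hm0 hj0).resolve_left fun r => hne r.1).2
        have e1 := ((hshare j 1 hj h1m hj1).resolve_left fun r => hne (r.1.trans hp.symm)).2
        exact hq (e0.symm.trans e1)
      · refine Or.inr fun j hj => by_contra fun hne => ?_
        have hj0 : j ≠ 0 := fun e => hne (e ▸ rfl)
        have hj1 : j ≠ 1 := fun e => hne (e ▸ hq.symm)
        have e0 := ((hshare j 0 hj hm0 hj0).resolve_right fun r => hne r.2).1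
        have e1 := ((hshare j 1 hj h1m hj1).resolve_right fun r => hne (r.2.trans hq.symm)).1
        exact hp (e0.symm.trans e1)
    -- a centre where `h` vanishes forces three leaves carrying all of `h`
    have hthree : ∀ (a : ι) (b : ℕ → ι) (e : ℤ), (e = 1 ∨ e = -1) →
        (∀ j k, j < m → k < m → b j = b k → j = k) → a ∈ s → h a = 0 →
        (∀ j, j < m → b j ∈ s ∧ a ≠ b j ∧ w j a = e ∧ w j (b j) = -e ∧
          (∀ l ∈ s, l ≠ a → l ≠ b j → w j l = 0) ∧ h (b j) = -e ∧ x a = x (b j) + e) → False := by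
      intro a b e he hinj ha hha hb
      have hne : ∀ j, j < m → h (b j) ≠ 0 := fun j hj h0 => by
        rw [(hb j hj).2.2.2.2.2.1] at h0
        rcases he with rfl | rfl <;> omega
      have himg : (range m).image b ⊆ t := by
        intro i hi
        obtain ⟨j, hj, rfl⟩ := mem_image.1 hi
        have hj' := mem_range.1 hj
        exact by_contra fun hn => hne j hj' (ht0 _ (hb j hj').1 hn)
      have hcard : ((range m).image b).card = m := by
        rw [card_image_of_injOn (fun j hj k hk e' => hinj j k (mem_range.1 hj) (mem_range.1 hk) e'),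
          card_range]
      have hle : m ≤ 3 := by rw [← hcard, ← htc]; exact card_le_card himg
      rcases (show m = 2 ∨ m = 3 by omega) with hm2 | hm3
      · subst hm2
        obtain ⟨i, hi⟩ : ∃ i, t \ (range 2).image b = {i} := card_eq_one.1 (by
          rw [card_sdiff_of_subset himg, hcard, htc])
        have hit : i ∈ t \ (range 2).image b := by rw [hi]; exact mem_singleton_self i
        obtain ⟨hit1, hit2⟩ := mem_sdiff.1 hit
        have hib : ∀ j, j < 2 → i ≠ b j := fun j hj e' =>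
          hit2 (mem_image.2 ⟨j, mem_range.2 hj, e'.symm⟩)
        have hia : i ≠ a := fun e' => by
          rcases ht1 i hit1 with r | r <;> rw [e', hha] at r <;> omega
        have hb01 : b 0 ≠ b 1 := fun e' => by have := hinj 0 1 (by omega) (by omega) e'; omega
        have ht' : t = {b 0, b 1, i} := by
          rw [← union_sdiff_of_subset himg, hi]
          ext l
          simp [range_add_one]
          tauto
        refine hex rfl a i b e he ha (hts hit1) (hb 0 (by omega)).1 (hb 1 (by omega)).1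
          (hb 0 (by omega)).2.1 (hb 1 (by omega)).2.1 hb01 hia (hib 0 (by omega)) (hib 1 (by omega))
          (fun j hj => (hb j hj).2.2) hha (ht1 i hit1) (fun l hl h0 h1 h2 => ht0 l hl ?_) ?_
        · rw [ht']; simp [h0, h1, h2]
        · rw [← sum_subset hts (fun l hl hni => by rw [ht0 l hl hni, zero_mul]), ht',
            sum_insert (by simp [hb01, (hib 0 (by omega)).symm]), sum_pair (hib 1 (by omega)).symm,
            (hb 0 (by omega)).2.2.2.2.2.1, (hb 1 (by omega)).2.2.2.2.2.1] at hdh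
          have e0 := (hb 0 (by omega)).2.2.2.2.2.2
          have e1 := (hb 1 (by omega)).2.2.2.2.2.2
          rw [show x (b 1) = x (b 0) by omega] at hdh
          linarith
      · have heq : (range m).image b = t := eq_of_subset_of_card_le himg (by omega)
        rw [← sum_subset hts (fun i hi hni => by rw [ht0 i hi hni, zero_mul]), ← heq,
          sum_image (fun j hj k hk e' => hinj j k (mem_range.1 hj) (mem_range.1 hk) e'),
          sum_congr rfl (fun j hj => by rw [(hb j (mem_range.1 hj)).2.2.2.2.2.1,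
            show x (b j) = x a - e by have := (hb j (mem_range.1 hj)).2.2.2.2.2.2; omega]),
          sum_const, card_range, hm3, nsmul_eq_mul] at hdh
        push_cast at hdh
        rcases he with rfl | rfl <;> omega
    rcases hall with hall | hall
    · have hinj : ∀ j k, j < m → k < m → Q j = Q k → j = k := fun j k hj hk e => by_contra fun hne =>
        (hshare j k hj hk hne).elim (fun r => r.2 e) (fun r => r.1 ((hall j hj).trans (hall k hk).symm))
      have hhP : h (P 0) = 1 := by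
        rcases hhval _ (hP 0 hm0) with e | e | e
        · exact e
        · exfalso
          refine hthree (P 0) Q 1 (Or.inl rfl) hinj (hP 0 hm0) e (fun j hj => ⟨hQ j hj,
            hall j hj ▸ hPQ j hj, hall j hj ▸ hwP j hj, hwQ j hj,
            fun l hl r1 r2 => hw0 j hj l hl (hall j hj ▸ r1) r2, ?_, ?_⟩)
          · have := hh1 j hj; rw [hall j hj] at this; omega
          · have := hxPQ j hj; rw [hall j hj] at this; omega
        · have := hh1 0 hm0; rcases hhval _ (hQ 0 hm0) with e' | e' | e' <;> omega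
      refine ⟨P 0, Q, 1, Or.inl rfl, hP 0 hm0, hhP, fun j hj => ⟨hQ j hj,
        fun e => hPQ j hj ((hall j hj).trans e.symm), hall j hj ▸ hwP j hj, hwQ j hj,
        ?_, fun i hi a b => hw0 j hj i hi (hall j hj ▸ a) b⟩, hinj⟩
      have := hh1 j hj; rw [hall j hj] at this; omega
    · have hinj : ∀ j k, j < m → k < m → P j = P k → j = k := fun j k hj hk e => by_contra fun hne =>
        (hshare j k hj hk hne).elim (fun r => r.2 ((hall j hj).trans (hall k hk).symm)) (fun r => r.1 e)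
      have hhQ : h (Q 0) = -1 := by
        rcases hhval _ (hQ 0 hm0) with e | e | e
        · have := hh1 0 hm0; rcases hhval _ (hP 0 hm0) with e' | e' | e' <;> omega
        · exfalso
          refine hthree (Q 0) P (-1) (Or.inr rfl) hinj (hQ 0 hm0) e (fun j hj => ⟨hP j hj,
            hall j hj ▸ (hPQ j hj).symm, hall j hj ▸ hwQ j hj, by rw [hwP j hj]; norm_num,
            fun l hl r1 r2 => hw0 j hj l hl r2 (hall j hj ▸ r1), ?_, ?_⟩)
          · have := hh1 j hj; rw [hall j hj] at this; omega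
          · have := hxPQ j hj; rw [hall j hj] at this; omega
        · exact e
      refine ⟨Q 0, P, -1, Or.inr rfl, hQ 0 hm0, hhQ, fun j hj => ⟨hP j hj,
        fun e => hPQ j hj (e.trans (hall j hj).symm), hall j hj ▸ hwQ j hj, by rw [hwP j hj]; norm_num,
        ?_, fun i hi a b => hw0 j hj i hi b (hall j hj ▸ a)⟩, hinj⟩
      have := hh1 j hj; rw [hall j hj] at this; omega
  obtain ⟨a, b, e, he, ha, hha, hb, hinj⟩ := hstar
  have hat : a ∈ t := by_contra fun hn => by
    rw [ht0 a ha hn] at hha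
    rcases he with rfl | rfl <;> simp at hha
  obtain ⟨c, d, hcd, hte⟩ := card_eq_two.1 (by rw [card_erase_of_mem hat, htc] : (t.erase a).card = 2)
  have hc : c ∈ t.erase a := by rw [hte]; exact mem_insert_self c _
  have hd' : d ∈ t.erase a := by rw [hte]; exact mem_insert_of_mem (mem_singleton_self d)
  have hne : ∀ j, j < m → ∀ i ∈ t, b j ≠ i := fun j hj i hi e' => by
    have h0 := (hb j hj).2.2.2.2.1
    rw [e'] at h0
    rcases ht1 i hi with r | r <;> rw [r] at h0 <;> simp at h0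
  refine ⟨a, c, d, b, e, he, ha, hts (mem_of_mem_erase hc), hts (mem_of_mem_erase hd'),
    (mem_erase.1 hc).1.symm, (mem_erase.1 hd').1.symm, hcd, fun j hj => ?_, hinj, hha,
    ht1 c (mem_of_mem_erase hc), ht1 d (mem_of_mem_erase hd'), fun i hi h1 h2 h3 => ?_⟩
  · obtain ⟨r1, r2, r3, r4, -, r6⟩ := hb j hj
    exact ⟨r1, r2, hne j hj c (mem_of_mem_erase hc), hne j hj d (mem_of_mem_erase hd'), r3, r4, r6⟩
  · refine ht0 i hi fun hit => ?_
    have : i ∈ t.erase a := mem_erase.2 ⟨h1, hit⟩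
    rw [hte, mem_insert, mem_singleton] at this
    exact this.elim h2 h3


theorem BV_small {N x y z : ℤ} (hN : 0 < N) (hx : Odd x) (hy : Odd y) (hz : Odd z)
    (hsum : x + y + z = -1) (heq : N * (x * y * z + x * y + y * z + z * x) = 8 * (x * y * z))
    (hdeg : 1 + x ^ 2 + y ^ 2 + z ^ 2 ≤ 4 * N) (hxy : 0 < x * y) : N ≤ 17 := by
  have hzy : z = -1 - x - y := by omega
  subst hzy
  have hx0 : x ≠ 0 := fun e => by rw [e] at hx; simp at hx
  rcases lt_or_gt_of_ne hx0 with hneg | hpos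
  · have hy0 : y < 0 := by nlinarith
    obtain ⟨a, rfl⟩ : ∃ a, x = -a := ⟨-x, by ring⟩
    obtain ⟨b, rfl⟩ : ∃ b, y = -b := ⟨-y, by ring⟩
    have e : N * ((a - 1) * (b - 1) * (a + b)) = 8 * (a * b * (a + b - 1)) := by linear_combination heq
    obtain ⟨a', ha'⟩ := hx
    obtain ⟨b', hb'⟩ := hy
    have ha : a ≠ 1 := fun r => by subst r; nlinarith [mul_pos (show (0:ℤ) < b by omega) (show (0:ℤ) < b by omega)]
    have hb : b ≠ 1 := fun r => by subst r; nlinarith [mul_pos (show (0:ℤ) < a by omega) (show (0:ℤ) < a by omega)]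
    have ha3 : 3 ≤ a := by omega
    have hb3 : 3 ≤ b := by omega
    have h1 : 4 * (a * b) ≤ 9 * ((a - 1) * (b - 1)) := by
      nlinarith [mul_nonneg (show (0:ℤ) ≤ a - 3 by omega) (show (0:ℤ) ≤ b - 3 by omega)]
    have hab : 0 < a * b * (a + b) := mul_pos (mul_pos (by omega) (by omega)) (by omega)
    have h2 : N * (4 * (a * b * (a + b))) ≤ 9 * (N * ((a - 1) * (b - 1) * (a + b))) := by
      nlinarith [mul_nonneg (mul_nonneg hN.le (show (0:ℤ) ≤ a + b by omega)) (sub_nonneg.2 h1)]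
    rw [e] at h2
    by_contra hlt
    nlinarith [mul_le_mul_of_nonneg_right (show (18:ℤ) ≤ N by omega) hab.le, mul_pos (show (0:ℤ) < a by omega) (show (0:ℤ) < b by omega)]
  · have hy0 : 0 < y := by nlinarith
    have e : N * ((1 + x) * (1 + y) * (x + y)) = 8 * (x * y * (x + y + 1)) := by linear_combination -heq
    have h1 : x * y * (x + y + 1) ≤ (1 + x) * (1 + y) * (x + y) := by nlinarith
    have hp : 0 < x * y * (x + y + 1) := mul_pos hxy (by omega)
    by_contra hlt
    nlinarith [mul_le_mul_of_nonneg_left h1 hN.le, mul_le_mul_of_nonneg_right (show (18:ℤ) ≤ N by omega) hp.le]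

/-- Three odd signed degrees in the smallest case: two of them are equal. -/
theorem BV_two_equal {N x y z : ℤ} (hN : 0 < N) (hN2 : Odd N) (hx : Odd x) (hy : Odd y) (hz : Odd z)
    (hsum : x + y + z = -1) (heq : N * (x * y * z + x * y + y * z + z * x) = 8 * (x * y * z))
    (hdeg : 1 + x ^ 2 + y ^ 2 + z ^ 2 ≤ 4 * N) : x = y ∨ y = z ∨ x = z := by
  have h0 : ∀ {u : ℤ}, Odd u → u ≠ 0 := fun {u} hu e => by rw [e] at hu; simp at hu
  have hle : N ≤ 17 := by
    rcases lt_or_gt_of_ne (mul_ne_zero (h0 hx) (h0 hy)) with h1 | h1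
    · rcases lt_or_gt_of_ne (mul_ne_zero (h0 hy) (h0 hz)) with h2 | h2
      · have h3 : 0 < x * z := by
          have := mul_pos_of_neg_of_neg h1 h2
          nlinarith [mul_pos (show 0 < y * y from mul_self_pos.2 (h0 hy)) (show (0:ℤ) < 1 by norm_num)]
        exact BV_small (x := x) (y := z) (z := y) hN hx hz hy (by linarith) (by linear_combination heq)
          (by linarith) h3
      · exact BV_small (x := y) (y := z) (z := x) hN hy hz hx (by linarith) (by linear_combination heq)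
          (by linarith) h2
    · exact BV_small hN hx hy hz hsum heq hdeg h1
  have hx8 : -9 < x ∧ x < 9 := ⟨by nlinarith [sq_nonneg y, sq_nonneg z], by nlinarith [sq_nonneg y, sq_nonneg z]⟩
  have hy8 : -9 < y ∧ y < 9 := ⟨by nlinarith [sq_nonneg x, sq_nonneg z], by nlinarith [sq_nonneg x, sq_nonneg z]⟩
  obtain ⟨i, rfl⟩ := hx
  obtain ⟨j, rfl⟩ := hy
  obtain ⟨l, hl⟩ := hN2
  obtain rfl : z = -1 - (2 * i + 1) - (2 * j + 1) := by linarith
  obtain ⟨hi1, hi2⟩ := hx8
  obtain ⟨hj1, hj2⟩ := hy8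
  have hi1' : -4 ≤ i := by omega
  have hi2' : i ≤ 3 := by omega
  have hj1' : -4 ≤ j := by omega
  have hj2' : j ≤ 3 := by omega
  interval_cases i <;> interval_cases j <;> omega

end H65
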