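import Cfsg.Agent.H22.SectionOrth
import Cfsg.Agent.H5.Frobenius

/-!
Class functions summed over the cosets of a normal `2`-complement, and the principal block part of
a class function on a `2`-section whose centralizer has a normal `2`-complement.
-/

set_option autoImplicit false
set_option linter.unusedSectionVars false

namespace H65

open Subgroup Cfsg
open scoped Classical ComplexConjugate

universe u

section Fibre

variable {C : Type u} [Group C] [Fintype C] (hC : HasNormalPComplement 2 C) (P : Sylow 2 C)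
include hC

theorem DF_odd_iff (z : C) : z ∈ pResidual 2 C ↔ Odd (orderOf z) := by
  haveI : Fact (Nat.Prime 2) := ⟨Nat.prime_two⟩
  rw [H5.mem_pResidual_iff hC, Nat.coprime_two_right]

theorem DF_inj {x y : C} (hx : x ∈ (P : Subgroup C)) (hy : y ∈ (P : Subgroup C))
    (h : x * y⁻¹ ∈ pResidual 2 C) : x = y := by
  haveI : Fact (Nat.Prime 2) := ⟨Nat.prime_two⟩
  have h1 : x * y⁻¹ ∈ (pResidual 2 C ⊓ (P : Subgroup C) : Subgroup C) :=
    ⟨h, (P : Subgroup C).mul_mem hx ((P : Subgroup C).inv_mem hy)⟩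
  rw [(H5.pResidual_isComplement' hC P).disjoint.eq_bot, mem_bot] at h1
  exact mul_inv_eq_one.1 h1

/-- A `2`-element congruent to an element of the Sylow subgroup is conjugate to it by an element
of the complement. -/
theorem DF_conj {a y : C} (ha : ∃ k, a ^ 2 ^ k = 1) (hy : y ∈ (P : Subgroup C))
    (h : a * y⁻¹ ∈ pResidual 2 C) : ∃ k ∈ pResidual 2 C, a = k * y * k⁻¹ := by
  haveI : Fact (Nat.Prime 2) := ⟨Nat.prime_two⟩
  set K := pResidual 2 C with hK
  obtain ⟨n, hn⟩ := ha
  obtain ⟨i, -, hi⟩ := (Nat.dvd_prime_pow Nat.prime_two).1 (orderOf_dvd_of_pow_eq_one hn)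
  obtain ⟨Q, hQ⟩ :=
    (IsPGroup.of_card (p := 2) (n := i) (by rw [Nat.card_zpowers, hi]) :
      IsPGroup 2 (zpowers a)).exists_le_sylow
  obtain ⟨c, hc⟩ := MulAction.exists_smul_eq C P Q
  have h1 := hQ (mem_zpowers a)
  rw [← hc] at h1
  obtain ⟨x, hx, hxa⟩ := h1
  replace hxa : c * x * c⁻¹ = a := hxa
  obtain ⟨⟨⟨m, hm⟩, ⟨q, hq⟩⟩, hmq⟩ := (H5.pResidual_isComplement' hC P).2 c
  replace hmq : m * q = c := hmq
  set x' := q * x * q⁻¹ with hx'
  have hx'P : x' ∈ (P : Subgroup C) :=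
    (P : Subgroup C).mul_mem ((P : Subgroup C).mul_mem hq hx) ((P : Subgroup C).inv_mem hq)
  have ha' : a = m * x' * m⁻¹ := by rw [← hxa, ← hmq, hx']; group
  refine ⟨m, hm, ?_⟩
  rw [ha', DF_inj hC P hx'P hy]
  have h2 : x' * (a)⁻¹ ∈ K := by
    have e : x' * a⁻¹ = (x' * m * x'⁻¹) * m⁻¹ := by rw [ha']; group
    rw [e]
    exact mul_mem (Normal.conj_mem inferInstance m hm x') (inv_mem hm)
  simpa [mul_assoc] using mul_mem h2 h

/-- Every element of the coset of `y` is conjugate to a product of `y` and a commuting element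
of the complement. -/
theorem DF_surj {x y : C} (hy : y ∈ (P : Subgroup C)) (h : x * y⁻¹ ∈ pResidual 2 C) :
    ∃ k ∈ pResidual 2 C, ∃ z ∈ pResidual 2 C, Commute z y ∧ x = k * (y * z) * k⁻¹ := by
  haveI : Fact (Nat.Prime 2) := ⟨Nat.prime_two⟩
  obtain ⟨a, b, hxab, ha, hb, hax, hbx⟩ := H5.exists_p_decomposition (p := 2) x
  have hbK : b ∈ pResidual 2 C := H5.mem_pResidual_of_coprime hb
  have hab : Commute a b := by
    obtain ⟨i, hi⟩ := mem_zpowers_iff.1 hax
    obtain ⟨j, hj⟩ := mem_zpowers_iff.1 hbx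
    rw [← hi, ← hj]
    exact Commute.zpow_zpow_self x i j
  subst hxab
  have hay : a * y⁻¹ ∈ pResidual 2 C := by
    have e : a * y⁻¹ = b⁻¹ * (a * b * y⁻¹) := by rw [hab.eq]; group
    rw [e]
    exact mul_mem (inv_mem hbK) h
  obtain ⟨k, hk, rfl⟩ := DF_conj hC P ha hy hay
  refine ⟨k, hk, k⁻¹ * b * k, mul_mem (mul_mem (inv_mem hk) hbK) hk, ?_, by group⟩
  show k⁻¹ * b * k * y = y * (k⁻¹ * b * k)
  calc k⁻¹ * b * k * y = k⁻¹ * (b * (k * y * k⁻¹)) * k := by group
    _ = k⁻¹ * ((k * y * k⁻¹) * b) * k := by rw [hab.eq]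
    _ = y * (k⁻¹ * b * k) := by group

theorem DF_uniq {y z z' k k' : C} (hy : y ∈ (P : Subgroup C)) (hz : z ∈ pResidual 2 C)
    (hz' : z' ∈ pResidual 2 C) (hzy : Commute z y) (hzy' : Commute z' y)
    (h : k * (y * z) * k⁻¹ = k' * (y * z') * k'⁻¹) :
    Commute (k⁻¹ * k') y ∧ z' = (k⁻¹ * k')⁻¹ * z * (k⁻¹ * k') := by
  haveI : Fact (Nat.Prime 2) := ⟨Nat.prime_two⟩
  set g := k⁻¹ * k' with hg
  have hg' : y * z = g * (y * z') * g⁻¹ := by
    calc y * z = k⁻¹ * (k * (y * z) * k⁻¹) * k := by group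
      _ = g * (y * z') * g⁻¹ := by rw [h, hg]; group
  obtain ⟨i, hi⟩ := P.isPGroup' ⟨y, hy⟩
  replace hi : y ^ 2 ^ i = 1 := congrArg Subtype.val hi
  set r := orderOf z * orderOf z' with hr
  have hrodd : Odd r := ((DF_odd_iff hC z).1 hz).mul ((DF_odd_iff hC z').1 hz')
  obtain ⟨s, -, hs⟩ : ∃ s ≤ i, orderOf y = 2 ^ s :=
    (Nat.dvd_prime_pow Nat.prime_two).1 (orderOf_dvd_of_pow_eq_one hi)
  have hpz : z ^ r = 1 := orderOf_dvd_iff_pow_eq_one.1 (dvd_mul_right _ _)
  have hpz' : z' ^ r = 1 := orderOf_dvd_iff_pow_eq_one.1 (dvd_mul_left _ _)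
  have h1 : (y * z) ^ r = g * (y * z') ^ r * g⁻¹ := by rw [hg', conj_pow]
  rw [hzy.symm.mul_pow, hzy'.symm.mul_pow, hpz, hpz', mul_one] at h1
  have hgy : Commute g (y ^ r) := by
    show g * y ^ r = y ^ r * g
    nth_rewrite 2 [h1]
    group
  have hyr : y ∈ zpowers (y ^ r) := by
    have hcop : Nat.Coprime r (orderOf y) := by
      rw [hs]; exact (hrodd.coprime_two_right).pow_right s
    refine ⟨Nat.gcdA r (orderOf y), ?_⟩
    show (y ^ r) ^ _ = y
    conv_rhs => rw [← zpow_one y, show (1 : ℤ) = ((Nat.gcd r (orderOf y) : ℕ) : ℤ) by rw [hcop]; rfl,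
      Nat.gcd_eq_gcd_ab, zpow_add, zpow_mul, zpow_mul, zpow_natCast, zpow_natCast,
      pow_orderOf_eq_one, one_zpow, mul_one]
  have hgy' : Commute g y := by
    obtain ⟨j, hj⟩ := mem_zpowers_iff.1 hyr
    rw [← hj]
    exact hgy.zpow_right j
  refine ⟨hgy', ?_⟩
  calc z' = g⁻¹ * (y⁻¹ * (g * (y * z') * g⁻¹)) * g := by
        rw [show g * (y * z') * g⁻¹ = y * (g * z' * g⁻¹) by
          rw [← mul_assoc g, hgy'.eq]; group]
        group
    _ = g⁻¹ * z * g := by rw [← hg']; group

/-- The sum of a class function over a coset of the complement. -/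
theorem DF_fibre {y : C} (hy : y ∈ (P : Subgroup C)) (F : C → ℂ) (hF : IsClassFunction C F) :
    ((Finset.univ.filter fun z : C => z ∈ pResidual 2 C ∧ Commute z y).card : ℂ) *
        ∑ x ∈ Finset.univ.filter (fun x : C => x * y⁻¹ ∈ pResidual 2 C), F x =
      (Nat.card (pResidual 2 C) : ℂ) *
        ∑ z ∈ Finset.univ.filter (fun z : C => z ∈ pResidual 2 C ∧ Commute z y), F (y * z) := by
  haveI : Fact (Nat.Prime 2) := ⟨Nat.prime_two⟩
  set K := pResidual 2 C with hK
  set Z := Finset.univ.filter fun z : C => z ∈ K ∧ Commute z y with hZ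
  set T := Finset.univ.filter fun x : C => x * y⁻¹ ∈ K with hT
  set S : Finset (C × C) := (Finset.univ.filter (· ∈ K)) ×ˢ Z with hS
  have hmaps : ∀ q ∈ S, q.1 * (y * q.2) * q.1⁻¹ ∈ T := by
    intro q hq
    simp only [hS, hZ, Finset.mem_product, Finset.mem_filter, Finset.mem_univ, true_and] at hq
    refine Finset.mem_filter.2 ⟨Finset.mem_univ _, ?_⟩
    have e : q.1 * (y * q.2) * q.1⁻¹ * y⁻¹ = q.1 * (y * (q.2 * q.1⁻¹) * y⁻¹) := by group
    rw [e]
    exact mul_mem hq.1 (Normal.conj_mem inferInstance _ (mul_mem hq.2.1 (inv_mem hq.1)) y)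
  have hfib : ∀ x ∈ T, (S.filter fun q => q.1 * (y * q.2) * q.1⁻¹ = x).card = Z.card := by
    intro x hx
    obtain ⟨k, hk, z, hz, hzy, rfl⟩ := DF_surj hC P hy (Finset.mem_filter.1 hx).2
    refine Finset.card_bij' (fun q _ => k⁻¹ * q.1) (fun g _ => (k * g, g⁻¹ * z * g)) ?_ ?_ ?_ ?_
    · intro q hq
      simp only [hS, hZ, Finset.mem_filter, Finset.mem_product, Finset.mem_univ, true_and] at hq ⊢
      exact ⟨mul_mem (inv_mem hk) hq.1.1,
        (DF_uniq hC P hy hz hq.1.2.1 hzy hq.1.2.2 hq.2.symm).1⟩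
    · intro g hg
      simp only [hS, hZ, Finset.mem_filter, Finset.mem_product, Finset.mem_univ, true_and] at hg ⊢
      refine ⟨⟨mul_mem hk hg.1, mul_mem (mul_mem (inv_mem hg.1) hz) hg.1,
        ((hg.2.inv_left).mul_left hzy).mul_left hg.2⟩, ?_⟩
      calc k * g * (y * (g⁻¹ * z * g)) * (k * g)⁻¹ = k * (g * y * g⁻¹) * z * k⁻¹ := by group
        _ = k * (y * z) * k⁻¹ := by rw [hg.2.eq]; group
    · intro q hq
      simp only [hS, hZ, Finset.mem_filter, Finset.mem_product, Finset.mem_univ, true_and] at hq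
      exact Prod.ext (by group) (DF_uniq hC P hy hz hq.1.2.1 hzy hq.1.2.2 hq.2.symm).2.symm
    · intro g _; group
  have h1 : ∑ q ∈ S, F (y * q.2) = (Nat.card K : ℂ) * ∑ z ∈ Z, F (y * z) := by
    rw [hS, Finset.sum_product]
    dsimp only
    rw [Finset.sum_const, nsmul_eq_mul,
      Nat.subtype_card (p := (· ∈ K)) (Finset.univ.filter (· ∈ K)) (by simp)]
  rw [← h1, ← Finset.sum_fiberwise_of_maps_to hmaps, Finset.mul_sum]
  refine Finset.sum_congr rfl fun x hx => ?_
  rw [Finset.sum_congr rfl fun q hq => show F (y * q.2) = F x by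
    rw [← (Finset.mem_filter.1 hq).2]; exact (hF _ _).symm, Finset.sum_const, hfib x hx,
    nsmul_eq_mul]

end Fibre

section Section

variable {G : Type u} [Group G] [Fintype G] {M : Ideal AlgInt} [M.IsPrime]

/-- The principal block part at a `2`-element whose centralizer has a normal `2`-complement. -/
theorem DF_section (hM : IsPModular 2 M) {Φ : G → ℂ} (hΦ : IsClassFunction G Φ) {x : G}
    (hx : ∃ k : ℕ, orderOf x = 2 ^ k) (hC : HasNormalPComplement 2 (centralizer ({x} : Set G))) :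
    ((Finset.univ.filter fun g : G => Commute g x ∧ Odd (orderOf g)).card : ℂ) *
        blockPart (principalBlock M G) Φ x =
      ∑ g ∈ Finset.univ.filter (fun g : G => Commute g x ∧ Odd (orderOf g)), Φ (x * g) := by
  haveI : Fact (Nat.Prime 2) := ⟨Nat.prime_two⟩
  set C : Subgroup G := centralizer ({x} : Set G) with hCdef
  haveI : Fintype C := Fintype.ofFinite _
  set K := pResidual 2 ↥C with hK
  have hKodd := H5.hasNormalPComplement_iff_not_dvd.1 hC
  have hKmem : ∀ w : C, w ∈ K ↔ ¬ 2 ∣ orderOf w := fun w => by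
    rw [hK, DF_odd_iff hC, Nat.odd_iff, Nat.dvd_iff_mod_eq_zero]
    omega
  obtain ⟨j, hj⟩ := H5.exists_index_pResidual_eq (G := ↥C) (p := 2)
  have hv : (Nat.card C).factorization 2 = j := by
    rw [← K.card_mul_index, hK, hj, Nat.factorization_mul Nat.card_pos.ne' (pow_ne_zero _ two_ne_zero)]
    simp [-Nat.card_eq_fintype_card, Nat.factorization_eq_zero_of_not_dvd hKodd,
      Nat.prime_two.factorization_pow]
  have hright : blockPart (principalBlock M G) Φ x =
      (Nat.card C : ℂ)⁻¹ * (2 : ℂ) ^ j *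
        ∑ w ∈ Finset.univ.filter (· ∈ K), Φ (x * ((w : C) : G)) := by
    haveI : Fintype {b : Set (IrrCharacter G) // IsPBlock M b} := Fintype.ofFinite _
    haveI : Fintype {b : Set (IrrCharacter C) // IsPBlock M b} := Fintype.ofFinite _
    have hΦC := H20.isClassFunction_shift hΦ x
    have hbC : IsPBlock M (principalBlock M C) := H20.isPBlock_principalBlock
    have h1 : blockPart (principalBlock M G) Φ x =
        blockPart (principalBlock M C) (H22.Sub.shiftMap x Φ) 1 := by
      have hsplit := congrFun (H22.Sub.sum_blockPart (M := M)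
        (f := H22.Sub.shiftMap x (blockPart (principalBlock M G) Φ))
        (H20.isClassFunction_shift (H20.isClassFunction_blockPart _ Φ) x)) 1
      rw [show blockPart (principalBlock M G) Φ x =
        H22.Sub.shiftMap x (blockPart (principalBlock M G) Φ) (1 : C) by
          show _ = blockPart (principalBlock M G) Φ (x * ((1 : C) : G)); simp, ← hsplit,
        Finset.sum_apply,
        Finset.sum_eq_single (⟨_, hbC⟩ : {b : Set (IrrCharacter C) // IsPBlock M b})]
      · conv_rhs => rw [← H22.Sub.sum_blockPart (M := M) hΦ, map_sum, ← H22.Sub.partMap_apply,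
          map_sum, Finset.sum_apply]
        rw [Finset.sum_eq_single (⟨_, H20.isPBlock_principalBlock⟩ :
          {b : Set (IrrCharacter G) // IsPBlock M b})]
        · rfl
        · intro B' _ hne
          refine H22.Sub.second_main_span hM B'.2 (H22.Sub.blockPart_mem_irrSpan B'.1 Φ) hx hbC
            (fun h => hne ?_) 1 (by simp)
          exact Subtype.ext (H20.inducedBlock_unique C h
            ((H22.Sub.induces_principal_iff hM hx _).2 rfl))
        · simp
      · intro b _ hne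
        refine H22.Sub.second_main_span hM H20.isPBlock_principalBlock
          (H22.Sub.blockPart_mem_irrSpan _ Φ) hx b.2 (fun h => hne ?_) 1 (by simp)
        exact Subtype.ext ((H22.Sub.induces_principal_iff hM hx _).1 h)
      · simp
    rw [h1, H22.Sub.blockPart_congr hM hbC
      (f' := fun w : C => if w ∈ K then Φ (x * (w : G)) else 0)
      (fun w hw => by rw [if_pos ((hKmem w).2 hw)]; rfl) (by simp),
      H22.Sub.blockPart_eq_smul_sum, Finset.sum_apply]
    simp only [Pi.smul_apply, smul_eq_mul, H12.classInner_def, ite_mul, zero_mul,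
      ← Finset.sum_filter]
    have hterm : ∀ ψ ∈ H22.blockFinset (principalBlock M C),
        (Nat.card C : ℂ)⁻¹ * (∑ w ∈ Finset.univ.filter (· ∈ K),
          Φ (x * ((w : C) : G)) * conj ((ψ : C → ℂ) w)) * (ψ : C → ℂ) 1 =
        (Nat.card C : ℂ)⁻¹ * (∑ w ∈ Finset.univ.filter (· ∈ K), Φ (x * ((w : C) : G))) *
          ((ψ : C → ℂ) 1 * conj ((ψ : C → ℂ) 1)) := by
      intro ψ hψ
      rw [Finset.sum_congr rfl fun w hw => by
        rw [H22.Sub.apply_regular_of_complement hM hC (H22.mem_blockFinset.1 hψ)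
          ((hKmem w).1 (Finset.mem_filter.1 hw).2)], ← Finset.sum_mul]
      ring
    rw [Finset.sum_congr rfl hterm, ← Finset.mul_sum,
      H22.Sub.sum_principal_of_complement hM hC (by simp) (by simp), hv, Nat.cast_ofNat]
    ring
  have hbij : ∑ w ∈ Finset.univ.filter (· ∈ K), Φ (x * ((w : C) : G)) =
      ∑ g ∈ Finset.univ.filter (fun g : G => Commute g x ∧ Odd (orderOf g)), Φ (x * g) := by
    refine Finset.sum_bij' (fun w _ => (w : G))
      (fun g hg => (⟨g, mem_centralizer_singleton_iff.2 (Finset.mem_filter.1 hg).2.1⟩ : C)) ?_ ?_ ?_ ?_ ?_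
    · intro w hw
      refine Finset.mem_filter.2 ⟨Finset.mem_univ _, mem_centralizer_singleton_iff.1 w.2, ?_⟩
      rw [Subgroup.orderOf_coe]
      exact (DF_odd_iff hC w).1 (Finset.mem_filter.1 hw).2
    · intro g hg
      refine Finset.mem_filter.2 ⟨Finset.mem_univ _, (DF_odd_iff hC _).2 ?_⟩
      rw [Subgroup.orderOf_mk]
      exact (Finset.mem_filter.1 hg).2.2
    · intro w _; rfl
    · intro g _; rfl
    · intro w _; rfl
  have hcard : (Finset.univ.filter fun g : G => Commute g x ∧ Odd (orderOf g)).card = Nat.card K := by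
    rw [Nat.subtype_card (p := (· ∈ K)) (Finset.univ.filter (· ∈ K)) (by simp)]
    refine (Finset.card_bij' (fun w _ => ((w : C) : G))
      (fun g hg => (⟨g, mem_centralizer_singleton_iff.2 (Finset.mem_filter.1 hg).2.1⟩ : C)) ?_ ?_ ?_ ?_).symm
    · intro w hw
      refine Finset.mem_filter.2 ⟨Finset.mem_univ _, mem_centralizer_singleton_iff.1 w.2, ?_⟩
      rw [Subgroup.orderOf_coe]
      exact (DF_odd_iff hC w).1 (Finset.mem_filter.1 hw).2
    · intro g hg
      refine Finset.mem_filter.2 ⟨Finset.mem_univ _, (DF_odd_iff hC _).2 ?_⟩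
      rw [Subgroup.orderOf_mk]
      exact (Finset.mem_filter.1 hg).2.2
    · intro w _; rfl
    · intro g _; rfl
  have hKI : (Nat.card K : ℂ) * (2 : ℂ) ^ j = (Nat.card C : ℂ) := by
    rw [← K.card_mul_index, hK, hj]; push_cast; rfl
  rw [hright, hcard, ← hbij, ← hKI]
  have h0 : (Nat.card K : ℂ) ≠ 0 := by exact_mod_cast Nat.card_pos.ne'
  field_simp

end Section

end H65
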