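import Cfsg.Agent.H65.DihedralBlock
import Cfsg.Agent.H65.DihedralFibre
import Cfsg.Agent.H20.Orth

/-!
# The order formula for dihedral Sylow `2`-subgroups and one class of involutions

The structure constant of the class of involutions is summed over the cosets of the complement of
the centralizer of the central involution `J` lying over `J` and over `σ`.
-/

set_option autoImplicit false
set_option linter.unusedSectionVars false

namespace H65

open Subgroup Cfsg H68
open scoped Classical ComplexConjugate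

universe u

variable {G : Type u} [Group G] [Fintype G]

/-- The number of factorisations into two conjugates of `J`, with multiplicities. -/
noncomputable def doPhi (J : G) : G → ℂ := fun u => ∑ g : G, ∑ h : G,
  if g * J * g⁻¹ * (h * J * h⁻¹) = u then (1 : ℂ) else 0

theorem DO_phi_class (J : G) : IsClassFunction G (doPhi J) := by
  intro w c
  simp only [doPhi]
  refine (Fintype.sum_equiv (Equiv.mulLeft c) _ _ fun g => ?_).symm
  refine Fintype.sum_equiv (Equiv.mulLeft c) _ _ fun h => ?_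
  simp only [Equiv.coe_mulLeft]
  refine if_congr ⟨fun e => ?_, fun e => ?_⟩ rfl rfl
  · rw [← e]; group
  · calc g * J * g⁻¹ * (h * J * h⁻¹)
        = c⁻¹ * (c * g * J * (c * g)⁻¹ * (c * h * J * (c * h)⁻¹)) * c := by group
      _ = w := by rw [e]; group

theorem DO_phi_block {J : G} (hJ : J⁻¹ = J) (B : Set (IrrCharacter G)) (x : G) :
    blockPart B (doPhi J) x = (Nat.card G : ℂ) *
      ∑ χ ∈ H22.blockFinset B,
        (χ : G → ℂ) J * (χ : G → ℂ) J * (χ : G → ℂ) x / (χ : G → ℂ) 1 := by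
  rw [H22.Sub.blockPart_eq_smul_sum, Finset.sum_apply, Finset.mul_sum]
  refine Finset.sum_congr rfl fun χ _ => ?_
  rw [Pi.smul_apply, smul_eq_mul]
  have hcoef : classInner (doPhi J) (χ : G → ℂ) =
      (Nat.card G : ℂ) * (conj ((χ : G → ℂ) J) * conj ((χ : G → ℂ) J) / (χ : G → ℂ) 1) := by
    rw [H12.classInner_def]
    simp only [doPhi, Finset.sum_mul, ite_mul, one_mul, zero_mul]
    rw [Finset.sum_comm, Finset.sum_congr rfl fun g _ => Finset.sum_comm]
    simp only [Finset.sum_ite_eq, Finset.mem_univ, if_true]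
    rw [Finset.sum_comm]
    have h1 : ∀ h : G, ∑ g : G, conj ((χ : G → ℂ) (g * J * g⁻¹ * (h * J * h⁻¹))) =
        (Nat.card G : ℂ) * (conj ((χ : G → ℂ) J) * conj ((χ : G → ℂ) J) / (χ : G → ℂ) 1) := by
      intro h
      rw [← map_sum, H20.sum_irr_conj_mul, H12.irr_isClassFunction χ J h, map_mul, map_div₀,
        map_mul, Complex.conj_natCast, H22.irr_one_eq_charDegree, Complex.conj_natCast]
    rw [Finset.sum_congr rfl fun h _ => h1 h, Finset.sum_const, Finset.card_univ, nsmul_eq_mul,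
      ← Nat.card_eq_fintype_card, inv_mul_cancel_left₀ (H12.card_ne_zero' (G := G))]
  rw [hcoef, ← H12.irr_inv, hJ]
  ring

/-- The involutions `b` of the centralizer of `J` in the coset of `y`. -/
noncomputable def doFib {C : Type u} [Group C] [Fintype C] (y : C) : Finset C :=
  Finset.univ.filter fun b => orderOf b = 2 ∧ b * y⁻¹ ∈ pResidual 2 C

section Fib

variable {C : Type u} [Group C] [Fintype C] (hC : HasNormalPComplement 2 C) (Q : Sylow 2 C)
include hC

theorem DO_fib_card {y : C} (hy : y ∈ (Q : Subgroup C)) (hy2 : orderOf y = 2) :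
    ((Finset.univ.filter fun z : C => z ∈ pResidual 2 C ∧ Commute z y).card : ℂ) *
      ((doFib y).card : ℂ) = (Nat.card (pResidual 2 C) : ℂ) := by
  haveI : Fact (Nat.Prime 2) := ⟨Nat.prime_two⟩
  have h := DF_fibre hC Q hy (fun b => if orderOf b = 2 then (1 : ℂ) else 0) (fun a b => by
    simp only [← MulAut.conj_apply, MulEquiv.orderOf_eq])
  have e1 : ∑ x ∈ Finset.univ.filter (fun x : C => x * y⁻¹ ∈ pResidual 2 C),
      (if orderOf x = 2 then (1 : ℂ) else 0) = ((doFib y).card : ℂ) := by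
    rw [← Finset.sum_filter, Finset.filter_filter, Finset.sum_const, nsmul_one, doFib]
    simp only [and_comm]
  rw [e1] at h
  rw [h, Finset.sum_eq_single_of_mem (1 : C)
    (Finset.mem_filter.2 ⟨Finset.mem_univ _, one_mem _, Commute.one_left y⟩)
    (fun z hz hz1 => if_neg fun h2 => hz1 ?_), mul_one, if_pos hy2, mul_one]
  obtain ⟨hzK, hzy⟩ := (Finset.mem_filter.1 hz).2
  have h3 : (y * z) ^ 2 = 1 := by rw [← h2]; exact pow_orderOf_eq_one _
  rw [hzy.symm.mul_pow, show y ^ 2 = 1 by rw [← hy2]; exact pow_orderOf_eq_one _, one_mul] at h3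
  rw [← orderOf_eq_one_iff]
  exact Nat.eq_one_of_dvd_coprimes ((DF_odd_iff hC z).1 hzK).coprime_two_right dvd_rfl
    (orderOf_dvd_of_pow_eq_one h3)

theorem DO_fib_conj (g y : C) : (doFib (g * y * g⁻¹)).card = (doFib y).card := by
  refine Finset.card_bij' (fun b _ => g⁻¹ * b * g) (fun b _ => g * b * g⁻¹) ?_ ?_ ?_ ?_
  · intro b hb
    simp only [doFib, Finset.mem_filter, Finset.mem_univ, true_and] at hb ⊢
    refine ⟨by rw [show g⁻¹ * b * g = MulAut.conj g⁻¹ b by simp, MulEquiv.orderOf_eq]; exact hb.1, ?_⟩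
    have := Normal.conj_mem inferInstance _ hb.2 g⁻¹
    convert this using 1
    group
  · intro b hb
    simp only [doFib, Finset.mem_filter, Finset.mem_univ, true_and] at hb ⊢
    refine ⟨by rw [← MulAut.conj_apply, MulEquiv.orderOf_eq]; exact hb.1, ?_⟩
    have := Normal.conj_mem inferInstance _ hb.2 g
    convert this using 1
    group
  · intro b _; group
  · intro b _; group

end Fib

theorem DO_sum_two (f : ℕ → ℕ) (n : ℕ) :
    ∑ i ∈ Finset.range (2 * n), f (i % 2) = n * (f 0 + f 1) := by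
  induction n with
  | zero => simp
  | succ n ih =>
    rw [show 2 * (n + 1) = 2 * n + 1 + 1 by ring, Finset.sum_range_succ, Finset.sum_range_succ, ih,
      show 2 * n % 2 = 0 by omega, show (2 * n + 1) % 2 = 1 by omega]
    ring

variable {M : Ideal AlgInt} [M.IsPrime]

/-- The class sum identity. -/
theorem DO_count (hM : IsPModular 2 M) (P : Sylow 2 G) {σ : G} (hD : Dih (P : Subgroup G) σ)
    {k m : ℕ} (e : (P : Subgroup G) ≃* DihedralGroup m) (hk : orderOf σ = 2 ^ (k + 2))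
    {τ : G} (hτ : τ ∈ (P : Subgroup G)) (hτA : τ ∉ zpowers σ)
    (h0 : IsConj (dz σ) τ) (h1 : IsConj (dz σ) (σ * τ)) :
    (Nat.card G : ℂ) * (∑ χ ∈ H22.blockFinset (principalBlock M G),
        (χ : G → ℂ) (dz σ) * (χ : G → ℂ) (dz σ) *
          ((χ : G → ℂ) (dz σ) + (χ : G → ℂ) σ) / (χ : G → ℂ) 1) =
      4 * (Nat.card (centralizer ({dz σ} : Set G)) : ℂ) ^ 3 *
        (1 / (Nat.card (centralizer ({dz σ, τ} : Set G)) : ℂ) +
          1 / (Nat.card (centralizer ({dz σ, σ * τ} : Set G)) : ℂ)) ^ 2 := by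
  haveI : Fact (Nat.Prime 2) := ⟨Nat.prime_two⟩
  set J := dz σ with hJdef
  set C : Subgroup G := centralizer ({J} : Set G) with hCdef
  haveI : Fintype C := Fintype.ofFinite _
  set N := 2 ^ (k + 2) with hN
  set H := 2 ^ (k + 1) with hH
  have hNH : N = 2 * H := by rw [hN, hH]; ring
  have hH2 : 2 ≤ H := by
    calc 2 = 2 ^ 1 := (pow_one 2).symm
      _ ≤ H := Nat.pow_le_pow_right two_pos (by omega)
  have hJH : J = σ ^ H := by rw [hJdef, dz, hk, hNH, Nat.mul_div_cancel_left _ two_pos]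
  have hJ2 : orderOf J = 2 := hD.dz_two
  have hJinv : J⁻¹ = J := inv_of_two hJ2
  have hσ1 : σ ≠ 1 := fun h => by rw [h, orderOf_one] at hk; omega
  have hJne : J ≠ 1 := ne_one_of_two hJ2
  have hσσ : σ * σ ≠ 1 := fun h => by
    have := Nat.le_of_dvd two_pos (hk ▸ orderOf_dvd_of_pow_eq_one (by rw [pow_two]; exact h))
    omega
  have hC : HasNormalPComplement 2 C := DB_complement P hD e hD.dz_mem_zpowers hJne
  have hPC : (P : Subgroup G) ≤ C := fun w hw => mem_centralizer_singleton_iff.2 (hD.dz_comm hw)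
  let Q : Sylow 2 C := P.subtype hPC
  have hQmem : ∀ x : C, x ∈ (Q : Subgroup C) ↔ (x : G) ∈ (P : Subgroup G) := fun x => Iff.rfl
  set K := pResidual 2 ↥C with hK
  let J' : C := ⟨J, mem_centralizer_singleton_iff.2 rfl⟩
  let r : ℤ → C := fun i => ⟨σ ^ i * τ, hPC (mul_mem (hD.pow_mem i) hτ)⟩
  have hrA : ∀ i : ℤ, σ ^ i * τ ∉ zpowers σ := fun i h =>
    hτA ((Subgroup.mul_mem_cancel_left _ (zpow_mem (mem_zpowers σ) i)).1 h)
  have hr2 : ∀ i, orderOf (r i) = 2 := fun i => by
    rw [← Subgroup.orderOf_coe]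
    exact orderOf_eq_prime (by rw [pow_two]; exact hD.invol _ (mul_mem (hD.pow_mem i) hτ) (hrA i))
      fun h => hrA i (by show σ ^ i * τ ∈ zpowers σ; rw [show σ ^ i * τ = 1 from h]; exact one_mem _)
  have hrQ : ∀ i, r i ∈ (Q : Subgroup C) := fun i => (hQmem _).2 (mul_mem (hD.pow_mem i) hτ)
  have hτσ : ∀ l : ℤ, τ * σ ^ l = σ ^ (-l) * τ := fun l => hD.zpow_mul_comm' hτ hτA l
  set f : ℤ → ℕ := fun i => (doFib (r i)).card with hf
  have hfper : ∀ i j : ℤ, f (i + 2 * j) = f i := by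
    intro i j
    have hg : σ ^ j ∈ C := hPC (hD.pow_mem j)
    rw [hf]
    show (doFib (r (i + 2 * j))).card = _
    rw [show r (i + 2 * j) = ⟨σ ^ j, hg⟩ * r i * (⟨σ ^ j, hg⟩ : C)⁻¹ from Subtype.ext (by
      show σ ^ (i + 2 * j) * τ = σ ^ j * (σ ^ i * τ) * (σ ^ j)⁻¹
      rw [← zpow_neg, ← mul_assoc, mul_assoc (σ ^ j * σ ^ i), hτσ, neg_neg, ← mul_assoc,
        ← zpow_add, ← zpow_add]
      congr 2; ring)]
    exact DO_fib_conj hC _ _
  -- the cardinalities
  have hKpos : (Nat.card K : ℂ) ≠ 0 := by exact_mod_cast Nat.card_pos.ne'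
  have hcard : Nat.card C = Nat.card K * (4 * H) := by
    rw [← (H5.pResidual_isComplement' hC Q).card_mul]
    congr 1
    rw [show ((Q : Sylow 2 C) : Subgroup C) = (P : Subgroup G).subgroupOf C from rfl,
      Nat.card_congr (Subgroup.subgroupOfEquivOfLe hPC).toEquiv, hD.card_eq, hk, hNH]
    ring
  have hab : ∀ i : ℤ, (f i : ℂ) * (Nat.card (centralizer ({J, σ ^ i * τ} : Set G)) : ℂ) =
      4 * (Nat.card K : ℂ) := by
    intro i
    set Z := Finset.univ.filter fun z : C => z ∈ K ∧ Commute z (r i) with hZ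
    have hZf : (Z.card : ℂ) * (f i : ℂ) = (Nat.card K : ℂ) := DO_fib_card hC Q (hrQ i) (hr2 i)
    set V := hD.four (mul_mem (hD.pow_mem i) hτ) (hrA i) with hV
    have hVP : ∀ v ∈ V, v ∈ (P : Subgroup G) := fun v hv => hD.four_le _ _ hv
    have hVcomm : ∀ v ∈ V, Commute v (σ ^ i * τ) := by
      intro v hv
      rcases (hD.mem_four _ _).1 hv with rfl | rfl | rfl | rfl
      · exact Commute.one_left _
      · exact (hD.dz_comm (mul_mem (hD.pow_mem i) hτ)).symm
      · exact Commute.refl _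
      · exact Commute.mul_left (hD.dz_comm (mul_mem (hD.pow_mem i) hτ)).symm (Commute.refl _)
    let φ : {z : C // z ∈ K ∧ Commute z (r i)} × V →
        centralizer ({J, σ ^ i * τ} : Set G) := fun q =>
      ⟨((q.1 : C) : G) * (q.2 : G), by
        rw [mem_centralizer_iff]
        rintro w (rfl | rfl)
        · exact ((show Commute ((q.1 : C) : G) J from mem_centralizer_singleton_iff.1 q.1.1.2).mul_left
            (hD.dz_comm (hVP _ q.2.2))).symm.eq
        · exact ((show Commute ((q.1 : C) : G) (σ ^ i * τ) from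
            congrArg Subtype.val q.1.2.2.eq).mul_left (hVcomm _ q.2.2)).symm.eq⟩
    have hφ : Function.Bijective φ := by
      constructor
      · intro q q' h
        have h' : ((q.1 : C) : G) * (q.2 : G) = ((q'.1 : C) : G) * (q'.2 : G) := congrArg Subtype.val h
        let v : C := ⟨q.2, hPC (hVP _ q.2.2)⟩
        let v' : C := ⟨q'.2, hPC (hVP _ q'.2.2)⟩
        have e1 : (q.1 : C) * v = (q'.1 : C) * v' := Subtype.ext h'
        have hvv : v = v' := DF_inj hC Q ((hQmem v).2 (hVP _ q.2.2)) ((hQmem v').2 (hVP _ q'.2.2)) (by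
          rw [show v * v'⁻¹ = (q.1 : C)⁻¹ * (q'.1 : C) by
            rw [eq_inv_mul_iff_mul_eq.2 e1]; group]
          exact mul_mem (inv_mem q.1.2.1) q'.1.2.1)
        have e2 : (q.1 : C) = (q'.1 : C) := mul_right_cancel (hvv ▸ e1)
        exact Prod.ext (Subtype.ext e2) (Subtype.ext (show (q.2 : G) = (q'.2 : G) from
          congrArg (fun w : C => (w : G)) hvv))
      · rintro ⟨x, hx⟩
        rw [mem_centralizer_iff] at hx
        have hxJ : Commute x J := (hx J (Or.inl rfl)).symm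
        have hxr : Commute x (σ ^ i * τ) := (hx _ (Or.inr rfl)).symm
        obtain ⟨⟨⟨z, hz⟩, ⟨v, hv⟩⟩, hzv⟩ := (H5.pResidual_isComplement' hC Q).2
          (⟨x, mem_centralizer_singleton_iff.2 hxJ.eq⟩ : C)
        replace hzv : z * v = ⟨x, _⟩ := hzv
        have hxr' : Commute (z * v) (r i) := by rw [hzv]; exact Subtype.ext hxr.eq
        have hv' : v * r i * v⁻¹ = r i := DF_inj hC Q
          (mul_mem (mul_mem hv (hrQ i)) (inv_mem hv)) (hrQ i) (by
            have e1 : v * r i * v⁻¹ * (r i)⁻¹ = z⁻¹ * (r i * z * (r i)⁻¹) := by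
              have : z * (v * r i * v⁻¹) = r i * z := by
                calc z * (v * r i * v⁻¹) = (z * v * r i) * v⁻¹ := by group
                  _ = r i * z := by rw [hxr'.eq]; group
              rw [eq_inv_mul_iff_mul_eq.2 this]; group
            rw [e1]
            exact mul_mem (inv_mem hz) (Normal.conj_mem inferInstance _ hz _))
        have hvr : Commute v (r i) := mul_inv_eq_iff_eq_mul.1 hv'
        have hzr : Commute z (r i) := by
          have := hxr'.mul_left hvr.inv_left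
          rwa [mul_inv_cancel_right] at this
        have hvV : (v : G) ∈ V := by
          have hvP := (hQmem v).1 hv
          have hvr' : Commute (v : G) (σ ^ i * τ) := congrArg Subtype.val hvr.eq
          refine (hD.mem_four _ _).2 ?_
          by_cases hvA : (v : G) ∈ zpowers σ
          · obtain ⟨l, hl⟩ := mem_zpowers_iff.1 hvA
            have h2 := hD.conj_zpow' (mul_mem (hD.pow_mem i) hτ) (hrA i) l
            rw [hl, show (σ ^ i * τ) * (v : G) * (σ ^ i * τ)⁻¹ = (v : G) by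
              rw [← hvr'.eq]; group, zpow_neg, hl] at h2
            by_cases hv1 : (v : G) = 1
            · exact Or.inl hv1
            · exact Or.inr (Or.inl (hD.dz_unique (orderOf_eq_prime (by
                rw [pow_two]; nth_rewrite 2 [h2]; exact mul_inv_cancel _) hv1) hvA))
          · have hP' : (v : G) * (σ ^ i * τ) ∈ zpowers σ :=
              hD.idx _ hvP _ (mul_mem (hD.pow_mem i) hτ) hvA (hrA i)
            have hsq : ((v : G) * (σ ^ i * τ)) ^ 2 = 1 := by
              rw [hvr'.mul_pow, pow_two, pow_two, hD.invol _ hvP hvA,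
                hD.invol _ (mul_mem (hD.pow_mem i) hτ) (hrA i), one_mul]
            have hrr := hD.invol _ (mul_mem (hD.pow_mem i) hτ) (hrA i)
            by_cases hv1 : (v : G) * (σ ^ i * τ) = 1
            · right; right; left
              calc (v : G) = (v : G) * ((σ ^ i * τ) * (σ ^ i * τ)) := by rw [hrr, mul_one]
                _ = σ ^ i * τ := by rw [← mul_assoc, hv1, one_mul]
            · right; right; right
              calc (v : G) = (v : G) * ((σ ^ i * τ) * (σ ^ i * τ)) := by rw [hrr, mul_one]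
                _ = dz σ * (σ ^ i * τ) := by
                  rw [← mul_assoc, hD.dz_unique (orderOf_eq_prime hsq hv1) hP']
        exact ⟨(⟨z, hz, hzr⟩, ⟨v, hvV⟩), Subtype.ext (show (z : G) * (v : G) = x from
          congrArg (fun w : C => (w : G)) hzv)⟩
    have h4 : Nat.card V = 4 := (hD.isKleinFour_four _ _).card_four
    have hcz := Nat.card_eq_of_bijective φ hφ
    rw [Nat.card_prod, h4, Nat.subtype_card Z (by simp [hZ])] at hcz
    rw [← hcz]
    push_cast
    linear_combination (4 : ℂ) * hZf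
  -- the involutions of `C`
  set I : Finset C := Finset.univ.filter fun a => orderOf a = 2 with hI
  have hone : ∀ a : C, a ∈ I → a = J' ∨ ∃ i < N, a ∈ doFib (r (i : ℕ)) := by
    intro a ha
    have ha2 : orderOf a = 2 := (Finset.mem_filter.1 ha).2
    obtain ⟨⟨⟨z, hz⟩, ⟨y, hy⟩⟩, hzy⟩ := (H5.pResidual_isComplement' hC Q).2 a
    replace hzy : z * y = a := hzy
    have hay : a * y⁻¹ ∈ K := by rw [← hzy, mul_inv_cancel_right]; exact hz
    obtain ⟨c, hc, hac⟩ := DF_conj hC Q ⟨1, by rw [pow_one, ← ha2]; exact pow_orderOf_eq_one a⟩ hy hay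
    have hy2 : orderOf (y : G) = 2 := by
      rw [Subgroup.orderOf_coe, ← ha2, hac, ← MulAut.conj_apply, MulEquiv.orderOf_eq]
    by_cases hyA : (y : G) ∈ zpowers σ
    · left
      have hyJ : y = J' := Subtype.ext (hD.dz_unique hy2 hyA)
      rw [hac, hyJ]
      exact Subtype.ext (by
        show (c : G) * J * (c : G)⁻¹ = J
        rw [mem_centralizer_singleton_iff.1 c.2, mul_inv_cancel_right])
    · right
      have hyP := (hQmem y).1 hy
      have hyτ := hD.idx _ hyP _ hτ hyA hτA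
      rw [mem_zpowers_iff_mem_range_orderOf] at hyτ
      obtain ⟨i, hi, hiy⟩ := Finset.mem_image.1 hyτ
      refine ⟨i, by rw [← hk]; exact Finset.mem_range.1 hi, Finset.mem_filter.2 ⟨Finset.mem_univ _, ha2, ?_⟩⟩
      rw [show r (i : ℕ) = y from Subtype.ext (by
        show σ ^ ((i : ℕ) : ℤ) * τ = (y : G)
        rw [zpow_natCast, hiy, mul_assoc, hD.invol τ hτ hτA, mul_one])]
      exact hay
  have hIeq : I = insert J' ((Finset.range N).biUnion fun i => doFib (r (i : ℕ))) := by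
    ext a
    simp only [Finset.mem_insert, Finset.mem_biUnion, Finset.mem_range]
    refine ⟨hone a, ?_⟩
    rintro (rfl | ⟨i, -, ha⟩)
    · exact Finset.mem_filter.2 ⟨Finset.mem_univ _, by rw [← Subgroup.orderOf_coe]; exact hJ2⟩
    · exact Finset.mem_filter.2 ⟨Finset.mem_univ _, (Finset.mem_filter.1 ha).2.1⟩
  have hdisj : ∀ (a : C) (y y' : C), y ∈ (Q : Subgroup C) → y' ∈ (Q : Subgroup C) →
      a * y⁻¹ ∈ K → a * y'⁻¹ ∈ K → y = y' := fun a y y' hy hy' h h' =>
    DF_inj hC Q hy hy' (by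
      have := Normal.conj_mem (H := K) inferInstance _ (mul_mem (inv_mem h) h') 1
      have e : y * y'⁻¹ = (a * y⁻¹)⁻¹ * (a * y'⁻¹) := by group
      rw [e]; exact mul_mem (inv_mem h) h')
  have hJnot : J' ∉ (Finset.range N).biUnion fun i => doFib (r (i : ℕ)) := by
    simp only [Finset.mem_biUnion, not_exists, not_and]
    intro i _ h
    have := hdisj J' J' (r (i : ℕ)) ((hQmem _).2 hD.dz_mem) (hrQ _) (by simp)
      (Finset.mem_filter.1 h).2.2
    exact hrA (i : ℕ) (by rw [← show J = σ ^ ((i : ℕ) : ℤ) * τ from congrArg Subtype.val this]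
                          exact hD.dz_mem_zpowers)
  have hpd : Set.PairwiseDisjoint ((Finset.range N : Finset ℕ) : Set ℕ)
      fun i => doFib (r (i : ℕ)) := by
    intro i hi j hj hij
    rw [Function.onFun, Finset.disjoint_left]
    intro a ha ha'
    have := congrArg Subtype.val (hdisj a _ _ (hrQ _) (hrQ _) (Finset.mem_filter.1 ha).2.2
      (Finset.mem_filter.1 ha').2.2)
    replace this : σ ^ ((i : ℕ) : ℤ) = σ ^ ((j : ℕ) : ℤ) := mul_right_cancel this
    rw [zpow_natCast, zpow_natCast] at this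
    exact hij (pow_injOn_Iio_orderOf (by rw [Set.mem_Iio, hk]; exact Finset.mem_range.1 hi)
      (by rw [Set.mem_Iio, hk]; exact Finset.mem_range.1 hj) this)
  -- every involution is conjugate to `J`
  have hinv : ∀ {a : G}, IsConj J a → orderOf a = 2 := fun {a} ha => by
    obtain ⟨d, rfl⟩ := isConj_iff.1 ha
    rw [← MulAut.conj_apply, MulEquiv.orderOf_eq, hJ2]
  have hrconj : ∀ i : ℤ, IsConj J (σ ^ i * τ) := by
    intro i
    have hstep : IsConj (σ ^ (i % 2) * τ) (σ ^ i * τ) := isConj_iff.2 ⟨σ ^ (i / 2), by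
      rw [← zpow_neg, ← mul_assoc, mul_assoc _ τ, hτσ, neg_neg, ← mul_assoc, ← zpow_add,
        ← zpow_add]
      congr 2; omega⟩
    rcases Int.emod_two_eq_zero_or_one i with h | h <;> rw [h] at hstep
    · rw [zpow_zero, one_mul] at hstep; exact h0.trans hstep
    · rw [zpow_one] at hstep; exact h1.trans hstep
  have hIiff : ∀ a : C, a ∈ I ↔ IsConj J (a : G) := by
    intro a
    refine ⟨fun ha => ?_, fun ha => Finset.mem_filter.2 ⟨Finset.mem_univ _, by
      rw [← Subgroup.orderOf_coe]; exact hinv ha⟩⟩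
    rcases hone a ha with rfl | ⟨i, -, hi⟩
    · exact IsConj.refl _
    · obtain ⟨ha2, hai⟩ := (Finset.mem_filter.1 hi).2
      obtain ⟨c, -, hc⟩ := DF_conj hC Q
        ⟨1, by rw [pow_one, ← ha2]; exact pow_orderOf_eq_one a⟩ (hrQ _) hai
      exact (hrconj (i : ℕ)).trans (isConj_iff.2 ⟨(c : G), by rw [hc]; rfl⟩)
  -- the values of the structure constant
  have hfc : ∀ a : G, (∑ g : G, if g * J * g⁻¹ = a then (1 : ℂ) else 0) =
      if IsConj J a then (Nat.card C : ℂ) else 0 := by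
    intro a
    split_ifs with ha
    · obtain ⟨d, rfl⟩ := isConj_iff.1 ha
      simp only [← Finset.sum_filter, Finset.sum_const, nsmul_one, Nat.cast_inj]
      rw [Nat.card_eq_fintype_card, Fintype.card]
      refine Finset.card_bij' (fun g hg => (⟨d⁻¹ * g, ?_⟩ : C)) (fun c _ => d * (c : G)) ?_ ?_ ?_ ?_
      · rw [hCdef, Subgroup.mem_centralizer_singleton_iff]
        have := (Finset.mem_filter.1 hg).2
        calc d⁻¹ * g * J = d⁻¹ * (g * J * g⁻¹) * g := by group
          _ = J * (d⁻¹ * g) := by rw [this]; group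
      · intro _ _; exact Finset.mem_univ _
      · intro c _
        refine Finset.mem_filter.2 ⟨Finset.mem_univ _, ?_⟩
        have := Subgroup.mem_centralizer_singleton_iff.1 c.2
        calc d * c * J * (d * c)⁻¹ = d * ((c : G) * J) * (c : G)⁻¹ * d⁻¹ := by group
          _ = d * J * d⁻¹ := by rw [this]; group
      · intro g _; simp
      · intro c _; simp
    · exact Finset.sum_eq_zero fun g _ => if_neg fun e => ha (isConj_iff.2 ⟨g, e⟩)
  -- the sum over the coset of `σ ^ l`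
  have hpair : ∀ (l d : ℕ) (hl : σ ^ l ∈ C), σ ^ l ≠ 1 → (σ ^ l) ^ d = J →
      (Nat.card K : ℂ) * ((Nat.card G : ℂ) * ∑ χ ∈ H22.blockFinset (principalBlock M G),
          (χ : G → ℂ) J * (χ : G → ℂ) J * (χ : G → ℂ) (σ ^ l) / (χ : G → ℂ) 1) =
        (Nat.card C : ℂ) ^ 2 *
          ∑ a ∈ I, ((I.filter fun b => a * b * (⟨σ ^ l, hl⟩ : C)⁻¹ ∈ K).card : ℂ) := by
    intro l d hl hne hld
    set x' : C := ⟨σ ^ l, hl⟩ with hx'
    set Z := Finset.univ.filter fun z : C => z ∈ K ∧ Commute z x' with hZ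
    have hx2 : ∃ j : ℕ, orderOf (σ ^ l) = 2 ^ j := by
      obtain ⟨j, -, hj⟩ := (Nat.dvd_prime_pow Nat.prime_two).1 (hk ▸ orderOf_pow_dvd (x := σ) l)
      exact ⟨j, hj⟩
    have hS := DF_section hM (DO_phi_class J) hx2
      (DB_complement P hD e (pow_mem (mem_zpowers σ) l) hne)
    rw [DO_phi_block hJinv] at hS
    have hF := DF_fibre hC Q (y := x') ((hQmem _).2 (pow_mem hD.mem l))
      (fun w => doPhi J (w : G)) (fun a b => DO_phi_class J (a : G) (b : G))
    have hmemC : ∀ g : G, Commute g (σ ^ l) → g ∈ C := fun g hg =>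
      mem_centralizer_singleton_iff.2 (by rw [← hld]; exact (hg.pow_right d).eq)
    have hbij : ∑ g ∈ Finset.univ.filter (fun g : G => Commute g (σ ^ l) ∧ Odd (orderOf g)),
        doPhi J (σ ^ l * g) = ∑ z ∈ Z, doPhi J ((x' * z : C) : G) := by
      refine Finset.sum_bij' (fun g hg => (⟨g, hmemC g (Finset.mem_filter.1 hg).2.1⟩ : C))
        (fun z _ => (z : G)) ?_ ?_ ?_ ?_ ?_
      · intro g hg
        refine Finset.mem_filter.2 ⟨Finset.mem_univ _, (DF_odd_iff hC _).2 ?_,
          Subtype.ext (Finset.mem_filter.1 hg).2.1.eq⟩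
        rw [Subgroup.orderOf_mk]; exact (Finset.mem_filter.1 hg).2.2
      · intro z hz
        refine Finset.mem_filter.2 ⟨Finset.mem_univ _, congrArg Subtype.val (Finset.mem_filter.1 hz).2.2.eq, ?_⟩
        rw [Subgroup.orderOf_coe]; exact (DF_odd_iff hC z).1 (Finset.mem_filter.1 hz).2.1
      · intro g _; rfl
      · intro z _; rfl
      · intro g _; rfl
    have hZc : (Finset.univ.filter fun g : G => Commute g (σ ^ l) ∧ Odd (orderOf g)).card = Z.card := by
      refine Finset.card_bij' (fun g hg => (⟨g, hmemC g (Finset.mem_filter.1 hg).2.1⟩ : C))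
        (fun z _ => (z : G)) ?_ ?_ ?_ ?_
      · intro g hg
        refine Finset.mem_filter.2 ⟨Finset.mem_univ _, (DF_odd_iff hC _).2 ?_,
          Subtype.ext (Finset.mem_filter.1 hg).2.1.eq⟩
        rw [Subgroup.orderOf_mk]; exact (Finset.mem_filter.1 hg).2.2
      · intro z hz
        refine Finset.mem_filter.2 ⟨Finset.mem_univ _, congrArg Subtype.val (Finset.mem_filter.1 hz).2.2.eq, ?_⟩
        rw [Subgroup.orderOf_coe]; exact (DF_odd_iff hC z).1 (Finset.mem_filter.1 hz).2.1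
      · intro g _; rfl
      · intro z _; rfl
    rw [hbij, hZc] at hS
    have hZ0 : (Z.card : ℂ) ≠ 0 := by
      exact_mod_cast (Finset.card_pos.2 ⟨1, by simp [hZ, one_mem]⟩).ne'
    have hT : ∑ w ∈ Finset.univ.filter (fun w : C => w * x'⁻¹ ∈ K), doPhi J (w : G) =
        (Nat.card C : ℂ) ^ 2 * ∑ a ∈ I, ((I.filter fun b => a * b * x'⁻¹ ∈ K).card : ℂ) := by
      have hterm : ∀ w ∈ Finset.univ.filter (fun w : C => w * x'⁻¹ ∈ K), doPhi J (w : G) =
          (Nat.card C : ℂ) ^ 2 * ((I.filter fun a => a⁻¹ * w ∈ I).card : ℂ) := by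
        intro w hw
        obtain ⟨c, -, z, hz, hzx, hwz⟩ :=
          DF_surj hC Q ((hQmem x').2 (pow_mem hD.mem l)) (Finset.mem_filter.1 hw).2
        obtain ⟨o, ho⟩ := (DF_odd_iff hC z).1 hz
        have hwJ : w ^ (orderOf z * d) = J' := by
          have e1 : (x' * z) ^ (orderOf z * d) = J' := by
            rw [hzx.symm.mul_pow, pow_mul z, pow_orderOf_eq_one, one_pow, mul_one, mul_comm, pow_mul,
              show x' ^ d = J' from Subtype.ext hld, ho, pow_succ, pow_mul,
              show J' ^ 2 = 1 from Subtype.ext (by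
                show J ^ 2 = 1
                rw [← hJ2]; exact pow_orderOf_eq_one J), one_pow, one_mul]
          rw [hwz, conj_pow, e1]
          exact Subtype.ext (by
            show (c : G) * J * (c : G)⁻¹ = J
            rw [mem_centralizer_singleton_iff.1 c.2, mul_inv_cancel_right])
        have hmem : ∀ a : G, IsConj J (a⁻¹ * (w : G)) → IsConj J a → a ∈ C := by
          intro a h2 h1
          have ha2 : a * a = 1 := by rw [← pow_two, ← hinv h1, pow_orderOf_eq_one]
          have hb2 : a⁻¹ * (w : G) * (a⁻¹ * (w : G)) = 1 := by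
            rw [← pow_two, ← hinv h2, pow_orderOf_eq_one]
          have hainv : a⁻¹ = a := inv_eq_of_mul_eq_one_right ha2
          rw [hainv] at hb2
          have hflip : a * (w : G) * a⁻¹ = (w : G)⁻¹ := by
            rw [hainv]; exact eq_inv_of_mul_eq_one_left (by simpa [mul_assoc] using hb2)
          have hpow : (w : G) ^ (orderOf z * d) = J := congrArg Subtype.val hwJ
          have h3 : (a * (w : G) * a⁻¹) ^ (orderOf z * d) = J⁻¹ := by rw [hflip, inv_pow, hpow]
          rw [conj_pow, hpow, hJinv, mul_inv_eq_iff_eq_mul] at h3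
          exact Subgroup.mem_centralizer_singleton_iff.2 h3
        have hΦf : doPhi J (w : G) = ∑ a : G, (∑ g : G, if g * J * g⁻¹ = a then (1 : ℂ) else 0) *
            (∑ g : G, if g * J * g⁻¹ = a⁻¹ * (w : G) then (1 : ℂ) else 0) := by
          simp only [doPhi, Finset.sum_mul, ite_mul, one_mul, zero_mul]
          rw [Finset.sum_comm (γ := G) (f := fun a g => if g * J * g⁻¹ = a then
            ∑ h : G, if h * J * h⁻¹ = a⁻¹ * (w : G) then (1 : ℂ) else 0 else 0)]
          refine Finset.sum_congr rfl fun g _ => ?_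
          rw [Finset.sum_ite_eq, if_pos (Finset.mem_univ _)]
          exact Finset.sum_congr rfl fun h _ => if_congr eq_inv_mul_iff_mul_eq.symm rfl rfl
        rw [hΦf]
        simp only [hfc, ite_mul, mul_ite, zero_mul, mul_zero, ← ite_and, ← Finset.sum_filter,
          Finset.sum_const, nsmul_eq_mul]
        rw [mul_comm ((Nat.card C : ℂ) ^ 2), ← pow_two]
        congr 2
        refine Finset.card_bij' (fun a ha => (⟨a, hmem a (Finset.mem_filter.1 ha).2.1
            (Finset.mem_filter.1 ha).2.2⟩ : C)) (fun a _ => (a : G)) ?_ ?_ ?_ ?_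
        · intro a ha
          simp only [Finset.mem_filter, hIiff]
          push_cast
          exact ⟨(Finset.mem_filter.1 ha).2.2, (Finset.mem_filter.1 ha).2.1⟩
        · intro a ha
          simp only [Finset.mem_filter, hIiff] at ha
          push_cast at ha
          exact Finset.mem_filter.2 ⟨Finset.mem_univ _, ha.2, ha.1⟩
        · intro a _; rfl
        · intro a _; rfl
      rw [Finset.sum_congr rfl hterm, ← Finset.mul_sum]
      congr 1
      rw [← Nat.cast_sum, ← Nat.cast_sum, Nat.cast_inj]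
      simp only [Finset.card_filter]
      rw [Finset.sum_comm]
      refine Finset.sum_congr rfl fun a _ => ?_
      simp only [← Finset.card_filter]
      refine Finset.card_bij' (fun w _ => a⁻¹ * w) (fun b _ => a * b) ?_ ?_ ?_ ?_
      · intro w hw
        simp only [Finset.mem_filter, Finset.mem_univ, true_and] at hw ⊢
        exact ⟨hw.2, by rw [mul_inv_cancel_left]; exact hw.1⟩
      · intro b hb
        simp only [Finset.mem_filter, Finset.mem_univ, true_and] at hb ⊢
        exact ⟨hb.2, by rw [inv_mul_cancel_left]; exact hb.1⟩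
      · intro w _; group
      · intro b _; group
    rw [← hT]
    apply mul_left_cancel₀ hZ0
    rw [hF, ← hS]
    ring
  -- the number of pairs
  have hnum : ∀ (l : ℕ) (hl : σ ^ l ∈ C), ¬ orderOf (J * σ ^ l) = 2 →
      ∑ a ∈ I, (I.filter fun b => a * b * (⟨σ ^ l, hl⟩ : C)⁻¹ ∈ K).card =
        ∑ i ∈ Finset.range N, f (i : ℕ) * f ((i : ℕ) - (l : ℤ)) := by
    intro l hl hno
    conv_lhs => arg 1; rw [hIeq]
    rw [Finset.sum_insert hJnot, Finset.sum_biUnion hpd]
    have e0 : (I.filter fun b => J' * b * (⟨σ ^ l, hl⟩ : C)⁻¹ ∈ K) = ∅ := by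
      refine Finset.filter_eq_empty_iff.2 fun b hb hbK => hno ?_
      have hyQ : J' * (⟨σ ^ l, hl⟩ : C) ∈ (Q : Subgroup C) :=
        mul_mem ((hQmem _).2 hD.dz_mem) ((hQmem _).2 (pow_mem hD.mem l))
      have hJc : J' * J' = 1 := Subtype.ext (mul_self_of_two hJ2)
      have hJcomm : ∀ x : C, Commute J' x := fun x => Subtype.ext
        (mem_centralizer_singleton_iff.1 x.2).symm
      have hby : b * (J' * (⟨σ ^ l, hl⟩ : C))⁻¹ ∈ K := by
        rw [mul_inv_rev, inv_eq_of_mul_eq_one_right hJc, ← mul_assoc, ← (hJcomm _).eq, ← mul_assoc]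
        exact hbK
      obtain ⟨c, -, hc⟩ := DF_conj hC Q ⟨1, by
        rw [pow_one, ← (Finset.mem_filter.1 hb).2]; exact pow_orderOf_eq_one b⟩ hyQ hby
      have h2 := (Finset.mem_filter.1 hb).2
      rw [hc, ← MulAut.conj_apply, MulEquiv.orderOf_eq, ← Subgroup.orderOf_coe] at h2
      exact h2
    rw [e0, Finset.card_empty, zero_add]
    refine Finset.sum_congr rfl fun i _ => ?_
    rw [Finset.sum_eq_card_nsmul (b := f ((i : ℕ) - (l : ℤ))) (fun a ha => ?_), nsmul_eq_mul,
      Nat.cast_id]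
    show Finset.card _ = (doFib (r ((i : ℕ) - (l : ℤ)))).card
    congr 1
    have hru : r (i : ℕ) * (⟨σ ^ l, hl⟩ : C) = r ((i : ℕ) - (l : ℤ)) := Subtype.ext (by
      show σ ^ ((i : ℕ) : ℤ) * τ * σ ^ l = σ ^ (((i : ℕ) : ℤ) - (l : ℤ)) * τ
      rw [← zpow_natCast σ l, mul_assoc, hτσ, ← mul_assoc, ← zpow_add, sub_eq_add_neg])
    have hrinv : (r (i : ℕ))⁻¹ = r (i : ℕ) := inv_of_two (hr2 _)
    have hai := (Finset.mem_filter.1 ha).2.2
    let π := QuotientGroup.mk' K
    have hmem : ∀ u v : C, u * v⁻¹ ∈ K ↔ π u = π v := fun u v => by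
      rw [← div_eq_mul_inv]
      exact (QuotientGroup.eq_iff_div_mem (N := K)).symm
    have hπa : π a = π (r (i : ℕ)) := (hmem _ _).1 hai
    ext b
    simp only [Finset.mem_filter, doFib, Finset.mem_univ, true_and, hI]
    refine and_congr_right fun _ => ?_
    rw [hmem, hmem, map_mul, hπa, ← hru, map_mul]
    constructor
    · intro h
      rw [← h, ← mul_assoc, ← map_mul, mul_self_of_two (hr2 _), map_one, one_mul]
    · intro h
      rw [h, ← mul_assoc, ← map_mul, mul_self_of_two (hr2 _), map_one, one_mul]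
  -- assemble
  have hlJ : σ ^ H ∈ C := hPC (pow_mem hD.mem H)
  have hl1 : σ ^ 1 ∈ C := hPC (pow_mem hD.mem 1)
  have pJ := hpair H 1 hlJ (hJH ▸ hJne) (by rw [pow_one, hJH])
  have p1 := hpair 1 H hl1 (by rwa [pow_one]) (by rw [pow_one, hJH])
  rw [← Nat.cast_sum, hnum H hlJ (by rw [← hJH, mul_self_of_two hJ2, orderOf_one]; norm_num)] at pJ
  rw [← Nat.cast_sum, hnum 1 hl1 (fun h => hσσ (by
    have h2 : (J * σ ^ 1) ^ 2 = 1 := by rw [← h]; exact pow_orderOf_eq_one _
    rw [hJH, ← pow_add, ← pow_mul] at h2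
    have h3 := hD.ord
    rwa [show (H + 1) * 2 = N + 2 by omega, pow_add, ← hk, pow_orderOf_eq_one, one_mul, pow_two] at h2))]
    at p1
  have hsum : ∑ i ∈ Finset.range N, f (i : ℕ) * f ((i : ℕ) - ((H : ℕ) : ℤ)) +
      ∑ i ∈ Finset.range N, f (i : ℕ) * f ((i : ℕ) - ((1 : ℕ) : ℤ)) = H * (f 0 + f 1) ^ 2 := by
    rw [← Finset.sum_add_distrib, hNH]
    have hpar : ∀ i : ℤ, f i = f (i % 2) := fun i => by
      conv_lhs => rw [← Int.emod_add_mul_ediv i 2]
      exact hfper _ _
    obtain ⟨H', hH'⟩ : Even H := even_two.pow_of_ne_zero (Nat.succ_ne_zero k)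
    rw [Finset.sum_congr rfl fun (i : ℕ) _ => show
        f (i : ℕ) * f ((i : ℕ) - ((H : ℕ) : ℤ)) + f (i : ℕ) * f ((i : ℕ) - ((1 : ℕ) : ℤ)) =
          (fun j : ℕ => f (j : ℕ) * (f 0 + f 1)) (i % 2) by
      show _ = f ((i % 2 : ℕ) : ℤ) * (f 0 + f 1)
      rw [hpar (i : ℕ), hpar ((i : ℕ) - ((H : ℕ) : ℤ)), hpar ((i : ℕ) - ((1 : ℕ) : ℤ))]
      rcases Nat.mod_two_eq_zero_or_one i with h | h <;> rw [h]
      · rw [show ((i : ℕ) : ℤ) % 2 = 0 by omega, show (((i : ℕ) : ℤ) - ((H : ℕ) : ℤ)) % 2 = 0 by omega,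
          show (((i : ℕ) : ℤ) - ((1 : ℕ) : ℤ)) % 2 = 1 by omega]
        push_cast; ring
      · rw [show ((i : ℕ) : ℤ) % 2 = 1 by omega, show (((i : ℕ) : ℤ) - ((H : ℕ) : ℤ)) % 2 = 1 by omega,
          show (((i : ℕ) : ℤ) - ((1 : ℕ) : ℤ)) % 2 = 0 by omega]
        push_cast; ring,
      DO_sum_two (fun j : ℕ => f (j : ℕ) * (f 0 + f 1)) H]
    push_cast; ring
  have hsumC := congrArg (fun n : ℕ => (n : ℂ)) hsum
  simp only [Nat.cast_add, Nat.cast_mul, Nat.cast_pow, Nat.cast_sum, Nat.cast_one] at hsumC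
  rw [← hJH] at pJ
  rw [pow_one] at p1
  have a0 := hab 0
  have a1 := hab 1
  rw [zpow_zero, one_mul] at a0
  rw [zpow_one] at a1
  have hca : (Nat.card (centralizer ({J, τ} : Set G)) : ℂ) ≠ 0 := by exact_mod_cast Nat.card_pos.ne'
  have hcb : (Nat.card (centralizer ({J, σ * τ} : Set G)) : ℂ) ≠ 0 := by
    exact_mod_cast Nat.card_pos.ne'
  rw [Finset.sum_congr rfl fun (χ : IrrCharacter G) _ => show
      (χ : G → ℂ) J * (χ : G → ℂ) J * ((χ : G → ℂ) J + (χ : G → ℂ) σ) / (χ : G → ℂ) 1 =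
        (χ : G → ℂ) J * (χ : G → ℂ) J * (χ : G → ℂ) J / (χ : G → ℂ) 1 +
          (χ : G → ℂ) J * (χ : G → ℂ) J * (χ : G → ℂ) σ / (χ : G → ℂ) 1 by ring,
    Finset.sum_add_distrib]
  apply mul_left_cancel₀ hKpos
  rw [mul_add, mul_add, pJ, p1, ← mul_add]
  push_cast
  rw [hsumC, eq_div_iff hca |>.2 a0, eq_div_iff hcb |>.2 a1, hcard]
  push_cast
  field_simp

theorem DO_geom {H : ℕ} (hH : Even H) {ζ : ℂ} (hζ : ζ ^ H = -1) (hζ1 : ζ ≠ 1) :
    ∑ i ∈ Finset.range H, (2 * (-1 : ℂ) ^ i + (ζ ^ i + (ζ ^ i)⁻¹)) = 2 := by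
  have hζ0 : ζ ≠ 0 := fun h => by
    rcases Nat.eq_zero_or_pos H with rfl | hp
    · norm_num at hζ
    · rw [h, zero_pow hp.ne'] at hζ; norm_num at hζ
  rw [Finset.sum_add_distrib, Finset.sum_add_distrib, ← Finset.mul_sum, neg_one_geom_sum, if_pos hH,
    mul_zero, zero_add]
  have hA := geom_sum_mul ζ H
  have hB := geom_sum_mul ζ⁻¹ H
  rw [hζ] at hA
  rw [inv_pow, hζ] at hB
  norm_num at hA hB
  apply mul_right_cancel₀ (sub_ne_zero.2 hζ1)
  linear_combination hA - ζ * hB + (∑ i ∈ Finset.range H, (ζ ^ i)⁻¹) * mul_inv_cancel₀ hζ0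

/-- The character side. -/
theorem DO_chars (hM : IsPModular 2 M) (P : Sylow 2 G) {σ : G} (hD : Dih (P : Subgroup G) σ)
    {k m : ℕ} (e : (P : Subgroup G) ≃* DihedralGroup m) (hk : orderOf σ = 2 ^ (k + 2))
    (χ : IrrCharacter G) (hχ : χ ∈ principalBlock M G) (h1 : (χ : G → ℂ) ≠ fun _ => 1)
    (δ : ℤ) (hδ : δ = 1 ∨ δ = -1)
    (hval : ∀ l : ℕ, 0 < l → l < 2 ^ (k + 2) → (χ : G → ℂ) (σ ^ l) = δ) :
    ((χ : G → ℂ) 1 + δ ≠ 0) ∧ ∑ ψ ∈ H22.blockFinset (principalBlock M G),
        (ψ : G → ℂ) (dz σ) * (ψ : G → ℂ) (dz σ) *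
          ((ψ : G → ℂ) (dz σ) + (ψ : G → ℂ) σ) / (ψ : G → ℂ) 1 =
      2 * ((χ : G → ℂ) 1 - δ) ^ 2 / ((χ : G → ℂ) 1 * ((χ : G → ℂ) 1 + δ)) := by
  set ζ : ℂ := Complex.exp (2 * Real.pi * Complex.I / (2 ^ (k + 2) : ℕ)) with hζdef
  have hζ : IsPrimitiveRoot ζ (2 ^ (k + 2)) := Complex.isPrimitiveRoot_exp _ (by positivity)
  obtain ⟨-, a, c, d, χ', δ₁, δ₂, δ₃, hδ₁, hδ₂, hδ₃, hinj, ha1, hc1, hd1, hac, had, hcd, hχ', hset,
    hv, hrel⟩ := DB_principal hM P hD e hk hζ
  have hNH : 2 ^ (k + 2) = 2 * 2 ^ (k + 1) := by ring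
  have hH2 : 2 ≤ (2 ^ (k + 1)) := by
    calc 2 = 2 ^ 1 := (pow_one 2).symm
      _ ≤ (2 ^ (k + 1)) := Nat.pow_le_pow_right two_pos (by omega)
  have hHev : Even (2 ^ (k + 1)) := even_two.pow_of_ne_zero (Nat.succ_ne_zero k)
  have hζH : ζ ^ (2 ^ (k + 1)) = -1 :=
    (hζ.pow (Nat.two_pow_pos _) (by ring)).eq_neg_one_of_two_right
  have hζj : ∀ j : ℕ, ζ ^ (j * (2 ^ (k + 1))) = (-1) ^ j := fun j => by rw [mul_comm, pow_mul, hζH]
  have hJ : dz σ = σ ^ (2 ^ (k + 1)) := by rw [dz, hk, hNH, Nat.mul_div_cancel_left _ two_pos]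
  have hvJ := hv (2 ^ (k + 1)) (by omega) (by omega)
  have hv1 := hv 1 one_pos (by omega)
  rw [pow_one] at hv1
  have hχa : χ = a ∧ δ = δ₁ := by
    rw [hset] at hχ
    rcases hχ with h | rfl | rfl | rfl | ⟨j, rfl⟩
    · exact absurd h h1
    · refine ⟨rfl, ?_⟩
      have := (hvJ.1).symm.trans (hval (2 ^ (k + 1)) (by omega) (by omega))
      exact_mod_cast this.symm
    · exfalso
      have e1 := hvJ.2.1.symm.trans (hval (2 ^ (k + 1)) (by omega) (by omega))
      have e2 := hv1.2.1.symm.trans (by simpa using hval 1 one_pos (by omega))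
      rw [hHev.add_one.neg_one_pow] at e1
      norm_num at e1 e2
      rw [← e2] at e1
      rcases hδ₂ with h | h <;> rw [h] at e1 <;> norm_num at e1
    · exfalso
      have e1 := hvJ.2.2.1.symm.trans (hval (2 ^ (k + 1)) (by omega) (by omega))
      have e2 := hv1.2.2.1.symm.trans (by simpa using hval 1 one_pos (by omega))
      rw [hHev.add_one.neg_one_pow] at e1
      norm_num at e1 e2
      rw [← e2] at e1
      rcases hδ₃ with h | h <;> rw [h] at e1 <;> norm_num at e1
    · exfalso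
      have e1 := (hvJ.2.2.2 j).symm.trans (hval (2 ^ (k + 1)) (by omega) (by omega))
      rw [hζj] at e1
      rcases neg_one_pow_eq_or ℂ ((j : ℕ) + 1) with h | h <;> rw [h] at e1 <;>
        rcases hδ₁ with h' | h' <;> rcases hδ with h'' | h'' <;> rw [h', h''] at e1 <;> norm_num at e1
  obtain ⟨rfl, rfl⟩ := hχa
  have hone : (H12.oneIrr G : G → ℂ) = fun _ => 1 := rfl
  have hdeg : ∀ j, (χ' j : G → ℂ) 1 = (χ : G → ℂ) 1 + δ := by
    intro j
    have h := (hrel 1 (by simp) j).2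
    rcases hδ with h' | h' <;> rw [h'] at h ⊢ <;> push_cast at h ⊢ <;>
      first | linear_combination -h | linear_combination h
  have hxδ : (χ : G → ℂ) 1 + δ ≠ 0 := fun h =>
    H12.irr_apply_one_ne_zero (χ' ⟨0, by omega⟩) (by rw [hdeg, h])
  refine ⟨hxδ, ?_⟩
  have hB : H22.blockFinset (principalBlock M G) =
      insert (H12.oneIrr G) (insert χ (insert c (insert d (Finset.univ.image χ')))) := by
    ext ψ
    rw [H22.mem_blockFinset, hset]
    simp only [Finset.mem_insert, Finset.mem_image, Finset.mem_univ, true_and]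
    constructor
    · rintro (h | h | h | h | ⟨j, h⟩)
      exacts [Or.inl (Subtype.ext h), Or.inr (Or.inl h), Or.inr (Or.inr (Or.inl h)),
        Or.inr (Or.inr (Or.inr (Or.inl h))), Or.inr (Or.inr (Or.inr (Or.inr ⟨j, h.symm⟩)))]
    · rintro (h | h | h | h | ⟨j, h⟩)
      exacts [Or.inl (h ▸ rfl), Or.inr (Or.inl h), Or.inr (Or.inr (Or.inl h)),
        Or.inr (Or.inr (Or.inr (Or.inl h))), Or.inr (Or.inr (Or.inr (Or.inr ⟨j, h.symm⟩)))]
  have n1 : H12.oneIrr G ∉ insert χ (insert c (insert d (Finset.univ.image χ'))) := by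
    simp only [Finset.mem_insert, Finset.mem_image, Finset.mem_univ, true_and, not_or, not_exists]
    exact ⟨fun h => ha1 (h ▸ rfl), fun h => hc1 (h ▸ rfl), fun h => hd1 (h ▸ rfl),
      fun j h => (hχ' j).2.2.2 (h ▸ rfl)⟩
  have n2 : χ ∉ insert c (insert d (Finset.univ.image χ')) := by
    simp only [Finset.mem_insert, Finset.mem_image, Finset.mem_univ, true_and, not_or, not_exists]
    exact ⟨hac, had, fun j h => (hχ' j).1 h⟩
  have n3 : c ∉ insert d (Finset.univ.image χ') := by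
    simp only [Finset.mem_insert, Finset.mem_image, Finset.mem_univ, true_and, not_or, not_exists]
    exact ⟨hcd, fun j h => (hχ' j).2.1 h⟩
  have n4 : d ∉ Finset.univ.image χ' := by
    simp only [Finset.mem_image, Finset.mem_univ, true_and, not_exists]
    exact fun j h => (hχ' j).2.2.1 h
  rw [hB, Finset.sum_insert n1, Finset.sum_insert n2, Finset.sum_insert n3, Finset.sum_insert n4,
    Finset.sum_image (fun i _ j _ h => hinj h)]
  simp only [hJ, hone, hvJ.1, hvJ.2.1, hvJ.2.2.1, hvJ.2.2.2, hv1.1, hv1.2.1, hv1.2.2.1, hv1.2.2.2,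
    hdeg, hHev.add_one.neg_one_pow, hζj, mul_one]
  have hterm : ∀ j : Fin ((2 ^ (k + 1)) - 1),
      (δ : ℂ) * ((-1) ^ ((j : ℕ) + 1) + ((-1 : ℂ) ^ ((j : ℕ) + 1))⁻¹) *
        ((δ : ℂ) * ((-1) ^ ((j : ℕ) + 1) + ((-1 : ℂ) ^ ((j : ℕ) + 1))⁻¹)) *
        ((δ : ℂ) * ((-1) ^ ((j : ℕ) + 1) + ((-1 : ℂ) ^ ((j : ℕ) + 1))⁻¹) +
          (δ : ℂ) * (ζ ^ ((j : ℕ) + 1) + (ζ ^ ((j : ℕ) + 1))⁻¹)) / ((χ : G → ℂ) 1 + δ) =
      4 * δ / ((χ : G → ℂ) 1 + δ) *
        (fun i : ℕ => 2 * (-1 : ℂ) ^ (i + 1) + (ζ ^ (i + 1) + (ζ ^ (i + 1))⁻¹)) (j : ℕ) := by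
    intro j
    dsimp only
    rcases neg_one_pow_eq_or ℂ ((j : ℕ) + 1) with h | h <;> rw [h] <;>
      rcases hδ with h' | h' <;> rw [h'] <;> push_cast <;> ring
  rw [Finset.sum_congr rfl fun j _ => hterm j, ← Finset.mul_sum,
    Fin.sum_univ_eq_sum_range (fun i : ℕ => 2 * (-1 : ℂ) ^ (i + 1) + (ζ ^ (i + 1) + (ζ ^ (i + 1))⁻¹))]
  have hg := DO_geom hHev hζH (fun h => by rw [h, one_pow] at hζH; norm_num at hζH)
  rw [← Nat.sub_add_cancel (show 1 ≤ 2 ^ (k + 1) by omega), Finset.sum_range_succ'] at hg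
  norm_num at hg
  rw [show ∑ i ∈ Finset.range ((2 ^ (k + 1)) - 1),
      (2 * (-1 : ℂ) ^ (i + 1) + (ζ ^ (i + 1) + (ζ ^ (i + 1))⁻¹)) = -2 by linear_combination hg]
  have hx0 := H12.irr_apply_one_ne_zero χ
  have hc0 := H12.irr_apply_one_ne_zero c
  have hd0 := H12.irr_apply_one_ne_zero d
  rcases hδ with h | h <;> rw [h] at hxδ ⊢ <;> push_cast at hxδ ⊢ <;> field_simp <;> ring

end H65
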