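import Cfsg.Agent.H65.BSWVals
import Cfsg.Agent.H65.BSWVectors
import Cfsg.Agent.H65.DihedralOrder

/-!
The Brauer-Suzuki-Wall configuration: the exceptional characters and the class sum identity.
-/

set_option autoImplicit false
set_option linter.unusedSectionVars false
set_option maxHeartbeats 1000000

namespace H65.BSW

open Subgroup Cfsg
open scoped Classical ComplexConjugate

universe u

variable {G : Type u} [Group G] [Fintype G] {t s : G} {K : Subgroup G} (h : Hyp t s K)
include h

/-- The class sum on the involutions. -/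
theorem phi_count (g : G) :
    (Nat.card G : ℂ) * ∑ χ : IrrCharacter G,
        (χ : G → ℂ) t * (χ : G → ℂ) t * (χ : G → ℂ) g / (χ : G → ℂ) 1 =
      (2 * (Nat.card K : ℂ)) ^ 2 * (ecount g : ℂ) := by
  have h1 := H65.DO_phi_block (inv_eq_of_mul_eq_one_right (t_mul h)) Set.univ g
  rw [H20.blockPart_eq_sum] at h1
  simp only [Set.mem_univ, if_true] at h1
  rw [← H20.classFunction_eq_sum_apply (H65.DO_phi_class t)] at h1
  rw [show H22.blockFinset (Set.univ : Set (IrrCharacter G)) = Finset.univ by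
    ext χ; simp [H22.mem_blockFinset]] at h1
  rw [← h1]
  have hfc : ∀ a : G, (∑ c : G, if c * t * c⁻¹ = a then (1 : ℂ) else 0) =
      if orderOf a = 2 then (2 * (Nat.card K : ℂ)) else 0 := by
    intro a
    split_ifs with ha
    · obtain ⟨d, rfl⟩ := isConj_iff.1 ((isConj_invol h).1 ha)
      simp only [← Finset.sum_filter, Finset.sum_const, nsmul_one]
      rw [show (2 * (Nat.card K : ℂ)) = ((Nat.card (centralizer ({t} : Set G)) : ℕ) : ℂ) by
        rw [card_H h]; push_cast; rfl, Nat.cast_inj,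
        Nat.subtype_card (p := (· ∈ centralizer ({t} : Set G)))
          (Finset.univ.filter (· ∈ centralizer ({t} : Set G))) (by simp)]
      refine Finset.card_bij' (fun c _ => d⁻¹ * c) (fun c _ => d * c) ?_ ?_ ?_ ?_
      · intro c hc
        refine Finset.mem_filter.2 ⟨Finset.mem_univ _, mem_centralizer_singleton_iff.2 ?_⟩
        calc d⁻¹ * c * t = d⁻¹ * (c * t * c⁻¹) * c := by group
          _ = t * (d⁻¹ * c) := by rw [(Finset.mem_filter.1 hc).2]; group
      · intro c hc
        refine Finset.mem_filter.2 ⟨Finset.mem_univ _, ?_⟩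
        calc d * c * t * (d * c)⁻¹ = d * (c * t) * c⁻¹ * d⁻¹ := by group
          _ = d * t * d⁻¹ := by
            rw [mem_centralizer_singleton_iff.1 (Finset.mem_filter.1 hc).2]; group
      · intro c _; group
      · intro c _; group
    · exact Finset.sum_eq_zero fun c _ => if_neg fun e => ha ((isConj_invol h).2 (isConj_iff.2 ⟨c, e⟩))
  have hΦf : H65.doPhi t g = ∑ a : G, (∑ c : G, if c * t * c⁻¹ = a then (1 : ℂ) else 0) *
      (∑ c : G, if c * t * c⁻¹ = a⁻¹ * g then (1 : ℂ) else 0) := by
    simp only [H65.doPhi, Finset.sum_mul, ite_mul, one_mul, zero_mul]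
    rw [Finset.sum_comm (γ := G) (f := fun a c => if c * t * c⁻¹ = a then
      ∑ e : G, if e * t * e⁻¹ = a⁻¹ * g then (1 : ℂ) else 0 else 0)]
    refine Finset.sum_congr rfl fun c _ => ?_
    rw [Finset.sum_ite_eq, if_pos (Finset.mem_univ _)]
    exact Finset.sum_congr rfl fun e _ => if_congr eq_inv_mul_iff_mul_eq.symm rfl rfl
  rw [hΦf]
  simp only [hfc, ite_mul, mul_ite, zero_mul, mul_zero, ← ite_and, ← Finset.sum_filter,
    Finset.sum_const, nsmul_eq_mul]
  rw [pow_two, mul_comm _ (2 * (Nat.card K : ℂ) * (2 * (Nat.card K : ℂ)))]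
  congr 2
  rw [ecount]
  congr 1
  refine Finset.filter_congr fun a _ => ?_
  constructor
  · rintro ⟨h2, h1'⟩
    rw [inv_eq_of_mul_eq_one_right (show a * a = 1 by
      rw [← pow_two, ← h1']; exact pow_orderOf_eq_one a)] at h2
    exact ⟨h1', h2⟩
  · rintro ⟨h1', h2⟩
    rw [inv_eq_of_mul_eq_one_right (show a * a = 1 by
      rw [← pow_two, ← h1']; exact pow_orderOf_eq_one a)]
    exact ⟨h2, h1'⟩

theorem phi_K {y : G} (hy : y ∈ K) (hy1 : y ≠ 1) :
    (Nat.card G : ℂ) * ∑ χ : IrrCharacter G,
        (χ : G → ℂ) t * (χ : G → ℂ) t * (χ : G → ℂ) y / (χ : G → ℂ) 1 =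
      4 * (Nat.card K : ℂ) ^ 3 := by
  rw [phi_count h, ecount_K h hy hy1]; ring

theorem not_inU_one : ¬ InU K (1 : G) := by
  rintro ⟨c, y, -, hy1, e⟩
  exact hy1 (by
    calc y = c⁻¹ * (c * y * c⁻¹) * c := by group
      _ = 1 := by rw [e]; group)

/-- The three characters with their signs, and the family of the non-real characters. -/
structure Split where
  σ : IrrCharacter K
  p : ℕ
  r : ℕ → IrrCharacter K
  hp : 2 * p + 2 = Nat.card K
  hσ : H12.conjIrr σ = σ
  hsum : ∀ F : IrrCharacter K → ℂ, ∑ l, F l =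
    F (H12.oneIrr K) + F σ + ∑ i ∈ Finset.range p, (F (r i) + F (H12.conjIrr (r i)))
  a : IrrCharacter G
  c : IrrCharacter G
  d : IrrCharacter G
  b : ℕ → IrrCharacter G
  δ : ℤ
  ec : ℤ
  ed : ℤ
  hδ : δ = 1 ∨ δ = -1
  hec : ec = 1 ∨ ec = -1
  hed : ed = 1 ∨ ed = -1
  ha1 : a ≠ H12.oneIrr G
  val_a : ∀ y ∈ K, y ≠ 1 → (a : G → ℂ) y = δ
  val_c : ∀ y : K, y ≠ 1 → (c : G → ℂ) y = ec * (σ : K → ℂ) y
  val_d : ∀ y : K, y ≠ 1 → (d : G → ℂ) y = ed * (σ : K → ℂ) y
  val_b : ∀ i < p, ∀ y : K, y ≠ 1 →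
    (b i : G → ℂ) y = δ * ((r i : K → ℂ) y + conj ((r i : K → ℂ) y))
  odd_b : ∀ i < p, ∀ g : G, ¬ InU K g → (b i : G → ℂ) g = (a : G → ℂ) g + δ
  odd_cd : ∀ g : G, ¬ InU K g →
    (ec : ℂ) * (c : G → ℂ) g + (ed : ℂ) * (d : G → ℂ) g = 1 + δ * (a : G → ℂ) g
  sumF : ∀ F : IrrCharacter G → ℂ,
    (∀ χ : IrrCharacter G, (∀ y : K, y ≠ 1 → (χ : G → ℂ) y = 0) → F χ = 0) →
    ∑ χ, F χ = F (H12.oneIrr G) + F a + F c + F d + ∑ i ∈ Finset.range p, F (b i)
  cong : (Nat.card K : ℤ) ∣ (H12.degree (a : G → ℂ) : ℤ) - δ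
  eq0 : p = 0 → ec * (H12.degree (c : G → ℂ) : ℤ) = ed * (H12.degree (d : G → ℂ) : ℤ)

/-- From the support of the vectors to the splitting. -/
theorem split_of_support {σ : IrrCharacter K} (hσ1 : σ ≠ H12.oneIrr K) (hσ : H12.conjIrr σ = σ)
    {p : ℕ} {r : ℕ → IrrCharacter K} (hp : 2 * p + 2 = Nat.card K)
    (hr : ∀ i < p, r i ≠ H12.oneIrr K ∧ r i ≠ σ ∧ H12.conjIrr (r i) ≠ H12.oneIrr K ∧
      H12.conjIrr (r i) ≠ σ ∧ H12.conjIrr (r i) ≠ r i)
    (hcover : ∀ l, l = H12.oneIrr K ∨ l = σ ∨ ∃ i < p, l = r i ∨ l = H12.conjIrr (r i))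
    (hsum : ∀ F : IrrCharacter K → ℂ, ∑ l, F l =
      F (H12.oneIrr K) + F σ + ∑ i ∈ Finset.range p, (F (r i) + F (H12.conjIrr (r i))))
    (a c d : IrrCharacter G) (b : ℕ → IrrCharacter G) (e : ℤ) (he : e = 1 ∨ e = -1)
    (hS : a ≠ H12.oneIrr G ∧ c ≠ H12.oneIrr G ∧ d ≠ H12.oneIrr G)
    (hac : a ≠ c) (had : a ≠ d) (hcd : c ≠ d)
    (hb : ∀ j < p, b j ≠ H12.oneIrr G ∧ b j ≠ a ∧ b j ≠ c ∧ b j ≠ d ∧
      kv a (r j) = e ∧ kv (b j) (r j) = -e ∧
      ∀ χ : IrrCharacter G, χ ≠ H12.oneIrr G → χ ≠ a → χ ≠ b j → kv χ (r j) = 0)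
    (hbinj : ∀ i j, i < p → j < p → b i = b j → i = j)
    (ha : kv a σ = e) (hc : kv c σ = 1 ∨ kv c σ = -1) (hd : kv d σ = 1 ∨ kv d σ = -1)
    (hh0 : ∀ χ : IrrCharacter G, χ ≠ H12.oneIrr G → χ ≠ a → χ ≠ c → χ ≠ d → kv χ σ = 0)
    (heq0 : p = 0 →
      kv c σ * (H12.degree (c : G → ℂ) : ℤ) = kv d σ * (H12.degree (d : G → ℂ) : ℤ)) :
    Nonempty (Split (G := G) (K := K)) := by
  have hsym : ∀ i < p, ∀ χ : IrrCharacter G, kv χ (H12.conjIrr (r i)) = kv χ (r i) := by
    intro i hi χ
    obtain ⟨h1, -, h3, -, h5⟩ := hr i hi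
    have h0 : ∑ ψ : IrrCharacter G, (kv ψ (H12.conjIrr (r i)) - kv ψ (r i)) ^ 2 = 0 := by
      simp only [pow_two, sub_mul, mul_sub, Finset.sum_sub_distrib]
      rw [gram h h3 h3, gram h h3 h1, gram h h1 h3, gram h h1 h1, H12.conjIrr_conjIrr]
      simp [h5, h5.symm]
    exact sub_eq_zero.1 (pow_eq_zero_iff (n := 2) two_ne_zero |>.1
      ((Finset.sum_eq_zero_iff_of_nonneg (fun ψ _ => sq_nonneg _)).1 h0 χ (Finset.mem_univ _)))
  have hone : ∀ y : K, (H12.oneIrr K : K → ℂ) y = 1 := fun y => rfl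
  have hval : ∀ (χ : IrrCharacter G) (y : K), y ≠ 1 → (χ : G → ℂ) y = (kv χ σ : ℂ) * (σ : K → ℂ) y +
      ∑ i ∈ Finset.range p, (kv χ (r i) : ℂ) * ((r i : K → ℂ) y + conj ((r i : K → ℂ) y)) := by
    intro χ y hy
    rw [val_kv h χ hy, hsum]
    rw [kv_one, Int.cast_zero, zero_mul, zero_add]
    refine congrArg _ (Finset.sum_congr rfl fun i hi => ?_)
    rw [hsym i (Finset.mem_range.1 hi), H12.conjIrr_apply]; ring
  have hc0 : ∀ i < p, kv c (r i) = 0 := fun i hi => (hb i hi).2.2.2.2.2.2 c hS.2.1 hac.symm (hb i hi).2.2.1.symm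
  have hd0 : ∀ i < p, kv d (r i) = 0 := fun i hi => (hb i hi).2.2.2.2.2.2 d hS.2.2 had.symm (hb i hi).2.2.2.1.symm
  have hδ : -e = 1 ∨ -e = -1 := by omega
  refine ⟨⟨σ, p, r, hp, hσ, hsum, a, c, d, b, -e, kv c σ, kv d σ, hδ, hc, hd, hS.1,
    ?_, ?_, ?_, ?_, ?_, ?_, ?_, ?_, heq0⟩⟩
  · intro y hy hy1
    have hy' : (⟨y, hy⟩ : K) ≠ 1 := fun e' => hy1 (congrArg Subtype.val e')
    have h1 := K_column h (⟨y, hy⟩ : K)
    rw [if_neg hy', hsum] at h1
    simp only [H12.conjIrr_apply, hone] at h1
    rw [show (a : G → ℂ) y = (a : G → ℂ) ((⟨y, hy⟩ : K) : G) from rfl, hval a _ hy', ha,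
      Finset.sum_congr rfl fun i hi => by rw [(hb i (Finset.mem_range.1 hi)).2.2.2.2.1], ← Finset.mul_sum]
    push_cast
    linear_combination (e : ℂ) * h1
  · intro y hy
    rw [hval c y hy, Finset.sum_eq_zero fun i hi => by simp [hc0 i (Finset.mem_range.1 hi)], add_zero]
  · intro y hy
    rw [hval d y hy, Finset.sum_eq_zero fun i hi => by simp [hd0 i (Finset.mem_range.1 hi)], add_zero]
  · intro i hi y hy
    obtain ⟨b1, ba, bc, bd, -, bv, -⟩ := hb i hi
    rw [hval _ y hy, hh0 _ b1 ba bc bd, Int.cast_zero, zero_mul, zero_add,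
      Finset.sum_eq_single_of_mem i (Finset.mem_range.2 hi) (fun j hj hji => by
        rw [(hb j (Finset.mem_range.1 hj)).2.2.2.2.2.2 _ b1 ba (fun e' => hji (hbinj _ _ hi
          (Finset.mem_range.1 hj) e').symm), Int.cast_zero, zero_mul]), bv]
  · intro i hi g hg
    obtain ⟨b1, ba, -, -, av, bv, b0⟩ := hb i hi
    have h1 := kv_odd h (r i) hg
    rw [← Finset.sum_subset (show ({H12.oneIrr G, a, b i} : Finset (IrrCharacter G)) ⊆ Finset.univ from
        Finset.subset_univ _) (fun χ _ hn => by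
          simp only [Finset.mem_insert, Finset.mem_singleton, not_or] at hn
          rw [b0 χ hn.1 hn.2.1 hn.2.2, Int.cast_zero, zero_mul]),
      Finset.sum_insert (by simp [hS.1.symm, b1.symm]), Finset.sum_pair ba.symm,
      kv_oneIrr (hr i hi).1, av, bv, H12.oneIrr_apply] at h1
    push_cast at h1 ⊢
    rcases he with r' | r' <;> rw [r'] at h1 ⊢ <;> push_cast at h1 ⊢ <;>
      first | linear_combination -h1 | linear_combination h1
  · intro g hg
    have h1 := kv_odd h σ hg
    rw [← Finset.sum_subset (show ({H12.oneIrr G, a, c, d} : Finset (IrrCharacter G)) ⊆ Finset.univ from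
        Finset.subset_univ _) (fun χ _ hn => by
          simp only [Finset.mem_insert, Finset.mem_singleton, not_or] at hn
          rw [hh0 χ hn.1 hn.2.1 hn.2.2.1 hn.2.2.2, Int.cast_zero, zero_mul]),
      Finset.sum_insert (by simp [hS.1.symm, hS.2.1.symm, hS.2.2.symm]),
      Finset.sum_insert (by simp [hac, had]), Finset.sum_pair hcd,
      kv_oneIrr hσ1, ha, H12.oneIrr_apply] at h1
    push_cast at h1 ⊢
    linear_combination h1
  · intro F hF
    set T := insert (H12.oneIrr G) (insert a (insert c (insert d ((Finset.range p).image b)))) with hT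
    rw [← Finset.sum_subset (Finset.subset_univ T) (fun χ _ hn => by
      simp only [hT, Finset.mem_insert, Finset.mem_image, Finset.mem_range, not_or, not_exists, not_and] at hn
      refine hF χ fun y hy => ?_
      rw [hval χ y hy, hh0 χ hn.1 hn.2.1 hn.2.2.1 hn.2.2.2.1, Int.cast_zero, zero_mul, zero_add]
      refine Finset.sum_eq_zero fun i hi => ?_
      have hi' := Finset.mem_range.1 hi
      rw [(hb i hi').2.2.2.2.2.2 χ hn.1 hn.2.1 (fun e' => hn.2.2.2.2 i hi' e'.symm), Int.cast_zero,
        zero_mul]), hT,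
      Finset.sum_insert, Finset.sum_insert, Finset.sum_insert, Finset.sum_insert,
      Finset.sum_image (fun i hi j hj e' => hbinj i j (Finset.mem_range.1 hi) (Finset.mem_range.1 hj) e')]
    · ring
    · simp only [Finset.mem_image, Finset.mem_range, not_exists, not_and]
      exact fun i hi => (hb i hi).2.2.2.1
    · simp only [Finset.mem_insert, Finset.mem_image, Finset.mem_range, not_or, not_exists, not_and]
      exact ⟨hcd, fun i hi => (hb i hi).2.2.1⟩
    · simp only [Finset.mem_insert, Finset.mem_image, Finset.mem_range, not_or, not_exists, not_and]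
      exact ⟨hac, had, fun i hi => (hb i hi).2.1⟩
    · simp only [Finset.mem_insert, Finset.mem_image, Finset.mem_range, not_or, not_exists, not_and]
      exact ⟨hS.1.symm, hS.2.1.symm, hS.2.2.symm, fun i hi => (hb i hi).1⟩
  · have h1 := deg_kv h a
    rw [hsum, kv_one, ha, Finset.sum_congr rfl fun i hi => by
        rw [hsym i (Finset.mem_range.1 hi), (hb i (Finset.mem_range.1 hi)).2.2.2.2.1],
      Finset.sum_const, Finset.card_range, H12.irr_apply_one, nsmul_eq_mul] at h1
    refine ⟨(km a (H12.oneIrr K) : ℤ) + e, ?_⟩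
    have hp' : ((2 * p + 2 : ℕ) : ℂ) = (Nat.card K : ℂ) := by rw [hp]
    apply Int.cast_injective (α := ℂ)
    push_cast at hp' h1 ⊢
    linear_combination h1 + (e : ℂ) * hp'

theorem exists_split : Nonempty (Split (G := G) (K := K)) := by
  obtain ⟨σ, p, r, hσ1, hσ, hp, hr, hrinj, hcr, hcover, hsum⟩ := exists_reps h
  set S := (Finset.univ : Finset (IrrCharacter G)).erase (H12.oneIrr G) with hSdef
  have hone : H12.oneIrr G ∈ (Finset.univ : Finset (IrrCharacter G)) := Finset.mem_univ _
  have gS : ∀ i j : IrrCharacter K, i ≠ H12.oneIrr K → j ≠ H12.oneIrr K →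
      ∑ χ ∈ S, kv χ i * kv χ j =
        (if i = j then 1 else 0) + (if i = H12.conjIrr j then 1 else 0) + 1 := by
    intro i j hi hj
    have h1 := gram h hi hj
    rw [← Finset.add_sum_erase _ _ hone, kv_oneIrr hi, kv_oneIrr hj] at h1
    linarith
  have dS : ∀ i : IrrCharacter K, i ≠ H12.oneIrr K →
      ∑ χ ∈ S, kv χ i * (H12.degree (χ : G → ℂ) : ℤ) = 1 := by
    intro i hi
    have h1 := kv_odd h i (not_inU_one h)
    rw [← Finset.add_sum_erase _ _ hone, kv_oneIrr hi] at h1
    simp only [H12.irr_apply_one, H12.oneIrr_apply] at h1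
    push_cast at h1
    apply Int.cast_injective (α := ℂ)
    push_cast
    linear_combination h1
  have hh : ∑ χ ∈ S, kv χ σ ^ 2 = 3 := by
    simp only [pow_two]
    rw [gS σ σ hσ1 hσ1, hσ, if_pos rfl]; norm_num
  have hne : ∀ χ ∈ S, χ ≠ H12.oneIrr G := fun χ hχ => (Finset.mem_erase.1 hχ).1
  have hmem : ∀ χ : IrrCharacter G, χ ≠ H12.oneIrr G → χ ∈ S := fun χ hχ =>
    Finset.mem_erase.2 ⟨hχ, Finset.mem_univ _⟩
  rcases Nat.eq_zero_or_pos p with hp0 | hp0
  · subst hp0
    obtain ⟨T, hTS, hTc, hT1, hT0⟩ := H65.DV_support S (fun χ => kv χ σ) (k := 3) le_rfl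
      (by exact_mod_cast hh)
    obtain ⟨x, y, z, hxy, hxz, hyz, rfl⟩ := Finset.card_eq_three.1 hTc
    have hx := hTS (Finset.mem_insert_self x _)
    have hy := hTS (Finset.mem_insert_of_mem (Finset.mem_insert_self y _))
    have hz := hTS (Finset.mem_insert_of_mem (Finset.mem_insert_of_mem (Finset.mem_singleton_self z)))
    have ex := hT1 x (by simp)
    have ey := hT1 y (by simp)
    have ez := hT1 z (by simp)
    set t' : K := ⟨t, h.tK⟩
    have ht' : t' ≠ 1 := fun e => t_ne h (congrArg Subtype.val e)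
    have hσt : (σ : K → ℂ) t' = -1 := by
      have h1 := K_column h t'
      rw [if_neg ht', hsum, Finset.range_zero, Finset.sum_empty, add_zero, H12.oneIrr_apply] at h1
      linear_combination h1
    have hvt : ∀ χ : IrrCharacter G, (χ : G → ℂ) t = -(kv χ σ : ℂ) := fun χ => by
      rw [show (χ : G → ℂ) t = (χ : G → ℂ) (t' : G) from rfl, val_kv h χ ht', hsum, kv_one,
        Finset.range_zero, Finset.sum_empty, hσt]
      push_cast; ring
    -- the signed degrees
    have hdeg := dS σ hσ1
    rw [← Finset.sum_subset hTS (fun i hi hni => by rw [hT0 i hi hni, zero_mul]),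
      Finset.sum_insert (by simp [hxy, hxz]), Finset.sum_pair hyz] at hdeg
    have hF := phi_K h h.tK (t_ne h)
    rw [← Finset.add_sum_erase _ _ hone, ← hSdef,
      ← Finset.sum_subset hTS (fun i hi hni => by
        rw [hvt i, hT0 i hi hni]; simp),
      Finset.sum_insert (by simp [hxy, hxz]), Finset.sum_pair hyz] at hF
    simp only [hvt, kv_oneIrr hσ1, H12.oneIrr_apply, H12.irr_apply_one] at hF
    have hK2 : Nat.card K = 2 := by omega
    rw [card_G h, hK2] at hF
    set N := (centralizer ({t} : Set G)).index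
    have hpar : ∀ χ : IrrCharacter G, kv χ σ = 1 ∨ kv χ σ = -1 → Odd (H12.degree (χ : G → ℂ) : ℤ) := by
      intro χ hχ
      have h1 := deg_kv h χ
      rw [hsum, kv_one, Finset.range_zero, Finset.sum_empty, hK2, H12.irr_apply_one] at h1
      have h2 : (H12.degree (χ : G → ℂ) : ℤ) = 2 * km χ (H12.oneIrr K) + kv χ σ := by
        apply Int.cast_injective (α := ℂ)
        push_cast at h1 ⊢
        linear_combination h1
      rcases hχ with e | e <;> rw [h2, e, Int.odd_iff] <;> omega
    set X := (H12.degree (x : G → ℂ) : ℤ) with hX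
    set Y := (H12.degree (y : G → ℂ) : ℤ) with hY
    set Z := (H12.degree (z : G → ℂ) : ℤ) with hZ
    have hX0 : (X : ℂ) ≠ 0 := by rw [hX]; exact_mod_cast (H12.irr_degree_pos x).ne'
    have hY0 : (Y : ℂ) ≠ 0 := by rw [hY]; exact_mod_cast (H12.irr_degree_pos y).ne'
    have hZ0 : (Z : ℂ) ≠ 0 := by rw [hZ]; exact_mod_cast (H12.irr_degree_pos z).ne'
    have hsq : 1 + X ^ 2 + Y ^ 2 + Z ^ 2 ≤ 4 * (N : ℤ) := by
      have h1 := H12.sum_degree_sq_nat (G := G)
      rw [← Finset.add_sum_erase _ _ hone, ← hSdef] at h1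
      have h2 := Finset.sum_le_sum_of_subset (f := fun χ : IrrCharacter G => H12.degree (χ : G → ℂ) ^ 2) hTS
      rw [Finset.sum_insert (by simp [hxy, hxz]), Finset.sum_pair hyz] at h2
      have h3 : H12.degree (H12.oneIrr G : G → ℂ) = 1 := by
        have e : ((H12.degree (H12.oneIrr G : G → ℂ) : ℕ) : ℂ) = 1 := by rw [← H12.irr_apply_one]; rfl
        exact_mod_cast e
      rw [h3, card_G h, hK2] at h1
      rw [hX, hY, hZ]
      push_cast
      exact_mod_cast (show 1 + H12.degree (x : G → ℂ) ^ 2 + H12.degree (y : G → ℂ) ^ 2 +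
        H12.degree (z : G → ℂ) ^ 2 ≤ 4 * N by linarith)
    have htwo := H65.BV_two_equal (N := (N : ℤ)) (x := -(kv x σ * X)) (y := -(kv y σ * Y))
      (z := -(kv z σ * Z)) (by exact_mod_cast (odd_index h).pos) (by exact_mod_cast odd_index h)
      (by rcases ex with e | e <;> (have q := hpar x (by omega); rw [e]; rw [← hX] at q; simpa using q))
      (by rcases ey with e | e <;> (have q := hpar y (by omega); rw [e]; rw [← hY] at q; simpa using q))
      (by rcases ez with e | e <;> (have q := hpar z (by omega); rw [e]; rw [← hZ] at q; simpa using q))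
      (by linarith)
      (by
        apply Int.cast_injective (α := ℂ)
        push_cast
        have cX : ((H12.degree (x : G → ℂ) : ℕ) : ℂ) = (X : ℂ) := by rw [hX]; norm_cast
        have cY : ((H12.degree (y : G → ℂ) : ℕ) : ℂ) = (Y : ℂ) := by rw [hY]; norm_cast
        have cZ : ((H12.degree (z : G → ℂ) : ℕ) : ℂ) = (Z : ℂ) := by rw [hZ]; norm_cast
        have c1 : ((H12.degree (H12.oneIrr G : G → ℂ) : ℕ) : ℂ) = 1 := by rw [← H12.irr_apply_one]; rfl
        rw [cX, cY, cZ] at hF
        push_cast at hF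
        rcases ex with e | e <;> rcases ey with e' | e' <;> rcases ez with e'' | e'' <;>
          rw [e, e', e''] at hF ⊢ <;> push_cast at hF ⊢ <;> field_simp at hF <;>
          first | linear_combination hF | linear_combination -hF)
      (by
        have e : ∀ (u D : ℤ), u = 1 ∨ u = -1 → (-(u * D)) ^ 2 = D ^ 2 := by
          rintro u D (rfl | rfl) <;> ring
        rw [e _ _ ex, e _ _ ey, e _ _ ez]
        exact hsq)
    have hsgn : ∀ (u D : ℤ), u = 1 ∨ u = -1 → u * u = 1 := by rintro u D (rfl | rfl) <;> ring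
    have key : ∀ a c d : IrrCharacter G, a ∈ S → c ∈ S → d ∈ S → a ≠ c → a ≠ d → c ≠ d →
        ({x, y, z} : Finset (IrrCharacter G)) = {a, c, d} →
        kv c σ * (H12.degree (c : G → ℂ) : ℤ) = kv d σ * (H12.degree (d : G → ℂ) : ℤ) →
        Nonempty (Split (G := G) (K := K)) := by
      intro a c d ha hc hd hac had hcd he heq0
      have hin : ∀ w, w = a ∨ w = c ∨ w = d → w ∈ ({x, y, z} : Finset (IrrCharacter G)) := fun w hw => by
        rw [he]; simpa using hw
      refine split_of_support h hσ1 hσ hp hr hcover hsum a c d (fun _ => a) (kv a σ)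
        (hT1 a (hin a (Or.inl rfl))) ⟨hne a ha, hne c hc, hne d hd⟩ hac had hcd
        (fun j hj => absurd hj (Nat.not_lt_zero _)) (fun i j hi => absurd hi (Nat.not_lt_zero _)) rfl
        (hT1 c (hin c (Or.inr (Or.inl rfl)))) (hT1 d (hin d (Or.inr (Or.inr rfl))))
        (fun χ h1 h2 h3 h4 => hT0 χ (hmem χ h1) ?_) (fun _ => heq0)
      rw [he]; simp [h2, h3, h4]
    rcases htwo with q | q | q
    · exact key z x y hz hx hy hxz.symm hyz.symm hxy (by ext l; simp; tauto) (neg_inj.1 q)
    · exact key x y z hx hy hz hxy hxz hyz rfl (neg_inj.1 q)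
    · exact key y x z hy hx hz hxy.symm hyz hxz (by ext l; simp; tauto) (neg_inj.1 q)
  · set t' : K := ⟨t, h.tK⟩
    have ht' : t' ≠ 1 := fun e => t_ne h (congrArg Subtype.val e)
    obtain ⟨a, c, d, b, e, he, ha, hc, hd, hac, had, hcd, hb, hbinj, hha, hhc, hhd, hh0⟩ :=
      H65.BV_split S hp0 (fun j χ => kv χ (r j)) (fun χ => kv χ σ)
        (fun χ => (H12.degree (χ : G → ℂ) : ℤ))
        (fun χ _ => by exact_mod_cast H12.irr_degree_pos χ)
        (fun j hj => by
          simp only [pow_two]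
          rw [gS _ _ (hr j hj).1 (hr j hj).1, if_pos rfl, if_neg (hr j hj).2.2.2.2.symm]; norm_num)
        (fun i j hi hj hij => by
          rw [gS _ _ (hr i hi).1 (hr j hj).1, if_neg (fun q => hij (hrinj i j hi hj q)),
            if_neg (hcr i j hi hj)]; norm_num)
        hh
        (fun j hj => by
          rw [gS _ _ (hr j hj).1 hσ1, if_neg (hr j hj).2.1, hσ, if_neg (hr j hj).2.1]; norm_num)
        (fun j hj => dS _ (hr j hj).1)
        (dS σ hσ1)
        (fun hp2 a i b e he ha hi hb0 hb1 hab0 hab1 hb01 hia hib0 hib1 hw hha hhi hh0 hdeg => by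
          subst hp2
          -- the exceptional configuration in the case `k = 6`
          have hk6 : Nat.card K = 6 := by omega
          have hsym : ∀ j < 2, ∀ χ : IrrCharacter G, kv χ (H12.conjIrr (r j)) = kv χ (r j) := by
            intro j hj χ
            obtain ⟨h1, -, h3, -, h5⟩ := hr j hj
            have h0 : ∑ ψ : IrrCharacter G, (kv ψ (H12.conjIrr (r j)) - kv ψ (r j)) ^ 2 = 0 := by
              simp only [pow_two, sub_mul, mul_sub, Finset.sum_sub_distrib]
              rw [gram h h3 h3, gram h h3 h1, gram h h1 h3, gram h h1 h1, H12.conjIrr_conjIrr]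
              simp [h5, h5.symm]
            exact sub_eq_zero.1 (pow_eq_zero_iff (n := 2) two_ne_zero |>.1
              ((Finset.sum_eq_zero_iff_of_nonneg (fun ψ _ => sq_nonneg _)).1 h0 χ (Finset.mem_univ _)))
          obtain ⟨wa0, wb0, wz0, hv0, hx0⟩ := hw 0 (by omega)
          obtain ⟨wa1, wb1, wz1, hv1, hx1⟩ := hw 1 (by omega)
          let R : ℕ → K → ℂ := fun j y => (r j : K → ℂ) y + conj ((r j : K → ℂ) y)
          have hval : ∀ (χ : IrrCharacter G) (y : K), y ≠ 1 → (χ : G → ℂ) y =
              (kv χ σ : ℂ) * (σ : K → ℂ) y + (kv χ (r 0) : ℂ) * R 0 y + (kv χ (r 1) : ℂ) * R 1 y := by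
            intro χ y hy
            rw [val_kv h χ hy, hsum, kv_one, Finset.sum_range_succ, Finset.sum_range_one, hsym 0 (by omega),
              hsym 1 (by omega)]
            simp only [R, H12.conjIrr_apply, Int.cast_zero, zero_mul, zero_add]
            ring
          have hrel : ∀ y : K, y ≠ 1 → 1 + (σ : K → ℂ) y + R 0 y + R 1 y = 0 := by
            intro y hy
            have h1 := K_column h y
            rw [if_neg hy, hsum, Finset.sum_range_succ, Finset.sum_range_one, H12.oneIrr_apply,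
              H12.conjIrr_apply, H12.conjIrr_apply] at h1
            simp only [R]; linear_combination h1
          -- an element of order three
          haveI : Fact (Nat.Prime 3) := ⟨by norm_num⟩
          obtain ⟨y, hy3⟩ := exists_prime_orderOf_dvd_card' (G := K) 3 ⟨2, by omega⟩
          have hy : y ≠ 1 := fun q => by rw [q, orderOf_one] at hy3; omega
          have hy3' : y * y * y = 1 := by
            have q := pow_orderOf_eq_one y; rw [hy3, pow_succ, pow_two] at q; exact q
          obtain ⟨fσ, hfσ⟩ := exists_hom h σ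
          have hσsq : ∀ z : K, (σ : K → ℂ) z * (σ : K → ℂ) z = 1 := fun z => by
            have q := H12.conjIrr_apply σ z
            rw [hσ] at q
            nth_rewrite 1 [q]
            rw [← lin_inv h, ← lin_mul h, inv_mul_cancel, lin_one h]
          have hσy : (σ : K → ℂ) y = 1 := by
            have q : (σ : K → ℂ) y * (σ : K → ℂ) y * (σ : K → ℂ) y = 1 := by
              rw [← lin_mul h, ← lin_mul h, hy3', lin_one h]
            rwa [hσsq, one_mul] at q
          have hσt : (σ : K → ℂ) t' = -1 := by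
            rcases mul_self_eq_one_iff.1 (hσsq t') with q | q
            · exfalso
              have h1 := K_row h σ
              rw [if_neg hσ1] at h1
              have hsub : ({1, t', y, y⁻¹} : Finset K) ⊆ Finset.univ := Finset.subset_univ _
              have hyi : y⁻¹ ≠ y := fun q => by
                have : orderOf y ∣ 2 := orderOf_dvd_of_pow_eq_one (by
                  rw [pow_two]; nth_rewrite 1 [← q]; exact inv_mul_cancel y)
                rw [hy3] at this; norm_num at this
              have ht2 : orderOf t' = 2 := by rw [← Subgroup.orderOf_coe]; exact h.t2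
              have hty : t' ≠ y := fun q => by rw [q, hy3] at ht2; omega
              have hty' : t' ≠ y⁻¹ := fun q => by rw [q, orderOf_inv, hy3] at ht2; omega
              have hc4 : ({1, t', y, y⁻¹} : Finset K).card = 4 := by
                rw [Finset.card_insert_of_notMem, Finset.card_insert_of_notMem, Finset.card_pair hyi.symm]
                · simp [hty, hty']
                · simp [ht'.symm, Ne.symm hy, inv_eq_one.not.2 hy, eq_comm]
              rw [← Finset.sum_sdiff hsub, Finset.sum_congr rfl (fun z (hz : z ∈ ({1, t', y, y⁻¹} : Finset K)) =>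
                show (σ : K → ℂ) z = 1 by
                  simp only [Finset.mem_insert, Finset.mem_singleton] at hz
                  rcases hz with rfl | rfl | rfl | rfl
                  exacts [lin_one h σ, q, hσy, by rw [lin_inv h, hσy, map_one]]),
                Finset.sum_const, hc4] at h1
              have hrest : (Finset.univ \ ({1, t', y, y⁻¹} : Finset K)).card = 2 := by
                rw [Finset.card_sdiff_of_subset hsub, Finset.card_univ, ← Nat.card_eq_fintype_card, hk6, hc4]
              obtain ⟨u, v, huv', huv⟩ := Finset.card_eq_two.1 hrest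
              rw [huv] at h1
              rw [Finset.sum_pair huv'] at h1
              rcases mul_self_eq_one_iff.1 (hσsq u) with q1 | q1 <;>
                rcases mul_self_eq_one_iff.1 (hσsq v) with q2 | q2 <;> rw [q1, q2] at h1 <;>
                norm_num at h1
            · exact q
          have hry : ∀ j < 2, R j y = 2 ∨ R j y = -1 := by
            intro j _
            set w := (r j : K → ℂ) y with hw
            have q : w * w * w = 1 := by rw [hw, ← lin_mul h, ← lin_mul h, hy3', lin_one h]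
            have q' : conj w = w * w := by
              rw [hw, ← lin_inv h, ← lin_mul h, ← eq_inv_of_mul_eq_one_left hy3']
            have q2 : (w - 1) * (w * w + w + 1) = 0 := by linear_combination q
            rcases mul_eq_zero.1 q2 with q3 | q3
            · left; show w + conj w = 2; rw [q', sub_eq_zero.1 q3]; norm_num
            · right; show w + conj w = -1; rw [q']; linear_combination q3
          have ry : R 0 y = -1 ∧ R 1 y = -1 := by
            have q := hrel y hy
            rw [hσy] at q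
            rcases hry 0 (by omega) with q0 | q0 <;> rcases hry 1 (by omega) with q1 | q1 <;>
              rw [q0, q1] at q <;> norm_num at q
            exact ⟨q0, q1⟩
          have rt : (R 0 t' = 2 ∧ R 1 t' = -2) ∨ (R 0 t' = -2 ∧ R 1 t' = 2) := by
            have hrt : ∀ j < 2, R j t' = 2 ∨ R j t' = -2 := by
              intro j _
              have q : (r j : K → ℂ) t' * (r j : K → ℂ) t' = 1 := by
                rw [← lin_mul h, show t' * t' = 1 from Subtype.ext (t_mul h), lin_one h]
              rcases mul_self_eq_one_iff.1 q with q1 | q1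
              · left; show (r j : K → ℂ) t' + _ = 2; rw [q1, map_one]; norm_num
              · right; show (r j : K → ℂ) t' + _ = -2; rw [q1, map_neg, map_one]; norm_num
            have q := hrel t' ht'
            rw [hσt] at q
            rcases hrt 0 (by omega) with q0 | q0 <;> rcases hrt 1 (by omega) with q1 | q1 <;>
              rw [q0, q1] at q <;> norm_num at q
            exacts [Or.inl ⟨q0, q1⟩, Or.inr ⟨q0, q1⟩]
          -- the values
          have hva : ∀ z : K, z ≠ 1 → (a : G → ℂ) z = (e : ℂ) * (R 0 z + R 1 z) := fun z hz => by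
            rw [hval a z hz, hha, wa0, wa1]; push_cast; ring
          have hvb0 : ∀ z : K, z ≠ 1 → (b 0 : G → ℂ) z = -(e : ℂ) * ((σ : K → ℂ) z + R 0 z) := fun z hz => by
            rw [hval _ z hz, hv0, wb0, wz1 _ hb0 hab0.symm hb01]; push_cast; ring
          have hvb1 : ∀ z : K, z ≠ 1 → (b 1 : G → ℂ) z = -(e : ℂ) * ((σ : K → ℂ) z + R 1 z) := fun z hz => by
            rw [hval _ z hz, hv1, wb1, wz0 _ hb1 hab1.symm hb01.symm]; push_cast; ring
          have hvi : ∀ z : K, z ≠ 1 → (i : G → ℂ) z = (kv i σ : ℂ) * (σ : K → ℂ) z := fun z hz => by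
            rw [hval _ z hz, wz0 _ hi hia hib0, wz1 _ hi hia hib1]; push_cast; ring
          have h0S : ∀ χ ∈ S, χ ≠ a → χ ≠ b 0 → χ ≠ b 1 → χ ≠ i → (χ : G → ℂ) t = 0 := by
            intro χ hχ q1 q2 q3 q4
            rw [show (χ : G → ℂ) t = (χ : G → ℂ) (t' : G) from rfl, hval χ t' ht',
              hh0 χ hχ q2 q3 q4, wz0 χ hχ q1 q2, wz1 χ hχ q1 q3]
            push_cast; ring
          have hFz : ∀ z : K, z ≠ 1 → ∑ χ : IrrCharacter G,
              (χ : G → ℂ) t * (χ : G → ℂ) t * (χ : G → ℂ) z / (χ : G → ℂ) 1 =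
              1 + ((b 0 : G → ℂ) t * (b 0 : G → ℂ) t * (b 0 : G → ℂ) z / (b 0 : G → ℂ) 1 +
                ((b 1 : G → ℂ) t * (b 1 : G → ℂ) t * (b 1 : G → ℂ) z / (b 1 : G → ℂ) 1 +
                  (i : G → ℂ) t * (i : G → ℂ) t * (i : G → ℂ) z / (i : G → ℂ) 1)) := by
            intro z hz
            rw [← Finset.add_sum_erase _ _ hone, ← hSdef, H12.oneIrr_apply, H12.oneIrr_apply,
              H12.oneIrr_apply, ← Finset.sum_subset (show ({b 0, b 1, i} : Finset (IrrCharacter G)) ⊆ S by
                simp [Finset.insert_subset_iff, hb0, hb1, hi]) (fun χ hχ hn => by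
                simp only [Finset.mem_insert, Finset.mem_singleton, not_or] at hn
                by_cases hχa : χ = a
                · rw [hχa, show (a : G → ℂ) t = (a : G → ℂ) (t' : G) from rfl, hva t' ht']
                  rcases rt with ⟨q0, q1⟩ | ⟨q0, q1⟩ <;> rw [q0, q1] <;> norm_num
                · rw [h0S χ hχ hχa hn.1 hn.2.1 hn.2.2]; ring),
              Finset.sum_insert (by simp [hb01, hib0.symm]), Finset.sum_pair hib1.symm]
            norm_num
          have eq1 := (phi_K h h.tK (t_ne h)).trans (phi_K h y.2 fun q => hy (Subtype.ext q)).symm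
          have hG0 : (Nat.card G : ℂ) ≠ 0 := by exact_mod_cast Nat.card_pos.ne'
          have eq2 := mul_left_cancel₀ hG0 eq1
          rw [show t = (t' : G) from rfl] at eq2
          rw [show ((t' : K) : G) = t from rfl] at eq2
          have ht_t : ∀ χ : IrrCharacter G, (χ : G → ℂ) t = (χ : G → ℂ) (t' : G) := fun χ => rfl
          rw [hFz y hy] at eq2
          rw [Finset.sum_congr rfl fun (χ : IrrCharacter G) _ => show
            (χ : G → ℂ) t * (χ : G → ℂ) t * (χ : G → ℂ) t / (χ : G → ℂ) 1 =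
              (χ : G → ℂ) t * (χ : G → ℂ) t * (χ : G → ℂ) (t' : G) / (χ : G → ℂ) 1 from rfl,
            hFz t' ht'] at eq2
          simp only [ht_t, hvb0 _ ht', hvb1 _ ht', hvi _ ht', hvb0 _ hy, hvb1 _ hy, hvi _ hy, hσt, hσy,
            ry.1, ry.2, H12.irr_apply_one] at eq2
          have hBB : H12.degree (b 1 : G → ℂ) = H12.degree (b 0 : G → ℂ) := by omega
          rw [hBB] at eq2
          set B := H12.degree (b 0 : G → ℂ) with hB
          set X := H12.degree (i : G → ℂ) with hX
          have hB0 : (B : ℂ) ≠ 0 := by rw [hB]; exact_mod_cast (H12.irr_degree_pos _).ne'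
          have hX0 : (X : ℂ) ≠ 0 := by rw [hX]; exact_mod_cast (H12.irr_degree_pos _).ne'
          have key : (13 : ℂ) * e * X = (kv i σ : ℂ) * B := by
            rcases rt with ⟨q0, q1⟩ | ⟨q0, q1⟩ <;> rw [q0, q1] at eq2 <;>
              rcases he with rfl | rfl <;> rcases hhi with q2 | q2 <;> rw [q2] at eq2 ⊢ <;>
              push_cast at eq2 ⊢ <;> field_simp at eq2 <;>
              first | linear_combination eq2 / 2 | linear_combination -eq2 / 2
          have key' : (13 : ℤ) * e * X = kv i σ * B := by exact_mod_cast key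
          have hdeg' : -2 * e * (B : ℤ) + kv i σ * (X : ℤ) = 1 := hdeg
          rcases he with rfl | rfl <;> rcases hhi with q2 | q2 <;> rw [q2] at key' hdeg' <;> omega)
    exact split_of_support h hσ1 hσ hp hr hcover hsum a c d b e he ⟨hne a ha, hne c hc, hne d hd⟩
      hac had hcd (fun j hj => by
        obtain ⟨q1, q2, q3, q4, q5, q6, q7⟩ := hb j hj
        exact ⟨hne _ q1, q2, q3, q4, q5, q6, fun χ z1 z2 z3 => q7 χ (hmem χ z1) z2 z3⟩)
      hbinj hha hhc hhd (fun χ z1 z2 z3 z4 => hh0 χ (hmem χ z1) z2 z3 z4)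
      (fun q => absurd q hp0.ne')

end H65.BSW
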