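import Cfsg.Agent.H65.BSWChars

/-!
The Brauer-Suzuki-Wall configuration: the order of the group and the number of involutions
inverting an element outside the conjugates of `K`.
-/

set_option autoImplicit false
set_option linter.unusedSectionVars false

namespace H65.BSW

open Subgroup Cfsg
open scoped Classical ComplexConjugate

universe u

variable {G : Type u} [Group G] [Fintype G] {t s : G} {K : Subgroup G} (h : Hyp t s K)

/-- The numerical data. -/
structure Data (h : Hyp t s K) where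
  a : IrrCharacter G
  δ : ℤ
  hδ : δ = 1 ∨ δ = -1
  ha1 : a ≠ H12.oneIrr G
  deg : (H12.degree (a : G → ℂ) : ℤ) = 2 * (Nat.card K : ℤ) + δ
  hN : 2 * ((centralizer ({t} : Set G)).index : ℤ) =
    (2 * (Nat.card K : ℤ) + δ) * (2 * (Nat.card K : ℤ) + 2 * δ)
  val_K : ∀ y ∈ K, y ≠ 1 → (a : G → ℂ) y = δ
  ecount_eq : ∀ g : G, ¬ InU K g →
    ((centralizer ({t} : Set G)).index : ℂ) * (1 + (a : G → ℂ) g / (H12.degree (a : G → ℂ) : ℂ) +
      ((a : G → ℂ) g + δ) * (2 * (Nat.card K : ℂ) - 2) / ((H12.degree (a : G → ℂ) : ℂ) + δ)) =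
    2 * (Nat.card K : ℂ) * (ecount g : ℂ)

include h

theorem exists_data : Nonempty (Data h) := by
  obtain ⟨S⟩ := exists_split h
  set k := Nat.card K with hk
  set N := (centralizer ({t} : Set G)).index with hNdef
  set t' : K := ⟨t, h.tK⟩
  have ht' : t' ≠ 1 := fun e => t_ne h (congrArg Subtype.val e)
  have hk2 : 2 ≤ k := two_le h
  set A := H12.degree (S.a : G → ℂ) with hA
  set C := H12.degree (S.c : G → ℂ) with hC
  set D := H12.degree (S.d : G → ℂ) with hD
  have hA0 : 0 < A := H12.irr_degree_pos _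
  have hC0 : 0 < C := H12.irr_degree_pos _
  have hD0 : 0 < D := H12.irr_degree_pos _
  have hsq : ∀ y : K, (S.σ : K → ℂ) y * (S.σ : K → ℂ) y = 1 := fun y => by
    have q := H12.conjIrr_apply S.σ y
    rw [S.hσ] at q
    nth_rewrite 1 [q]
    rw [← lin_inv h, ← lin_mul h, inv_mul_cancel, lin_one h]
  have hδ2 : (S.δ : ℂ) * S.δ = 1 := by rcases S.hδ with r | r <;> rw [r] <;> norm_num
  have hc2 : (S.ec : ℂ) * S.ec = 1 := by rcases S.hec with r | r <;> rw [r] <;> norm_num
  have hd2 : (S.ed : ℂ) * S.ed = 1 := by rcases S.hed with r | r <;> rw [r] <;> norm_num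
  have hbsq : ∀ i < S.p, (S.b i : G → ℂ) t * (S.b i : G → ℂ) t = 4 := fun i hi => by
    rw [show (S.b i : G → ℂ) t = (S.b i : G → ℂ) (t' : G) from rfl, S.val_b i hi t' ht']
    have q : (S.r i : K → ℂ) t' * (S.r i : K → ℂ) t' = 1 := by
      rw [← lin_mul h, show t' * t' = 1 from Subtype.ext (t_mul h), lin_one h]
    rcases mul_self_eq_one_iff.1 q with q1 | q1 <;> rw [q1] <;>
      simp only [map_one, map_neg] <;> linear_combination 4 * hδ2
  have hsum_cd : (S.ec : ℂ) * C + (S.ed : ℂ) * D = 1 + S.δ * A := by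
    have q := S.odd_cd 1 (not_inU_one h)
    simpa only [H12.irr_apply_one] using q
  have hB : ∀ i < S.p, (S.b i : G → ℂ) 1 = (A : ℂ) + S.δ := fun i hi => by
    rw [S.odd_b i hi 1 (not_inU_one h), H12.irr_apply_one]
  set T : ℂ := (A : ℂ) + S.δ with hT
  have hkp : (2 * (S.p : ℂ) + 2) = (k : ℂ) := by rw [hk, ← S.hp]; push_cast; ring
  have hF : ∀ g : G, ∑ χ : IrrCharacter G,
      (χ : G → ℂ) t * (χ : G → ℂ) t * (χ : G → ℂ) g / (χ : G → ℂ) 1 =
      1 + (S.a : G → ℂ) g / A + (S.c : G → ℂ) g / C + (S.d : G → ℂ) g / D +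
        4 * (∑ i ∈ Finset.range S.p, (S.b i : G → ℂ) g) / T := by
    intro g
    rw [S.sumF _ (fun χ hχ => by
      rw [show (χ : G → ℂ) t = (χ : G → ℂ) (t' : G) from rfl, hχ t' ht']; simp),
      Finset.mul_sum, Finset.sum_div,
      Finset.sum_congr rfl fun i (hi : i ∈ Finset.range S.p) => by
        rw [hbsq i (Finset.mem_range.1 hi), hB i (Finset.mem_range.1 hi)]]
    simp only [show (S.c : G → ℂ) t = (S.c : G → ℂ) (t' : G) from rfl,
      show (S.d : G → ℂ) t = (S.d : G → ℂ) (t' : G) from rfl, S.val_a t h.tK (t_ne h),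
      S.val_c t' ht', S.val_d t' ht', H12.oneIrr_apply, H12.irr_apply_one S.a,
      H12.irr_apply_one S.c, H12.irr_apply_one S.d, mul_mul_mul_comm _ ((S.σ : K → ℂ) t'), hsq, hδ2,
      hc2, hd2, one_mul, mul_one, div_one, hA, hC, hD]
  have hFK : ∀ y : K, y ≠ 1 → ∑ χ : IrrCharacter G,
      (χ : G → ℂ) t * (χ : G → ℂ) t * (χ : G → ℂ) y / (χ : G → ℂ) 1 =
      1 + (S.δ : ℂ) / A + (S.σ : K → ℂ) y * ((S.ec : ℂ) / C + (S.ed : ℂ) / D) -
        4 * S.δ * (1 + (S.σ : K → ℂ) y) / T := by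
    intro y hy
    have hy1 : (y : G) ≠ 1 := fun e => hy (Subtype.ext e)
    have q := K_column h y
    rw [if_neg hy, S.hsum] at q
    simp only [H12.oneIrr_apply, H12.conjIrr_apply] at q
    rw [hF, S.val_a y y.2 hy1, S.val_c y hy, S.val_d y hy,
      Finset.sum_congr rfl fun i hi => S.val_b i (Finset.mem_range.1 hi) y hy, ← Finset.mul_sum]
    rw [show ∑ i ∈ Finset.range S.p, ((S.r i : K → ℂ) y + conj ((S.r i : K → ℂ) y)) =
      -(1 + (S.σ : K → ℂ) y) by linear_combination q]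
    ring
  have hG0 : (Nat.card G : ℂ) ≠ 0 := by exact_mod_cast Nat.card_pos.ne'
  have hKeq : ∀ y : K, y ≠ 1 → ∑ χ : IrrCharacter G,
      (χ : G → ℂ) t * (χ : G → ℂ) t * (χ : G → ℂ) y / (χ : G → ℂ) 1 =
      4 * (k : ℂ) ^ 3 / (Nat.card G : ℂ) := fun y hy => by
    rw [eq_div_iff hG0, mul_comm, phi_K h y.2 fun e => hy (Subtype.ext e)]
  -- the sum of the two half degree characters
  obtain ⟨hT0, hC2, hD2, hec, hed⟩ : T ≠ 0 ∧ 2 * (C : ℂ) = T ∧ 2 * (D : ℂ) = T ∧
      S.ec = S.δ ∧ S.ed = S.δ := by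
    have hxy : (S.ec : ℤ) * C = S.ed * D := by
      rcases Nat.eq_zero_or_pos S.p with hp | hp
      · exact S.eq0 hp
      · have hTne : T ≠ 0 := by rw [← hB 0 hp]; exact H12.irr_apply_one_ne_zero _
        obtain ⟨y, hy, hyne⟩ : ∃ y : K, y ≠ 1 ∧ (S.σ : K → ℂ) y ≠ (S.σ : K → ℂ) t' := by
          by_contra hno
          push Not at hno
          have h1 := H12.sum_mul_conj_eq_card_mul (S.σ : K → ℂ) (H12.oneIrr K : K → ℂ)
          have hσ1 : S.σ ≠ H12.oneIrr K := fun e => by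
            have q := S.hsum (fun l => if l = H12.oneIrr K then 1 else 0)
            rw [Finset.sum_ite_eq', if_pos (Finset.mem_univ _), if_pos rfl, if_pos e] at q
            have q' : (0 : ℂ) = 1 + ∑ i ∈ Finset.range S.p,
                ((if S.r i = H12.oneIrr K then (1 : ℂ) else 0) +
                  if H12.conjIrr (S.r i) = H12.oneIrr K then 1 else 0) := by linear_combination q
            have q'' : ((0 : ℕ) : ℂ) = ((1 + ∑ i ∈ Finset.range S.p,
                ((if S.r i = H12.oneIrr K then 1 else 0) +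
                  if H12.conjIrr (S.r i) = H12.oneIrr K then 1 else 0) : ℕ) : ℂ) := by
              push_cast; exact q'
            have := Nat.cast_injective q''
            omega
          simp only [H12.oneIrr_apply, map_one, mul_one, H12.classInner_irr, if_neg hσ1, mul_zero] at h1
          rw [← Finset.add_sum_erase _ _ (Finset.mem_univ (1 : K)), lin_one h,
            Finset.sum_congr rfl (fun z hz => hno z (Finset.ne_of_mem_erase hz)), Finset.sum_const,
            Finset.card_erase_of_mem (Finset.mem_univ _), Finset.card_univ, ← Nat.card_eq_fintype_card,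
            ← hk, nsmul_eq_mul] at h1
          have hk4 : 4 ≤ k := by rw [hk, ← S.hp]; omega
          have hs := hsq t'
          have : (((k - 1 : ℕ) : ℕ) : ℂ) * ((k - 1 : ℕ) : ℂ) = ((1 : ℕ) : ℂ) := by
            push_cast
            linear_combination (((k - 1 : ℕ) : ℂ) * (S.σ : K → ℂ) t' - 1) * h1 -
              ((k - 1 : ℕ) : ℂ) ^ 2 * hs
          have h9 : (k - 1) * (k - 1) = 1 := by exact_mod_cast this
          have : 3 * 3 ≤ (k - 1) * (k - 1) := Nat.mul_le_mul (by omega) (by omega)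
          omega
        have e1 := (hKeq t' ht').trans (hKeq y hy).symm
        rw [hFK t' ht', hFK y hy] at e1
        have hX : (S.ec : ℂ) / C + (S.ed : ℂ) / D = 4 * S.δ / T := by
          have e2 : ((S.σ : K → ℂ) t' - (S.σ : K → ℂ) y) *
              ((S.ec : ℂ) / C + (S.ed : ℂ) / D - 4 * S.δ / T) = 0 := by linear_combination e1
          exact sub_eq_zero.1 ((mul_eq_zero.1 e2).resolve_left (sub_ne_zero.2 (Ne.symm hyne)))
        have hC0' : (C : ℂ) ≠ 0 := by exact_mod_cast hC0.ne'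
        have hD0' : (D : ℂ) ≠ 0 := by exact_mod_cast hD0.ne'
        field_simp at hX
        have hzero : ((S.ec : ℂ) * C - S.ed * D) ^ 2 = 0 := by
          have hsum' : (S.ec : ℂ) * C + S.ed * D = S.δ * T := by
            rw [hsum_cd, hT]; linear_combination -hδ2
          linear_combination ((S.ec : ℂ) * C + S.ed * D) * hsum' +
            (S.δ : ℂ) * S.ec * S.ed * hX - (S.δ : ℂ) * T * S.ed * D * hc2 -
            (S.δ : ℂ) * T * S.ec * C * hd2 + 4 * (S.ec : ℂ) * C * S.ed * D * hδ2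
        exact_mod_cast sub_eq_zero.1 ((pow_eq_zero_iff (n := 2) two_ne_zero).1 hzero)
    have hI : (S.ec : ℤ) * C + S.ed * D = 1 + S.δ * A := by
      apply Int.cast_injective (α := ℂ)
      push_cast
      exact hsum_cd
    have hT' : (T : ℂ) = ((A + S.δ : ℤ) : ℂ) := by rw [hT]; push_cast; rfl
    rw [hT']
    have h2C : S.ec = S.δ ∧ S.ed = S.δ ∧ 2 * (C : ℤ) = A + S.δ ∧ 2 * (D : ℤ) = A + S.δ := by
      rcases S.hδ with r | r <;> rcases S.hec with r1 | r1 <;> rcases S.hed with r2 | r2 <;>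
        (revert hI hxy; rw [r, r1, r2]; intro hI hxy; omega)
    obtain ⟨q1, q2, q3, q4⟩ := h2C
    refine ⟨?_, ?_, ?_, q1, q2⟩
    · exact_mod_cast (show (A : ℤ) + S.δ ≠ 0 by omega)
    · exact_mod_cast q3
    · exact_mod_cast q4
  have hS' : (S.ec : ℂ) / C + (S.ed : ℂ) / D = 4 * S.δ / T := by
    rw [hec, hed, ← hC2, show (D : ℂ) = C by linear_combination (hD2 - hC2) / 2]
    have : (C : ℂ) ≠ 0 := by exact_mod_cast hC0.ne'
    field_simp; ring
  have heq := hKeq t' ht'
  rw [hFK t' ht', hS'] at heq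
  have hcardG : (Nat.card G : ℂ) = 2 * k * N := by rw [card_G h]; push_cast; rfl
  have hA0' : (A : ℂ) ≠ 0 := by exact_mod_cast hA0.ne'
  have hk0 : (k : ℂ) ≠ 0 := by exact_mod_cast (show k ≠ 0 by omega)
  have hN0 : (N : ℂ) ≠ 0 := by exact_mod_cast (odd_index h).pos.ne'
  have hord : (N : ℤ) * ((A : ℤ) - S.δ) ^ 2 = 2 * A * (A + S.δ) * (k : ℤ) ^ 2 := by
    apply Int.cast_injective (α := ℂ)
    push_cast
    rw [hcardG] at heq
    rw [hT] at heq hT0
    field_simp at heq
    rcases S.hδ with r | r <;> rw [r] at heq ⊢ <;> push_cast at heq ⊢ <;>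
      linear_combination heq / 2
  obtain ⟨q, hq⟩ : (k : ℤ) ∣ (A : ℤ) - S.δ := S.cong
  have hq1 : (N : ℤ) * q ^ 2 = 2 * A * (A + S.δ) := by
    apply mul_left_cancel₀ (show (k : ℤ) ^ 2 ≠ 0 by positivity)
    rw [hq] at hord
    linear_combination hord
  have hTpos : 0 < (A : ℤ) + S.δ := by
    rcases lt_or_eq_of_le (show 0 ≤ (A : ℤ) + S.δ by rcases S.hδ with r | r <;> omega) with r | r
    · exact r
    · exfalso; apply hT0; rw [hT]; exact_mod_cast r.symm
  have hqpos : 0 < q := by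
    have hAd : 0 ≤ (A : ℤ) - S.δ := by rcases S.hδ with r | r <;> omega
    have hq0 : 0 ≤ q := by nlinarith
    rcases lt_or_eq_of_le hq0 with r | r
    · exact r
    · exfalso
      rw [← r] at hq1
      have : 0 < 2 * (A : ℤ) * (A + S.δ) := mul_pos (by omega) hTpos
      linarith
  obtain ⟨r, hr⟩ : ∃ r, q = 2 * r := by
    obtain ⟨N', hN'⟩ := odd_index h
    rcases Int.even_or_odd q with ⟨r, hr⟩ | ⟨r, hr⟩
    · exact ⟨r, by omega⟩
    · exfalso
      have e : (N : ℤ) = 2 * N' + 1 := by rw [hNdef, hN']; push_cast; ring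
      rw [e, hr] at hq1
      have : (2 : ℤ) ∣ 1 := ⟨A * (A + S.δ) - (N' * (2 * r + 1) ^ 2 + 2 * r * r + 2 * r), by linear_combination hq1⟩
      omega
  have hAval : (A : ℤ) = S.δ + 2 * k * r := by rw [hr] at hq; linear_combination hq
  have hr1 : r = 1 := by
    have h3 : (N : ℤ) * r ^ 2 = A * (S.δ + k * r) := by
      rw [hr, hAval] at hq1
      rw [hAval]
      apply mul_left_cancel₀ (show (4 : ℤ) ≠ 0 by norm_num)
      linear_combination hq1
    have hd : r ∣ A * (S.δ + k * r) := ⟨N * r, by rw [← h3]; ring⟩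
    have : r ∣ S.δ * S.δ := by
      obtain ⟨z, hz⟩ := hd
      refine ⟨z - 3 * k * S.δ - 2 * k * k * r, ?_⟩
      rw [hAval] at hz
      linear_combination hz
    rcases S.hδ with e | e <;> rw [e] at this <;>
      exact Int.eq_one_of_dvd_one (by omega) (by simpa using this)
  refine ⟨⟨S.a, S.δ, S.hδ, S.ha1, by rw [← hA, hAval, hr1]; ring, ?_, S.val_a, fun g hg => ?_⟩⟩
  · rw [hr, hr1, hAval, hr1] at hq1
    rw [← hNdef, ← hk]
    apply mul_left_cancel₀ (show (2 : ℤ) ≠ 0 by norm_num)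
    linear_combination hq1
  · have q1 := phi_count h g
    rw [hF g, hcardG, Finset.sum_congr rfl fun i hi => S.odd_b i (Finset.mem_range.1 hi) g hg,
      Finset.sum_const, Finset.card_range, nsmul_eq_mul] at q1
    have q2 := S.odd_cd g hg
    rw [hec, hed] at q2
    have q3 : (S.c : G → ℂ) g = ((S.a : G → ℂ) g + S.δ) - (S.d : G → ℂ) g := by
      linear_combination (S.δ : ℂ) * q2 + ((S.a : G → ℂ) g - (S.c : G → ℂ) g - (S.d : G → ℂ) g) * hδ2
    have hDC : (D : ℂ) = C := by linear_combination (hD2 - hC2) / 2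
    have hC0' : (C : ℂ) ≠ 0 := by exact_mod_cast hC0.ne'
    have e1 : (S.a : G → ℂ) g / A + (S.c : G → ℂ) g / C + (S.d : G → ℂ) g / D +
        4 * ((S.p : ℂ) * ((S.a : G → ℂ) g + S.δ)) / T =
        (S.a : G → ℂ) g / A + ((S.a : G → ℂ) g + S.δ) * (2 * (k : ℂ) - 2) / T := by
      rw [q3, hDC, ← hC2, ← hkp]
      field_simp
      ring
    rw [← hA]
    show (N : ℂ) * (1 + _ / (A : ℂ) + _ / T) = 2 * (k : ℂ) * _
    apply mul_left_cancel₀ (mul_ne_zero two_ne_zero hk0)
    linear_combination q1 - 2 * (k : ℂ) * N * e1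

end H65.BSW
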