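import Mathlib.GroupTheory.Sylow
import Mathlib.GroupTheory.Transfer
import Mathlib.GroupTheory.FixedPointFree
import Mathlib.GroupTheory.SchurZassenhaus
import Mathlib.GroupTheory.GroupAction.Quotient
import Mathlib.Data.Complex.Basic
import Mathlib.Tactic.Group

/-!
General lemmas for the end of the Brauer-Suzuki-Wall theorem.
-/

set_option autoImplicit false
set_option linter.unusedSectionVars false

namespace H65.BSW

open Subgroup
open scoped Classical

universe u

variable {G : Type u} [Group G] [Finite G]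

/-- An involution normalising `S` without fixing a non-trivial element inverts it. -/
theorem fpf_inverts {S : Subgroup G} {v : G} (hv : v * v = 1)
    (hn : ∀ z ∈ S, v * z * v⁻¹ ∈ S) (hfix : ∀ z ∈ S, v * z * v⁻¹ = z → z = 1) :
    ∀ z ∈ S, v * z * v⁻¹ = z⁻¹ := by
  let φ : S →* S :=
    { toFun := fun z => ⟨v * z * v⁻¹, hn z z.2⟩
      map_one' := Subtype.ext (by simp)
      map_mul' := fun x y => Subtype.ext (by
        show v * ((x : G) * y) * v⁻¹ = v * x * v⁻¹ * (v * y * v⁻¹)
        group) }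
  have hf : MonoidHom.FixedPointFree φ := fun z hz => by
    apply Subtype.ext
    exact hfix z z.2 (congrArg Subtype.val hz)
  have hi : Function.Involutive φ := fun z => Subtype.ext (by
    show v * (v * (z : G) * v⁻¹) * v⁻¹ = z
    rw [show v * (v * (z : G) * v⁻¹) * v⁻¹ = (v * v) * z * (v * v)⁻¹ by group, hv]; simp)
  intro z hz
  have := congrArg Subtype.val (congrFun (hf.coe_eq_inv_of_involutive hi) ⟨z, hz⟩)
  simpa [φ] using this

/-- The image of a subgroup under conjugation. -/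
theorem mem_conjMap {X : Subgroup G} {c z : G} :
    z ∈ X.map (MulAut.conj c).toMonoidHom ↔ c⁻¹ * z * c ∈ X := by
  rw [mem_map_equiv, MulAut.conj_symm_apply]

theorem norm_conjMap {X : Subgroup G} {n : G} (hn : n ∈ normalizer (X : Set G)) (c : G) :
    c * n * c⁻¹ ∈ normalizer ((X.map (MulAut.conj c).toMonoidHom : Subgroup G) : Set G) :=
  mem_normalizer_iff.2 fun z => by
    rw [mem_conjMap, mem_conjMap,
      show c⁻¹ * (c * n * c⁻¹ * z * (c * n * c⁻¹)⁻¹) * c = n * (c⁻¹ * z * c) * n⁻¹ by group]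
    exact mem_normalizer_iff.1 hn _

theorem conjMap_ne_bot {X : Subgroup G} (hX : X ≠ ⊥) (c : G) :
    X.map (MulAut.conj c).toMonoidHom ≠ ⊥ := fun e =>
  hX ((Subgroup.map_eq_bot_iff_of_injective X (MulAut.conj c).injective).1 e)

/-- A `p`-subgroup is conjugate into a subgroup containing a Sylow `p`-subgroup. -/
theorem pgroup_conj_into {p : ℕ} [Fact p.Prime] {S : Subgroup G}
    (hS : ¬ p ∣ S.index) {X : Subgroup G} (hX : IsPGroup p X) :
    ∃ c : G, X.map (MulAut.conj c).toMonoidHom ≤ S := by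
  obtain ⟨P⟩ : Nonempty (Sylow p S) := inferInstance
  obtain ⟨Q, hQ⟩ := hX.exists_le_sylow
  obtain ⟨R, hR⟩ := (P.isPGroup'.map S.subtype).exists_le_sylow
  have hRS : ((P : Subgroup S).map S.subtype : Subgroup G) = R := by
    refine Subgroup.eq_of_le_of_card_ge hR (le_of_eq ?_)
    rw [Subgroup.card_map_of_injective S.subtype_injective, R.card_eq_multiplicity,
      P.card_eq_multiplicity, ← S.card_mul_index, Nat.factorization_mul Nat.card_pos.ne'
        Subgroup.index_ne_zero_of_finite]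
    simp [-Nat.card_eq_fintype_card, Nat.factorization_eq_zero_of_not_dvd hS]
  obtain ⟨c, hc⟩ := MulAction.exists_smul_eq G Q R
  refine ⟨c, ?_⟩
  rintro _ ⟨x, hx, rfl⟩
  have h1 : c * x * c⁻¹ ∈ (R : Subgroup G) := by
    rw [← hc, Sylow.coe_subgroup_smul]
    exact smul_mem_pointwise_smul x (MulAut.conj c) _ (hQ hx)
  rw [← hRS] at h1
  obtain ⟨w, -, hw⟩ := h1
  show c * x * c⁻¹ ∈ S
  exact (show (w : G) = c * x * c⁻¹ from hw) ▸ w.2

/-- A `p`-element is conjugate into a subgroup containing a Sylow `p`-subgroup. -/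
theorem conj_into {p : ℕ} [Fact p.Prime] {S : Subgroup G}
    (hS : ¬ p ∣ S.index) {x : G} (hx : ∃ j, orderOf x = p ^ j) :
    ∃ c : G, c * x * c⁻¹ ∈ S := by
  obtain ⟨j, hj⟩ := hx
  obtain ⟨c, hc⟩ := pgroup_conj_into hS (IsPGroup.of_card (n := j) (by rw [Nat.card_zpowers, hj]) :
    IsPGroup p (zpowers x))
  exact ⟨c, hc ⟨x, mem_zpowers x, rfl⟩⟩

/-- The conjugacy class as a finset. -/
noncomputable def clsF [Fintype G] (g : G) : Finset G := Finset.univ.image fun c : G => c * g * c⁻¹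

theorem card_clsF [Fintype G] (g : G) :
    (clsF g).card * Nat.card (centralizer ({g} : Set G)) = Nat.card G := by
  rw [Nat.card_eq_fintype_card (α := G), ← Finset.card_univ (α := G),
    Finset.card_eq_sum_card_image (fun c : G => c * g * c⁻¹) Finset.univ, ← smul_eq_mul,
    ← Finset.sum_const]
  refine Finset.sum_congr rfl fun b hb => ?_
  obtain ⟨c, -, rfl⟩ := Finset.mem_image.1 hb
  rw [Nat.subtype_card (p := (· ∈ centralizer ({g} : Set G)))
    (Finset.univ.filter (· ∈ centralizer ({g} : Set G))) (by simp)]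
  refine Finset.card_bij' (fun z _ => c * z) (fun d _ => c⁻¹ * d) ?_ ?_ ?_ ?_
  · intro z hz
    simp only [Finset.mem_filter, Finset.mem_univ, true_and] at hz ⊢
    calc c * z * g * (c * z)⁻¹ = c * (z * g) * z⁻¹ * c⁻¹ := by group
      _ = c * (g * z) * z⁻¹ * c⁻¹ := by rw [mem_centralizer_singleton_iff.1 hz]
      _ = c * g * c⁻¹ := by group
  · intro d hd
    simp only [Finset.mem_filter, Finset.mem_univ, true_and] at hd ⊢
    refine mem_centralizer_singleton_iff.2 ?_
    calc c⁻¹ * d * g = c⁻¹ * (d * g * d⁻¹) * d := by group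
      _ = g * (c⁻¹ * d) := by rw [hd]; group
  · intro z _; group
  · intro d _; group

/-- If Burnside's criterion holds for all primes different from `p`, the `p`-elements generate a
`p`-group. -/
theorem pclosure_isPGroup {p : ℕ} [Fact p.Prime] (M : Subgroup G)
    (hB : ∀ r : ℕ, r.Prime → r ≠ p → r ∣ Nat.card M → ∀ R : Subgroup G, R ≤ M → IsPGroup r R →
      R ≠ ⊥ → ∀ n ∈ M, n ∈ normalizer (R : Set G) → ∀ y ∈ R, y * n = n * y) :
    IsPGroup p (closure {x : G | x ∈ M ∧ ∃ j, orderOf x = p ^ j}) := by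
  set J := closure {x : G | x ∈ M ∧ ∃ j, orderOf x = p ^ j} with hJ
  have hJM : J ≤ M := (closure_le M).2 fun x hx => hx.1
  have hr : ∀ r : ℕ, r.Prime → r ∣ Nat.card J → r = p := by
    intro r hr hrJ
    by_contra hne
    haveI : Fact r.Prime := ⟨hr⟩
    obtain ⟨R⟩ : Nonempty (Sylow r M) := inferInstance
    have hrM : r ∣ Nat.card M := hrJ.trans (card_dvd_of_le hJM)
    have hR0 : ((R : Subgroup M).map M.subtype) ≠ ⊥ := by
      rw [Ne, ← Subgroup.card_eq_one, Subgroup.card_map_of_injective M.subtype_injective]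
      intro h1
      have := R.dvd_card_of_dvd_card hrM
      rw [h1] at this
      exact hr.one_lt.ne' (Nat.eq_one_of_dvd_one this)
    have hN : normalizer ((R : Subgroup M) : Set M) ≤ centralizer ((R : Subgroup M) : Set M) := by
      intro n hn
      refine mem_centralizer_iff.2 fun y hy => Subtype.ext ?_
      refine hB r hr hne hrM _ (map_subtype_le _) (R.isPGroup'.map _) hR0 n n.2 ?_ y ⟨y, hy, rfl⟩
      refine mem_normalizer_iff.2 fun g => ⟨?_, ?_⟩
      · rintro ⟨w, hw, rfl⟩
        exact ⟨n * w * n⁻¹, (mem_normalizer_iff.1 hn w).1 hw, rfl⟩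
      · rintro ⟨w, hw, he⟩
        refine ⟨n⁻¹ * w * n, (mem_normalizer_iff.1 hn _).2 ?_, ?_⟩
        · rw [show n * (n⁻¹ * w * n) * n⁻¹ = w by group]; exact hw
        · show (n : G)⁻¹ * (w : G) * n = g
          rw [show (w : G) = n * g * (n : G)⁻¹ from he]; group
    have hker : J ≤ (MonoidHom.transferSylow R hN).ker.map M.subtype := by
      refine (closure_le _).2 ?_
      rintro x ⟨hxM, j, hxj⟩
      refine ⟨⟨x, hxM⟩, ?_, rfl⟩
      rw [SetLike.mem_coe, MonoidHom.mem_ker, ← orderOf_eq_one_iff]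
      have h1 : orderOf (MonoidHom.transferSylow R hN ⟨x, hxM⟩) ∣ p ^ j := by
        rw [← hxj, ← Subgroup.orderOf_mk x hxM]
        exact orderOf_map_dvd _ _
      obtain ⟨i, hi⟩ := (IsPGroup.iff_orderOf.1 R.isPGroup') (MonoidHom.transferSylow R hN ⟨x, hxM⟩)
      rw [hi] at h1 ⊢
      exact Nat.eq_one_of_dvd_coprimes (((Nat.coprime_primes hr Fact.out).2 hne).pow i j) dvd_rfl h1
    refine MonoidHom.not_dvd_card_ker_transferSylow R hN (hrJ.trans ?_)
    rw [← Subgroup.card_map_of_injective M.subtype_injective]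
    exact card_dvd_of_le hker
  exact IsPGroup.of_card (Nat.eq_prime_pow_of_unique_prime_dvd Nat.card_pos.ne' fun {d} hd hdd => hr d hd hdd)

/-- A normal elementary lemma: a free action by conjugation on the non-trivial elements. -/
theorem card_dvd_of_free {L D : Subgroup G} (hLD : ∀ y ∈ L, ∀ d ∈ D, y * d * y⁻¹ ∈ D)
    (hfree : ∀ y ∈ L, ∀ d ∈ D, d ≠ 1 → y * d * y⁻¹ = d → y = 1) :
    Nat.card L ∣ Nat.card D - 1 := by
  haveI := Fintype.ofFinite D
  let X := {d : D // d ≠ 1}
  letI : MulAction L X :=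
    { smul := fun y d => ⟨⟨(y : G) * (d.1 : G) * (y : G)⁻¹, hLD y y.2 _ d.1.2⟩, fun e => d.2 (by
        have e' : (y : G) * (d.1 : G) * (y : G)⁻¹ = 1 := congrArg Subtype.val e
        exact Subtype.ext (conj_eq_one_iff.1 e'))⟩
      one_smul := fun d => Subtype.ext (Subtype.ext (by
        show ((1 : L) : G) * (d.1 : G) * ((1 : L) : G)⁻¹ = d.1
        simp))
      mul_smul := fun x y d => Subtype.ext (Subtype.ext (by
        show ((x * y : L) : G) * (d.1 : G) * ((x * y : L) : G)⁻¹ =
          (x : G) * ((y : G) * (d.1 : G) * (y : G)⁻¹) * (x : G)⁻¹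
        push_cast; group)) }
  have hstab : ∀ b : X, MulAction.stabilizer L b = ⊥ := fun b => by
    rw [Subgroup.eq_bot_iff_forall]
    intro y hy
    exact Subtype.ext (hfree y y.2 b.1 b.1.2 (fun e => b.2 (Subtype.ext e))
      (congrArg (fun w : X => ((w.1 : D) : G)) hy))
  have h := Nat.card_congr (MulAction.selfEquivOrbitsQuotientProd hstab)
  rw [Nat.card_prod] at h
  have hX : Nat.card X = Nat.card D - 1 := by
    rw [Nat.card_eq_fintype_card, Nat.card_eq_fintype_card, Fintype.card_subtype_compl,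
      Fintype.card_subtype_eq]
  exact ⟨_, by rw [← hX, h, mul_comm]⟩

/-- Counting the conjugates of the non-trivial elements of `Q`. -/
theorem card_conjugates [Fintype G] {Q : Subgroup G}
    (hN : ∀ y ∈ Q, y ≠ 1 → ∀ c : G, c * y * c⁻¹ ∈ Q → c ∈ normalizer (Q : Set G))
    (S : Finset G) (hS : ∀ y ∈ Q, y ≠ 1 → ∀ c : G, c * y * c⁻¹ ∈ S) :
    Nat.card G * (Nat.card Q - 1) ≤ Nat.card (normalizer (Q : Set G)) * S.card ∧
      ((∀ g ∈ S, ∃ c : G, ∃ y ∈ Q, y ≠ 1 ∧ c * y * c⁻¹ = g) →
        Nat.card G * (Nat.card Q - 1) = Nat.card (normalizer (Q : Set G)) * S.card) := by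
  set N := normalizer (Q : Set G) with hNdef
  set Y := Finset.univ.filter (fun y : G => y ∈ Q ∧ y ≠ 1) with hY
  have hYc : Y.card = Nat.card Q - 1 := by
    rw [Nat.subtype_card (p := (· ∈ Q)) (Finset.univ.filter (· ∈ Q)) (by simp),
      ← Finset.card_erase_of_mem (a := (1 : G)) (by simp)]
    congr 1
    ext g
    simp [hY, and_comm]
  set P : Finset (G × G) := Finset.univ ×ˢ Y with hP
  have hmaps : ∀ q ∈ P, q.1 * q.2 * q.1⁻¹ ∈ S := fun q hq => by
    simp only [hP, hY, Finset.mem_product, Finset.mem_filter, Finset.mem_univ, true_and] at hq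
    exact hS q.2 hq.1 hq.2 q.1
  have hPc : P.card = Nat.card G * (Nat.card Q - 1) := by
    rw [hP, Finset.card_product, hYc, Finset.card_univ, ← Nat.card_eq_fintype_card (α := G)]
  have hfib : ∀ c y : G, y ∈ Q → y ≠ 1 →
      (P.filter fun q => q.1 * q.2 * q.1⁻¹ = c * y * c⁻¹).card = Nat.card N := by
    intro c y hy hy1
    rw [Nat.subtype_card (p := (· ∈ N)) (Finset.univ.filter (· ∈ N)) (by simp)]
    refine Finset.card_bij' (fun q _ => c⁻¹ * q.1) (fun n _ => (c * n, n⁻¹ * y * n)) ?_ ?_ ?_ ?_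
    · intro q hq
      simp only [hP, hY, Finset.mem_filter, Finset.mem_product, Finset.mem_univ, true_and] at hq ⊢
      refine hN q.2 hq.1.1 hq.1.2 _ ?_
      rw [show c⁻¹ * q.1 * q.2 * (c⁻¹ * q.1)⁻¹ = c⁻¹ * (q.1 * q.2 * q.1⁻¹) * c by group, hq.2]
      simpa [mul_assoc] using hy
    · intro n hn
      simp only [Finset.mem_filter, Finset.mem_univ, true_and] at hn
      simp only [hP, hY, Finset.mem_filter, Finset.mem_product, Finset.mem_univ, true_and]
      refine ⟨⟨(mem_normalizer_iff''.1 hn y).1 hy, fun e => hy1 ?_⟩, by group⟩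
      calc y = n * (n⁻¹ * y * n) * n⁻¹ := by group
        _ = 1 := by rw [e]; group
    · intro q hq
      simp only [hP, hY, Finset.mem_filter, Finset.mem_product, Finset.mem_univ, true_and] at hq
      refine Prod.ext (by group) ?_
      calc (c⁻¹ * q.1)⁻¹ * y * (c⁻¹ * q.1) = q.1⁻¹ * (c * y * c⁻¹) * q.1 := by group
        _ = q.2 := by rw [← hq.2]; group
    · intro n _; group
  refine ⟨?_, fun hsurj => ?_⟩
  · rw [← hPc, Finset.card_eq_sum_card_fiberwise hmaps, mul_comm, ← smul_eq_mul, ← Finset.sum_const]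
    refine Finset.sum_le_sum fun g _ => ?_
    by_cases hg : ∃ c y, y ∈ Q ∧ y ≠ 1 ∧ c * y * c⁻¹ = g
    · obtain ⟨c, y, hy, hy1, rfl⟩ := hg
      exact (hfib c y hy hy1).le
    · rw [Finset.card_eq_zero.2 (Finset.filter_eq_empty_iff.2 fun q hq hqe => hg ⟨q.1, q.2, ?_⟩)]
      · exact Nat.zero_le _
      · simp only [hP, hY, Finset.mem_product, Finset.mem_filter, Finset.mem_univ, true_and] at hq
        exact ⟨hq.1, hq.2, hqe⟩
  · rw [← hPc, Finset.card_eq_sum_card_fiberwise hmaps, mul_comm _ S.card, ← smul_eq_mul, ← Finset.sum_const]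
    refine Finset.sum_congr rfl fun g hg => ?_
    obtain ⟨c, y, hy, hy1, rfl⟩ := hsurj g hg
    exact hfib c y hy hy1

end H65.BSW
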