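import Cfsg.Agent.H65.BSWData
import Cfsg.Agent.H65.BSWTools
import Cfsg.Agent.H12.Integral

/-!
The Brauer-Suzuki-Wall theorem.
-/

set_option autoImplicit false
set_option linter.unusedSectionVars false
set_option maxHeartbeats 1000000

namespace H65.BSW

open Subgroup Cfsg
open scoped Classical ComplexConjugate

universe u

variable {G : Type u} [Group G] [Fintype G] {t s : G} {K : Subgroup G} (h : Hyp t s K)
include h

/-- The conclusion of the theorem. -/
def Conclusion (_h : Hyp t s K) : Prop :=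
  ∃ Q D : Subgroup G, 2 * Nat.card G = Nat.card ↥Q * (Nat.card ↥Q + 1) * (Nat.card ↥Q - 1) ∧
      (∀ x ∈ Q, x ≠ 1 → Subgroup.centralizer ({x} : Set G) = Q) ∧
      IsMulCommutative ↥D ∧ 2 * Nat.card ↥D + 1 = Nat.card ↥Q ∧ Q ⊓ D = ⊥ ∧
      Subgroup.normalizer (Q : Set G) = Q ⊔ D ∧
      ∀ X : Subgroup G, X ≤ D → X ≠ ⊥ →
        Subgroup.normalizer (X : Set G) = Subgroup.normalizer (D : Set G) ∧
        ∃ u : G, orderOf u = 2 ∧ u ∉ D ∧ (∀ d ∈ D, u * d * u⁻¹ = d⁻¹) ∧
          Subgroup.normalizer (D : Set G) = D ⊔ Subgroup.zpowers u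

theorem inU_conj_iff {g : G} (c : G) : InU K (c * g * c⁻¹) ↔ InU K g :=
  ⟨fun hg => by
    have := inU_conj h hg c⁻¹
    rwa [show c⁻¹ * (c * g * c⁻¹) * c⁻¹⁻¹ = g by group] at this, fun hg => inU_conj h hg c⟩

/-- An element commuting with an element conjugate into `K` is itself conjugate into `K`. -/
theorem inU_of_commute {g x : G} (hx : InU K x) (hc : Commute g x) (hg : g ≠ 1) : InU K g := by
  obtain ⟨c, y, hy, hy1, rfl⟩ := hx
  have hH : c⁻¹ * g * c ∈ centralizer ({t} : Set G) := cent_le h hy hy1 (mem_centralizer_singleton_iff.2 (by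
    calc c⁻¹ * g * c * y = c⁻¹ * (g * (c * y * c⁻¹)) * c := by group
      _ = c⁻¹ * (c * y * c⁻¹ * g) * c := by rw [hc.eq]
      _ = y * (c⁻¹ * g * c) := by group))
  rw [show g = c * (c⁻¹ * g * c) * c⁻¹ by group]
  refine inU_conj h ?_ c
  by_cases hK : c⁻¹ * g * c ∈ K
  · exact ⟨1, _, hK, fun e => hg (by
      calc g = c * (c⁻¹ * g * c) * c⁻¹ := by group
        _ = 1 := by rw [e]; group), by group⟩
  · exact invol_inU h (outer h hH hK).1

theorem not_inU_cent {g : G} (hg1 : g ≠ 1) (hg : ¬ InU K g) {x : G} (hx : x ∈ centralizer ({g} : Set G)) :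
    x = 1 ∨ ¬ InU K x := by
  by_cases hx1 : x = 1
  · exact Or.inl hx1
  · exact Or.inr fun hxU => hg (inU_of_commute h hxU (Eq.symm (mem_centralizer_singleton_iff.1 hx)) hg1)

theorem odd_cent {g : G} (hg1 : g ≠ 1) (hg : ¬ InU K g) : Odd (Nat.card (centralizer ({g} : Set G))) := by
  haveI : Fact (Nat.Prime 2) := ⟨Nat.prime_two⟩
  rw [← Nat.not_even_iff_odd, even_iff_two_dvd]
  intro h2
  obtain ⟨w, hw⟩ := exists_prime_orderOf_dvd_card' 2 h2
  have hw' : orderOf (w : G) = 2 := by rw [Subgroup.orderOf_coe, hw]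
  rcases not_inU_cent h hg1 hg w.2 with r | r
  · rw [r, orderOf_one] at hw'; omega
  · exact r (invol_inU h hw')

/-- An involution inverting an element outside the conjugates of `K` inverts its centralizer. -/
theorem real_cent {g a : G} (hg1 : g ≠ 1) (hg : ¬ InU K g) (ha : orderOf a = 2)
    (hag : a * g * a⁻¹ = g⁻¹) :
    (∀ x ∈ centralizer ({g} : Set G), a * x * a⁻¹ = x⁻¹) ∧
    (∀ x ∈ centralizer ({g} : Set G), x ≠ 1 → centralizer ({x} : Set G) = centralizer ({g} : Set G)) ∧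
    ecount g = Nat.card (centralizer ({g} : Set G)) := by
  set C := centralizer ({g} : Set G)
  have haa : a * a = 1 := by rw [← pow_two, ← ha]; exact pow_orderOf_eq_one a
  have hn : ∀ z ∈ C, a * z * a⁻¹ ∈ C := fun z hz => mem_centralizer_singleton_iff.2 (by
    have hz' : Commute z g⁻¹ := (show Commute z g from mem_centralizer_singleton_iff.1 hz).inv_right
    have e : g = a * g⁻¹ * a⁻¹ := by rw [← conj_inv, hag, inv_inv]
    calc a * z * a⁻¹ * g = a * z * a⁻¹ * (a * g⁻¹ * a⁻¹) := by rw [← e]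
      _ = a * (z * g⁻¹) * a⁻¹ := by group
      _ = a * (g⁻¹ * z) * a⁻¹ := by rw [hz'.eq]
      _ = (a * g⁻¹ * a⁻¹) * (a * z * a⁻¹) := by group
      _ = g * (a * z * a⁻¹) := by rw [← e])
  have hfix : ∀ z ∈ C, a * z * a⁻¹ = z → z = 1 := fun z hz e => by
    by_contra hz1
    exact ((not_inU_cent h hg1 hg hz).resolve_left hz1)
      (inU_of_commute h (invol_inU h ha) (Eq.symm (mul_inv_eq_iff_eq_mul.1 e)) hz1)
  have hinv := fpf_inverts haa hn hfix
  have hcomm : ∀ x ∈ C, ∀ y ∈ C, x * y = y * x := fun x hx y hy => by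
    have e : a * (x * y) * a⁻¹ = (a * x * a⁻¹) * (a * y * a⁻¹) := by group
    rw [hinv _ (mul_mem hx hy), hinv x hx, hinv y hy, mul_inv_rev] at e
    simpa using congrArg (·⁻¹) e
  refine ⟨hinv, fun x hx hx1 => ?_, ?_⟩
  · have hxU : ¬ InU K x := (not_inU_cent h hg1 hg hx).resolve_left hx1
    -- the centralizer of `x` is inverted as well
    have hax := hinv x hx
    have hn' : ∀ z ∈ centralizer ({x} : Set G), a * z * a⁻¹ ∈ centralizer ({x} : Set G) := fun z hz =>
      mem_centralizer_singleton_iff.2 (by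
        have hz' : Commute z x⁻¹ := (show Commute z x from mem_centralizer_singleton_iff.1 hz).inv_right
        have e : x = a * x⁻¹ * a⁻¹ := by rw [← conj_inv, hax, inv_inv]
        calc a * z * a⁻¹ * x = a * z * a⁻¹ * (a * x⁻¹ * a⁻¹) := by rw [← e]
          _ = a * (z * x⁻¹) * a⁻¹ := by group
          _ = a * (x⁻¹ * z) * a⁻¹ := by rw [hz'.eq]
          _ = (a * x⁻¹ * a⁻¹) * (a * z * a⁻¹) := by group
          _ = x * (a * z * a⁻¹) := by rw [← e])
    have hfix' : ∀ z ∈ centralizer ({x} : Set G), a * z * a⁻¹ = z → z = 1 := fun z hz e => by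
      by_contra hz1
      exact ((not_inU_cent h hx1 hxU hz).resolve_left hz1)
        (inU_of_commute h (invol_inU h ha) (Eq.symm (mul_inv_eq_iff_eq_mul.1 e)) hz1)
    have hinv' := fpf_inverts haa hn' hfix'
    refine le_antisymm (fun z hz => ?_) fun z hz => mem_centralizer_singleton_iff.2 (hcomm z hz x hx)
    refine mem_centralizer_singleton_iff.2 ?_
    have hgx : g ∈ centralizer ({x} : Set G) :=
      mem_centralizer_singleton_iff.2 (mem_centralizer_singleton_iff.1 hx).symm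
    have e : a * (z * g) * a⁻¹ = (a * z * a⁻¹) * (a * g * a⁻¹) := by group
    rw [hinv' _ (mul_mem hz hgx), hinv' z hz, hag, mul_inv_rev] at e
    simpa using (congrArg (·⁻¹) e).symm.symm
  · rw [Nat.subtype_card (p := (· ∈ C)) (Finset.univ.filter (· ∈ C)) (by simp)]
    have hgC : g ∈ C := mem_centralizer_singleton_iff.2 rfl
    have hodd := odd_cent h hg1 hg
    have haC : a ∉ C := fun haC => by
      have := (Subgroup.orderOf_mk a haC).symm.trans rfl
      exact hodd.not_two_dvd_nat (ha ▸ (Subgroup.orderOf_mk a haC) ▸ orderOf_dvd_natCard (⟨a, haC⟩ : C))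
    have hinvol : ∀ z ∈ C, orderOf (a * z) = 2 := fun z hz => orderOf_eq_prime (by
      rw [pow_two, show a * z * (a * z) = (a * z * a⁻¹) * (a * a) * z by group, hinv z hz, haa, mul_one,
        inv_mul_cancel]) fun e => haC (by
      rw [eq_inv_of_mul_eq_one_left e]; exact inv_mem hz)
    refine Finset.card_bij' (fun b _ => a * b) (fun z _ => a * z) ?_ ?_ ?_ ?_
    · intro b hb
      simp only [Finset.mem_filter, Finset.mem_univ, true_and] at hb ⊢
      obtain ⟨hb2, hbg⟩ := hb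
      have hbb : b * b = 1 := by rw [← pow_two, ← hb2]; exact pow_orderOf_eq_one b
      have hbg' : b * g * (b * g) = 1 := by rw [← pow_two, ← hbg]; exact pow_orderOf_eq_one _
      have hflip : b * g * b = g⁻¹ := eq_inv_of_mul_eq_one_left (by simpa [mul_assoc] using hbg')
      refine mem_centralizer_singleton_iff.2 ?_
      have e1 : b * g = g⁻¹ * b := by
        calc b * g = b * g * (b * b) := by rw [hbb, mul_one]
          _ = g⁻¹ * b := by rw [← mul_assoc, hflip]
      have e2 : a * g⁻¹ = g * a := by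
        calc a * g⁻¹ = (a * g⁻¹ * a⁻¹) * a := by group
          _ = g * a := by rw [← conj_inv, hag, inv_inv]
      calc a * b * g = a * (b * g) := mul_assoc _ _ _
        _ = (a * g⁻¹) * b := by rw [e1, mul_assoc]
        _ = g * (a * b) := by rw [e2, mul_assoc]
    · intro z hz
      simp only [Finset.mem_filter, Finset.mem_univ, true_and] at hz ⊢
      refine ⟨hinvol z hz, ?_⟩
      rw [mul_assoc]
      exact hinvol _ (mul_mem hz hgC)
    · intro b _; rw [← mul_assoc, haa, one_mul]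
    · intro z _; rw [← mul_assoc, haa, one_mul]

theorem ecount_pos {g : G} (hg : ecount g ≠ 0) : ∃ a, orderOf a = 2 ∧ a * g * a⁻¹ = g⁻¹ := by
  obtain ⟨a, ha⟩ := Finset.card_pos.1 (Nat.pos_of_ne_zero hg)
  obtain ⟨ha2, hag⟩ := (Finset.mem_filter.1 ha).2
  refine ⟨a, ha2, ?_⟩
  have haa : a * a = 1 := by rw [← pow_two, ← ha2]; exact pow_orderOf_eq_one a
  have hb : a * g * (a * g) = 1 := by rw [← pow_two, ← hag]; exact pow_orderOf_eq_one _
  rw [inv_eq_of_mul_eq_one_right haa]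
  exact eq_inv_of_mul_eq_one_left (by simpa [mul_assoc] using hb)

/-- The elements normalising a subgroup inverted by `a`, up to a translation commuting with `a`. -/
theorem norm_inter {Q : Subgroup G} {a : G} (haa : a * a = 1) (hodd : Odd (Nat.card Q))
    (hQ : ∀ x ∈ Q, a * x * a⁻¹ = x⁻¹)
    (huniq : ∀ v : G, orderOf v = 2 → (∀ x ∈ Q, v * x * v⁻¹ = x⁻¹) → v * a ∈ Q)
    (ha2 : orderOf a = 2) {n : G} (hn : n ∈ normalizer (Q : Set G)) :
    ∃ w ∈ Q, w * n ∈ centralizer ({a} : Set G) := by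
  have hna : ∀ x ∈ Q, (n * a * n⁻¹) * x * (n * a * n⁻¹)⁻¹ = x⁻¹ := fun x hx => by
    have hx' : n⁻¹ * x * n ∈ Q := (mem_normalizer_iff''.1 hn x).1 hx
    calc (n * a * n⁻¹) * x * (n * a * n⁻¹)⁻¹ = n * (a * (n⁻¹ * x * n) * a⁻¹) * n⁻¹ := by group
      _ = x⁻¹ := by rw [hQ _ hx']; group
  have hz : n * a * n⁻¹ * a ∈ Q :=
    huniq _ (by rw [← MulAut.conj_apply, MulEquiv.orderOf_eq, ha2]) hna
  obtain ⟨j, hj⟩ := hodd
  set z := n * a * n⁻¹ * a with hzdef
  refine ⟨(z ^ (j + 1))⁻¹, inv_mem (pow_mem hz _), mem_centralizer_singleton_iff.2 ?_⟩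
  have hzc : z ^ (Nat.card Q) = 1 :=
    orderOf_dvd_iff_pow_eq_one.1 (Subgroup.orderOf_dvd_natCard Q hz)
  have hz2 : z ^ (j + 1) * z ^ (j + 1) = z := by
    rw [← pow_add, show j + 1 + (j + 1) = Nat.card Q + 1 by omega, pow_add, hzc, one_mul, pow_one]
  have haw : a * (z ^ (j + 1))⁻¹ * a⁻¹ = z ^ (j + 1) := by
    rw [hQ _ (inv_mem (pow_mem hz _)), inv_inv]
  set w := z ^ (j + 1)
  calc w⁻¹ * n * a = w⁻¹ * (z * a * n) * 1 := by
        rw [hzdef, show n * a * n⁻¹ * a * a * n = n * a * n⁻¹ * (a * a) * n by group, haa]; group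
    _ = w⁻¹ * (w * w) * a * n := by rw [hz2]; group
    _ = (a * w⁻¹ * a⁻¹) * a * n := by rw [haw]; group
    _ = a * (w⁻¹ * n) := by group

theorem normalizer_K {X : Subgroup G} (hX : X ≤ K) (hX1 : X ≠ ⊥) :
    normalizer (X : Set G) = centralizer ({t} : Set G) := by
  refine le_antisymm (fun g hg => ?_) fun g hg => ?_
  · obtain ⟨x, hx, hx1⟩ := X.bot_or_exists_ne_one.resolve_left hX1
    exact conj_mem_imp h (hX hx) hx1 (hX ((mem_normalizer_iff.1 hg x).1 hx))
  · have hc : ∀ g ∈ centralizer ({t} : Set G), ∀ x ∈ X, g * x * g⁻¹ ∈ X := fun g hg x hx => by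
      by_cases hgK : g ∈ K
      · rw [h.comm g hgK x (hX hx), mul_inv_cancel_right]; exact hx
      · rw [(outer h hg hgK).2 x (hX hx)]; exact inv_mem hx
    refine mem_normalizer_iff.2 fun x => ⟨hc g hg x, fun hx => ?_⟩
    have := hc g⁻¹ (inv_mem hg) _ hx
    simpa [mul_assoc] using this

/-- An element of `H` normalising a set inverted fixed-point-freely by `t` lies in `K`. -/
theorem mem_K_of_norm {Q : Subgroup G} {g : G} (hg : g ∈ Q) (hg1 : g ≠ 1)
    (hQU : ∀ x ∈ Q, x ≠ 1 → ¬ InU K x) (hQt : ∀ x ∈ Q, t * x * t⁻¹ = x⁻¹)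
    (hQC : centralizer ({g} : Set G) ≤ Q) {y : G} (hy : y ∈ centralizer ({t} : Set G))
    (hyn : y ∈ normalizer (Q : Set G)) : y ∈ K := by
  by_contra hyK
  obtain ⟨hy2, -⟩ := outer h hy hyK
  have hyy : y * y = 1 := by rw [← pow_two, ← hy2]; exact pow_orderOf_eq_one y
  have hinv := fpf_inverts hyy (fun z hz => (mem_normalizer_iff.1 hyn z).1 hz) (fun z hz e => by
    by_contra hz1
    exact hQU z hz hz1 (inU_of_commute h (invol_inU h hy2) (Eq.symm (mul_inv_eq_iff_eq_mul.1 e)) hz1))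
  have hyt : y * t ∈ centralizer ({g} : Set G) := mem_centralizer_singleton_iff.2 (by
    have e1 : t * g = g⁻¹ * t := mul_inv_eq_iff_eq_mul.1 (hQt g hg)
    have e2 : y * g⁻¹ = g * y := by
      have := mul_inv_eq_iff_eq_mul.1 (hinv g⁻¹ (inv_mem hg))
      rwa [inv_inv] at this
    rw [mul_assoc, e1, ← mul_assoc, e2, mul_assoc])
  have hytH : y * t ∈ centralizer ({t} : Set G) := mul_mem hy (h.le h.tK)
  have hne : y * t ≠ 1 := fun e => hyK (by rw [eq_inv_of_mul_eq_one_left e]; exact inv_mem h.tK)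
  exact hQU _ (hQC hyt) hne
    (inU_of_commute h (invol_inU h h.t2) (mem_centralizer_singleton_iff.1 hytH) hne)

variable (S : Data h)

/-- The value of `α` on an element outside the conjugates of `K` is an integer. -/
theorem alpha_cases {g : G} (hg : ¬ InU K g) :
    ∃ m : ℤ, (S.a : G → ℂ) g = m ∧
      (S.δ = 1 → (ecount g : ℤ) = 2 * (Nat.card K : ℤ) + 1 + (Nat.card K : ℤ) * m) ∧
      (S.δ = -1 → (ecount g : ℤ) = ((Nat.card K : ℤ) - 1) * m) := by
  have e := S.ecount_eq g hg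
  have hk2 : 2 ≤ Nat.card K := two_le h
  set k := Nat.card K with hk
  have hk0 : (k : ℂ) ≠ 0 := by exact_mod_cast (show k ≠ 0 by omega)
  have hk1 : ((k : ℂ) - 1) ≠ 0 := by
    rw [sub_ne_zero]; exact_mod_cast (show k ≠ 1 by omega)
  set α := (S.a : G → ℂ) g with hα
  have hdeg : (H12.degree (S.a : G → ℂ) : ℂ) = 2 * (k : ℂ) + S.δ := by
    have := congrArg (fun z : ℤ => (z : ℂ)) S.deg
    push_cast at this
    exact this
  have hN : 2 * ((centralizer ({t} : Set G)).index : ℂ) =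
      (2 * (k : ℂ) + S.δ) * (2 * (k : ℂ) + 2 * S.δ) := by
    have := congrArg (fun z : ℤ => (z : ℂ)) S.hN
    push_cast at this
    exact this
  have hA0 : (2 * (k : ℂ) + S.δ) ≠ 0 := by
    rw [← hdeg]; exact_mod_cast (H12.irr_degree_pos S.a).ne'
  have hint : ∀ x : ℚ, α = (x : ℂ) → ∃ m : ℤ, α = m := fun x hx => by
    obtain ⟨z, hz⟩ := H12.exists_int_of_isIntegral_rat (q := x) (by
      rw [← hx, hα]; exact H12.IsCharacter.isIntegral (H12.isCharacter_irr S.a) g)
    exact ⟨z, by rw [hx, ← hz]; push_cast; rfl⟩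
  rw [hdeg] at e
  rcases S.hδ with hd | hd <;> rw [hd] at e hN hA0 <;> push_cast at e hN hA0
  · have he : (ecount g : ℂ) = 2 * (k : ℂ) + 1 + (k : ℂ) * α := by
      have hk1' : (2 * (k : ℂ) + 1 + 1) ≠ 0 := by exact_mod_cast (show 2 * k + 1 + 1 ≠ 0 by omega)
      field_simp at e
      apply mul_left_cancel₀ (mul_ne_zero (mul_ne_zero hA0 hk1') (mul_ne_zero two_ne_zero hk0))
      have hN' : ((centralizer ({t} : Set G)).index : ℂ) = (2 * (k : ℂ) + 1) * ((k : ℂ) + 1) := by
        linear_combination hN / 2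
      rw [hN'] at e
      linear_combination -e
    obtain ⟨m, hm⟩ := hint (((ecount g : ℚ) - (2 * k + 1)) / k) (by
      push_cast; rw [he]; field_simp; ring)
    refine ⟨m, hm, fun _ => ?_, fun hh => absurd (hd.symm.trans hh) (by norm_num)⟩
    apply Int.cast_injective (α := ℂ)
    push_cast
    rw [he, hm]
  · have he : (ecount g : ℂ) = ((k : ℂ) - 1) * α := by
      have hk1' : (2 * (k : ℂ) + -1 + -1) ≠ 0 := by
        rw [show (2 * (k : ℂ) + -1 + -1) = 2 * ((k : ℂ) - 1) by ring]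
        exact mul_ne_zero two_ne_zero hk1
      field_simp at e
      apply mul_left_cancel₀ (mul_ne_zero (mul_ne_zero hA0 hk1') (mul_ne_zero two_ne_zero hk0))
      have hN' : ((centralizer ({t} : Set G)).index : ℂ) = (2 * (k : ℂ) - 1) * ((k : ℂ) - 1) := by
        linear_combination hN / 2
      rw [hN'] at e
      linear_combination -e
    obtain ⟨m, hm⟩ := hint ((ecount g : ℚ) / ((k : ℚ) - 1)) (by
      push_cast; rw [he]; field_simp)
    refine ⟨m, hm, fun hh => absurd (hd.symm.trans hh) (by norm_num), fun _ => ?_⟩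
    apply Int.cast_injective (α := ℂ)
    push_cast
    rw [he, hm]

/-- The value of `α`, as an integer. -/
noncomputable def aval (g : G) : ℤ := if hg : ¬ InU K g then (alpha_cases h S hg).choose else 0

theorem aval_spec {g : G} (hg : ¬ InU K g) :
    (S.a : G → ℂ) g = aval h S g ∧
      (S.δ = 1 → (ecount g : ℤ) = 2 * (Nat.card K : ℤ) + 1 + (Nat.card K : ℤ) * aval h S g) ∧
      (S.δ = -1 → (ecount g : ℤ) = ((Nat.card K : ℤ) - 1) * aval h S g) := by
  rw [aval, dif_pos hg]; exact (alpha_cases h S hg).choose_spec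

theorem aval_conj {g : G} (hg : ¬ InU K g) (c : G) : aval h S (c * g * c⁻¹) = aval h S g := by
  have h2 := (aval_spec h S (g := c * g * c⁻¹) (fun q => hg ((inU_conj_iff h c).1 q))).1
  rw [H12.irr_isClassFunction S.a g c, (aval_spec h S hg).1] at h2
  exact_mod_cast h2.symm

/-- The elements outside the conjugates of `K`. -/
noncomputable def outSet (K : Subgroup G) : Finset G :=
  Finset.univ.filter fun g => g ≠ 1 ∧ ¬ InU K g

theorem mem_outSet {g : G} : g ∈ outSet K ↔ g ≠ 1 ∧ ¬ InU K g := by simp [outSet]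

/-- The three sums. -/
theorem sums :
    ((outSet K).card : ℤ) = 2 * (Nat.card K : ℤ) * (centralizer ({t} : Set G)).index - 1 -
      (centralizer ({t} : Set G)).index * ((Nat.card K : ℤ) - 1) ∧
    ∑ g ∈ outSet K, aval h S g = -(2 * (Nat.card K : ℤ) + S.δ) -
      (centralizer ({t} : Set G)).index * ((Nat.card K : ℤ) - 1) * S.δ ∧
    ∑ g ∈ outSet K, aval h S g ^ 2 = 2 * (Nat.card K : ℤ) * (centralizer ({t} : Set G)).index -
      (2 * (Nat.card K : ℤ) + S.δ) ^ 2 -
      (centralizer ({t} : Set G)).index * ((Nat.card K : ℤ) - 1) := by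
  set k := Nat.card K with hk
  set N := (centralizer ({t} : Set G)).index
  have hsplit : ∀ f : G → ℂ, ∑ g, f g = f 1 + ∑ g ∈ outSet K, f g +
      ∑ g ∈ Finset.univ.filter (InU K), f g := by
    intro f
    have hu : (Finset.univ : Finset G) = insert 1 (outSet K ∪ Finset.univ.filter (InU K)) := by
      ext g
      simp only [Finset.mem_univ, Finset.mem_insert, Finset.mem_union, mem_outSet h, Finset.mem_filter,
        true_and, true_iff]
      tauto
    conv_lhs => rw [hu]
    rw [Finset.sum_insert, Finset.sum_union, add_assoc]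
    · rw [Finset.disjoint_left]
      exact fun g hg hg' => ((mem_outSet h).1 hg).2 (Finset.mem_filter.1 hg').2
    · simp only [Finset.mem_union, mem_outSet h, Finset.mem_filter, Finset.mem_univ, true_and, not_or]
      exact ⟨fun q => q.1 rfl, not_inU_one h⟩
  have hkc : (Finset.univ.filter fun y : G => y ∈ K ∧ y ≠ 1).card = k - 1 := by
    rw [hk, Nat.subtype_card (p := (· ∈ K)) (Finset.univ.filter (· ∈ K)) (by simp),
      ← Finset.card_erase_of_mem (a := (1 : G)) (by simp)]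
    congr 1
    ext g
    simp [and_comm]
  have hk1 : ((k - 1 : ℕ) : ℂ) = (k : ℂ) - 1 := by
    rw [Nat.cast_sub (show 1 ≤ k from Nat.card_pos)]; norm_num
  have hG : (Nat.card G : ℂ) = 2 * (k : ℂ) * N := by rw [card_G h]; push_cast; rfl
  have hdeg : (S.a : G → ℂ) 1 = 2 * (k : ℂ) + S.δ := by
    rw [H12.irr_apply_one]
    have := congrArg (fun z : ℤ => (z : ℂ)) S.deg
    push_cast at this
    exact this
  have hU : ∀ f : G → ℂ, (∀ a g : G, f (a * g * a⁻¹) = f g) → ∀ v : ℂ,
      (∀ y ∈ K, y ≠ 1 → f y = v) → ∑ g ∈ Finset.univ.filter (InU K), f g = (N : ℂ) * ((k : ℂ) - 1) * v := by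
    intro f hf v hv
    rw [sum_inU h f hf, Finset.sum_congr rfl (fun y hy => hv y (Finset.mem_filter.1 hy).2.1
      (Finset.mem_filter.1 hy).2.2), Finset.sum_const, hkc, nsmul_eq_mul, hk1, mul_assoc]
  have hW : ∀ g ∈ outSet K, (S.a : G → ℂ) g = (aval h S g : ℂ) := fun g hg =>
    (aval_spec h S ((mem_outSet h).1 hg).2).1
  refine ⟨?_, ?_, ?_⟩
  · have e := hsplit fun _ => 1
    rw [hU _ (fun _ _ => rfl) 1 (fun _ _ _ => rfl), Finset.sum_const, Finset.sum_const, Finset.card_univ,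
      ← Nat.card_eq_fintype_card, nsmul_eq_mul, nsmul_eq_mul, hG] at e
    apply Int.cast_injective (α := ℂ)
    push_cast
    linear_combination -e
  · have e := hsplit fun g => (S.a : G → ℂ) g
    rw [hU _ (fun a g => H12.irr_isClassFunction S.a g a) S.δ S.val_K, Finset.sum_congr rfl hW, hdeg] at e
    have h0 := H12.sum_mul_conj_eq_card_mul (S.a : G → ℂ) (H12.oneIrr G : G → ℂ)
    rw [H12.classInner_irr_ne S.ha1, mul_zero] at h0
    simp only [H12.oneIrr_apply, map_one, mul_one] at h0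
    rw [h0] at e
    apply Int.cast_injective (α := ℂ)
    push_cast
    linear_combination -e
  · have e := hsplit fun g => (S.a : G → ℂ) g * conj ((S.a : G → ℂ) g)
    rw [H12.sum_mul_conj_eq_card_mul, H12.classInner_irr_self, mul_one,
      hU _ (fun a g => by simp only [H12.irr_isClassFunction S.a g a]) 1 (fun y hy hy1 => by
        rw [S.val_K y hy hy1, map_intCast]
        rcases S.hδ with r | r <;> rw [r] <;> norm_num),
      Finset.sum_congr rfl (fun g hg => by rw [hW g hg, map_intCast]), hdeg, hG] at e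
    simp only [map_add, map_mul, map_ofNat, map_natCast, map_intCast] at e
    apply Int.cast_injective (α := ℂ)
    push_cast
    simp only [pow_two]
    linear_combination -e

omit h in
theorem norm_of_cent {Q : Subgroup G}
    (hcent : ∀ x ∈ Q, x ≠ 1 → centralizer ({x} : Set G) = Q) :
    ∀ x ∈ Q, x ≠ 1 → ∀ d : G, d * x * d⁻¹ ∈ Q → d ∈ normalizer (Q : Set G) := by
  intro x hx hx1 d hd'
  have e1 := hcent x hx hx1
  have e2 := hcent _ hd' (fun q => hx1 (conj_eq_one_iff.1 q))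
  refine mem_normalizer_iff.2 fun z => ?_
  rw [← e1]
  nth_rewrite 2 [e1]
  rw [← e2, mem_centralizer_singleton_iff, mem_centralizer_singleton_iff]
  constructor
  · intro q
    calc d * z * d⁻¹ * (d * x * d⁻¹) = d * (z * x) * d⁻¹ := by group
      _ = d * x * d⁻¹ * (d * z * d⁻¹) := by rw [q]; group
  · intro q
    calc z * x = d⁻¹ * (d * z * d⁻¹ * (d * x * d⁻¹)) * d := by group
      _ = x * z := by rw [q]; group

theorem case_plus (hd : S.δ = 1) : Conclusion h := by
  obtain ⟨sW, s1, s2⟩ := sums h S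
  have hN := S.hN
  rw [hd] at s1 s2 hN
  set k := Nat.card K with hk
  have hk2 : 2 ≤ k := two_le h
  set N := (centralizer ({t} : Set G)).index with hNdef
  have hN' : (N : ℤ) = (2 * k + 1) * (k + 1) := by linarith
  have hsum : ∑ g ∈ outSet K, (aval h S g ^ 2 + aval h S g) = 0 := by
    rw [Finset.sum_add_distrib, s1, s2, hN']; ring
  have hm : ∀ g ∈ outSet K, aval h S g = 0 ∨ aval h S g = -1 := by
    intro g hg
    have hnn : ∀ x ∈ outSet K, 0 ≤ aval h S x ^ 2 + aval h S x := fun x _ => by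
      rcases lt_or_ge (aval h S x) 0 with r | r <;> nlinarith
    have := (Finset.sum_eq_zero_iff_of_nonneg hnn).1 hsum g hg
    have e : aval h S g * (aval h S g + 1) = 0 := by linear_combination this
    exact (mul_eq_zero.1 e).imp id fun r => by omega
  set W₀ := (outSet K).filter fun g => aval h S g = 0 with hW₀
  have hW₀c : (W₀.card : ℤ) = (2 * (k : ℤ) + 1) ^ 2 - 1 := by
    have e : ∑ g ∈ outSet K, aval h S g = (W₀.card : ℤ) - (outSet K).card := by
      have e1 : ∀ g ∈ outSet K, aval h S g = (if aval h S g = 0 then 1 else 0) - 1 := fun g hg => by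
        rcases hm g hg with r | r <;> rw [r] <;> norm_num
      rw [Finset.sum_congr rfl e1, Finset.sum_sub_distrib, Finset.sum_boole]
      simp [hW₀]
    rw [s1, sW, hN'] at e
    linear_combination -e
  obtain ⟨g₀, hg₀⟩ : W₀.Nonempty := by
    rw [← Finset.card_pos]
    have : (0 : ℤ) < W₀.card := by rw [hW₀c]; nlinarith
    exact_mod_cast this
  obtain ⟨hg₀W, hg₀0⟩ := Finset.mem_filter.1 hg₀
  obtain ⟨hg₀1, hg₀U⟩ := (mem_outSet h).1 hg₀W
  have he₀ : ecount g₀ = 2 * k + 1 := by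
    have := (aval_spec h S hg₀U).2.1 hd
    rw [hg₀0] at this
    omega
  obtain ⟨a₀, ha₀, ha₀g⟩ := ecount_pos h (g := g₀) (by omega)
  obtain ⟨c, hc⟩ := isConj_iff.1 (h.conj a₀ t ha₀ h.t2)
  set g := c * g₀ * c⁻¹ with hg
  have hgU : ¬ InU K g := fun q => hg₀U ((inU_conj_iff h c).1 q)
  have hg1 : g ≠ 1 := fun q => hg₀1 (conj_eq_one_iff.1 q)
  have htg : t * g * t⁻¹ = g⁻¹ := by
    rw [← hc, hg, show c * a₀ * c⁻¹ * (c * g₀ * c⁻¹) * (c * a₀ * c⁻¹)⁻¹ = c * (a₀ * g₀ * a₀⁻¹) * c⁻¹ by group,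
      ha₀g]
    group
  obtain ⟨hinv, hcent, hec⟩ := real_cent h hg1 hgU h.t2 htg
  have he : ecount g = 2 * k + 1 := by
    have := (aval_spec h S hgU).2.1 hd
    rw [hg, aval_conj h S hg₀U, hg₀0] at this
    rw [hg]; omega
  set Q := centralizer ({g} : Set G) with hQ
  have hQc : Nat.card Q = 2 * k + 1 := by rw [← hec, he]
  have hQU : ∀ x ∈ Q, x ≠ 1 → ¬ InU K x := fun x hx hx1 => (not_inU_cent h hg1 hgU hx).resolve_left hx1
  have hgQ : g ∈ Q := mem_centralizer_singleton_iff.2 rfl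
  have hQW : ∀ x ∈ Q, x ≠ 1 → ∀ d : G, d * x * d⁻¹ ∈ W₀ := by
    intro x hx hx1 d
    have hxU := hQU x hx hx1
    have hex : ecount x = 2 * k + 1 := by
      rw [(real_cent h hx1 hxU h.t2 (hinv x hx)).2.2, hcent x hx hx1, hQc]
    have h3 := (aval_spec h S hxU).2.1 hd
    rw [hex] at h3
    have hm0 : aval h S x = 0 := by
      push_cast at h3
      have e : (k : ℤ) * aval h S x = 0 := by linarith
      exact (mul_eq_zero.1 e).resolve_left (by omega)
    exact Finset.mem_filter.2 ⟨(mem_outSet h).2 ⟨fun q => hx1 (conj_eq_one_iff.1 q),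
      fun q => hxU ((inU_conj_iff h d).1 q)⟩, by rw [aval_conj h S hxU, hm0]⟩
  have hnorm := norm_of_cent hcent
  have hcount := (card_conjugates hnorm W₀ hQW).1
  set M := normalizer (Q : Set G) with hM
  have hMk : (2 * k + 1) * k ≤ Nat.card M := by
    rw [hQc, card_G h, ← hk, ← hNdef] at hcount
    have h1 : ((2 * k * N * (2 * k + 1 - 1) : ℕ) : ℤ) ≤ ((Nat.card M * W₀.card : ℕ) : ℤ) := by
      exact_mod_cast hcount
    rw [Nat.add_sub_cancel] at h1
    push_cast at h1
    rw [hW₀c, hN'] at h1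
    have h2 : (0 : ℤ) < 4 * k * (k + 1) := by positivity
    have : ((2 * k + 1) * k : ℤ) * (4 * k * (k + 1)) ≤ (Nat.card M : ℤ) * (4 * k * (k + 1)) := by
      nlinarith [h1]
    exact_mod_cast le_of_mul_le_mul_right this h2
  -- the elements of `M` centralizing `t`
  set L := M ⊓ centralizer ({t} : Set G) with hL
  have hLK : L ≤ K := fun y hy => mem_K_of_norm h hgQ hg1 hQU hinv le_rfl hy.2 hy.1
  have huniq : ∀ v : G, orderOf v = 2 → (∀ x ∈ Q, v * x * v⁻¹ = x⁻¹) → v * t ∈ Q := fun v hv hvQ => by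
    refine mem_centralizer_singleton_iff.2 ?_
    have e1 : t * g = g⁻¹ * t := mul_inv_eq_iff_eq_mul.1 htg
    have e2 : v * g⁻¹ = g * v := by
      have := mul_inv_eq_iff_eq_mul.1 (hvQ g⁻¹ (inv_mem hgQ))
      rwa [inv_inv] at this
    rw [mul_assoc, e1, ← mul_assoc, e2, mul_assoc]
  have hMQ : M ≤ Q ⊔ L := by
    intro n hn
    obtain ⟨w, hw, hwn⟩ := norm_inter h (t_mul h) (odd_cent h hg1 hgU) hinv huniq h.t2 hn
    rw [show n = w⁻¹ * (w * n) by group]
    exact mul_mem_sup (inv_mem hw) ⟨mul_mem (le_normalizer hw) hn, hwn⟩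
  have hQK : Q ⊓ K = ⊥ := by
    rw [eq_bot_iff_forall]
    rintro x ⟨hx, hxK⟩
    by_contra hx1
    exact hQU x hx hx1 ⟨1, x, hxK, hx1, by group⟩
  have hLc : Nat.card M ≤ Nat.card Q * Nat.card L := by
    have hQM : Q ≤ M := le_normalizer
    have hsup : Q ⊔ L = M := le_antisymm (sup_le hQM inf_le_left) hMQ
    let f : Q × L → M := fun q => ⟨(q.1 : G) * (q.2 : G), mul_mem (hQM q.1.2) q.2.2.1⟩
    rw [← Nat.card_prod]
    refine Nat.card_le_card_of_surjective f fun n => ?_
    obtain ⟨w, hw, hwn⟩ := norm_inter h (t_mul h) (odd_cent h hg1 hgU) hinv huniq h.t2 n.2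
    exact ⟨(⟨w⁻¹, inv_mem hw⟩, ⟨w * n, mul_mem (hQM hw) n.2, hwn⟩), Subtype.ext (by
      show w⁻¹ * (w * (n : G)) = n
      group)⟩
  have hLeq : L = K := by
    refine Subgroup.eq_of_le_of_card_ge hLK ?_
    rw [hQc] at hLc
    exact Nat.le_of_mul_le_mul_left (hMk.trans hLc) (by omega)
  have hMeq : M = Q ⊔ K := by
    rw [← hLeq]; exact le_antisymm hMQ (sup_le le_normalizer inf_le_left)
  refine ⟨Q, K, ?_, hcent, ⟨⟨fun x y => Subtype.ext (h.comm _ x.2 _ y.2)⟩⟩, by rw [hQc], hQK, hMeq,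
    fun X hX hX1 => ?_⟩
  · rw [card_G h, hQc, Nat.add_sub_cancel, ← hk, ← hNdef]
    have : ((2 * (2 * k * N) : ℕ) : ℤ) = (((2 * k + 1) * (2 * k + 1 + 1) * (2 * k) : ℕ) : ℤ) := by
      push_cast; rw [hN']; ring
    exact_mod_cast this
  · have hK1 : (K : Subgroup G) ≠ ⊥ := fun e => t_ne h (mem_bot.1 (e ▸ h.tK))
    refine ⟨(normalizer_K h hX hX1).trans (normalizer_K h le_rfl hK1).symm, s, h.s2, h.sK, h.inv, ?_⟩
    rw [normalizer_K h le_rfl hK1, h.sup]

end H65.BSW
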