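import Cfsg.Agent.H65.BSWBasic
import Cfsg.Agent.H12.Linear

/-!
The Brauer-Suzuki-Wall configuration: the integer vectors of the irreducible characters on `K`.
-/

set_option autoImplicit false
set_option linter.unusedSectionVars false

namespace H65.BSW

open Subgroup Cfsg
open scoped Classical ComplexConjugate

universe u

variable {G : Type u} [Group G] [Fintype G] {t s : G} {K : Subgroup G} (h : Hyp t s K)

/-- The multiplicity of `l` in the restriction of `χ`. -/
noncomputable def km (χ : IrrCharacter G) (l : IrrCharacter K) : ℕ :=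
  (H12.IsCharacter.classInner_nat (H12.IsCharacter.res (H12.isCharacter_irr χ) K)
    (H12.isCharacter_irr l)).choose

/-- The vector of `χ`. -/
noncomputable def kv (χ : IrrCharacter G) (l : IrrCharacter K) : ℤ :=
  (km χ l : ℤ) - km χ (H12.oneIrr K)

theorem km_spec (χ : IrrCharacter G) (l : IrrCharacter K) :
    classInner (fun y : K => (χ : G → ℂ) y) (l : K → ℂ) = (km χ l : ℂ) :=
  (H12.IsCharacter.classInner_nat (H12.IsCharacter.res (H12.isCharacter_irr χ) K)
    (H12.isCharacter_irr l)).choose_spec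

theorem kv_one (χ : IrrCharacter G) : kv χ (H12.oneIrr K) = 0 := sub_self _

theorem kv_oneIrr {l : IrrCharacter K} (hl : l ≠ H12.oneIrr K) : kv (H12.oneIrr G) l = -1 := by
  have h1 : ∀ m : IrrCharacter K, (km (H12.oneIrr G) m : ℂ) = if H12.oneIrr K = m then 1 else 0 := by
    intro m
    rw [← km_spec, ← H12.classInner_irr]
    rfl
  have e1 := h1 l
  have e2 := h1 (H12.oneIrr K)
  rw [if_neg hl.symm] at e1
  rw [if_pos rfl] at e2
  simp only [kv]
  rw [show km (H12.oneIrr G) l = 0 by exact_mod_cast e1,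
    show km (H12.oneIrr G) (H12.oneIrr K) = 1 by exact_mod_cast e2]
  norm_num

include h

theorem comm_K (a b : K) : a * b = b * a := Subtype.ext (h.comm _ a.2 _ b.2)

theorem lin_one (l : IrrCharacter K) : (l : K → ℂ) 1 = 1 := H12.irr_apply_one_of_comm (comm_K h) l

theorem exists_hom (l : IrrCharacter K) : ∃ f : K →* ℂˣ, (fun y => (f y : ℂ)) = (l : K → ℂ) :=
  H12.exists_monoidHom_of_apply_one_eq_one (H12.isCharacter_irr l) (lin_one h l)

theorem lin_mul (l : IrrCharacter K) (x y : K) :
    (l : K → ℂ) (x * y) = (l : K → ℂ) x * (l : K → ℂ) y := by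
  obtain ⟨f, hf⟩ := exists_hom h l
  rw [← hf]
  simp

theorem lin_inv (l : IrrCharacter K) (y : K) :
    (l : K → ℂ) y⁻¹ = conj ((l : K → ℂ) y) := H12.irr_inv l y

theorem K_column (y : K) :
    ∑ l : IrrCharacter K, (l : K → ℂ) y = if y = 1 then (Nat.card K : ℂ) else 0 := by
  have h0 := H12.regular_eq_sum (G := K) y
  simp only [lin_one h, one_mul] at h0
  convert h0 using 1
  congr

theorem K_row (l : IrrCharacter K) :
    ∑ y : K, (l : K → ℂ) y = if l = H12.oneIrr K then (Nat.card K : ℂ) else 0 := by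
  have h0 := H12.sum_mul_conj_eq_card_mul (l : K → ℂ) (H12.oneIrr K : K → ℂ)
  simp only [H12.oneIrr_apply, map_one, mul_one, H12.classInner_irr] at h0
  rw [h0]
  split_ifs <;> simp

theorem res_classFunction (χ : IrrCharacter G) :
    IsClassFunction K (fun y : K => (χ : G → ℂ) y) := fun a b =>
  H12.irr_isClassFunction χ (a : G) (b : G)

theorem val_eq (χ : IrrCharacter G) (y : K) :
    (χ : G → ℂ) y = ∑ l : IrrCharacter K, (km χ l : ℂ) * (l : K → ℂ) y := by
  refine (H12.classFunction_apply_eq_sum (f := fun z : K => (χ : G → ℂ) z)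
    (res_classFunction h χ) y).trans ?_
  simp only [km_spec]

theorem val_kv (χ : IrrCharacter G) {y : K} (hy : y ≠ 1) :
    (χ : G → ℂ) y = ∑ l : IrrCharacter K, (kv χ l : ℂ) * (l : K → ℂ) y := by
  have hc := K_column h y
  rw [if_neg hy] at hc
  simp only [kv]
  push_cast
  simp only [sub_mul, Finset.sum_sub_distrib, ← Finset.mul_sum, hc, mul_zero, sub_zero, val_eq h]

theorem deg_kv (χ : IrrCharacter G) :
    (χ : G → ℂ) 1 = (Nat.card K : ℂ) * (km χ (H12.oneIrr K) : ℂ) +
      ∑ l : IrrCharacter K, (kv χ l : ℂ) := by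
  have h0 := val_eq h χ 1
  rw [Subgroup.coe_one] at h0
  simp only [lin_one h, mul_one] at h0
  have hc := K_column h 1
  rw [if_pos rfl] at hc
  simp only [lin_one h, Finset.sum_const, nsmul_eq_mul, mul_one] at hc
  rw [h0]
  simp only [kv]
  push_cast
  rw [Finset.sum_sub_distrib, Finset.sum_const, nsmul_eq_mul, hc]
  ring

theorem kv_eq_sum (χ : IrrCharacter G) (l : IrrCharacter K) :
    (Nat.card K : ℂ) * (kv χ l : ℂ) =
      ∑ y : K, (χ : G → ℂ) y * (conj ((l : K → ℂ) y) - 1) := by
  have e : ∀ m : IrrCharacter K, (Nat.card K : ℂ) * (km χ m : ℂ) =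
      ∑ y : K, (χ : G → ℂ) y * conj ((m : K → ℂ) y) := fun m => by
    rw [← km_spec, H12.sum_mul_conj_eq_card_mul]
  simp only [kv]
  push_cast
  rw [mul_sub, e, e, ← Finset.sum_sub_distrib]
  exact Finset.sum_congr rfl fun y _ => by rw [H12.oneIrr_apply, map_one]; ring

theorem kv_eq_sum' (χ : IrrCharacter G) (l : IrrCharacter K) :
    (Nat.card K : ℂ) * (kv χ l : ℂ) =
      ∑ y : K, conj ((χ : G → ℂ) y) * ((l : K → ℂ) y - 1) := by
  have h0 := congrArg conj (kv_eq_sum h χ l)
  simpa only [map_mul, map_natCast, map_intCast, map_sum, map_sub, Complex.conj_conj, map_one]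
    using h0

theorem kv_odd (l : IrrCharacter K) {g : G} (hg : ¬ InU K g) :
    ∑ χ : IrrCharacter G, (kv χ l : ℂ) * (χ : G → ℂ) g = 0 := by
  apply mul_left_cancel₀ (show (Nat.card K : ℂ) ≠ 0 by exact_mod_cast Nat.card_pos.ne')
  rw [mul_zero, Finset.mul_sum]
  simp only [← mul_assoc, kv_eq_sum' h, Finset.sum_mul]
  rw [Finset.sum_comm]
  refine Finset.sum_eq_zero fun y _ => ?_
  by_cases hy : y = 1
  · refine Finset.sum_eq_zero fun χ _ => ?_
    rw [hy, lin_one h, sub_self, mul_zero, zero_mul]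
  · rw [Finset.sum_congr rfl fun (χ : IrrCharacter G) _ => show
        conj ((χ : G → ℂ) y) * ((l : K → ℂ) y - 1) * (χ : G → ℂ) g =
          ((l : K → ℂ) y - 1) * ((χ : G → ℂ) g * conj ((χ : G → ℂ) y)) by ring,
      ← Finset.mul_sum, H12.column_orthogonality, if_neg, mul_zero]
    intro hc
    obtain ⟨c, hc'⟩ := isConj_iff.1 hc.symm
    exact hg ⟨c, y, y.2, fun e => hy (Subtype.ext e), hc'⟩

theorem column_K {y z : K} (hy : y ≠ 1) :
    ∑ χ : IrrCharacter G, (χ : G → ℂ) y * conj ((χ : G → ℂ) z) =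
      (if z = y then (Nat.card K : ℂ) else 0) + (if z = y⁻¹ then (Nat.card K : ℂ) else 0) := by
  have hy1 : (y : G) ≠ 1 := fun e => hy (Subtype.ext e)
  rw [H12.column_orthogonality]
  by_cases hc : IsConj (y : G) (z : G)
  · rw [if_pos hc]
    obtain ⟨c, hc'⟩ := isConj_iff.1 hc
    by_cases hyt : (y : G) = t
    · have hyy : y⁻¹ = y := inv_eq_of_mul_eq_one_right (Subtype.ext (by
        show (y : G) * (y : G) = 1
        rw [hyt]; exact t_mul h))
      have hzy : z = y := Subtype.ext ((invol_K h z.2 (by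
        rw [← hc', ← MulAut.conj_apply, MulEquiv.orderOf_eq, hyt, h.t2])).trans hyt.symm)
      rw [if_pos hzy, hyy, if_pos hzy, hyt, card_H h]
      push_cast; ring
    · rw [cent_eq h y.2 hy1 hyt]
      have hne : y⁻¹ ≠ y := fun e => by
        rcases sq_eq_one h y.2 (by
          have e' := congrArg Subtype.val e
          rw [Subgroup.coe_inv] at e'
          nth_rewrite 1 [← e']
          exact inv_mul_cancel _) with r | r
        exacts [hy1 r, hyt r]
      rcases conj_cases h y.2 hy1 (g := c) (by rw [hc']; exact z.2) with r | r <;> rw [hc'] at r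
      · have hzy : z = y := Subtype.ext r
        rw [if_pos hzy, if_neg (hzy ▸ hne.symm), add_zero]
      · have hzy : z = y⁻¹ := Subtype.ext r
        rw [if_pos hzy, if_neg (hzy ▸ hne), zero_add]
  · rw [if_neg hc, if_neg (fun e : z = y => hc (e ▸ IsConj.refl _)), if_neg (fun e : z = y⁻¹ => hc ?_),
      add_zero]
    subst e
    exact isConj_iff.2 ⟨s, h.inv y y.2⟩

theorem gram {i j : IrrCharacter K} (hi : i ≠ H12.oneIrr K) (hj : j ≠ H12.oneIrr K) :
    ∑ χ : IrrCharacter G, kv χ i * kv χ j =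
      (if i = j then 1 else 0) + (if i = H12.conjIrr j then 1 else 0) + 2 := by
  have hk : (Nat.card K : ℂ) ≠ 0 := by exact_mod_cast Nat.card_pos.ne'
  apply Int.cast_injective (α := ℂ)
  apply mul_left_cancel₀ (mul_ne_zero hk hk)
  push_cast
  rw [Finset.mul_sum]
  have e1 : ∀ χ : IrrCharacter G, (Nat.card K : ℂ) * (Nat.card K : ℂ) * ((kv χ i : ℂ) * (kv χ j : ℂ)) =
      ∑ y : K, ∑ z : K, (conj ((i : K → ℂ) y) - 1) * ((j : K → ℂ) z - 1) *
        ((χ : G → ℂ) y * conj ((χ : G → ℂ) z)) := by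
    intro χ
    rw [mul_mul_mul_comm, kv_eq_sum h, kv_eq_sum' h, Finset.sum_mul_sum]
    exact Finset.sum_congr rfl fun y _ => Finset.sum_congr rfl fun z _ => by ring
  rw [Finset.sum_congr rfl fun χ _ => e1 χ, Finset.sum_comm]
  have e2 : ∀ y : K, ∑ χ : IrrCharacter G, ∑ z : K,
      (conj ((i : K → ℂ) y) - 1) * ((j : K → ℂ) z - 1) * ((χ : G → ℂ) y * conj ((χ : G → ℂ) z)) =
      (Nat.card K : ℂ) * ((conj ((i : K → ℂ) y) - 1) *
        (((j : K → ℂ) y - 1) + (conj ((j : K → ℂ) y) - 1))) := by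
    intro y
    by_cases hy : y = 1
    · simp [hy, lin_one h]
    rw [Finset.sum_comm]
    simp only [← Finset.mul_sum, column_K h hy, mul_add, mul_ite, mul_zero, Finset.sum_add_distrib,
      Finset.sum_ite_eq', Finset.mem_univ, if_true, lin_inv h]
    ring
  rw [Finset.sum_congr rfl fun y _ => e2 y, ← Finset.mul_sum]
  have o1 : ∀ a b : IrrCharacter K, ∑ y : K, conj ((a : K → ℂ) y) * (b : K → ℂ) y =
      (Nat.card K : ℂ) * if b = a then 1 else 0 := by
    intro a b
    rw [← H12.classInner_irr, ← H12.sum_mul_conj_eq_card_mul]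
    exact Finset.sum_congr rfl fun y _ => mul_comm _ _
  have o2 : ∀ a : IrrCharacter K, a ≠ H12.oneIrr K → ∑ y : K, conj ((a : K → ℂ) y) = 0 := fun a ha => by
    rw [← map_sum, K_row h, if_neg ha, map_zero]
  have o3 : ∑ y : K, (conj ((i : K → ℂ) y) - 1) * (((j : K → ℂ) y - 1) + (conj ((j : K → ℂ) y) - 1)) =
      (Nat.card K : ℂ) *
        (((if i = j then 1 else 0) + (if i = H12.conjIrr j then 1 else 0)) + 2) := by
    have hs : ∀ y : K, (conj ((i : K → ℂ) y) - 1) * (((j : K → ℂ) y - 1) + (conj ((j : K → ℂ) y) - 1)) =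
        conj ((i : K → ℂ) y) * (j : K → ℂ) y + conj ((i : K → ℂ) y) * (H12.conjIrr j : K → ℂ) y
          - 2 * conj ((i : K → ℂ) y) - (j : K → ℂ) y - conj ((j : K → ℂ) y) + 2 := fun y => by
      rw [H12.conjIrr_apply]; ring
    simp only [hs, Finset.sum_add_distrib, Finset.sum_sub_distrib, ← Finset.mul_sum, o1, o2 i hi,
      o2 j hj, K_row h, if_neg hj, Finset.sum_const, Finset.card_univ, nsmul_eq_mul,
      ← Nat.card_eq_fintype_card, eq_comm (a := j) (b := i), eq_comm (a := H12.conjIrr j) (b := i)]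
    ring
  rw [o3]
  ring

/-- Exactly two characters of `K` are real. -/
theorem exists_real : ∃ σ : IrrCharacter K, σ ≠ H12.oneIrr K ∧ H12.conjIrr σ = σ ∧
    ∀ l : IrrCharacter K, H12.conjIrr l = l → l = H12.oneIrr K ∨ l = σ := by
  have hk : (Nat.card K : ℂ) ≠ 0 := by exact_mod_cast Nat.card_pos.ne'
  set R := Finset.univ.filter fun l : IrrCharacter K => H12.conjIrr l = l with hR
  have h1 : ∑ l : IrrCharacter K, ∑ y : K, (l : K → ℂ) y * (l : K → ℂ) y =
      (Nat.card K : ℂ) * (R.card : ℂ) := by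
    have e : ∀ l : IrrCharacter K, ∑ y : K, (l : K → ℂ) y * (l : K → ℂ) y =
        (Nat.card K : ℂ) * if H12.conjIrr l = l then 1 else 0 := by
      intro l
      rw [if_congr eq_comm rfl rfl, ← H12.classInner_irr, ← H12.sum_mul_conj_eq_card_mul]
      exact Finset.sum_congr rfl fun y _ => by rw [H12.conjIrr_apply, Complex.conj_conj]
    rw [Finset.sum_congr rfl fun l _ => e l, ← Finset.mul_sum, Finset.sum_boole]
  set t' : K := ⟨t, h.tK⟩
  have ht' : t' ≠ 1 := fun e => t_ne h (congrArg Subtype.val e)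
  have hsq : (Finset.univ.filter fun y : K => y * y = 1) = {1, t'} := by
    ext y
    simp only [Finset.mem_filter, Finset.mem_univ, true_and, Finset.mem_insert, Finset.mem_singleton]
    refine ⟨fun e => ?_, ?_⟩
    · rcases sq_eq_one h y.2 (congrArg Subtype.val e) with r | r
      exacts [Or.inl (Subtype.ext r), Or.inr (Subtype.ext r)]
    · rintro (rfl | rfl)
      exacts [one_mul 1, Subtype.ext (t_mul h)]
  rw [Finset.sum_comm] at h1
  simp only [← lin_mul h, K_column h, ← Finset.sum_filter, hsq, Finset.sum_const,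
    Finset.card_pair ht'.symm, nsmul_eq_mul] at h1
  have hR2 : R.card = 2 := by
    have e : (R.card : ℂ) = 2 := mul_left_cancel₀ hk (by rw [← h1]; push_cast; ring)
    exact_mod_cast e
  obtain ⟨u, v, huv, hRuv⟩ := Finset.card_eq_two.1 hR2
  have h1R : H12.oneIrr K ∈ R := Finset.mem_filter.2 ⟨Finset.mem_univ _, Subtype.ext (funext fun y => by
    rw [H12.conjIrr_apply, H12.oneIrr_apply, map_one])⟩
  have hmem : ∀ l, H12.conjIrr l = l → l = u ∨ l = v := fun l hl => by
    have : l ∈ R := Finset.mem_filter.2 ⟨Finset.mem_univ _, hl⟩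
    rw [hRuv] at this
    simpa using this
  have huR' : u ∈ R := by rw [hRuv]; exact Finset.mem_insert_self u _
  have hvR' : v ∈ R := by rw [hRuv]; exact Finset.mem_insert_of_mem (Finset.mem_singleton_self v)
  have huR : H12.conjIrr u = u := (Finset.mem_filter.1 huR').2
  have hvR : H12.conjIrr v = v := (Finset.mem_filter.1 hvR').2
  rw [hRuv, Finset.mem_insert, Finset.mem_singleton] at h1R
  rcases h1R with r | r
  · exact ⟨v, fun e => huv (r.symm.trans e.symm), hvR, fun l hl => (hmem l hl).imp (fun q => q.trans r.symm) id⟩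
  · exact ⟨u, fun e => huv (e.trans r), huR, fun l hl =>
      (hmem l hl).symm.imp (fun q => q.trans r.symm) id⟩

/-- The non-real characters, one from each pair. -/
theorem exists_reps : ∃ (σ : IrrCharacter K) (p : ℕ) (r : ℕ → IrrCharacter K),
    σ ≠ H12.oneIrr K ∧ H12.conjIrr σ = σ ∧ 2 * p + 2 = Nat.card K ∧
      (∀ i < p, r i ≠ H12.oneIrr K ∧ r i ≠ σ ∧ H12.conjIrr (r i) ≠ H12.oneIrr K ∧
        H12.conjIrr (r i) ≠ σ ∧ H12.conjIrr (r i) ≠ r i) ∧
      (∀ i j, i < p → j < p → r i = r j → i = j) ∧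
      (∀ i j, i < p → j < p → r i ≠ H12.conjIrr (r j)) ∧
      (∀ l, l = H12.oneIrr K ∨ l = σ ∨ ∃ i < p, l = r i ∨ l = H12.conjIrr (r i)) ∧
      ∀ F : IrrCharacter K → ℂ, ∑ l, F l =
        F (H12.oneIrr K) + F σ + ∑ i ∈ Finset.range p, (F (r i) + F (H12.conjIrr (r i))) := by
  obtain ⟨σ, hσ1, hσ, hreal⟩ := exists_real h
  have hone : H12.conjIrr (H12.oneIrr K) = H12.oneIrr K := Subtype.ext (funext fun y => by
    rw [H12.conjIrr_apply, H12.oneIrr_apply, map_one])
  let ν := Fintype.equivFin (IrrCharacter K)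
  set R := Finset.univ.filter fun l : IrrCharacter K => ν l < ν (H12.conjIrr l) with hR
  set p := R.card
  let r : ℕ → IrrCharacter K := fun i => if hi : i < p then (R.equivFin.symm ⟨i, hi⟩).1 else σ
  have hrmem : ∀ i < p, r i ∈ R := fun i hi => by
    simp only [r, dif_pos hi]; exact (R.equivFin.symm ⟨i, hi⟩).2
  have hrinj : ∀ i j, i < p → j < p → r i = r j → i = j := fun i j hi hj e => by
    simp only [r, dif_pos hi, dif_pos hj] at e
    simpa using congrArg Fin.val (R.equivFin.symm.injective (Subtype.ext e))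
  have hRimg : R = (Finset.range p).image r := by
    refine (Finset.eq_of_subset_of_card_le (Finset.image_subset_iff.2 fun i hi =>
      hrmem i (Finset.mem_range.1 hi)) ?_).symm
    rw [Finset.card_image_of_injOn fun i hi j hj e =>
      hrinj i j (Finset.mem_range.1 hi) (Finset.mem_range.1 hj) e, Finset.card_range]
  have hRlt : ∀ l ∈ R, ν l < ν (H12.conjIrr l) := fun l hl => (Finset.mem_filter.1 hl).2
  have hnr : ∀ i < p, H12.conjIrr (r i) ≠ r i := fun i hi e => by
    have := hRlt _ (hrmem i hi); rw [e] at this; exact lt_irrefl _ this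
  have hcr : ∀ i j, i < p → j < p → r i ≠ H12.conjIrr (r j) := fun i j hi hj e => by
    have h2 := hRlt _ (hrmem i hi)
    have h3 := hRlt _ (hrmem j hj)
    rw [e, H12.conjIrr_conjIrr] at h2
    exact lt_asymm h2 h3
  have hfacts : ∀ i < p, r i ≠ H12.oneIrr K ∧ r i ≠ σ ∧ H12.conjIrr (r i) ≠ H12.oneIrr K ∧
      H12.conjIrr (r i) ≠ σ ∧ H12.conjIrr (r i) ≠ r i := by
    intro i hi
    refine ⟨fun e => hnr i hi (by rw [e, hone]), fun e => hnr i hi (by rw [e, hσ]),
      fun e => hnr i hi ?_, fun e => hnr i hi ?_, hnr i hi⟩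
    · have e' := congrArg H12.conjIrr e
      rw [H12.conjIrr_conjIrr, hone] at e'
      rw [e, e']
    · have e' := congrArg H12.conjIrr e
      rw [H12.conjIrr_conjIrr, hσ] at e'
      rw [e, e']
  have hcover : ∀ l, l = H12.oneIrr K ∨ l = σ ∨ ∃ i < p, l = r i ∨ l = H12.conjIrr (r i) := by
    intro l
    by_cases hl : H12.conjIrr l = l
    · exact (hreal l hl).imp id Or.inl
    · right; right
      rcases lt_or_gt_of_ne (fun e : ν l = ν (H12.conjIrr l) => hl (ν.injective e).symm) with e | e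
      · have hlR : l ∈ R := Finset.mem_filter.2 ⟨Finset.mem_univ _, e⟩
        rw [hRimg, Finset.mem_image] at hlR
        obtain ⟨i, hi, rfl⟩ := hlR
        exact ⟨i, Finset.mem_range.1 hi, Or.inl rfl⟩
      · have hlR : H12.conjIrr l ∈ R :=
          Finset.mem_filter.2 ⟨Finset.mem_univ _, by rwa [H12.conjIrr_conjIrr]⟩
        rw [hRimg, Finset.mem_image] at hlR
        obtain ⟨i, hi, hil⟩ := hlR
        exact ⟨i, Finset.mem_range.1 hi, Or.inr (by rw [hil, H12.conjIrr_conjIrr])⟩
  have hsum : ∀ F : IrrCharacter K → ℂ, ∑ l, F l =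
      F (H12.oneIrr K) + F σ + ∑ i ∈ Finset.range p, (F (r i) + F (H12.conjIrr (r i))) := by
    intro F
    have hu : (Finset.univ : Finset (IrrCharacter K)) = insert (H12.oneIrr K) (insert σ
        ((Finset.range p).biUnion fun i => {r i, H12.conjIrr (r i)})) := by
      refine (Finset.eq_univ_iff_forall.2 fun l => ?_).symm
      simp only [Finset.mem_insert, Finset.mem_biUnion, Finset.mem_range, Finset.mem_singleton]
      exact hcover l
    rw [hu, Finset.sum_insert, Finset.sum_insert, Finset.sum_biUnion, add_assoc]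
    · refine congrArg _ (congrArg _ (Finset.sum_congr rfl fun i hi => ?_))
      exact Finset.sum_pair (hnr i (Finset.mem_range.1 hi)).symm
    · intro i hi j hj hij
      have hi' := Finset.mem_range.1 hi
      have hj' := Finset.mem_range.1 hj
      simp only [Function.onFun, Finset.disjoint_left, Finset.mem_insert, Finset.mem_singleton]
      rintro l (rfl | rfl) (e | e)
      · exact hij (hrinj i j hi' hj' e)
      · exact hcr i j hi' hj' e
      · exact hcr j i hj' hi' e.symm
      · exact hij (hrinj i j hi' hj' (by simpa only [H12.conjIrr_conjIrr] using congrArg H12.conjIrr e))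
    · simp only [Finset.mem_biUnion, Finset.mem_range, Finset.mem_insert, Finset.mem_singleton]
      rintro ⟨i, hi, e | e⟩
      exacts [(hfacts i hi).2.1 e.symm, (hfacts i hi).2.2.2.1 e.symm]
    · simp only [Finset.mem_biUnion, Finset.mem_range, Finset.mem_insert, Finset.mem_singleton]
      rintro (e | ⟨i, hi, e | e⟩)
      exacts [hσ1 e.symm, (hfacts i hi).1 e.symm, (hfacts i hi).2.2.1 e.symm]
  refine ⟨σ, p, r, hσ1, hσ, ?_, hfacts, hrinj, hcr, hcover, hsum⟩
  have e := hsum fun _ => 1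
  simp only [Finset.sum_const, nsmul_eq_mul, mul_one, Finset.card_univ, Finset.card_range] at e
  have hcard : Fintype.card (IrrCharacter K) = Nat.card K := by
    have e2 := K_column h (1 : K)
    rw [if_pos rfl] at e2
    simp only [lin_one h, Finset.sum_const, nsmul_eq_mul, mul_one, Finset.card_univ] at e2
    exact_mod_cast e2
  rw [hcard] at e
  have e' : ((2 * p + 2 : ℕ) : ℂ) = (Nat.card K : ℂ) := by rw [e]; push_cast; ring
  exact_mod_cast e'

end H65.BSW
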