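import Cfsg.Agent.H25.Galois
import Cfsg.Agent.H13.Linear
import Cfsg.Agent.H24.CharBasic
import Cfsg.Agent.H4.NilpotentHall

/-!
Blichfeldt: a finite linear group of degree `n` has an abelian Hall subgroup for the primes
exceeding `n + 1`.
-/

set_option autoImplicit false

namespace H65

open Subgroup Cfsg
open scoped Pointwise commutatorElement
open scoped ComplexConjugate

universe u

/-- The irreducible characters of degree at most `n` separate the identity. -/
def BH_Sep (n : ℕ) (G : Type u) [Group G] : Prop :=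
  ∀ g : G, (∀ ψ : IrrCharacter G, H12.degree (ψ : G → ℂ) ≤ n → (ψ : G → ℂ) g = (ψ : G → ℂ) 1) →
    g = 1

/-- All prime divisors of the order exceed `n + 1`. -/
def BH_Large (n : ℕ) (G : Type u) [Group G] : Prop :=
  ∀ q : ℕ, q.Prime → q ∣ Nat.card G → n + 1 < q

variable {G : Type u} [Group G] [Finite G] {n : ℕ}

theorem BH_degree_le_of_mult [Fintype G] {φ : G → ℂ} (hφ : IsCharacter G φ)
    (m : IrrCharacter G → ℕ) (hm : φ = ∑ χ, (m χ : ℂ) • (χ : G → ℂ)) :
    ∑ χ, m χ * H12.degree (χ : G → ℂ) = H12.degree φ := by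
  have h := congrFun hm 1
  simp only [Finset.sum_apply, Pi.smul_apply, smul_eq_mul,
    H12.IsCharacter.apply_one_eq_degree hφ, H12.irr_apply_one] at h
  exact_mod_cast h.symm

theorem BH_apply_eq_of_mult [Fintype G] {φ : G → ℂ} (hφ : IsCharacter G φ)
    (m : IrrCharacter G → ℕ) (hm : φ = ∑ χ, (m χ : ℂ) • (χ : G → ℂ)) {g : G}
    (hg : ∀ χ : IrrCharacter G, m χ ≠ 0 → (χ : G → ℂ) g = (χ : G → ℂ) 1) : φ g = φ 1 := by
  rw [hm]
  simp only [Finset.sum_apply, Pi.smul_apply, smul_eq_mul]
  refine Finset.sum_congr rfl fun χ _ => ?_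
  by_cases h : m χ = 0
  · simp [h]
  · rw [hg χ h]

theorem BH_apply_eq_of_degree_le [Fintype G] {φ : G → ℂ} (hφ : IsCharacter G φ)
    (hd : H12.degree φ ≤ n) {g : G}
    (hg : ∀ ψ : IrrCharacter G, H12.degree (ψ : G → ℂ) ≤ n → (ψ : G → ℂ) g = (ψ : G → ℂ) 1) :
    φ g = φ 1 := by
  obtain ⟨m, hm⟩ := H12.IsCharacter.exists_mult hφ
  refine BH_apply_eq_of_mult hφ m hm fun χ hχ => hg χ (le_trans ?_ hd)
  rw [← BH_degree_le_of_mult hφ m hm]
  exact le_trans (Nat.le_mul_of_pos_left _ (Nat.pos_of_ne_zero hχ))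
    (Finset.single_le_sum (f := fun χ => m χ * H12.degree (χ : G → ℂ)) (fun _ _ => Nat.zero_le _)
      (Finset.mem_univ χ))

/-- A faithful character of degree `n` gives separation. -/
theorem BH_sep_of_faithful {χ : G → ℂ} (hχ : IsCharacter G χ)
    (hfaith : ∀ g : G, χ g = χ 1 → g = 1) (hn : H12.degree χ ≤ n) : BH_Sep n G := by
  haveI := Fintype.ofFinite G
  exact fun g hg => hfaith g (BH_apply_eq_of_degree_le hχ hn hg)

theorem BH_sep_subgroup (h : BH_Sep n G) (H : Subgroup G) : BH_Sep n H := by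
  haveI := Fintype.ofFinite H
  refine fun x hx => Subtype.ext (h x fun ψ hψ => ?_)
  exact BH_apply_eq_of_degree_le (H12.IsCharacter.res (H12.isCharacter_irr ψ) H)
    (show H12.degree (fun y : H => (ψ : G → ℂ) y) ≤ n from hψ) hx

/-- A group all whose prime divisors are large is abelian. -/
theorem BH_abelian (h : BH_Sep n G) (hl : BH_Large n G) (a b : G) : a * b = b * a := by
  haveI := Fintype.ofFinite G
  have hlin : ∀ ψ : IrrCharacter G, H12.degree (ψ : G → ℂ) ≤ n → (ψ : G → ℂ) 1 = 1 := by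
    intro ψ hψ
    rw [H12.irr_apply_one]
    suffices H12.degree (ψ : G → ℂ) = 1 by simp [this]
    by_contra hne
    obtain ⟨q, hq, hqd⟩ := Nat.exists_prime_and_dvd hne
    have h1 := hl q hq (hqd.trans (H24.charDegree_dvd_card ψ))
    have h2 := Nat.le_of_dvd (H12.irr_degree_pos ψ) hqd
    omega
  have h1 := h (a * b * a⁻¹ * b⁻¹) fun ψ hψ => by
    rw [H13.linear_commutator (H12.isCharacter_irr ψ) (hlin ψ hψ), hlin ψ hψ]
  rwa [mul_inv_eq_one, mul_inv_eq_iff_eq_mul] at h1

theorem BH_abelian_subgroup (h : BH_Sep n G) (A : Subgroup G) (hA : BH_Large n A) :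
    ∀ x ∈ A, ∀ y ∈ A, x * y = y * x := fun x hx y hy =>
  congrArg Subtype.val (BH_abelian (BH_sep_subgroup h A) hA ⟨x, hx⟩ ⟨y, hy⟩)

/-- An irreducible character of small degree invariant under all powers is trivial at an element
of prime order. -/
theorem BH_apply_eq_of_invariant {p : ℕ} (hp : p.Prime) {φ : G → ℂ} (hφ : IsCharacter G φ)
    (hd : H12.degree φ + 1 < p) {x : G} (hx : orderOf x = p)
    (hinv : ∀ j : ℕ, ¬ p ∣ j → φ (x ^ j) = φ x) : φ x = φ 1 := by
  classical
  obtain ⟨d, ρ, rfl⟩ := hφ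
  rw [H12.degree_character, Module.finrank_fin_fun] at hd
  obtain ⟨μ, h1, h2, h3⟩ := H12.exists_char_eigenvalues ρ x
  have hfin : Module.finrank ℂ (Fin d → ℂ) = d := Module.finrank_fin_fun ℂ
  set m := (Finset.univ.filter fun i => μ i = 1).card with hm
  have hmd : m ≤ d := by
    refine (Finset.card_filter_le _ _).trans ?_
    simp [hfin]
  have hsum : ∑ j ∈ Finset.range p, ρ.character (x ^ j) = (p : ℂ) * m := by
    simp only [h2]
    rw [Finset.sum_comm, ← Finset.sum_filter_add_sum_filter_not Finset.univ (fun i => μ i = 1)]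
    have e1 : ∀ i ∈ Finset.univ.filter (fun i => μ i = 1),
        ∑ j ∈ Finset.range p, μ i ^ j = (p : ℂ) := by
      intro i hi
      simp [(Finset.mem_filter.1 hi).2]
    have e2 : ∀ i ∈ Finset.univ.filter (fun i => ¬ μ i = 1),
        ∑ j ∈ Finset.range p, μ i ^ j = 0 := by
      intro i hi
      have hi' := h1 i
      rw [hx] at hi'
      rw [geom_sum_eq (Finset.mem_filter.1 hi).2, hi', sub_self, zero_div]
    rw [Finset.sum_congr rfl e1, Finset.sum_congr rfl e2, Finset.sum_const, Finset.sum_const_zero,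
      add_zero, nsmul_eq_mul, ← hm, mul_comm]
  have hsum' : ∑ j ∈ Finset.range p, ρ.character (x ^ j) =
      (d : ℂ) + ((p - 1 : ℕ) : ℂ) * ρ.character x := by
    obtain ⟨q, hq⟩ : ∃ q, p = q + 1 := ⟨p - 1, by omega⟩
    rw [hq, Finset.sum_range_succ', pow_zero, Representation.char_one, hfin,
      Finset.sum_congr rfl (fun j hj => hinv (j + 1) (fun hdvd => ?_)), Finset.sum_const,
      Finset.card_range, nsmul_eq_mul, add_comm, Nat.add_sub_cancel]
    have := Nat.le_of_dvd (by omega) hdvd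
    have := Finset.mem_range.1 hj
    omega
  have hne : ((p - 1 : ℕ) : ℂ) ≠ 0 := by
    rw [Nat.cast_ne_zero]; omega
  have hval : ρ.character x = (((((p * m : ℕ) : ℤ) - d) : ℤ) : ℂ) / ((p - 1 : ℕ) : ℂ) := by
    rw [eq_div_iff hne]
    push_cast
    linear_combination hsum - hsum'
  have hq : ∃ z : ℤ, ρ.character x = z := by
    have hi := H12.isIntegral_character ρ x
    have h' : ρ.character x = (((((p * m : ℕ) : ℤ) - d : ℤ) / ((p - 1 : ℕ) : ℚ) : ℚ) : ℂ) := by
      rw [hval]; push_cast; ring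
    rw [h'] at hi
    obtain ⟨z, hz⟩ := IsIntegrallyClosed.isIntegral_iff.1
      ((isIntegral_algebraMap_iff (A := ℚ) (B := ℂ)
        (algebraMap ℚ ℂ).injective).1 hi)
    exact ⟨z, by rw [h', ← hz]; simp⟩
  obtain ⟨z, hz⟩ := hq
  have heq : ((p : ℤ) - 1) * (z - m) = (m : ℤ) - d := by
    have h4 : ((p - 1 : ℕ) : ℂ) * z = (p : ℂ) * m - d := by
      rw [← hz]; linear_combination hsum - hsum'
    rw [Nat.cast_sub hp.one_le] at h4
    push_cast at h4
    have h5 : (((p : ℤ) - 1) * (z - m) : ℤ) = (((m : ℤ) - d : ℤ) : ℂ) := by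
      push_cast
      linear_combination h4
    exact_mod_cast h5
  rcases eq_or_ne (z - (m : ℤ)) 0 with h0 | h0
  · rw [hz, Representation.char_one, hfin]
    have : z = (d : ℤ) := by
      rw [h0, mul_zero] at heq
      omega
    rw [this]
    simp
  · exfalso
    have h6 : ((p : ℤ) - 1) * 1 ≤ ((p : ℤ) - 1) * |z - m| :=
      mul_le_mul_of_nonneg_left (Int.one_le_abs h0) (by omega)
    rw [← abs_of_nonneg (show (0 : ℤ) ≤ (p : ℤ) - 1 by omega), ← abs_mul, heq,
      abs_of_nonneg (show (0 : ℤ) ≤ (p : ℤ) - 1 by omega)] at h6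
    have h7 : |(m : ℤ) - d| ≤ d := abs_le.2 ⟨by omega, by omega⟩
    omega

/-- The congruences for a Galois twist at one prime. -/
theorem BH_twist {p : ℕ} (hp : p.Prime) :
    ∃ k : ℕ, Nat.Coprime k (Nat.card G) ∧
      (∀ g : G, ¬ p ∣ orderOf g → g ^ k = g) ∧
      ∀ x : G, orderOf x = p → ∀ j : ℕ, ¬ p ∣ j → ∃ i : ℕ, x ^ j = x ^ k ^ i := by
  haveI : Fact p.Prime := ⟨hp⟩
  have hN : Nat.card G ≠ 0 := Nat.card_pos.ne'
  set a := p ^ (Nat.card G).factorization p with ha
  set m := Nat.card G / a with hm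
  have hcop : Nat.Coprime p m := Nat.coprime_ordCompl hp hN
  obtain ⟨r, hr⟩ := IsCyclic.exists_generator (α := (ZMod p)ˣ)
  set s := (r : ZMod p).val with hs
  have hsr : (s : ZMod p) = (r : ZMod p) := ZMod.natCast_zmod_val _
  have hsp : ¬ p ∣ s := by
    rw [← ZMod.natCast_eq_zero_iff, hsr]
    exact r.ne_zero
  obtain ⟨k, hk1, hk2⟩ := Nat.chineseRemainder (hcop.pow_left ((Nat.card G).factorization p + 1)) s 1
  have hkp : (k : ZMod p) = (r : ZMod p) := by
    rw [← hsr, ZMod.natCast_eq_natCast_iff]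
    exact hk1.of_dvd (dvd_pow_self p (Nat.succ_ne_zero _))
  refine ⟨k, ?_, fun g hg => ?_, fun x hx j hj => ?_⟩
  · rw [← Nat.ordProj_mul_ordCompl_eq_self (Nat.card G) p]
    refine Nat.Coprime.mul_right (Nat.Coprime.pow_right _ ?_) ?_
    · refine (hp.coprime_iff_not_dvd.2 ?_).symm
      rw [← ZMod.natCast_eq_zero_iff, hkp]
      exact r.ne_zero
    · rw [Nat.Coprime, ← hm]
      have := hk2
      rw [Nat.ModEq] at this
      rw [Nat.gcd_comm, Nat.gcd_rec, this, ← Nat.gcd_rec, Nat.gcd_one_right]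
  · have hd : orderOf g ∣ m :=
      (Nat.Coprime.dvd_of_dvd_mul_left
        (Nat.Coprime.pow_right _ (hp.coprime_iff_not_dvd.2 hg).symm)
        (by rw [hm, ha, Nat.ordProj_mul_ordCompl_eq_self]; exact orderOf_dvd_natCard g))
    conv_rhs => rw [← pow_one g]
    exact pow_eq_pow_iff_modEq.2 (hk2.of_dvd hd)
  · have hj0 : (j : ZMod p) ≠ 0 := by rwa [Ne, ZMod.natCast_eq_zero_iff]
    obtain ⟨i, hi⟩ := (Submonoid.mem_powers_iff _ _).1
      (mem_powers_iff_mem_zpowers.2 (hr (Units.mk0 _ hj0)))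
    refine ⟨i, pow_eq_pow_iff_modEq.2 ?_⟩
    rw [hx, ← ZMod.natCast_eq_natCast_iff, Nat.cast_pow, hkp, ← Units.val_pow_eq_pow_val, hi]
    rfl

theorem BH_invariant_pow {φ : G → ℂ} {k : ℕ} (h : ∀ g : G, φ (g ^ k) = φ g) (x : G) (i : ℕ) :
    φ (x ^ k ^ i) = φ x := by
  induction i with
  | zero => simp
  | succ i ih => rw [pow_succ, pow_mul, h, ih]

/-- Two large primes always occur in the order of one element. -/
theorem BH_exists_mixed (h : BH_Sep n G) {p q : ℕ} (hp : p.Prime) (hq : q.Prime)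
    (hpn : n + 1 < p) (hqn : n + 1 < q) {x y : G} (hx : orderOf x = p) (hy : orderOf y = q) :
    ∃ g : G, p ∣ orderOf g ∧ q ∣ orderOf g := by
  haveI := Fintype.ofFinite G
  by_contra hno
  push Not at hno
  obtain ⟨k, hk, hkfix, hkgen⟩ := BH_twist (G := G) hp
  obtain ⟨l, hl, hlfix, hlgen⟩ := BH_twist (G := G) hq
  have key : x * y * x⁻¹ * y⁻¹ = 1 := by
    refine h _ fun ψ hψ => ?_
    let φ : IrrCharacter G := ⟨fun g => (ψ : G → ℂ) (g ^ k), H25.isIrrCharacter_comp_pow ψ.2 hk⟩
    let φ' : IrrCharacter G := ⟨fun g => (ψ : G → ℂ) (g ^ l), H25.isIrrCharacter_comp_pow ψ.2 hl⟩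
    have h0 : classInner ((ψ : G → ℂ) - (φ : G → ℂ)) ((ψ : G → ℂ) - (φ' : G → ℂ)) = 0 := by
      rw [H12.classInner_def, Finset.sum_eq_zero, mul_zero]
      intro g _
      by_cases hg : p ∣ orderOf g
      · have : (φ' : G → ℂ) g = (ψ : G → ℂ) g :=
          congrArg (ψ : G → ℂ) (hlfix g (hno g hg))
        simp [this]
      · have : (φ : G → ℂ) g = (ψ : G → ℂ) g := congrArg (ψ : G → ℂ) (hkfix g hg)
        simp [this]
    have hor : φ = ψ ∨ φ' = ψ := by
      by_contra hne
      push Not at hne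
      rw [H12.classInner_sub_left, H12.classInner_sub_right, H12.classInner_sub_right,
        H12.classInner_irr_self, H12.classInner_irr_ne hne.2.symm, H12.classInner_irr_ne hne.1,
        H12.classInner_irr] at h0
      split_ifs at h0 <;> norm_num at h0
    have hc := H12.isCharacter_irr ψ
    obtain ⟨d, ρ, hρ⟩ := hc
    have hker : ∀ g : G, (ψ : G → ℂ) g = (ψ : G → ℂ) 1 → ρ g = LinearMap.id := by
      intro g hg
      rw [← H12.character_eq_finrank_iff, hρ, hg, ← hρ, Representation.char_one]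
    have hmem : ρ x = LinearMap.id ∨ ρ y = LinearMap.id := by
      rcases hor with e | e
      · refine Or.inl (hker x (BH_apply_eq_of_invariant hp (H12.isCharacter_irr ψ)
          (by omega) hx fun j hj => ?_))
        obtain ⟨i, hi⟩ := hkgen x hx j hj
        rw [hi]
        exact BH_invariant_pow (fun g => congrFun (congrArg Subtype.val e) g) x i
      · refine Or.inr (hker y (BH_apply_eq_of_invariant hq (H12.isCharacter_irr ψ)
          (by omega) hy fun j hj => ?_))
        obtain ⟨i, hi⟩ := hlgen y hy j hj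
        rw [hi]
        exact BH_invariant_pow (fun g => congrFun (congrArg Subtype.val e) g) y i
    have h1 : ρ (x * y * x⁻¹ * y⁻¹) = 1 := by
      rcases hmem with e | e
      · have e' : ρ x = 1 := e
        have e'' : ρ x⁻¹ = 1 := by
          have := congrArg ρ (mul_inv_cancel x)
          rwa [map_mul, e', one_mul, map_one] at this
        rw [map_mul, map_mul, map_mul, e', e'', one_mul, mul_one, ← map_mul, mul_inv_cancel, map_one]
      · have e' : ρ y = 1 := e
        have e'' : ρ y⁻¹ = 1 := by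
          have := congrArg ρ (mul_inv_cancel y)
          rwa [map_mul, e', one_mul, map_one] at this
        rw [map_mul, map_mul, map_mul, e', e'', mul_one, mul_one, ← map_mul, mul_inv_cancel, map_one]
    rw [← hρ]
    show LinearMap.trace ℂ _ (ρ _) = LinearMap.trace ℂ _ (ρ 1)
    rw [h1, map_one ρ]
  have hcomm : Commute x y := by
    rw [mul_inv_eq_one, mul_inv_eq_iff_eq_mul] at key
    exact key
  have hpq : p ≠ q := by
    rintro rfl
    exact hno x (hx ▸ dvd_rfl) (hx ▸ dvd_rfl)
  have ho := hcomm.orderOf_mul_eq_mul_orderOf_of_coprime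
    (by rw [hx, hy]; exact (Nat.coprime_primes hp hq).2 hpq)
  rw [hx, hy] at ho
  exact hno (x * y) (ho ▸ dvd_mul_right p q) (ho ▸ dvd_mul_left q p)

/-- In a perfect group no central element has large prime order. -/
theorem BH_not_central (h : BH_Sep n G) (hperf : commutator G = ⊤) {p : ℕ} (hp : p.Prime)
    (hpn : n + 1 < p) {x : G} (hx : orderOf x = p) : x ∉ center G := by
  haveI := Fintype.ofFinite G
  intro hxc
  have hx1 : x = 1 := by
    refine h x fun ψ hψ => ?_
    obtain ⟨d, ρ, hρ, hχ⟩ := ψ.2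
    have := hρ
    have hd : H12.degree (ψ : G → ℂ) = d := by
      rw [← hχ, H12.degree_character, Module.finrank_fin_fun]
    have hd0 : 0 < d := hd ▸ H12.irr_degree_pos ψ
    obtain ⟨c, hc⟩ := H12.exists_scalar_of_commute ρ (ρ x) fun g => by
      rw [← map_mul, ← map_mul, mem_center_iff.1 hxc g]
    have hdet : LinearMap.det (ρ x) = 1 := by
      have hker := Abelianization.commutator_subset_ker
        ((LinearMap.det.comp ρ).toHomUnits)
      have := hker (hperf ▸ mem_top x)
      rw [MonoidHom.mem_ker] at this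
      simpa using congrArg Units.val this
    rw [hc, LinearMap.det_smul, map_one, mul_one, Module.finrank_fin_fun] at hdet
    have hpow : c ^ p = 1 := by
      have h1 : (ρ x) ^ p = 1 := by rw [← hx]; exact H12.rep_pow_orderOf ρ x
      rw [hc, smul_pow, one_pow] at h1
      have h2 := congrArg (LinearMap.trace ℂ (Fin d → ℂ)) h1
      rw [map_smul, LinearMap.trace_one, smul_eq_mul] at h2
      exact mul_eq_right₀ (by rw [Module.finrank_fin_fun]; exact_mod_cast hd0.ne') |>.1 h2
    have hc1 : c = 1 := by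
      have hcop : Nat.Coprime p d := hp.coprime_iff_not_dvd.2 fun hdvd => by
        have := Nat.le_of_dvd hd0 hdvd
        omega
      have := pow_gcd_eq_one.2 ⟨hpow, hdet⟩
      rwa [hcop.gcd_eq_one, pow_one] at this
    rw [← hχ, Representation.char_one]
    exact (H12.character_eq_finrank_iff ρ x).2 (by rw [hc, hc1, one_smul]; rfl)
  rw [hx1, orderOf_one] at hx
  exact hp.one_lt.ne hx

/-- A large subgroup of a group with a large Hall subgroup has dividing order. -/
theorem BH_card_dvd {C : Subgroup G} {B : Subgroup C}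
    (hB : ∀ q : ℕ, q.Prime → q ∣ B.index → q ≤ n + 1) {L : Subgroup G} (hLC : L ≤ C)
    (hL : BH_Large n L) : Nat.card L ∣ Nat.card B := by
  refine (Nat.Coprime.dvd_of_dvd_mul_right ?_
    (show Nat.card L ∣ Nat.card B * B.index from B.card_mul_index ▸ card_dvd_of_le hLC))
  refine Nat.coprime_of_dvd fun q hq h1 h2 => ?_
  have := hL q hq h1
  have := hB q hq h2
  omega

theorem BH_large_map {C : Subgroup G} {B : Subgroup C} (hB : BH_Large n B) :
    BH_Large n (B.map C.subtype) := fun q hq hd =>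
  hB q hq (by rwa [card_map_of_injective C.subtype_injective] at hd)

/-- The perfect step. -/
theorem BH_perfect_step (h : BH_Sep n G) (hperf : commutator G = ⊤)
    (ih : ∀ C : Subgroup G, C ≠ ⊤ → ∃ B : Subgroup C, BH_Large n B ∧
      ∀ q : ℕ, q.Prime → q ∣ B.index → q ≤ n + 1) :
    ∃ A : Subgroup G, BH_Large n A ∧ ∀ q : ℕ, q.Prime → q ∣ A.index → q ≤ n + 1 := by
  classical
  obtain ⟨A, hA, hmax⟩ := Set.exists_max_image {A : Subgroup G | BH_Large n A}
    (fun A => Nat.card A) (Set.toFinite _) ⟨⊥, fun q hq hd => by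
      rw [card_bot] at hd; exact absurd (Nat.dvd_one.1 hd) hq.one_lt.ne'⟩
  refine ⟨A, hA, fun q hq hqA => ?_⟩
  by_contra hqn
  push Not at hqn
  haveI : Fact q.Prime := ⟨hq⟩
  by_cases hA1 : A = ⊥
  · obtain ⟨y, hy⟩ := exists_prime_orderOf_dvd_card' q (hqA.trans A.index_dvd_card)
    have := hmax (zpowers y) fun r hr hd => by
      rw [Nat.card_zpowers, hy, Nat.prime_dvd_prime_iff_eq hr hq] at hd
      omega
    rw [hA1, card_bot, Nat.card_zpowers, hy] at this
    exact absurd this (not_le.2 hq.one_lt)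
  obtain ⟨p, hp, hpA⟩ := Nat.exists_prime_and_dvd
    (fun e => hA1 (A.card_eq_one.1 e) : Nat.card A ≠ 1)
  haveI : Fact p.Prime := ⟨hp⟩
  have hpn := hA p hp hpA
  have hmain : ∀ x ∈ A, orderOf x = p → ∃ B : Subgroup (centralizer ({x} : Set G)),
      Nat.card B = Nat.card A ∧ ∀ q : ℕ, q.Prime → q ∣ B.index → q ≤ n + 1 := by
    intro x hxA hx
    obtain ⟨B, hB1, hB2⟩ := ih (centralizer ({x} : Set G)) fun e =>
      BH_not_central h hperf hp hpn hx (mem_center_iff.2 fun g => by
        have := (mem_centralizer_singleton_iff).1 (e ▸ mem_top g : g ∈ centralizer ({x} : Set G))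
        exact this)
    refine ⟨B, le_antisymm ?_ (Nat.le_of_dvd Nat.card_pos (BH_card_dvd hB2 ?_ hA)), hB2⟩
    · rw [← card_map_of_injective (centralizer ({x} : Set G)).subtype_injective (K := B)]
      exact hmax _ (BH_large_map hB1)
    · intro a ha
      exact mem_centralizer_singleton_iff.2 (BH_abelian_subgroup h A hA a ha x hxA)
  -- `A` contains a Sylow `p`-subgroup
  obtain ⟨x₀, hx₀⟩ := exists_prime_orderOf_dvd_card' p hpA
  have hx₀' : orderOf (x₀ : G) = p := by rw [orderOf_coe]; exact hx₀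
  obtain ⟨P₀, hP₀⟩ := (IsPGroup.of_card (n := 1) (by rw [Nat.card_zpowers, hx₀', pow_one]) :
    IsPGroup p (zpowers (x₀ : G))).exists_le_sylow
  have hPcomm : ∀ P : Sylow p G, ∀ a ∈ (P : Subgroup G), ∀ b ∈ (P : Subgroup G), a * b = b * a :=
    fun P => BH_abelian_subgroup h _ fun r hr hd => by
      obtain ⟨k, hk⟩ := P.isPGroup'.exists_card_eq
      rw [hk] at hd
      rw [(Nat.prime_dvd_prime_iff_eq hr hp).1 (hr.dvd_of_dvd_pow hd)]
      exact hpn
  have hfull : Nat.card (P₀ : Subgroup G) ∣ Nat.card A := by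
    obtain ⟨B, hB1, hB2⟩ := hmain x₀ x₀.2 hx₀'
    rw [← hB1]
    refine BH_card_dvd hB2 (fun a ha => mem_centralizer_singleton_iff.2
      (hPcomm P₀ a ha x₀ (hP₀ (mem_zpowers _)))) fun r hr hd => ?_
    obtain ⟨k, hk⟩ := P₀.isPGroup'.exists_card_eq
    rw [hk] at hd
    rw [(Nat.prime_dvd_prime_iff_eq hr hp).1 (hr.dvd_of_dvd_pow hd)]
    exact hpn
  obtain ⟨R, hR⟩ : ∃ R : Sylow p G, (R : Subgroup G) ≤ A := by
    obtain ⟨k, hk⟩ := P₀.isPGroup'.exists_card_eq
    obtain ⟨S, hS⟩ := Sylow.exists_subgroup_card_pow_prime p (hk ▸ hfull : p ^ k ∣ Nat.card A)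
    refine ⟨Sylow.ofCard (S.map A.subtype) ?_, ?_⟩
    · rw [card_map_of_injective A.subtype_injective, hS, ← hk, P₀.card_eq_multiplicity]
    · rw [Sylow.coe_ofCard]
      exact map_subtype_le S
  -- the contradiction
  obtain ⟨y₀, hy₀⟩ := exists_prime_orderOf_dvd_card' q (hqA.trans A.index_dvd_card)
  obtain ⟨g, hgp, hgq⟩ := BH_exists_mixed h hp hq hpn hqn hx₀' hy₀
  have hpq : p ≠ q := by
    rintro rfl
    exact R.not_dvd_index (hqA.trans (index_dvd_of_le hR))
  set x := g ^ (orderOf g / p) with hxdef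
  have hx : orderOf x = p := orderOf_pow_orderOf_div (orderOf_pos g).ne' hgp
  obtain ⟨Q, hQ⟩ := (IsPGroup.of_card (n := 1) (by rw [Nat.card_zpowers, hx, pow_one]) :
    IsPGroup p (zpowers x)).exists_le_sylow
  obtain ⟨c, hc⟩ := MulAction.exists_smul_eq G Q R
  have hxA : c * x * c⁻¹ ∈ A := hR (by
    rw [← hc, Sylow.coe_subgroup_smul]
    exact smul_mem_pointwise_smul x (MulAut.conj c) _ (hQ (mem_zpowers _)))
  have hy : orderOf (c * g ^ (orderOf g / q) * c⁻¹) = q := by
    rw [← MulAut.conj_apply, MulEquiv.orderOf_eq]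
    exact orderOf_pow_orderOf_div (orderOf_pos g).ne' hgq
  obtain ⟨B, hB1, hB2⟩ := hmain _ hxA (by
    rw [← MulAut.conj_apply, MulEquiv.orderOf_eq]; exact hx)
  have hd : q ∣ Nat.card A := by
    rw [← hB1, ← hy, ← Nat.card_zpowers]
    refine BH_card_dvd hB2 (zpowers_le.2 (mem_centralizer_singleton_iff.2 ?_)) fun r hr hd => ?_
    · rw [hxdef, ← MulAut.conj_apply, ← MulAut.conj_apply, ← map_mul, ← map_mul,
        ← pow_add, ← pow_add, Nat.add_comm]
    · rw [Nat.card_zpowers, hy, Nat.prime_dvd_prime_iff_eq hr hq] at hd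
      omega
  -- the Sylow subgroup of `A` for `q` is full
  obtain ⟨y, hyA⟩ := exists_prime_orderOf_dvd_card' q hd
  have hy' : orderOf (y : G) = q := by rw [orderOf_coe]; exact hyA
  obtain ⟨T, hT⟩ := (IsPGroup.of_card (n := 1) (by rw [Nat.card_zpowers, hy', pow_one]) :
    IsPGroup q (zpowers (y : G))).exists_le_sylow
  have hTlarge : BH_Large n (T : Subgroup G) := fun r hr hd => by
    obtain ⟨k, hk⟩ := T.isPGroup'.exists_card_eq
    rw [hk] at hd
    rw [(Nat.prime_dvd_prime_iff_eq hr hq).1 (hr.dvd_of_dvd_pow hd)]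
    exact hqn
  obtain ⟨D, hD1, hD2⟩ := ih (centralizer ({(y : G)} : Set G)) fun e =>
      BH_not_central h hperf hq hqn hy' (mem_center_iff.2 fun g =>
        (mem_centralizer_singleton_iff).1 (e ▸ mem_top g : g ∈ centralizer ({(y : G)} : Set G)))
  have h1 : Nat.card D ≤ Nat.card A := by
    rw [← card_map_of_injective (centralizer ({(y : G)} : Set G)).subtype_injective (K := D)]
    exact hmax _ (BH_large_map hD1)
  have h2 : Nat.card A ∣ Nat.card D := BH_card_dvd hD2 (fun a ha =>
    mem_centralizer_singleton_iff.2 (BH_abelian_subgroup h A hA a ha y y.2)) hA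
  have h3 : Nat.card (T : Subgroup G) ∣ Nat.card A := by
    rw [le_antisymm (Nat.le_of_dvd Nat.card_pos h2) h1]
    exact BH_card_dvd hD2 (fun a ha => mem_centralizer_singleton_iff.2
      (BH_abelian_subgroup h _ hTlarge a ha y (hT (mem_zpowers _)))) hTlarge
  obtain ⟨k, hk⟩ := h3
  refine T.not_dvd_index (hqA.trans ⟨k, ?_⟩)
  refine Nat.eq_of_mul_eq_mul_left (Nat.card_pos (α := (T : Subgroup G))) ?_
  rw [card_mul_index, ← A.card_mul_index, hk]
  ring

/-- The step from a normal subgroup of prime index. -/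
theorem BH_normal_step (h : BH_Sep n G) (K : Subgroup G) [K.Normal] {r : ℕ} (hr : r.Prime)
    (hK : K.index = r)
    (ih : ∀ C : Subgroup G, C ≠ ⊤ → ∃ B : Subgroup C, BH_Large n B ∧
      ∀ q : ℕ, q.Prime → q ∣ B.index → q ≤ n + 1) :
    ∃ A : Subgroup G, BH_Large n A ∧ ∀ q : ℕ, q.Prime → q ∣ A.index → q ≤ n + 1 := by
  haveI : Fact r.Prime := ⟨hr⟩
  obtain ⟨B₀, hB1, hB2⟩ := ih K fun e => hr.one_lt.ne' (by rw [← hK, e, index_top])
  set B := B₀.map K.subtype with hB
  have hBK : B ≤ K := map_subtype_le B₀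
  have hBl : BH_Large n B := BH_large_map hB1
  have hrel : B.relIndex K = B₀.index := by
    rw [hB, relIndex, subgroupOf, comap_map_eq_self_of_injective K.subtype_injective]
  by_cases hrn : r ≤ n + 1
  · refine ⟨B, hBl, fun q hq hd => ?_⟩
    rw [← relIndex_mul_index hBK, hK, hrel] at hd
    rcases hq.dvd_mul.1 hd with hd | hd
    · exact hB2 q hq hd
    · rw [(Nat.prime_dvd_prime_iff_eq hq hr).1 hd]
      exact hrn
  push Not at hrn
  -- Frattini
  have hfr : ∀ g : G, ∃ k ∈ K, k⁻¹ * g ∈ normalizer (B : Set G) := by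
    intro g
    have hcop : (Nat.card B₀).Coprime B₀.index := Nat.coprime_of_dvd fun q hq h1 h2 => by
      have := hB1 q hq h1
      have := hB2 q hq h2
      omega
    have hnil : Group.IsNilpotent B₀ :=
      @CommGroup.isNilpotent _ { (inferInstance : Group B₀) with
        mul_comm := BH_abelian (BH_sep_subgroup (BH_sep_subgroup h K) B₀) hB1 }
    set B' := (MulAut.conjNormal g : MulAut K) • B₀ with hB'
    have hc' : Nat.card B' = Nat.card B₀ :=
      Nat.card_congr (equivSMul (MulAut.conjNormal g : MulAut K) B₀).toEquiv.symm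
    obtain ⟨k, hk⟩ := H4.wielandt_aux _ B₀ B' rfl hnil hcop fun q _ hq => by rwa [hc'] at hq
    have heq : B' = MulAut.conj k • B₀ := eq_of_le_of_card_ge hk (by
      rw [hc', ← Nat.card_congr (equivSMul (MulAut.conj k) B₀).toEquiv])
    refine ⟨k, k.2, ?_⟩
    suffices hsm : MulAut.conj g • B = MulAut.conj (k : G) • B by
      have hfix : MulAut.conj ((k : G)⁻¹ * g) • B = B := by
        rw [map_mul, mul_smul, map_inv, inv_smul_eq_iff, hsm]
      refine mem_normalizer_iff.2 fun z => ?_
      have e := (smul_mem_pointwise_smul_iff (a := MulAut.conj ((k : G)⁻¹ * g)) (S := B) (x := z))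
      rw [hfix, MulAut.smul_def, MulAut.conj_apply] at e
      exact e.symm
    ext z
    simp only [Subgroup.mem_pointwise_smul_iff_inv_smul_mem, MulAut.smul_def, MulAut.conj_inv_apply,
      hB, Subgroup.mem_map]
    constructor
    · rintro ⟨b, hb, hbz⟩
      have : (MulAut.conjNormal g : MulAut K) b ∈ B' := smul_mem_pointwise_smul b _ _ hb
      rw [heq, mem_pointwise_smul_iff_inv_smul_mem] at this
      refine ⟨_, this, ?_⟩
      simp only [MulAut.smul_def, MulAut.conj_inv_apply, Subgroup.coe_subtype, Subgroup.coe_mul,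
        InvMemClass.coe_inv, MulAut.conjNormal_apply]
      simp only [Subgroup.coe_subtype] at hbz
      rw [hbz]
      group
    · rintro ⟨b, hb, hbz⟩
      have : MulAut.conj k b ∈ B' := heq ▸ smul_mem_pointwise_smul b (MulAut.conj k) _ hb
      rw [hB', mem_pointwise_smul_iff_inv_smul_mem] at this
      refine ⟨_, this, ?_⟩
      simp only [MulAut.smul_def, MulAut.conj_apply, Subgroup.coe_subtype,
        MulAut.conjNormal_inv_apply, Subgroup.coe_mul, InvMemClass.coe_inv]
      simp only [Subgroup.coe_subtype] at hbz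
      rw [hbz]
      group
  set N := normalizer (B : Set G) with hN
  have hBN : B ≤ N := le_normalizer
  have hsup : K ⊔ N = ⊤ := eq_top_iff.2 fun g _ => by
    obtain ⟨k, hk, hkg⟩ := hfr g
    rw [show g = k * (k⁻¹ * g) by group]
    exact mul_mem (mem_sup_left hk) (mem_sup_right hkg)
  have hNidx : N.index ∣ B₀.index := by
    have : N.relIndex K = N.index := by
      have h1 : K.relIndex N = K.index := by
        rw [← relIndex_top_right K, ← hsup, relIndex_sup_left]
      have h2 := relIndex_mul_index (inf_le_right : K ⊓ N ≤ N)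
      have h3 := relIndex_mul_index (inf_le_left : K ⊓ N ≤ K)
      rw [inf_relIndex_right, h1] at h2
      rw [inf_relIndex_left, ← h2] at h3
      exact Nat.eq_of_mul_eq_mul_left (Nat.pos_of_ne_zero K.index_ne_zero_of_finite)
        (by rw [← h3, Nat.mul_comm])
    rw [← this, ← hrel]
    exact relIndex_dvd_of_le_left K hBN
  by_cases hNtop : N = ⊤
  · haveI : B.Normal := normalizer_eq_top_iff.1 hNtop
    obtain ⟨R⟩ : Nonempty (Sylow r G) := inferInstance
    refine ⟨B ⊔ (R : Subgroup G), fun q hq hd => ?_, fun q hq hd => ?_⟩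
    · have hdvd : Nat.card ↥(B ⊔ (R : Subgroup G)) ∣ Nat.card B * Nat.card (R : Subgroup G) := by
        have h1 := (B.subgroupOf (B ⊔ (R : Subgroup G))).card_mul_index
        rw [Nat.card_congr (subgroupOfEquivOfLe (le_sup_left :
          B ≤ B ⊔ (R : Subgroup G))).toEquiv] at h1
        rw [← h1]
        refine mul_dvd_mul_left _ ?_
        have h2 : B.relIndex (B ⊔ (R : Subgroup G)) = B.relIndex (R : Subgroup G) := by
          rw [sup_comm, relIndex_sup_right]
        rw [← relIndex, h2]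
        exact relIndex_dvd_card B _
      rcases hq.dvd_mul.1 (hd.trans hdvd) with hd | hd
      · exact hBl q hq hd
      · obtain ⟨k, hk⟩ := R.isPGroup'.exists_card_eq
        rw [hk] at hd
        rw [(Nat.prime_dvd_prime_iff_eq hq hr).1 (hq.dvd_of_dvd_pow hd)]
        exact hrn
    · have h1 : q ∣ B₀.index * r := by
        rw [← hrel, ← hK, relIndex_mul_index hBK]
        exact hd.trans (index_dvd_of_le le_sup_left)
      rcases hq.dvd_mul.1 h1 with h1 | h1
      · exact hB2 q hq h1
      · rw [(Nat.prime_dvd_prime_iff_eq hq hr).1 h1] at hd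
        exact absurd (hd.trans (index_dvd_of_le le_sup_right)) R.not_dvd_index
  · obtain ⟨A, hA1, hA2⟩ := ih N hNtop
    refine ⟨A.map N.subtype, BH_large_map hA1, fun q hq hd => ?_⟩
    rw [← relIndex_mul_index (map_subtype_le A), relIndex, subgroupOf,
      comap_map_eq_self_of_injective N.subtype_injective] at hd
    rcases hq.dvd_mul.1 hd with hd | hd
    · exact hA2 q hq hd
    · exact hB2 q hq (hd.trans hNidx)

theorem BH_simple_quotient {K : Subgroup G} [K.Normal] (hK : IsCoatom K) :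
    IsSimpleGroup (G ⧸ K) := by
  haveI : Nontrivial (G ⧸ K) := QuotientGroup.nontrivial_iff.2 hK.1
  refine ⟨fun H hH => ?_⟩
  have hle : K ≤ H.comap (QuotientGroup.mk' K) := by
    intro x hx
    rw [mem_comap, QuotientGroup.mk'_apply, (QuotientGroup.eq_one_iff x).2 hx]
    exact one_mem H
  rcases hK.le_iff.1 hle with h | h
  · exact Or.inr (comap_injective (QuotientGroup.mk'_surjective K) (by rw [h, comap_top]))
  · exact Or.inl (comap_injective (QuotientGroup.mk'_surjective K) (by
      rw [h, MonoidHom.comap_bot, QuotientGroup.ker_mk']))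

/-- A group that is not perfect has a normal subgroup of prime index. -/
theorem BH_exists_prime_index (h : commutator G ≠ ⊤) :
    ∃ K : Subgroup G, K.Normal ∧ K.index.Prime := by
  obtain ⟨K, hK, hle⟩ := (eq_top_or_exists_le_coatom (commutator G)).resolve_left h
  haveI hn : K.Normal := Normal.of_commutator_le G hle
  haveI : IsSimpleGroup (G ⧸ K) := BH_simple_quotient hK
  letI : CommGroup (G ⧸ K) :=
    { (inferInstance : Group (G ⧸ K)) with
      mul_comm := fun a b => QuotientGroup.induction_on a fun a => QuotientGroup.induction_on b fun b => by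
        rw [← QuotientGroup.mk_mul, ← QuotientGroup.mk_mul, QuotientGroup.eq]
        refine hle ?_
        rw [show (a * b)⁻¹ * (b * a) = ⁅b⁻¹, a⁻¹⁆ by rw [commutatorElement_def]; group,
          _root_.commutator_def]
        exact commutator_mem_commutator (mem_top _) (mem_top _) }
  exact ⟨K, hn, by rw [index_eq_card]; exact IsSimpleGroup.prime_card⟩

theorem BH_hall : ∀ (m : ℕ) {G : Type u} [Group G] [Finite G], Nat.card G = m → BH_Sep n G →
    ∃ A : Subgroup G, BH_Large n A ∧ ∀ q : ℕ, q.Prime → q ∣ A.index → q ≤ n + 1 := by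
  intro m
  induction m using Nat.strong_induction_on with
  | _ m ih =>
    intro G _ _ hm h
    have ih' : ∀ C : Subgroup G, C ≠ ⊤ → ∃ B : Subgroup C, BH_Large n B ∧
        ∀ q : ℕ, q.Prime → q ∣ B.index → q ≤ n + 1 := by
      intro C hC
      refine ih _ ?_ rfl (BH_sep_subgroup h C)
      rw [← hm]
      exact lt_of_le_of_ne (Nat.le_of_dvd Nat.card_pos (card_subgroup_dvd_card C)) fun e =>
        hC (eq_top_of_card_eq C e)
    by_cases hperf : commutator G = ⊤
    · exact BH_perfect_step h hperf ih'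
    · obtain ⟨K, hK, hp⟩ := BH_exists_prime_index hperf
      exact BH_normal_step h K hp rfl ih'

/-- Blichfeldt: an abelian Hall subgroup for the primes exceeding `n + 1`. -/
theorem BH_exists_abelian_hall {χ : G → ℂ} (hχ : IsCharacter G χ)
    (hfaith : ∀ g : G, χ g = χ 1 → g = 1) (hn : H12.degree χ ≤ n) :
    ∃ A : Subgroup G, (∀ x ∈ A, ∀ y ∈ A, x * y = y * x) ∧
      (∀ q : ℕ, q.Prime → q ∣ Nat.card A → n + 1 < q) ∧
      ∀ q : ℕ, q.Prime → q ∣ A.index → q ≤ n + 1 := by
  have h := BH_sep_of_faithful hχ hfaith hn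
  obtain ⟨A, hA1, hA2⟩ := BH_hall _ rfl h
  exact ⟨A, BH_abelian_subgroup h A hA1, hA1, hA2⟩

end H65
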