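import Cfsg.Prelude.Def_CaseTheorems
import Cfsg.Agent.H1.Cores
import Cfsg.Agent.H10.PSolvable
import Cfsg.Agent.H11.PConstrained

/-!
Groups whose involution centralisers are solvable with trivial core are of characteristic 2 type.
-/

set_option autoImplicit false

namespace H65

open Subgroup

variable {G : Type*} [Group G] [Finite G]

/-- A group all of whose involution centralisers are solvable with trivial core is of
characteristic `2` type. -/
theorem isCharacteristicTwoType_of_solvable_centralizers (heven : Even (Nat.card G))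
    (hs : ∀ t : G, orderOf t = 2 → Group.IsSolvable (centralizer ({t} : Set G)))
    (hc : ∀ t : G, orderOf t = 2 → Cfsg.oddCore (centralizer ({t} : Set G)) = ⊥) :
    Cfsg.IsCharacteristicTwoType G := by
  refine ⟨heven, fun T hT hTne => ?_⟩
  haveI : Fact (Nat.Prime 2) := ⟨Nat.prime_two⟩
  -- an involution `t` central in `T`
  haveI : Nontrivial T := (nontrivial_iff_ne_bot T).2 hTne
  have hZ := hT.center_nontrivial
  obtain ⟨⟨⟨t, htT⟩, htZ⟩, ht⟩ := exists_prime_orderOf_dvd_card' (G := center T) 2
    ((hT.to_subgroup _).card_eq_or_dvd.resolve_left fun h =>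
      (Finite.one_lt_card_iff_nontrivial.2 hZ).ne' h)
  rw [Subgroup.orderOf_mk, Subgroup.orderOf_mk] at ht
  set X := centralizer ({t} : Set G) with hX
  haveI : Group.IsSolvable X := hs t ht
  have hTX : T ≤ X := fun x hx => by
    rw [hX, mem_centralizer_singleton_iff]
    exact congrArg Subtype.val (mem_center_iff.1 htZ ⟨x, hx⟩)
  have hCX : centralizer (T : Set G) ≤ X := by
    intro x hx
    rw [hX, mem_centralizer_singleton_iff]
    exact (mem_centralizer_iff.1 hx t htT).symm
  set N := normalizer (T : Set G) with hNdef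
  haveI := H1.pPrimeCore_normal' 2 X
  haveI := H1.pPrimeCore_normal' 2 N
  haveI := H1.pCore_normal' 2 N
  -- no odd-order subgroup of `C(T)` is normalised by `N(T)`
  have hnoodd : ∀ D : Subgroup N, D.Normal → (Nat.card D).Coprime 2 →
      D.map N.subtype ≤ centralizer (T : Set G) → D = ⊥ := by
    intro D hD hcop hDC
    set T' := T.subgroupOf X with hT'
    set NX := normalizer (T' : Set X) with hNX
    have hT'p : IsPGroup 2 T' := hT.comap_subtype
    have hcore : Cfsg.pPrimeCore 2 NX = ⊥ := by
      have h := H11.pPrimeCore_normalizer (H10.centralizer_pCore_le (p := 2)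
        (H10.isPSolvable_quotient H10.isPSolvable_of_isSolvable (Cfsg.pPrimeCore 2 X))
        H10.pPrimeCore_quotient_pPrimeCore) T' hT'p
      rw [show Cfsg.pPrimeCore 2 X = ⊥ from hc t ht, bot_inf_eq] at h
      exact (map_eq_bot_iff_of_injective _ Subtype.val_injective).1 h
    -- `N_X(T)` maps into `N`
    have hle : ∀ x : NX, ((x : X) : G) ∈ N := by
      intro x
      rw [hNdef, mem_normalizer_iff]
      intro w
      have hxn := mem_normalizer_iff.1 x.2
      constructor
      · intro hw
        exact mem_subgroupOf.1 ((hxn ⟨w, hTX hw⟩).1 (mem_subgroupOf.2 hw))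
      · intro hw
        have hwX : w ∈ X := by
          have := mul_mem (mul_mem (inv_mem (x : X).2) (hTX hw)) (x : X).2
          simpa [mul_assoc] using this
        exact mem_subgroupOf.1 ((hxn ⟨w, hwX⟩).2 (mem_subgroupOf.2 hw))
    let ι : NX →* N :=
      { toFun := fun x => ⟨((x : X) : G), hle x⟩
        map_one' := rfl
        map_mul' := fun _ _ => rfl }
    have hι : Function.Injective ι := fun a b h => by
      have e : ((a : X) : G) = ((b : X) : G) := congrArg (fun y : N => (y : G)) h
      exact Subtype.ext (Subtype.ext e)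
    haveI : (D.comap ι).Normal := hD.comap ι
    have h1 : D.comap ι = ⊥ := by
      refine le_bot_iff.1 ((H1.le_pPrimeCore ?_).trans_eq hcore)
      refine hcop.coprime_dvd_left ?_
      exact card_dvd_of_injective
        ({ toFun := fun x => ⟨ι x.1, x.2⟩, map_one' := rfl, map_mul' := fun _ _ => rfl } :
          D.comap ι →* D)
        (fun a b h => Subtype.ext (hι (congrArg Subtype.val h)))
    rw [eq_bot_iff]
    intro d hd
    have hdC : (d : G) ∈ centralizer (T : Set G) := hDC ⟨d, hd, rfl⟩
    have hdN : (⟨(d : G), hCX hdC⟩ : X) ∈ NX := by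
      rw [hNX, mem_normalizer_iff]
      intro w
      simp only [hT', mem_subgroupOf]
      exact mem_normalizer_iff.1 d.2 (w : G)
    have hmem : (⟨⟨(d : G), hCX hdC⟩, hdN⟩ : NX) ∈ D.comap ι := hd
    rw [h1, mem_bot] at hmem
    exact mem_bot.2 (Subtype.ext (congrArg (fun x : NX => ((x : X) : G)) hmem))
  -- `T` lies in `O₂(N)`
  have hTN : T.subgroupOf N ≤ Cfsg.pCore 2 N := by
    haveI : (T.subgroupOf N).Normal := normal_in_normalizer
    exact H1.le_pCore hT.comap_subtype
  show centralizer (Cfsg.pCore 2 N : Set N) ≤ Cfsg.pCore 2 N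
  set C := centralizer (Cfsg.pCore 2 N : Set N) with hCdef
  haveI : C.Normal := inferInstance
  have hCT : C.map N.subtype ≤ centralizer (T : Set G) := by
    rintro _ ⟨c, hc', rfl⟩
    rw [mem_centralizer_iff]
    intro s hs'
    exact congrArg Subtype.val (mem_centralizer_iff.1 hc' ⟨s, le_normalizer hs'⟩ (hTN hs'))
  haveI : Group.IsSolvable C := by
    let j : C →* X :=
      { toFun := fun c => ⟨((c : N) : G), hCX (hCT ⟨c, c.2, rfl⟩)⟩
        map_one' := rfl
        map_mul' := fun _ _ => rfl }
    refine Group.isSolvable_of_isSolvable_injective (f := j) fun a b h => ?_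
    have e : ((a : N) : G) = ((b : N) : G) := congrArg (fun y : X => (y : G)) h
    exact Subtype.ext (Subtype.ext e)
  haveI := H1.pPrimeCore_normal' 2 C
  haveI := H1.pCore_normal' 2 C
  have hOC : Cfsg.pPrimeCore 2 C = ⊥ := by
    apply (map_eq_bot_iff_of_injective _ (C.subtype_injective)).1
    have hle : (Cfsg.pPrimeCore 2 C).map C.subtype ≤ C := map_subtype_le _
    refine hnoodd _ ?_ ?_ ((map_mono hle).trans hCT)
    · rw [H1.pPrimeCore_subgroup_map_eq 2 C]
      infer_instance
    · rw [Nat.card_congr ((Cfsg.pPrimeCore 2 C).equivMapOfInjective _ C.subtype_injective).toEquiv.symm]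
      exact H1.card_pPrimeCore_coprime 2 C
  have hHH := H10.centralizer_pCore_le (p := 2) (G := C) H10.isPSolvable_of_isSolvable hOC
  have htop : Cfsg.pCore 2 C = ⊤ := by
    refine top_le_iff.1 (le_trans ?_ hHH)
    intro c _
    rw [mem_centralizer_iff]
    intro z hz
    have hzN : (z : N) ∈ Cfsg.pCore 2 N := by
      have : (z : N) ∈ (Cfsg.pCore 2 C).map C.subtype := ⟨z, hz, rfl⟩
      rw [H1.pCore_subgroup_map_eq 2 C] at this
      exact this.1
    exact Subtype.ext (mem_centralizer_iff.1 c.2 z hzN)
  intro c hc'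
  have : c ∈ (Cfsg.pCore 2 C).map C.subtype := ⟨⟨c, hc'⟩, htop ▸ mem_top _, rfl⟩
  rw [H1.pCore_subgroup_map_eq 2 C] at this
  exact this.1

end H65
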