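import Mathlib
import Cfsg.Agent.H65.ElementaryPairs
import Cfsg.Agent.H20.PrincipalFreeApps
import Cfsg.Agent.H33.CyclicSylow

/-!
# Simple groups with a cyclic Sylow subgroup in which order-`p` pairs generate `p`-solvable groups
-/

set_option autoImplicit false
set_option linter.style.haveILetI false
set_option linter.unusedSectionVars false

open Cfsg
open scoped ComplexConjugate Classical

namespace H65.CycPair

universe u

variable {G : Type u} [Group G] [Fintype G] {p : ℕ} [hp : Fact p.Prime] {P : Sylow p G}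

/-- The elements of `P` conjugate to a given nontrivial one are in bijection with the automizer. -/
theorem card_conjs (h : H20.FreeSylow P) {u : G} (hu : u ∈ (P : Subgroup G)) (hu1 : u ≠ 1) :
    (Finset.univ.filter fun w : G => w ∈ (P : Subgroup G) ∧ IsConj w u).card =
      Nat.card (H20.autG (P : Subgroup G)) := by
  haveI : Fintype (H20.autG (P : Subgroup G)) := Fintype.ofFinite _
  rw [Nat.card_eq_fintype_card, ← Finset.card_univ]
  symm
  refine Finset.card_bij
    (fun a _ => (((a : MulAut (P : Subgroup G)) ⟨u, hu⟩ : (P : Subgroup G)) : G)) ?_ ?_ ?_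
  · intro a _
    exact Finset.mem_filter.2 ⟨Finset.mem_univ _, SetLike.coe_mem _,
      (H20.isConj_autG a ⟨u, hu⟩).symm⟩
  · intro a _ b _ hab
    exact h.eq_of_apply_eq (fun h1 => hu1 (congrArg Subtype.val h1)) (Subtype.ext hab)
  · intro w hw
    obtain ⟨-, hwP, hc⟩ := Finset.mem_filter.1 hw
    obtain ⟨a, ha⟩ := h.exists_autG (u := ⟨u, hu⟩) (v := ⟨w, hwP⟩) hc.symm
    exact ⟨a, Finset.mem_univ _, congrArg Subtype.val ha⟩

theorem cOrd_eq (h : H20.FreeSylow P) {u : G} (hu : u ∈ (P : Subgroup G)) :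
    SecPair.cOrd p u = Nat.card (P : Subgroup G) := by
  have hPC := h.le_centralizer hu
  rw [SecPair.cOrd, ← (P.subtype hPC).card_eq_multiplicity]
  exact Nat.card_congr (Subgroup.subgroupOfEquivOfLe hPC).toEquiv

theorem sum_sect_eq (h : H20.FreeSylow P) {Φ : G → Prop} (hΦ : ∀ a b, IsConj a b → Φ a → Φ b)
    (g : G) :
    (∑ u ∈ Finset.univ.filter (fun u : G => u ∈ (P : Subgroup G) ∧ u ≠ 1 ∧ Φ u),
      SecPair.sect p u g) =
      if p ∣ orderOf g ∧ Φ (H20.pPart p g) then (Nat.card (H20.autG (P : Subgroup G)) : ℂ)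
        else 0 := by
  simp only [SecPair.sect]
  rw [Finset.sum_boole, Finset.filter_filter]
  split_ifs with hg
  · obtain ⟨u0, hu0, hconj⟩ :=
      H20.FreeSylow.exists_isConj_mem (P := P) (H20.exists_orderOf_pPart (p := p) g)
    have hu01 : u0 ≠ 1 := fun h1 => by
      rw [h1] at hconj
      exact H20.pPart_eq_one_iff.1 (isConj_one_right.1 hconj.symm) hg.1
    rw [← card_conjs h hu0 hu01]
    congr 2
    ext w
    simp only [Finset.mem_filter, Finset.mem_univ, true_and]
    constructor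
    · rintro ⟨⟨hw, -, -⟩, hc⟩
      exact ⟨hw, hc.trans hconj⟩
    · rintro ⟨hw, hc⟩
      refine ⟨⟨hw, fun h1 => hu01 (isConj_one_right.1 (h1 ▸ hc)), ?_⟩, hc.trans hconj.symm⟩
      exact hΦ _ _ (hconj.trans hc.symm) hg.2
  · rw [Finset.filter_eq_empty_iff.2 ?_, Finset.card_empty, Nat.cast_zero]
    rintro u - ⟨⟨-, hu1, hu2⟩, hc⟩
    refine hg ⟨?_, hΦ _ _ hc hu2⟩
    by_contra hd
    rw [H20.pPart_eq_one_iff.2 hd] at hc
    exact hu1 (isConj_one_left.1 hc)

variable {M : Ideal AlgInt} [hMp : M.IsPrime]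

/-- The count of singular products. -/
theorem count (h : H20.FreeSylow P) (hM : IsPModular p M) {Φ : G → Prop}
    (hΦ : ∀ a b, IsConj a b → Φ a → Φ b) (x y : G) :
    (Nat.card (P : Subgroup G) : ℂ) * (Nat.card (H20.autG (P : Subgroup G)) : ℂ) *
      ((Finset.univ.filter fun a : G => p ∣ orderOf (x * (a * y * a⁻¹)) ∧
        Φ (H20.pPart p (x * (a * y * a⁻¹)))).card : ℂ) =
      (Nat.card G : ℂ) * ∑ χ ∈ (principalBlock M G).toFinset,
        (∑ u ∈ Finset.univ.filter (fun u : G => u ∈ (P : Subgroup G) ∧ u ≠ 1 ∧ Φ u),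
          conj ((χ : G → ℂ) u)) * (χ : G → ℂ) x * (χ : G → ℂ) y / (χ : G → ℂ) 1 := by
  have h1 : (Nat.card (H20.autG (P : Subgroup G)) : ℂ) *
      ((Finset.univ.filter fun a : G => p ∣ orderOf (x * (a * y * a⁻¹)) ∧
        Φ (H20.pPart p (x * (a * y * a⁻¹)))).card : ℂ) =
      ∑ u ∈ Finset.univ.filter (fun u : G => u ∈ (P : Subgroup G) ∧ u ≠ 1 ∧ Φ u),
        ∑ a : G, SecPair.sect p u (x * (a * y * a⁻¹)) := by
    rw [Finset.sum_comm, Finset.sum_congr rfl fun a _ => sum_sect_eq h hΦ (x * (a * y * a⁻¹)),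
      ← Finset.sum_filter, Finset.sum_const, nsmul_eq_mul, mul_comm]
  rw [mul_assoc, h1, Finset.mul_sum, Finset.sum_congr rfl (g := fun u => (Nat.card G : ℂ) *
    ∑ χ ∈ (principalBlock M G).toFinset,
      conj ((χ : G → ℂ) u) * (χ : G → ℂ) x * (χ : G → ℂ) y / (χ : G → ℂ) 1) (fun u hu => ?_)]
  · rw [← Finset.mul_sum, Finset.sum_comm]
    congr 1
    refine Finset.sum_congr rfl fun χ _ => ?_
    simp only [Finset.sum_mul, Finset.sum_div]
  · obtain ⟨hu, hu1, -⟩ := (Finset.mem_filter.1 hu).2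
    rw [← cOrd_eq h hu]
    exact SecPair.sum_sect_mul hM (H20.FreeSylow.orderOf_eq_pow hu)
      (h.centralizer_complement hu hu1) x y

/-- Characters with `c³/d = c²` throughout: only the trivial one is nonzero on `u`. -/
theorem eq_one_of_tight [IsSimpleGroup G] {u : G} (hu : u ≠ 1) (S : Finset (IrrCharacter G))
    (h1 : H12.oneIrr G ∈ S) (c : IrrCharacter G → ℝ)
    (hc : ∀ χ ∈ S, (χ : G → ℂ) u = (c χ : ℂ))
    (h : ∑ χ ∈ S, c χ ^ 2 ≤ ∑ χ ∈ S, c χ ^ 3 / (charDegree (χ : G → ℂ) : ℝ)) :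
    ∑ χ ∈ S, c χ ^ 2 = 1 := by
  have habs : ∀ χ ∈ S, |c χ| ≤ (charDegree (χ : G → ℂ) : ℝ) := fun χ hχ => by
    have := ElemPair.norm_irr_le χ u
    rwa [hc χ hχ, Complex.norm_real] at this
  have hle : ∀ χ ∈ S, c χ ^ 3 / (charDegree (χ : G → ℂ) : ℝ) ≤ c χ ^ 2 := fun χ hχ => by
    rw [div_le_iff₀ (by exact_mod_cast H12.irr_degree_pos χ)]
    calc c χ ^ 3 = c χ ^ 2 * c χ := by ring
      _ ≤ c χ ^ 2 * (charDegree (χ : G → ℂ) : ℝ) :=
        mul_le_mul_of_nonneg_left ((le_abs_self _).trans (habs χ hχ)) (sq_nonneg _)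
  have heq := (Finset.sum_eq_sum_iff_of_le hle).1 (le_antisymm (Finset.sum_le_sum hle) h)
  rw [Finset.sum_eq_single (H12.oneIrr G) (fun χ hχ hne => ?_) (fun h' => absurd h1 h')]
  · have := hc _ h1
    rw [H12.oneIrr_apply] at this
    rw [show c (H12.oneIrr G) = 1 by exact_mod_cast this.symm]
    norm_num
  · by_contra h0
    apply hne
    have h2 : c χ ≠ 0 := fun h3 => h0 (by rw [h3]; ring)
    have h3 := heq χ hχ
    rw [div_eq_iff (by exact_mod_cast (H12.irr_degree_pos χ).ne')] at h3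
    have h4 : c χ = (charDegree (χ : G → ℂ) : ℝ) :=
      mul_left_cancel₀ (pow_ne_zero 2 h2) (by linear_combination h3)
    exact H62.irr_eq_one_of_apply_eq_degree χ hu (by rw [hc χ hχ, h4, Complex.ofReal_natCast]; rfl)

theorem sum_lin_ne_one {A : Subgroup G} [Fintype A] (ψ : A →* ℂˣ) :
    (∑ u ∈ Finset.univ.filter (fun u : A => u ≠ 1), (ψ u : ℂ)) =
      (if ψ = 1 then (Nat.card A : ℂ) else 0) - 1 := by
  rw [Finset.filter_ne', Finset.sum_erase_eq_sub (Finset.mem_univ _), H20.sum_lin]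
  simp

theorem sum_subgroup (A : Subgroup G) [Fintype A] (Q : G → Prop) (f : G → ℂ)
    [DecidablePred fun u : G => u ∈ A ∧ Q u] [DecidablePred fun u : A => Q u] :
    (∑ u ∈ Finset.univ.filter (fun u : G => u ∈ A ∧ Q u), f u) =
      ∑ u ∈ Finset.univ.filter (fun u : A => Q u), f u := by
  refine Finset.sum_bij' (fun u hu => ⟨u, (Finset.mem_filter.1 hu).2.1⟩)
    (fun u _ => (u : G)) ?_ ?_ ?_ ?_ ?_
  · intro u hu
    exact Finset.mem_filter.2 ⟨Finset.mem_univ _, (Finset.mem_filter.1 hu).2.2⟩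
  · intro u hu
    exact Finset.mem_filter.2 ⟨Finset.mem_univ _, u.2, (Finset.mem_filter.1 hu).2⟩
  all_goals intros; rfl

theorem exists_pow_eq (hcyc : IsCyclic (P : Subgroup G)) {x : G} (hx : x ∈ (P : Subgroup G))
    (hord : orderOf x = p) {w : G} (hw : w ∈ (P : Subgroup G)) (hwp : w ^ p = 1) :
    ∃ j < p, x ^ j = w := by
  by_contra hno
  push Not at hno
  haveI : Fintype (P : Subgroup G) := Fintype.ofFinite _
  have hsub : insert (⟨w, hw⟩ : (P : Subgroup G))
      ((Finset.range p).image fun j => (⟨x, hx⟩ : (P : Subgroup G)) ^ j) ⊆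
      Finset.univ.filter fun a : (P : Subgroup G) => a ^ p = 1 := by
    intro a ha
    refine Finset.mem_filter.2 ⟨Finset.mem_univ _, Subtype.ext ?_⟩
    rcases Finset.mem_insert.1 ha with rfl | ha
    · simpa using hwp
    · obtain ⟨j, -, rfl⟩ := Finset.mem_image.1 ha
      show ((x : G) ^ j) ^ p = 1
      rw [← pow_mul, mul_comm, pow_mul, orderOf_dvd_iff_pow_eq_one.1 hord.dvd, one_pow]
  have h1 := (Finset.card_le_card hsub).trans (IsCyclic.card_pow_eq_one_le hp.out.pos)
  rw [Finset.card_insert_of_notMem, Finset.card_image_of_injOn, Finset.card_range] at h1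
  · omega
  · intro i hi j hj hij
    have h2 : x ^ i = x ^ j := congrArg Subtype.val hij
    rw [pow_inj_mod, hord, Nat.mod_eq_of_lt (Finset.mem_range.1 hi),
      Nat.mod_eq_of_lt (Finset.mem_range.1 hj)] at h2
    exact h2
  · intro hmem
    obtain ⟨j, hj, hj'⟩ := Finset.mem_image.1 hmem
    exact hno j (Finset.mem_range.1 hj) (congrArg Subtype.val hj')

/-- At most one of the regular products for each conjugating element. -/
theorem regular_bound (h : H20.FreeSylow P) (hcyc : IsCyclic (P : Subgroup G)) {x : G}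
    (hx : x ∈ (P : Subgroup G)) (hord : orderOf x = p)
    (hsol : ∀ a b : G, orderOf a = p → orderOf b = p →
      IsPSolvable p ↥(Subgroup.closure ({a, b} : Set G))) :
    (Nat.card (H20.autG (P : Subgroup G)) : ℝ) *
      ((Finset.univ.filter fun a : G => ¬ p ∣ orderOf (x * (a * x⁻¹ * a⁻¹))).card : ℝ) ≤
      (Nat.card G : ℝ) := by
  have hx1 : x ≠ 1 := fun h1 => hp.out.ne_one (by rw [← hord, h1, orderOf_one])
  set J := (Finset.range p).filter fun j => IsConj (x ^ j) x⁻¹ with hJ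
  have hJcard : J.card = Nat.card (H20.autG (P : Subgroup G)) := by
    rw [← card_conjs h (inv_mem hx) (inv_ne_one.2 hx1)]
    refine Finset.card_bij (fun j _ => x ^ j) ?_ ?_ ?_
    · intro j hj
      exact Finset.mem_filter.2 ⟨Finset.mem_univ _, pow_mem hx j, (Finset.mem_filter.1 hj).2⟩
    · intro i hi j hj hij
      simp only [hJ, Finset.mem_filter, Finset.mem_range] at hi hj
      rw [pow_inj_mod, hord, Nat.mod_eq_of_lt hi.1, Nat.mod_eq_of_lt hj.1] at hij
      exact hij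
    · intro w hw
      obtain ⟨-, hwP, hwc⟩ := Finset.mem_filter.1 hw
      obtain ⟨c, hc⟩ := isConj_iff.1 hwc.symm
      obtain ⟨j, hj, hj'⟩ := exists_pow_eq hcyc hx hord hwP (by
        rw [← hc, conj_pow, inv_pow, orderOf_dvd_iff_pow_eq_one.1 hord.dvd]; simp)
      exact ⟨j, Finset.mem_filter.2 ⟨Finset.mem_range.2 hj, hj' ▸ hwc⟩, hj'⟩
  have hcount : ∀ j ∈ J,
      (Finset.univ.filter fun a : G => ¬ p ∣ orderOf (x * (a * x⁻¹ * a⁻¹))).card =
        (Finset.univ.filter fun a : G => ¬ p ∣ orderOf (x * (a * x ^ j * a⁻¹))).card := by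
    intro j hj
    obtain ⟨c, hc⟩ := isConj_iff.1 (Finset.mem_filter.1 hj).2
    refine Finset.card_equiv (Equiv.mulRight c) fun a => ?_
    simp only [Finset.mem_filter, Finset.mem_univ, true_and, Equiv.coe_mulRight]
    rw [← hc, show a * c * x ^ j * (a * c)⁻¹ = a * (c * x ^ j * c⁻¹) * a⁻¹ by group]
  have hdis : ∑ j ∈ J,
      (Finset.univ.filter fun a : G => ¬ p ∣ orderOf (x * (a * x ^ j * a⁻¹))).card ≤
        Fintype.card G := by
    simp only [Finset.card_filter]
    rw [Finset.sum_comm]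
    refine (Finset.sum_le_sum (g := fun _ => 1) fun a _ => ?_).trans (by simp)
    rw [← Finset.card_filter]
    refine Finset.card_le_one.2 fun i hi j hj => ?_
    simp only [hJ, Finset.mem_filter, Finset.mem_range] at hi hj
    have hz : orderOf (a * x * a⁻¹) = p := by rw [H20.orderOf_conj', hord]
    exact (PairReg.pair_facts P h.comm hord hz (hsol _ _ hord hz)).1 i j hi.1.1 hj.1.1
      (by rw [conj_pow]; exact hi.2) (by rw [conj_pow]; exact hj.2)
  rw [← Finset.sum_congr rfl hcount, Finset.sum_const, smul_eq_mul, hJcard] at hdis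
  rw [← Nat.card_eq_fintype_card] at hdis
  exact_mod_cast hdis

theorem card_eq_of_forall_conj (h : H20.FreeSylow P) (hcyc : IsCyclic (P : Subgroup G)) {x : G}
    (hx : x ∈ (P : Subgroup G)) (hord : orderOf x = p)
    (hall : ∀ j, 1 ≤ j → j < p → IsConj x (x ^ j)) :
    Nat.card (H20.autG (P : Subgroup G)) = p - 1 := by
  have hx1 : x ≠ 1 := fun h1 => hp.out.ne_one (by rw [← hord, h1, orderOf_one])
  rw [← card_conjs h hx hx1]
  symm
  rw [← Nat.card_Icc 1 (p - 1) |>.trans (by omega : p - 1 + 1 - 1 = p - 1)]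
  refine Finset.card_bij (fun j _ => x ^ j) ?_ ?_ ?_
  · intro j hj
    have := Finset.mem_Icc.1 hj
    exact Finset.mem_filter.2 ⟨Finset.mem_univ _, pow_mem hx j,
      (hall j this.1 (by omega)).symm⟩
  · intro i hi j hj hij
    have := Finset.mem_Icc.1 hi
    have := Finset.mem_Icc.1 hj
    rw [pow_inj_mod, hord, Nat.mod_eq_of_lt (show i < p by omega),
      Nat.mod_eq_of_lt (show j < p by omega)] at hij
    exact hij
  · intro w hw
    obtain ⟨-, hwP, hwc⟩ := Finset.mem_filter.1 hw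
    obtain ⟨c, hc⟩ := isConj_iff.1 hwc.symm
    have hwp : w ^ p = 1 := by
      rw [← hc, conj_pow, orderOf_dvd_iff_pow_eq_one.1 hord.dvd]; simp
    obtain ⟨j, hj, hj'⟩ := exists_pow_eq hcyc hx hord hwP hwp
    refine ⟨j, Finset.mem_Icc.2 ⟨Nat.one_le_iff_ne_zero.2 fun h0 => ?_, by omega⟩, hj'⟩
    rw [h0, pow_zero] at hj'
    rw [← hj'] at hwc
    exact hx1 (isConj_one_right.1 hwc)

end H65.CycPair
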