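import Mathlib
import Cfsg.Agent.H65.CyclicPairs

/-!
# No simple group with a cyclic Sylow subgroup has all order-`p` pairs generating `p`-solvable groups
-/

set_option autoImplicit false
set_option linter.style.haveILetI false
set_option linter.unusedSectionVars false

open Cfsg
open scoped ComplexConjugate Classical

namespace H65.CycMain

universe u

variable {G : Type u} [Group G] [Fintype G] {p : ℕ} [hp : Fact p.Prime] {P : Sylow p G}
  {M : Ideal AlgInt} [hMp : M.IsPrime]

section Data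

variable [Fintype (P : Subgroup G)] (D : H20.FreeData M (P : Subgroup G))

/-- Integer facts on the exceptional and nonexceptional characters. -/
theorem facts (h : H20.FreeSylow P) (hM : IsPModular p M)
    (hr : Nat.card (H20.autG (P : Subgroup G)) + 1 < Nat.card (P : Subgroup G)) :
    ∃ (b δ : ℤ) (d r : ℕ), (δ = 1 ∨ δ = -1) ∧ 0 < d ∧
      r * Nat.card (H20.autG (P : Subgroup G)) + 1 = Nat.card (P : Subgroup G) ∧
      (∀ χ ∈ D.Y, charDegree (χ : G → ℂ) = d ∧ D.b χ = b) ∧
      D.Y.toFinset.card = r ∧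
      (∑ χ ∈ (principalBlock M G).toFinset \ D.Y.toFinset, D.b χ ^ 2) + (r : ℤ) * b ^ 2 +
        2 * δ * b = (Nat.card (H20.autG (P : Subgroup G)) : ℤ) ∧
      D.δ = δ := by
  haveI : Finite ((P : Subgroup G) →* ℂˣ) := H20.finite_dual
  haveI : Nontrivial (P : Subgroup G) := Finite.one_lt_card_iff_nontrivial.1 (by omega)
  have hA : ∀ a b : (P : Subgroup G), a * b = b * a := fun a b =>
    Subtype.ext (h.comm a a.2 b b.2)
  obtain ⟨u, hu⟩ := exists_ne (1 : (P : Subgroup G))
  obtain ⟨ψ, hψ⟩ : ∃ ψ : (P : Subgroup G) →* ℂˣ, ψ ≠ 1 := by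
    haveI : Fintype ((P : Subgroup G) →* ℂˣ) := Fintype.ofFinite _
    by_contra hno
    push Not at hno
    have h1 := H20.sum_dual_ne_one hA hu
    simp [hno, Finset.card_univ, Fintype.card_ne_zero] at h1
  have hη : D.ζ ψ ∈ D.Y := ⟨ψ, hψ, rfl⟩
  refine ⟨D.b (D.ζ ψ), D.δ, charDegree (D.ζ ψ : G → ℂ), Nat.card D.Y, D.δ_eq,
    H12.irr_degree_pos _, D.card_Y h, fun χ hχ => ⟨?_, D.b_eq_of_mem hχ hη⟩,
    (Nat.card_eq_card_toFinset _).symm, ?_, rfl⟩
  · have h1 := D.apply_regular hM hχ hη (g := 1) (by simp [hp.out.ne_one])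
    rw [H12.irr_apply_one, H12.irr_apply_one] at h1
    exact_mod_cast h1
  · have h1 := D.norm_eq h hM hη
    rw [finsum_mem_eq_toFinset_sum, Set.toFinset_sdiff] at h1
    rcases D.δ_eq with hd | hd <;> rw [hd] at h1 ⊢ <;> linear_combination h1

theorem sum_conj_ζ (h : H20.FreeSylow P) {ψ : (P : Subgroup G) →* ℂˣ} (hψ : ψ ≠ 1) :
    (∑ u ∈ Finset.univ.filter (fun u : G => u ∈ (P : Subgroup G) ∧ u ≠ 1),
      (D.ζ ψ : G → ℂ) u) =
      -((Nat.card (P : Subgroup G) : ℂ) - 1) * (D.b (D.ζ ψ) : ℂ) -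
        (D.δ : ℂ) * (Nat.card (H20.autG (P : Subgroup G)) : ℂ) := by
  haveI : Fintype (H20.autG (P : Subgroup G)) := Fintype.ofFinite _
  rw [CycPair.sum_subgroup (P : Subgroup G) (fun u => u ≠ 1) fun u => (D.ζ ψ : G → ℂ) u]
  have hfil : (Finset.univ.filter fun u : (P : Subgroup G) => (u : G) ≠ 1) =
      Finset.univ.filter fun u : (P : Subgroup G) => u ≠ 1 := by
    refine Finset.filter_congr fun u _ => ?_
    simp
  rw [hfil, Finset.sum_congr rfl (g := fun u : (P : Subgroup G) => -(D.b (D.ζ ψ) : ℂ) +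
    (D.δ : ℂ) * ∑ a : H20.autG (P : Subgroup G), (H20.dualTw ψ a u : ℂ))
    (fun u hu => D.apply_ζ h hψ (Finset.mem_filter.1 hu).2), Finset.sum_add_distrib,
    Finset.sum_const, ← Finset.mul_sum, Finset.sum_comm,
    Finset.sum_congr rfl (g := fun _ => (-1 : ℂ)) (fun a _ => by
      rw [CycPair.sum_lin_ne_one, if_neg fun h1 => hψ (H20.dualTw_eq_one_iff.1 h1), zero_sub]),
    Finset.sum_const, Finset.filter_ne', Finset.card_erase_of_mem (Finset.mem_univ _),
    Finset.card_univ, Finset.card_univ, ← Nat.card_eq_fintype_card, ← Nat.card_eq_fintype_card,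
    nsmul_eq_mul, nsmul_eq_mul, Nat.cast_sub Nat.card_pos, Nat.cast_one]
  ring

theorem sum_conj_notMem (h : H20.FreeSylow P) {χ : IrrCharacter G}
    (hχ : χ ∈ principalBlock M G) (hY : χ ∉ D.Y) (Q : G → Prop) (hQ : ∀ u, Q u → u ≠ 1)
    [DecidablePred fun u : G => u ∈ (P : Subgroup G) ∧ Q u] :
    (∑ u ∈ Finset.univ.filter (fun u : G => u ∈ (P : Subgroup G) ∧ Q u), (χ : G → ℂ) u) =
      -((Finset.univ.filter (fun u : G => u ∈ (P : Subgroup G) ∧ Q u)).card : ℂ) *
        (D.b χ : ℂ) := by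
  rw [Finset.sum_congr rfl (g := fun _ => -(D.b χ : ℂ)) fun u hu => ?_, Finset.sum_const,
    nsmul_eq_mul]
  · ring
  · obtain ⟨hu, hQu⟩ := (Finset.mem_filter.1 hu).2
    exact D.sum_vZ_of_notMem h hχ hY (u := ⟨u, hu⟩) fun h1 =>
      hQ u hQu (congrArg Subtype.val h1)

theorem card_nonone :
    ((Finset.univ.filter (fun u : G => u ∈ (P : Subgroup G) ∧ u ≠ 1)).card : ℂ) =
      (Nat.card (P : Subgroup G) : ℂ) - 1 := by
  have h := CycPair.sum_subgroup (P : Subgroup G) (fun u => u ≠ 1) fun _ => (1 : ℂ)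
  rw [Finset.sum_const, Finset.sum_const, nsmul_eq_mul, nsmul_eq_mul, mul_one, mul_one] at h
  rw [h, show (Finset.univ.filter fun u : (P : Subgroup G) => (u : G) ≠ 1) =
    Finset.univ.erase 1 by ext u; simp, Finset.card_erase_of_mem (Finset.mem_univ _),
    Finset.card_univ, ← Nat.card_eq_fintype_card, Nat.cast_sub Nat.card_pos, Nat.cast_one]

/-- The counting equation with `x` of order `p` and `y` a power of `x`. -/
theorem main_eq (h : H20.FreeSylow P) (hM : IsPModular p M)
    (hr : Nat.card (H20.autG (P : Subgroup G)) + 1 < Nat.card (P : Subgroup G))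
    {x y : G} (hx : x ∈ (P : Subgroup G)) (hx1 : x ≠ 1) (hy : y ∈ (P : Subgroup G)) (hy1 : y ≠ 1)
    {b δ : ℤ} {d : ℕ} (hY : ∀ χ ∈ D.Y, charDegree (χ : G → ℂ) = d ∧ D.b χ = b) (hδ : D.δ = δ) :
    (Nat.card (P : Subgroup G) : ℂ) * (Nat.card (H20.autG (P : Subgroup G)) : ℂ) *
      ((Finset.univ.filter fun a : G => p ∣ orderOf (x * (a * y * a⁻¹))).card : ℂ) =
      (Nat.card G : ℂ) *
        (((Nat.card (P : Subgroup G) : ℂ) - 1) *
          (∑ χ ∈ (principalBlock M G).toFinset \ D.Y.toFinset,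
            -((D.b χ : ℂ) ^ 3) / (charDegree (χ : G → ℂ) : ℂ)) +
        ((-((Nat.card (P : Subgroup G) : ℂ) - 1) * (b : ℂ) -
            (δ : ℂ) * (Nat.card (H20.autG (P : Subgroup G)) : ℂ)) / (d : ℂ)) *
          ((∑ χ ∈ (principalBlock M G).toFinset, (χ : G → ℂ) x * (χ : G → ℂ) y) -
            ∑ χ ∈ (principalBlock M G).toFinset \ D.Y.toFinset, (D.b χ : ℂ) ^ 2)) := by
  have hc := CycPair.count h hM (Φ := fun _ => True) (fun _ _ _ _ => trivial) x y
  simp only [and_true] at hc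
  rw [hc]
  congr 1
  have hYB : D.Y.toFinset ⊆ (principalBlock M G).toFinset :=
    Set.toFinset_subset_toFinset.2 D.Y_subset
  rw [← Finset.sum_sdiff hYB]
  congr 1
  · rw [Finset.mul_sum]
    refine Finset.sum_congr rfl fun χ hχ => ?_
    obtain ⟨hχB, hχY⟩ := Finset.mem_sdiff.1 hχ
    rw [← map_sum, sum_conj_notMem D h (Set.mem_toFinset.1 hχB)
      (fun h' => hχY (Set.mem_toFinset.2 h')) (fun u => u ≠ 1) (fun _ h => h), card_nonone]
    rw [D.sum_vZ_of_notMem h (Set.mem_toFinset.1 hχB) (fun h' => hχY (Set.mem_toFinset.2 h'))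
        (u := ⟨x, hx⟩) (fun h1 => hx1 (congrArg Subtype.val h1)),
      D.sum_vZ_of_notMem h (Set.mem_toFinset.1 hχB) (fun h' => hχY (Set.mem_toFinset.2 h'))
        (u := ⟨y, hy⟩) (fun h1 => hy1 (congrArg Subtype.val h1)), H12.irr_apply_one]
    simp only [map_mul, map_neg, map_sub, map_one, map_natCast, map_intCast,
      ← H24.charDegree_eq_degree]
    ring
  · have hsum : (∑ χ ∈ (principalBlock M G).toFinset, (χ : G → ℂ) x * (χ : G → ℂ) y) -
        ∑ χ ∈ (principalBlock M G).toFinset \ D.Y.toFinset, (D.b χ : ℂ) ^ 2 =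
        ∑ χ ∈ D.Y.toFinset, (χ : G → ℂ) x * (χ : G → ℂ) y := by
      rw [← Finset.sum_sdiff hYB, sub_eq_iff_eq_add, add_comm]
      congr 1
      refine Finset.sum_congr rfl fun χ hχ => ?_
      obtain ⟨hχB, hχY⟩ := Finset.mem_sdiff.1 hχ
      rw [D.sum_vZ_of_notMem h (Set.mem_toFinset.1 hχB) (fun h' => hχY (Set.mem_toFinset.2 h'))
          (u := ⟨x, hx⟩) (fun h1 => hx1 (congrArg Subtype.val h1)),
        D.sum_vZ_of_notMem h (Set.mem_toFinset.1 hχB) (fun h' => hχY (Set.mem_toFinset.2 h'))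
          (u := ⟨y, hy⟩) (fun h1 => hy1 (congrArg Subtype.val h1))]
      ring
    rw [hsum, Finset.mul_sum]
    refine Finset.sum_congr rfl fun χ hχ => ?_
    obtain ⟨ψ, hψ, rfl⟩ := Set.mem_toFinset.1 hχ
    obtain ⟨hd, hb⟩ := hY _ ⟨ψ, hψ, rfl⟩
    rw [← map_sum, sum_conj_ζ D h hψ, hb, hδ, H12.irr_apply_one, ← H24.charDegree_eq_degree, hd]
    simp only [map_mul, map_neg, map_sub, map_one, map_natCast, map_intCast]
    ring

theorem degree_ge (h : H20.FreeSylow P) {b : ℤ} {d : ℕ}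
    (hY : ∀ χ ∈ D.Y, charDegree (χ : G → ℂ) = d ∧ D.b χ = b) (hb : b = 0) (hδ : D.δ = 1)
    {ψ : (P : Subgroup G) →* ℂˣ} (hψ : ψ ≠ 1) :
    Nat.card (H20.autG (P : Subgroup G)) ≤ d := by
  obtain ⟨m, hm⟩ := H12.IsCharacter.classInner_nat (H12.IsCharacter.res
    (H12.isCharacter_irr (D.ζ ψ)) (P : Subgroup G))
    (H12.isCharacter_monoidHom (1 : (P : Subgroup G) →* ℂˣ))
  obtain ⟨hd, hb'⟩ := hY _ ⟨ψ, hψ, rfl⟩
  have h1 := sum_conj_ζ D h hψ
  rw [hb', hb, hδ, CycPair.sum_subgroup (P : Subgroup G) (fun u => u ≠ 1)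
    fun u => (D.ζ ψ : G → ℂ) u] at h1
  rw [H12.classInner_def] at hm
  simp only [MonoidHom.one_apply, Units.val_one, map_one, mul_one] at hm
  rw [← Finset.add_sum_erase _ _ (Finset.mem_univ (1 : (P : Subgroup G))),
    show (Finset.univ.erase (1 : (P : Subgroup G))) =
      Finset.univ.filter (fun u : (P : Subgroup G) => (u : G) ≠ 1) by ext u; simp, h1,
    OneMemClass.coe_one, H12.irr_apply_one, ← H24.charDegree_eq_degree, hd,
    inv_mul_eq_iff_eq_mul₀ (by exact_mod_cast (Nat.card_pos (α := (P : Subgroup G))).ne')] at hm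
  push_cast at hm
  have h3 : (d : ℂ) = ((Nat.card (P : Subgroup G) * m + Nat.card (H20.autG (P : Subgroup G)) : ℕ) : ℂ) := by
    push_cast
    linear_combination hm
  have h4 : d = Nat.card (P : Subgroup G) * m + Nat.card (H20.autG (P : Subgroup G)) := by
    exact_mod_cast h3
  omega

end Data

/-- The main statement. -/
theorem not_all_pairs [IsSimpleGroup G] (hP : IsCyclic (P : Subgroup G)) (hp2 : p ≠ 2) {x : G}
    (hx : x ∈ (P : Subgroup G)) (hord : orderOf x = p) (hG : ¬ ∀ a b : G, a * b = b * a)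
    (hsol : ∀ a b : G, orderOf a = p → orderOf b = p →
      IsPSolvable p ↥(Subgroup.closure ({a, b} : Set G))) : False := by
  haveI : Fintype (P : Subgroup G) := Fintype.ofFinite _
  have hx1 : x ≠ 1 := fun h1 => hp.out.ne_one (by rw [← hord, h1, orderOf_one])
  have hcomm : ∀ a ∈ (P : Subgroup G), ∀ b ∈ (P : Subgroup G), a * b = b * a := fun a ha b hb =>
    congrArg Subtype.val (IsCyclic.commGroup.mul_comm (⟨a, ha⟩ : (P : Subgroup G)) ⟨b, hb⟩)
  have h : H20.FreeSylow P := by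
    refine ⟨hcomm, fun y hy hy1 g hg => ?_⟩
    obtain ⟨c, v, rfl, ⟨k, hc⟩, hv, hc', hv'⟩ := H5.exists_p_decomposition (p := p) g
    have hcP : c ∈ (P : Subgroup G) := by
      have hcn := (Subgroup.zpowers_le.2 hg.2) hc'
      obtain ⟨j, -, hj⟩ := (Nat.dvd_prime_pow hp.out).1 (orderOf_dvd_of_pow_eq_one hc)
      exact ((IsPGroup.inf_normalizer_sylow (IsPGroup.of_card (n := j)
        (by rw [Nat.card_zpowers, hj])) P).le ⟨Subgroup.mem_zpowers c, hcn⟩).2
    have hvn := (Subgroup.zpowers_le.2 hg.2) hv'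
    have hvy : Commute v y :=
      Subgroup.mem_centralizer_singleton_iff.1 ((Subgroup.zpowers_le.2 hg.1) hv')
    obtain ⟨gen, hgen⟩ := (Subgroup.isCyclic_iff_exists_zpowers_eq_top _).1 hP
    have hgenP : gen ∈ (P : Subgroup G) := hgen ▸ Subgroup.mem_zpowers gen
    have hvg : Commute v gen := by
      refine H33.commute_of_conj_mem_zpowers hv ?_ ?_ (hgen.symm ▸ hy) hy1 hvy
      · obtain ⟨j, hj⟩ := P.isPGroup'.exists_card_eq
        rw [← hgen, Nat.card_zpowers] at hj
        exact ⟨j, hj⟩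
      · rw [hgen]; exact (Subgroup.mem_normalizer_iff.1 hvn gen).1 hgenP
    refine Subgroup.mem_centralizer_iff.2 fun w hw => ?_
    have hcw : Commute w c := hcomm w hw c hcP
    rw [← hgen] at hw
    obtain ⟨i, rfl⟩ := Subgroup.mem_zpowers_iff.1 hw
    exact (hcw.mul_right (hvg.symm.zpow_left i)).eq
  set e := Nat.card (H20.autG (P : Subgroup G)) with he
  set q := Nat.card (P : Subgroup G) with hq
  have hp3 : 3 ≤ p := by have := hp.out.two_le; omega
  have hpq : p ∣ q := by
    have h1 := Subgroup.orderOf_dvd_natCard (P : Subgroup G) hx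
    rwa [hord] at h1
  have hqp : p ≤ q := Nat.le_of_dvd Nat.card_pos hpq
  -- `e` is at most `p - 1` and at least `2`
  have hcardx := CycPair.card_conjs h hx hx1
  have hele : e ≤ p - 1 := by
    rw [he, ← hcardx, show p - 1 = (Finset.Icc 1 (p - 1)).card by simp]
    refine Finset.card_le_card_of_surjOn (fun j => x ^ j) fun w hw => ?_
    obtain ⟨-, hwP, hwc⟩ := Finset.mem_filter.1 hw
    obtain ⟨c, hc⟩ := isConj_iff.1 hwc.symm
    obtain ⟨j, hj, hj'⟩ := CycPair.exists_pow_eq hP hx hord hwP (by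
      rw [← hc, conj_pow, orderOf_dvd_iff_pow_eq_one.1 hord.dvd]; simp)
    refine ⟨j, Finset.mem_coe.2 (Finset.mem_Icc.2
      ⟨Nat.one_le_iff_ne_zero.2 fun h0 => ?_, by omega⟩), hj'⟩
    rw [h0, pow_zero] at hj'
    rw [← hj'] at hwc
    exact hx1 (isConj_one_right.1 hwc)
  have he2 : 2 ≤ e := by
    by_contra hlt
    have he1 : e = 1 := by
      have : 0 < e := Nat.card_pos
      omega
    haveI : Subsingleton (H20.autG (P : Subgroup G)) :=
      (Nat.card_eq_one_iff_unique.1 he1).1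
    have hnc : HasNormalPComplement p G := by
      refine H33.hasNormalPComplement_of_cyclic P hP fun v hv _ => ⟨x, hx, hx1, ?_⟩
      have h1 : (⟨(P : Subgroup G).normalizerMonoidHom ⟨v, hv⟩, ⟨_, rfl⟩⟩ :
          H20.autG (P : Subgroup G)) = 1 := Subsingleton.elim _ _
      have h2 : v * x * v⁻¹ = x :=
        congrArg Subtype.val (DFunLike.congr_fun (congrArg Subtype.val h1) (⟨x, hx⟩ : (P : Subgroup G)))
      exact mul_inv_eq_iff_eq_mul.1 h2
    obtain ⟨Q, N, hN, hNQ⟩ := hnc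
    rcases hN.eq_bot_or_eq_top with rfl | rfl
    · apply hG
      intro a b
      have htop : (Q : Subgroup G) = ⊤ := by
        have := hNQ.sup_eq_top
        simpa using this
      exact PairReg.comm_of_sylow P hcomm Q.isPGroup' (htop ▸ Subgroup.mem_top a)
        (htop ▸ Subgroup.mem_top b)
    · have h1 := hNQ.disjoint.eq_bot
      rw [top_inf_eq] at h1
      have h2 := (Nat.card_congr (Sylow.equiv Q P).toEquiv).symm
      rw [h1, Subgroup.card_bot] at h2
      omega
  by_cases hsmall : q = p ∧ e = p - 1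
  · refine hp2 (ElemPair.prime_eq_two P hx hx1 (fun y hy => ?_) hcomm (fun y hy hy1 => ?_)
      (h.centralizer_complement hx hx1) hsol)
    · rw [← orderOf_dvd_iff_pow_eq_one, ← hsmall.1]
      exact Subgroup.orderOf_dvd_natCard _ hy
    · have hfull : (Finset.univ.filter fun w : G => w ∈ (P : Subgroup G) ∧ IsConj w x) =
          Finset.univ.filter fun w : G => w ∈ (P : Subgroup G) ∧ w ≠ 1 := by
        refine Finset.eq_of_subset_of_card_le (fun w hw => ?_) ?_
        · obtain ⟨-, hw, hwc⟩ := Finset.mem_filter.1 hw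
          exact Finset.mem_filter.2 ⟨Finset.mem_univ _, hw,
            fun h1 => hx1 (isConj_one_right.1 (h1 ▸ hwc))⟩
        · rw [hcardx, ← he, hsmall.2]
          have hc := card_nonone (P := P)
          rw [← hq, hsmall.1, ← Nat.cast_one, ← Nat.cast_sub hp.out.one_le] at hc
          exact le_of_eq (by exact_mod_cast hc)
      have hymem : y ∈ Finset.univ.filter fun w : G => w ∈ (P : Subgroup G) ∧ w ≠ 1 :=
        Finset.mem_filter.2 ⟨Finset.mem_univ _, hy, hy1⟩
      rw [← hfull] at hymem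
      exact (Finset.mem_filter.1 hymem).2.2.symm
  have hr : e + 1 < q := by
    rcases hqp.lt_or_eq with hlt | heq
    · omega
    · rcases lt_or_eq_of_le hele with h1 | h1
      · omega
      · exact absurd ⟨heq.symm, h1⟩ hsmall
  obtain ⟨M, hM⟩ := H22.exists_isPModular p hp.out
  haveI := H20.isPrime_of_modular hM
  obtain ⟨D⟩ := h.exists_freeData hM hr
  obtain ⟨b, δ, d, r, hδ, hd0, hrq, hY, hYr, hnorm, hDδ⟩ := facts D h hM hr
  rw [← he] at hrq hnorm
  rw [← hq] at hrq
  set B := (principalBlock M G).toFinset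
  set NY := B \ D.Y.toFinset
  have hYB : D.Y.toFinset ⊆ B := Set.toFinset_subset_toFinset.2 D.Y_subset
  have hone : H12.oneIrr G ∈ NY := Finset.mem_sdiff.2
    ⟨Set.mem_toFinset.2 (H20.mem_blockOf_self (H12.oneIrr G)),
      fun h' => D.oneIrr_notMem h hr (Set.mem_toFinset.1 h')⟩
  have hvalx : ∀ χ ∈ NY, (χ : G → ℂ) x = ((-(D.b χ : ℝ) : ℝ) : ℂ) := by
    intro χ hχ
    obtain ⟨hχB, hχY⟩ := Finset.mem_sdiff.1 hχ
    rw [D.sum_vZ_of_notMem h (Set.mem_toFinset.1 hχB) (fun h' => hχY (Set.mem_toFinset.2 h'))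
      (u := ⟨x, hx⟩) fun h1 => hx1 (congrArg Subtype.val h1)]
    simp
  set S : ℝ := ∑ χ ∈ NY, -((D.b χ : ℝ) ^ 3) / (charDegree (χ : G → ℂ) : ℝ) with hS
  set T : ℝ := ∑ χ ∈ NY, (D.b χ : ℝ) ^ 2 with hT
  have hST : S ≤ T := by
    refine Finset.sum_le_sum fun χ hχ => ?_
    rw [div_le_iff₀ (by exact_mod_cast H12.irr_degree_pos χ)]
    have h1 := ElemPair.norm_irr_le χ x
    rw [hvalx χ hχ, Complex.norm_real, Real.norm_eq_abs] at h1
    calc -((D.b χ : ℝ) ^ 3) = (D.b χ : ℝ) ^ 2 * (-(D.b χ : ℝ)) := by ring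
      _ ≤ (D.b χ : ℝ) ^ 2 * (charDegree (χ : G → ℂ) : ℝ) :=
        mul_le_mul_of_nonneg_left ((le_abs_self _).trans h1) (sq_nonneg _)
  have hnormR : T + (r : ℝ) * (b : ℝ) ^ 2 + 2 * (δ : ℝ) * (b : ℝ) = (e : ℝ) := by
    rw [hT]
    exact_mod_cast hnorm
  have hfinal : T ≤ S → (e : ℝ) ≤ T → False := by
    intro h1 h2
    have h3 := CycPair.eq_one_of_tight hx1 NY hone (fun χ => -(D.b χ : ℝ)) hvalx (by
      simp only [neg_pow_two, Odd.neg_pow (show Odd 3 by decide)]
      exact h1)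
    simp only [neg_pow_two] at h3
    rw [← hT] at h3
    have : (2 : ℝ) ≤ e := by exact_mod_cast he2
    linarith
  have hcolx : ∑ χ ∈ B, (χ : G → ℂ) x * (χ : G → ℂ) x⁻¹ = (q : ℂ) := by
    rw [hq, ← h.column_self hM hx hx1, finsum_mem_eq_toFinset_sum]
    exact Finset.sum_congr rfl fun χ _ => by rw [H20.conj_irr_eq]
  -- the equation for `x⁻¹`
  set R : ℝ := ((Finset.univ.filter fun a : G => ¬ p ∣ orderOf (x * (a * x⁻¹ * a⁻¹))).card : ℝ)
  have hR : (e : ℝ) * R ≤ (Nat.card G : ℝ) := CycPair.regular_bound h hP hx hord hsol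
  have hR0 : 0 ≤ R := Nat.cast_nonneg _
  have hnG : (0 : ℝ) < Nat.card G := by exact_mod_cast Nat.card_pos
  have hq0 : (0 : ℝ) < q := by exact_mod_cast Nat.card_pos
  have hd0' : (0 : ℝ) < d := by exact_mod_cast hd0
  have E1 : (q : ℝ) * e * ((Nat.card G : ℝ) - R) = (Nat.card G : ℝ) *
      (((q : ℝ) - 1) * S + (-((q : ℝ) - 1) * b - (δ : ℝ) * e) / d * ((q : ℝ) - T)) := by
    apply Complex.ofReal_injective
    have h1 := main_eq D h hM hr hx hx1 (inv_mem hx) (inv_ne_one.2 hx1) hY hDδ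
    rw [hcolx] at h1
    rw [hS, hT]
    push_cast
    rw [← h1]
    congr 1
    have hcompl := Finset.card_filter_add_card_filter_not (s := (Finset.univ : Finset G))
      (fun a : G => p ∣ orderOf (x * (a * x⁻¹ * a⁻¹)))
    rw [Finset.card_univ, ← Nat.card_eq_fintype_card] at hcompl
    simp only [R, Complex.ofReal_natCast]
    rw [← hcompl]
    push_cast
    ring
  by_cases hall : ∀ j, 1 ≤ j → j < p → IsConj x (x ^ j)
  · -- every power is conjugate
    have hep : e = p - 1 := CycPair.card_eq_of_forall_conj h hP hx hord hall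
    have hqp' : p < q := lt_of_le_of_ne hqp fun hh => hsmall ⟨hh.symm, hep⟩
    have hpR : (p : ℝ) = (e : ℝ) + 1 := by
      have : p = e + 1 := by omega
      exact_mod_cast this
    have hre : e + 2 ≤ r := by
      obtain ⟨k, hk⟩ := P.isPGroup'.exists_card_eq
      rw [← hq] at hk
      have hk2 : 2 ≤ k := by
        by_contra hk2
        have : q ≤ p ^ 1 := hk ▸ Nat.pow_le_pow_right hp.out.pos (by omega)
        rw [pow_one] at this
        omega
      have h1 : p ^ 2 ≤ q := hk ▸ Nat.pow_le_pow_right hp.out.pos hk2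
      by_contra hlt
      have h2 : r * e ≤ (e + 1) * e := Nat.mul_le_mul_right e (by omega)
      have h3 : p = e + 1 := by omega
      rw [h3] at h1
      nlinarith
    have hb : b = 0 := by
      by_contra hb0
      have h1 : (1 : ℝ) ≤ (b : ℝ) ^ 2 := by
        have : (1 : ℤ) ≤ b ^ 2 := by
          have := Int.one_le_abs hb0
          nlinarith [sq_abs b]
        exact_mod_cast this
      have h2 : |(b : ℝ)| ≤ (b : ℝ) ^ 2 := by
        have h3 : (1 : ℝ) ≤ |(b : ℝ)| := by
          rw [← Int.cast_abs]; exact_mod_cast Int.one_le_abs hb0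
        nlinarith [sq_abs (b : ℝ)]
      have h3 : -|(b : ℝ)| ≤ (δ : ℝ) * b := by
        rcases hδ with h' | h' <;> rw [h'] <;> push_cast
        · rw [one_mul]; exact neg_abs_le _
        · have := le_abs_self (b : ℝ); linarith
      have hT1 : 1 ≤ T := by
        refine le_trans ?_ (Finset.single_le_sum (fun χ _ => sq_nonneg ((D.b χ : ℝ))) hone)
        rw [D.b_oneIrr h hr]; norm_num
      have h4 : (e : ℝ) + 2 ≤ r := by exact_mod_cast hre
      nlinarith
    subst hb
    have hTe : T = e := by simpa using hnormR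
    -- the values at `x` of the exceptional characters
    haveI : Fintype (H20.autG (P : Subgroup G)) := Fintype.ofFinite _
    set U := Finset.univ.filter fun u : G => u ∈ (P : Subgroup G) ∧ u ≠ 1 ∧ u ^ p = 1
    set W := Finset.univ.filter fun u : G => u ∈ (P : Subgroup G) ∧ u ≠ 1 ∧ u ^ p ≠ 1
    have hUx : ∀ u ∈ U, IsConj x u := by
      intro u hu
      obtain ⟨-, huP, hu1, hup⟩ := Finset.mem_filter.1 hu
      obtain ⟨j, hj, rfl⟩ := CycPair.exists_pow_eq hP hx hord huP hup
      exact hall j (Nat.one_le_iff_ne_zero.2 fun h0 => hu1 (by rw [h0, pow_zero])) hj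
    have hUcard : U.card = e := by
      rw [he, ← hcardx]
      congr 1
      ext w
      simp only [U, Finset.mem_filter, Finset.mem_univ, true_and]
      refine ⟨fun hw => ⟨hw.1, (hUx w (Finset.mem_filter.2 ⟨Finset.mem_univ _, hw⟩)).symm⟩,
        fun hw => ⟨hw.1, fun h1 => hx1 (isConj_one_right.1 (h1 ▸ hw.2)), ?_⟩⟩
      obtain ⟨c, hc⟩ := isConj_iff.1 hw.2.symm
      rw [← hc, conj_pow, orderOf_dvd_iff_pow_eq_one.1 hord.dvd]; simp
    have hsplit : ∀ f : G → ℂ, (∑ u ∈ W, f u) =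
        (∑ u ∈ Finset.univ.filter (fun u : G => u ∈ (P : Subgroup G) ∧ u ≠ 1), f u) -
          ∑ u ∈ U, f u := by
      intro f
      rw [eq_sub_iff_add_eq, add_comm, ← Finset.sum_filter_add_sum_filter_not
        (Finset.univ.filter fun u : G => u ∈ (P : Subgroup G) ∧ u ≠ 1) (fun u => u ^ p = 1),
        Finset.filter_filter, Finset.filter_filter]
      simp only [and_assoc, U, W]
    have hWY : ∀ χ ∈ D.Y.toFinset, (∑ u ∈ W, (χ : G → ℂ) u) =
        -(δ : ℂ) * (e : ℂ) - (e : ℂ) * (χ : G → ℂ) x := by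
      intro χ hχ
      obtain ⟨ψ, hψ, rfl⟩ := Set.mem_toFinset.1 hχ
      rw [hsplit, sum_conj_ζ D h hψ, (hY _ ⟨ψ, hψ, rfl⟩).2, hDδ,
        Finset.sum_congr rfl (g := fun _ => (D.ζ ψ : G → ℂ) x) (fun u hu => by
          obtain ⟨c, hc⟩ := isConj_iff.1 (hUx u hu)
          rw [← hc, H12.irr_isClassFunction _ x c]), Finset.sum_const, hUcard, nsmul_eq_mul,
        ← he]
      push_cast
      ring
    have hdich : ∀ χ ∈ D.Y.toFinset,
        (χ : G → ℂ) x = (((δ : ℝ) * e : ℝ) : ℂ) ∨ (χ : G → ℂ) x = ((-(δ : ℝ) : ℝ) : ℂ) := by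
      intro χ hχ
      obtain ⟨ψ, hψ, rfl⟩ := Set.mem_toFinset.1 hχ
      rw [D.apply_ζ h hψ (u := ⟨x, hx⟩) fun h1 => hx1 (congrArg Subtype.val h1),
        (hY _ ⟨ψ, hψ, rfl⟩).2, hDδ]
      set x' : (P : Subgroup G) := ⟨x, hx⟩
      have hsum : ∑ a : H20.autG (P : Subgroup G), (H20.dualTw ψ a x' : ℂ) =
          ∑ j ∈ Finset.Icc 1 (p - 1), (ψ x' : ℂ) ^ j := by
        have himg : ∀ a : H20.autG (P : Subgroup G), ∃ j ∈ Finset.Icc 1 (p - 1),
            x' ^ j = (a : MulAut (P : Subgroup G)) x' := by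
          intro a
          obtain ⟨j, hj, hj'⟩ := CycPair.exists_pow_eq hP hx hord
            (SetLike.coe_mem ((a : MulAut (P : Subgroup G)) x'))
            (congrArg Subtype.val (show ((a : MulAut (P : Subgroup G)) x') ^ p = 1 by
              rw [← map_pow, show x' ^ p = 1 from Subtype.ext
                (orderOf_dvd_iff_pow_eq_one.1 hord.dvd), map_one]))
          refine ⟨j, Finset.mem_Icc.2 ⟨Nat.one_le_iff_ne_zero.2 fun h0 => hx1 ?_, by omega⟩,
            Subtype.ext hj'⟩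
          rw [h0, pow_zero] at hj'
          exact congrArg Subtype.val
            ((MulEquiv.map_eq_one_iff (a : MulAut (P : Subgroup G))).1 (Subtype.ext hj'.symm))
        choose j hj hj' using himg
        refine Finset.sum_bij (fun a _ => j a) (fun a _ => hj a) (fun a _ a' _ haa => ?_)
          (fun i hi => ?_) fun a _ => ?_
        · exact h.eq_of_apply_eq (fun h1 => hx1 (congrArg Subtype.val h1))
            (by rw [← hj', ← hj', haa])
        · have hii := Finset.mem_Icc.1 hi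
          obtain ⟨a, ha⟩ := h.exists_autG (u := x') (v := x' ^ i) (hall i hii.1 (by omega))
          refine ⟨a, Finset.mem_univ _, ?_⟩
          have h1 : x ^ j a = x ^ i := congrArg Subtype.val ((hj' a).trans ha)
          have hja := Finset.mem_Icc.1 (hj a)
          rw [pow_inj_mod, hord, Nat.mod_eq_of_lt (show j a < p by omega),
            Nat.mod_eq_of_lt (show i < p by omega)] at h1
          exact h1
        · rw [H20.dualTw_apply, ← hj', map_pow, Units.val_pow_eq_pow_val]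
      rw [hsum]
      have hω : (ψ x' : ℂ) ^ p = 1 := by
        rw [← Units.val_pow_eq_pow_val, ← map_pow, show x' ^ p = 1 from Subtype.ext
          (orderOf_dvd_iff_pow_eq_one.1 hord.dvd), map_one, Units.val_one]
      have hgeom : ∑ j ∈ Finset.Icc 1 (p - 1), (ψ x' : ℂ) ^ j =
          (∑ j ∈ Finset.range p, (ψ x' : ℂ) ^ j) - 1 := by
        rw [Finset.range_eq_Ico, Finset.sum_eq_sum_Ico_succ_bot hp.out.pos, pow_zero,
          add_sub_cancel_left]
        refine Finset.sum_congr ?_ fun _ _ => rfl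
        ext j
        simp only [Finset.mem_Icc, Finset.mem_Ico]
        omega
      rw [hgeom]
      by_cases hω1 : (ψ x' : ℂ) = 1
      · left
        rw [hω1]
        simp only [one_pow, Finset.sum_const, Finset.card_range, nsmul_eq_mul, mul_one]
        push_cast
        rw [show ((p : ℕ) : ℂ) = (e : ℂ) + 1 by exact_mod_cast (show p = e + 1 by omega)]
        ring
      · right
        rw [geom_sum_eq hω1, hω]
        push_cast
        ring
    set n : ℝ := ((D.Y.toFinset.filter fun χ : IrrCharacter G =>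
      (χ : G → ℂ) x = (((δ : ℝ) * e : ℝ) : ℂ)).card : ℝ)
    have hδ2 : (δ : ℝ) * δ = 1 := by rcases hδ with h' | h' <;> rw [h'] <;> norm_num
    have hYsum : ∀ (f : IrrCharacter G → ℂ) (a₁ a₂ : ℝ),
        (∀ χ ∈ D.Y.toFinset, (χ : G → ℂ) x = (((δ : ℝ) * e : ℝ) : ℂ) → f χ = (a₁ : ℂ)) →
        (∀ χ ∈ D.Y.toFinset, (χ : G → ℂ) x = ((-(δ : ℝ) : ℝ) : ℂ) → f χ = (a₂ : ℂ)) →
        ∑ χ ∈ D.Y.toFinset, f χ = ((n * a₁ + ((r : ℝ) - n) * a₂ : ℝ) : ℂ) := by
      intro f a₁ a₂ h1 h2
      rw [← Finset.sum_filter_add_sum_filter_not D.Y.toFinset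
        (fun χ : IrrCharacter G => (χ : G → ℂ) x = (((δ : ℝ) * e : ℝ) : ℂ)),
        Finset.sum_congr rfl (g := fun _ => (a₁ : ℂ)) (fun χ hχ => h1 χ (Finset.mem_filter.1 hχ).1
          (Finset.mem_filter.1 hχ).2),
        Finset.sum_congr (Eq.refl (D.Y.toFinset.filter fun χ : IrrCharacter G =>
          ¬ (χ : G → ℂ) x = (((δ : ℝ) * e : ℝ) : ℂ))) (g := fun _ => (a₂ : ℂ)) (fun χ hχ =>
          h2 χ (Finset.mem_filter.1 hχ).1 ((hdich χ (Finset.mem_filter.1 hχ).1).resolve_left
            (Finset.mem_filter.1 hχ).2)), Finset.sum_const, Finset.sum_const]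
      have hcompl := Finset.card_filter_add_card_filter_not (s := D.Y.toFinset)
        (fun χ : IrrCharacter G => (χ : G → ℂ) x = (((δ : ℝ) * e : ℝ) : ℂ))
      rw [hYr] at hcompl
      simp only [n, nsmul_eq_mul]
      rw [← hcompl]
      push_cast
      ring
    have hxinv : ∀ χ : IrrCharacter G, (χ : G → ℂ) x⁻¹ = conj ((χ : G → ℂ) x) := fun χ =>
      (H20.conj_irr_eq χ x).symm
    have hcolY : n * (e : ℝ) ^ 2 + ((r : ℝ) - n) = (q : ℝ) - e := by
      have h1 := hYsum (fun χ : IrrCharacter G => (χ : G → ℂ) x * (χ : G → ℂ) x⁻¹) ((e : ℝ) ^ 2) 1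
        (fun χ _ hv => by
          rw [hxinv, hv, Complex.conj_ofReal, ← Complex.ofReal_mul]
          congr 1
          linear_combination (e : ℝ) ^ 2 * hδ2)
        (fun χ _ hv => by
          rw [hxinv, hv, Complex.conj_ofReal, ← Complex.ofReal_mul]
          congr 1
          linear_combination hδ2)
      apply Complex.ofReal_injective
      rw [mul_one] at h1
      rw [← h1, Complex.ofReal_sub, Complex.ofReal_natCast, ← hcolx, ← Finset.sum_sdiff hYB,
        ← hTe, hT]
      push_cast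
      rw [Finset.sum_congr rfl (g := fun χ => (D.b χ : ℂ) ^ 2) (fun χ hχ => by
        rw [hxinv, hvalx χ hχ, Complex.conj_ofReal]; push_cast; ring) (s₁ := NY)]
      ring
    -- the count of products of order divisible by `p ^ 2`
    have hΦ : ∀ a c : G, IsConj a c → a ^ p ≠ 1 → c ^ p ≠ 1 := by
      intro a c hac ha hcp
      obtain ⟨g, hg⟩ := isConj_iff.1 hac
      rw [← hg, conj_pow, mul_inv_eq_one, mul_eq_left] at hcp
      exact ha hcp
    have hcount := CycPair.count h hM (Φ := fun a => a ^ p ≠ 1) hΦ x x⁻¹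
    have hno : ∀ a : G, ¬ (p ∣ orderOf (x * (a * x⁻¹ * a⁻¹)) ∧
        H20.pPart p (x * (a * x⁻¹ * a⁻¹)) ^ p ≠ 1) := by
      intro a ha
      have hz : orderOf (a * x * a⁻¹) = p := by rw [H20.orderOf_conj', hord]
      have h3 := (PairReg.pair_facts P hcomm hord hz (hsol _ _ hord hz)).2.2 (p - 1)
      rw [conj_pow, show x ^ (p - 1) = x⁻¹ from eq_inv_of_mul_eq_one_left (by
        rw [← pow_succ, Nat.sub_add_cancel hp.out.one_le,
          orderOf_dvd_iff_pow_eq_one.1 hord.dvd])] at h3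
      exact ha.2 h3
    simp only [hno, Finset.filter_false, Finset.card_empty, Nat.cast_zero, mul_zero] at hcount
    have E2 : ((q : ℝ) - p) * S + n * (-(δ : ℝ) * e * (e + 1)) * e ^ 2 / d = 0 := by
      have h1 : (Nat.card G : ℂ) ≠ 0 := Nat.cast_ne_zero.2 Nat.card_pos.ne'
      have h2 := (mul_eq_zero.1 hcount.symm).resolve_left h1
      rw [← Finset.sum_sdiff hYB] at h2
      have hWcard : (W.card : ℂ) = (q : ℂ) - (p : ℂ) := by
        have h3 := hsplit fun _ => (1 : ℂ)
        simp only [Finset.sum_const, nsmul_eq_mul, mul_one, hUcard] at h3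
        rw [h3, card_nonone, ← hq,
          show ((p : ℕ) : ℂ) = (e : ℂ) + 1 by exact_mod_cast (show p = e + 1 by omega)]
        ring
      have hW : (Finset.univ.filter fun u : G => u ∈ (P : Subgroup G) ∧ u ≠ 1 ∧ u ^ p ≠ 1) = W :=
        rfl
      have hN : ∀ χ ∈ NY, (∑ u ∈ W, conj ((χ : G → ℂ) u)) * (χ : G → ℂ) x * (χ : G → ℂ) x⁻¹ /
          (χ : G → ℂ) 1 = ((((q : ℝ) - p) *
            (-((D.b χ : ℝ) ^ 3) / (charDegree (χ : G → ℂ) : ℝ)) : ℝ) : ℂ) := by
        intro χ hχ
        obtain ⟨hχB, hχY⟩ := Finset.mem_sdiff.1 hχ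
        rw [← map_sum, ← hW, sum_conj_notMem D h (Set.mem_toFinset.1 hχB)
          (fun h' => hχY (Set.mem_toFinset.2 h')) (fun u => u ≠ 1 ∧ u ^ p ≠ 1)
          (fun _ h => h.1), hW, hWcard, hxinv, hvalx χ hχ, H12.irr_apply_one,
          ← H24.charDegree_eq_degree]
        simp only [map_mul, map_neg, map_sub, map_natCast, map_intCast, Complex.conj_ofReal]
        push_cast
        ring
      simp only [show ∀ i : DecidablePred fun u : G => u ∈ (P : Subgroup G) ∧ u ≠ 1 ∧ u ^ p ≠ 1,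
        @Finset.filter G (fun u => u ∈ (P : Subgroup G) ∧ u ≠ 1 ∧ u ^ p ≠ 1) i Finset.univ = W
        from fun i => by ext; simp [W]] at h2
      rw [Finset.sum_congr rfl hN, ← Complex.ofReal_sum, ← Finset.mul_sum, ← hS,
        hYsum _ ((-(δ : ℝ) * e * (e + 1)) * e ^ 2 / d) 0 (fun χ hχ hv => ?_)
          (fun χ hχ hv => ?_)] at h2
      · rw [← Complex.ofReal_add, Complex.ofReal_eq_zero] at h2
        linear_combination h2
      · rw [← map_sum, hWY χ hχ, hxinv, hv, H12.irr_apply_one, ← H24.charDegree_eq_degree,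
          (hY χ (Set.mem_toFinset.1 hχ)).1]
        simp only [map_mul, map_neg, map_sub, map_natCast, map_intCast, Complex.conj_ofReal]
        have hδ2' : (δ : ℂ) * δ = 1 := by exact_mod_cast hδ2
        push_cast
        linear_combination
          (-(δ : ℂ) * (e : ℂ) ^ 3 * ((e : ℂ) + 1) / (d : ℂ)) * hδ2'
      · rw [← map_sum, hWY χ hχ, hxinv, hv, H12.irr_apply_one, ← H24.charDegree_eq_degree,
          (hY χ (Set.mem_toFinset.1 hχ)).1]
        simp only [map_mul, map_neg, map_sub, map_natCast, map_intCast, Complex.conj_ofReal]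
        push_cast
        ring
    have hqe : (r : ℝ) * e + 1 = q := by exact_mod_cast hrq
    have he0 : (2 : ℝ) ≤ e := by exact_mod_cast he2
    have hn : n * e * (e + 1) = (q : ℝ) - (e + 1) := by
      refine mul_right_cancel₀ (show (e : ℝ) - 1 ≠ 0 by intro h'; linarith) ?_
      linear_combination (e : ℝ) * hcolY - hqe
    have hSval : S = (δ : ℝ) * e ^ 2 / d := by
      have hqp0 : (q : ℝ) - p ≠ 0 := sub_ne_zero.2 (by exact_mod_cast hqp'.ne')
      refine mul_left_cancel₀ hqp0 ?_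
      rw [hpR] at E2 ⊢
      linear_combination E2 + ((δ : ℝ) * e ^ 2 / d) * hn
    rw [hSval, hTe] at E1
    push_cast at E1
    have hmain : (q : ℝ) * ((e : ℝ) - 1) ≤ (δ : ℝ) * e / d * q * ((e : ℝ) - 1) := by
      have h1 : (Nat.card G : ℝ) * ((q : ℝ) * ((e : ℝ) - 1)) ≤
          (Nat.card G : ℝ) * ((δ : ℝ) * e / d * q * ((e : ℝ) - 1)) := by
        have h2 : (Nat.card G : ℝ) * ((δ : ℝ) * e / d * q * ((e : ℝ) - 1)) =
            (q : ℝ) * e * ((Nat.card G : ℝ) - R) := by rw [E1]; ring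
        have h3 := mul_le_mul_of_nonneg_left hR hq0.le
        linarith
      exact le_of_mul_le_mul_left h1 hnG
    have hde : (d : ℝ) ≤ (δ : ℝ) * e := by
      have h1 : (1 : ℝ) * ((q : ℝ) * ((e : ℝ) - 1)) ≤
          (δ : ℝ) * e / d * ((q : ℝ) * ((e : ℝ) - 1)) := by linarith
      have h2 := le_of_mul_le_mul_right h1 (mul_pos hq0 (by linarith))
      rwa [one_le_div hd0'] at h2
    rcases hδ with hδ1 | hδ1
    · obtain ⟨ψ, hψ⟩ : ∃ ψ : (P : Subgroup G) →* ℂˣ, ψ ≠ 1 := by
        have : 0 < D.Y.toFinset.card := by omega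
        obtain ⟨χ, hχ⟩ := Finset.card_pos.1 this
        obtain ⟨ψ, hψ, -⟩ := Set.mem_toFinset.1 hχ
        exact ⟨ψ, hψ⟩
      have hge := degree_ge D h hY rfl (hDδ.trans hδ1) hψ
      rw [← he] at hge
      rw [hδ1, Int.cast_one, one_mul] at hde hSval
      have hde' : (d : ℝ) = e := le_antisymm hde (by exact_mod_cast hge)
      rw [hde'] at hSval
      have : S = e := by rw [hSval]; field_simp
      exact hfinal (by linarith) (by linarith)
    · rw [hδ1] at hde
      push_cast at hde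
      linarith
  · push Not at hall
    obtain ⟨j, hj1, hjp, hjc⟩ := hall
    have hw1 : x ^ j ≠ 1 := fun h1 => by
      have := Nat.le_of_dvd (by omega) (orderOf_dvd_of_pow_eq_one h1)
      omega
    have h1 := main_eq D h hM hr hx hx1 (inv_mem (pow_mem hx j)) (inv_ne_one.2 hw1) hY hDδ
    have hcol0 : ∑ χ ∈ B, (χ : G → ℂ) x * (χ : G → ℂ) (x ^ j)⁻¹ = 0 := by
      rw [← H20.FreeSylow.column_other hM hx (pow_mem hx j) hjc, finsum_mem_eq_toFinset_sum]
      exact Finset.sum_congr rfl fun χ _ => by rw [H20.conj_irr_eq]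
    rw [hcol0] at h1
    rw [Finset.filter_true_of_mem (fun a _ => ?_), Finset.card_univ,
      ← Nat.card_eq_fintype_card, ← he, ← hq] at h1
    · have E3 : (q : ℝ) * e = ((q : ℝ) - 1) * S +
          (-((q : ℝ) - 1) * b - (δ : ℝ) * e) / d * (0 - T) := by
        refine mul_left_cancel₀ hnG.ne' ?_
        apply Complex.ofReal_injective
        rw [hS, hT]
        push_cast
        linear_combination h1
      set V := (-((q : ℝ) - 1) * b - (δ : ℝ) * e) / d
      set t : ℝ := (e : ℝ) * R / Nat.card G with ht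
      have ht1 : t ≤ 1 := by rw [ht, div_le_one hnG]; exact hR
      have ht0 : 0 ≤ t := by
        rw [ht]
        exact div_nonneg (mul_nonneg (Nat.cast_nonneg _) hR0) hnG.le
      have hE1 : (q : ℝ) * e - q * t = ((q : ℝ) - 1) * S + V * ((q : ℝ) - T) := by
        refine mul_left_cancel₀ hnG.ne' ?_
        rw [← E1, ht]
        field_simp
      have hV : V = -t := mul_right_cancel₀ hq0.ne' (by linear_combination E3 - hE1)
      rw [hV] at E3
      have hT0 : 0 ≤ T := Finset.sum_nonneg fun χ _ => sq_nonneg _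
      have hq1 : (1 : ℝ) ≤ (q : ℝ) - 1 := by
        have : (2 : ℝ) ≤ q := by exact_mod_cast (show 2 ≤ q by omega)
        linarith
      have hS1 : ((q : ℝ) - 1) * S ≤ ((q : ℝ) - 1) * T :=
        mul_le_mul_of_nonneg_left hST (by linarith)
      have ht' : t * T ≤ T := mul_le_of_le_one_left hT0 ht1
      have heT : (e : ℝ) ≤ T := le_of_mul_le_mul_left (by linarith) hq0
      have hTe : T ≤ e := by
        have hr2 : (2 : ℝ) ≤ r := by
          have : 2 ≤ r := by
            by_contra hlt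
            have := Nat.mul_le_mul_right e (show r ≤ 1 by omega)
            omega
          exact_mod_cast this
        have h3 : 0 ≤ (r : ℝ) * (b : ℝ) ^ 2 + 2 * (δ : ℝ) * b := by
          by_cases hb0 : b = 0
          · subst hb0; simp
          · have hb1 : (1 : ℝ) ≤ |(b : ℝ)| := by
              rw [← Int.cast_abs]; exact_mod_cast Int.one_le_abs hb0
            have h4 : -|(b : ℝ)| ≤ (δ : ℝ) * b := by
              rcases hδ with h' | h' <;> rw [h'] <;> push_cast
              · rw [one_mul]; exact neg_abs_le _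
              · have := le_abs_self (b : ℝ); linarith
            nlinarith [sq_abs (b : ℝ)]
        linarith
      refine hfinal ?_ heT
      have hkey : ((q : ℝ) - 1) * T ≤ ((q : ℝ) - 1) * S := by nlinarith
      exact le_of_mul_le_mul_left hkey (by linarith)
    · -- no regular product
      by_contra hreg
      apply hjc
      have hz : orderOf (a * x * a⁻¹) = p := by rw [H20.orderOf_conj', hord]
      have hpow : (a * x * a⁻¹) ^ (p - j) = a * (x ^ j)⁻¹ * a⁻¹ := by
        rw [conj_pow]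
        congr 2
        refine eq_inv_of_mul_eq_one_left ?_
        rw [← pow_add, Nat.sub_add_cancel hjp.le, orderOf_dvd_iff_pow_eq_one.1 hord.dvd]
      have hc2 := (PairReg.pair_facts P hcomm hord hz (hsol _ _ hord hz)).2.1 (p - j)
        (by rw [hpow]; exact hreg)
      rw [hpow] at hc2
      obtain ⟨c, hc⟩ := isConj_iff.1 hc2
      refine isConj_iff.2 ⟨a⁻¹ * c, ?_⟩
      have h3 : c * x * c⁻¹ = a * x ^ j * a⁻¹ := by
        have := congrArg (·⁻¹) hc
        simp only [mul_inv_rev, inv_inv, mul_assoc] at this ⊢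
        exact this
      calc a⁻¹ * c * x * (a⁻¹ * c)⁻¹ = a⁻¹ * (c * x * c⁻¹) * a := by group
        _ = x ^ j := by rw [h3]; group

end H65.CycMain
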