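import Mathlib
import Cfsg.Agent.H65.CyclicMain
import Cfsg.Agent.H10.PSolvable

/-!
# `p`-solvability from pairs for cyclic Sylow subgroups
-/

set_option autoImplicit false
set_option linter.style.haveILetI false
set_option linter.unusedSectionVars false

open Cfsg

namespace H65.CycSolv

universe u

variable {p : ℕ} [hp : Fact p.Prime]

theorem of_card_coprime {G : Type u} [Group G] [Finite G] (h : (Nat.card G).Coprime p) :
    IsPSolvable p G := by
  refine H10.isPSolvable_of_quotient_of_card ⊤ (Or.inr (by rwa [Subgroup.card_top])) ?_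
  haveI := QuotientGroup.subsingleton_quotient_top (G := G)
  exact H10.isPSolvable_of_subsingleton

theorem quotient_pairs {G : Type u} [Group G] [Finite G]
    (hpairs : ∀ a b : G, orderOf a = p → orderOf b = p →
      IsPSolvable p ↥(Subgroup.closure ({a, b} : Set G))) (a b : G ⧸ pPrimeCore p G)
    (ha : orderOf a = p) (hb : orderOf b = p) :
    IsPSolvable p ↥(Subgroup.closure ({a, b} : Set (G ⧸ pPrimeCore p G))) := by
  set f := QuotientGroup.mk' (pPrimeCore p G)
  have hlift : ∀ c : G ⧸ pPrimeCore p G, orderOf c = p → ∃ g : G, orderOf g = p ∧ f g = c := by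
    intro c hc
    obtain ⟨g, rfl⟩ := QuotientGroup.mk'_surjective (pPrimeCore p G) c
    obtain ⟨y, hy1, hy2, ⟨k, hk⟩, hy4⟩ := H20.isPPart_pPart (p := p) g
    have h1 : f (H20.pPart p g) = f g := by
      have hc' : ∃ j, orderOf (f g) = p ^ j := ⟨1, by rw [hc, pow_one]⟩
      rw [← H20.pPart_eq_self hc']
      obtain ⟨j, -, hj⟩ := (Nat.dvd_prime_pow hp.out).1 (hk ▸ orderOf_map_dvd f (H20.pPart p g))
      exact (H20.isPPart_unique' (by rw [← map_mul, hy1]) (hy2.map f) ⟨j, hj⟩
        fun hd => hy4 (hd.trans (orderOf_map_dvd f y))).1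
    refine ⟨H20.pPart p g, orderOf_eq_prime ?_ ?_, h1⟩
    · obtain ⟨i, -, hi⟩ := (Nat.dvd_prime_pow hp.out).1
        (hk ▸ orderOf_pow_dvd (x := H20.pPart p g) p)
      refine PairReg.eq_one_of_map hi ((QuotientGroup.eq_one_iff _).1 ?_)
      show f (H20.pPart p g ^ p) = 1
      rw [map_pow, h1, orderOf_dvd_iff_pow_eq_one.1 hc.dvd]
    · intro h
      rw [h, map_one] at h1
      rw [← h1, orderOf_one] at hc
      exact hp.out.ne_one hc.symm
  obtain ⟨a', ha', rfl⟩ := hlift a ha
  obtain ⟨b', hb', rfl⟩ := hlift b hb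
  have h := H10.isPSolvable_of_surjective (hpairs a' b' ha' hb')
    (f.subgroupMap (Subgroup.closure {a', b'})) (f.subgroupMap_surjective _)
  have himg : (Subgroup.closure ({a', b'} : Set G)).map f = Subgroup.closure {f a', f b'} := by
    rw [MonoidHom.map_closure, Set.image_pair]
  exact H10.isPSolvable_of_equiv h (MulEquiv.subgroupCongr himg)

theorem of_pairs_aux : ∀ (n : ℕ) (G : Type u) [Group G] [Finite G], Nat.card G = n →
    ∀ P : Sylow p G, IsCyclic (P : Subgroup G) →
    (∀ a b : G, orderOf a = p → orderOf b = p →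
      IsPSolvable p ↥(Subgroup.closure ({a, b} : Set G))) → IsPSolvable p G := by
  intro n
  induction n using Nat.strong_induction_on with
  | _ n ih =>
  intro G _ _ hn P hP hpairs
  by_cases hK : pPrimeCore p G = ⊥
  swap
  · haveI := H10.pPrimeCore_normal (p := p) (G := G)
    refine H10.isPSolvable_of_quotient_of_card _ (Or.inr H10.pPrimeCore_coprime) ?_
    refine ih _ ?_ _ rfl (P.mapSurjective (QuotientGroup.mk'_surjective (pPrimeCore p G))) ?_
      (quotient_pairs hpairs)
    · rw [← hn]; exact H10.card_quotient_lt _ hK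
    · rw [Sylow.coe_mapSurjective]
      exact isCyclic_of_surjective _ ((QuotientGroup.mk' _).subgroupMap_surjective _)
  by_cases hdvd : p ∣ Nat.card G
  swap
  · exact of_card_coprime ((hp.out.coprime_iff_not_dvd.2 hdvd).symm)
  haveI : Nontrivial G := Finite.one_lt_card_iff_nontrivial.1
    (lt_of_lt_of_le hp.out.one_lt (Nat.le_of_dvd Nat.card_pos hdvd))
  haveI : IsCyclic (P : Subgroup G) := hP
  obtain ⟨⟨x, hx⟩, hx'⟩ := exists_prime_orderOf_dvd_card' (G := (P : Subgroup G)) p
    (P.dvd_card_of_dvd_card hdvd)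
  have hord : orderOf x = p := by rw [← hx', Subgroup.orderOf_mk]
  by_cases hsimple : IsSimpleGroup G
  · by_cases hp2 : p = 2
    · refine H33.isPSolvable_of_hasNormalPComplement
        (H33.hasNormalPComplement_of_cyclic P hP fun v hv _ => ⟨x, hx, ?_, ?_⟩)
      · exact fun h => hp.out.ne_one (by rw [← hord, h, orderOf_one])
      · haveI : Fintype G := Fintype.ofFinite G
        have hvx : v * x * v⁻¹ ∈ (P : Subgroup G) :=
          (Subgroup.mem_normalizer_iff.1 hv x).1 hx
        obtain ⟨j, hj, hj'⟩ := CycPair.exists_pow_eq hP hx hord hvx (by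
          rw [conj_pow, orderOf_dvd_iff_pow_eq_one.1 hord.dvd]; simp)
        rcases (show j = 0 ∨ j = 1 by omega) with rfl | rfl
        · rw [pow_zero, eq_comm, mul_inv_eq_one, mul_eq_left] at hj'
          exact absurd (by rw [← hord, hj', orderOf_one]) hp.out.ne_one
        · rw [pow_one] at hj'
          exact mul_inv_eq_iff_eq_mul.1 hj'.symm
    by_cases hcomm : ∀ a b : G, a * b = b * a
    · haveI : Group.IsSolvable G := Group.isSolvable_of_comm hcomm
      exact H10.isPSolvable_of_isSolvable
    haveI : Fintype G := Fintype.ofFinite G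
    exact (CycMain.not_all_pairs hP hp2 hx hord hcomm hpairs).elim
  · obtain ⟨N, hN, hN0, hN1⟩ : ∃ N : Subgroup G, N.Normal ∧ N ≠ ⊥ ∧ N ≠ ⊤ := by
      by_contra hno
      push Not at hno
      exact hsimple ⟨fun H hH => or_iff_not_imp_left.2 (hno H hH)⟩
    haveI := hN
    haveI : Nontrivial N := (Subgroup.nontrivial_iff_ne_bot _).2 hN0
    have hlt : Nat.card N < n := by
      rw [← hn]
      exact lt_of_le_of_ne (Subgroup.card_le_card_group N)
        fun h => hN1 (Subgroup.card_eq_iff_eq_top N |>.1 h)
    obtain ⟨Q⟩ := (inferInstance : Nonempty (Sylow p N))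
    have hQc : IsCyclic (Q : Subgroup N) := by
      obtain ⟨R, hR⟩ := (Q.isPGroup'.map N.subtype).exists_le_sylow
      haveI : IsCyclic (R : Subgroup G) :=
        isCyclic_of_surjective _ (Sylow.equiv P R).surjective
      exact isCyclic_of_injective
        ((Subgroup.inclusion hR).comp
          ((Subgroup.equivMapOfInjective _ _ N.subtype_injective).toMonoidHom))
        ((Subgroup.inclusion_injective hR).comp (MulEquiv.injective _))
    have hNs : IsPSolvable p N := by
      refine ih _ hlt N rfl Q hQc fun a b ha hb => ?_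
      have h := hpairs (a : G) b (by rwa [Subgroup.orderOf_coe]) (by rwa [Subgroup.orderOf_coe])
      have himg : (Subgroup.closure ({a, b} : Set N)).map N.subtype =
          Subgroup.closure ({(a : G), (b : G)} : Set G) := by
        rw [MonoidHom.map_closure, Set.image_pair]
        rfl
      exact H10.isPSolvable_of_equiv h ((Subgroup.equivMapOfInjective _ _ N.subtype_injective).trans
        (MulEquiv.subgroupCongr himg)).symm
    have hcore : pCore p G ≠ ⊥ := by
      intro h0
      rcases H10.pCore_or_pPrimeCore_ne_bot hNs with h | h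
      · exact h ((Subgroup.map_eq_bot_iff_of_injective _ N.subtype_injective).1
          (le_bot_iff.1 ((H10.map_pCore_subtype_le hN).trans h0.le)))
      · exact h ((Subgroup.map_eq_bot_iff_of_injective _ N.subtype_injective).1
          (le_bot_iff.1 ((H10.map_pPrimeCore_subtype_le hN).trans hK.le)))
    haveI : Fintype G := Fintype.ofFinite G
    obtain ⟨⟨z, hz⟩, hz'⟩ := exists_prime_orderOf_dvd_card' (G := pCore p G) p (by
      obtain ⟨k, hk⟩ := (H10.pCore_isPGroup (p := p) (G := G)).exists_card_eq
      rw [hk]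
      refine dvd_pow_self p fun h => hcore ?_
      rw [h, pow_zero] at hk
      exact Subgroup.card_eq_one.1 hk)
    have hzord : orderOf z = p := by rw [← hz', Subgroup.orderOf_mk]
    have hcoreP : pCore p G ≤ (P : Subgroup G) := by
      obtain ⟨S, hS⟩ := (H10.pCore_isPGroup (p := p) (G := G)).exists_le_sylow
      obtain ⟨g, hg⟩ := MulAction.exists_smul_eq G S P
      intro a ha
      rw [← hg, Sylow.coe_subgroup_smul, Subgroup.mem_pointwise_smul_iff_inv_smul_mem]
      refine hS ?_
      have := (H10.pCore_normal (p := p) (G := G)).conj_mem a ha g⁻¹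
      simpa [MulAut.smul_def] using this
    have hzP : z ∈ (P : Subgroup G) := hcoreP hz
    haveI hnor : (Subgroup.centralizer ({z} : Set G)).Normal := by
      refine ⟨fun c hc g => Subgroup.mem_centralizer_singleton_iff.2 ?_⟩
      have hzg : g⁻¹ * z * g⁻¹⁻¹ ∈ pCore p G := H10.pCore_normal.conj_mem z hz g⁻¹
      obtain ⟨j, -, hj⟩ := CycPair.exists_pow_eq hP hzP hzord (hcoreP hzg) (by
        rw [conj_pow, orderOf_dvd_iff_pow_eq_one.1 hzord.dvd]; simp)
      have hcz : Commute c (g⁻¹ * z * g) := by
        rw [show g⁻¹ * z * g = z ^ j by rw [hj]; group]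
        exact (show Commute c z from Subgroup.mem_centralizer_singleton_iff.1 hc).pow_right j
      calc g * c * g⁻¹ * z = g * (c * (g⁻¹ * z * g)) * g⁻¹ := by group
        _ = g * ((g⁻¹ * z * g) * c) * g⁻¹ := by rw [hcz.eq]
        _ = z * (g * c * g⁻¹) := by group
    have hPC : (P : Subgroup G) ≤ Subgroup.centralizer ({z} : Set G) := fun w hw => by
      have := congrArg Subtype.val
        (IsCyclic.commGroup.mul_comm (⟨w, hw⟩ : (P : Subgroup G)) ⟨z, hzP⟩)
      exact Subgroup.mem_centralizer_singleton_iff.2 this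
    have hCs : IsPSolvable p (Subgroup.centralizer ({z} : Set G)) := by
      refine H33.isPSolvable_of_hasNormalPComplement
        (H33.hasNormalPComplement_of_cyclic (P.subtype hPC) ?_ fun v _ _ =>
          ⟨⟨z, hPC hzP⟩, hzP, ?_, ?_⟩)
      · exact isCyclic_of_surjective _
          (Subgroup.subgroupOfEquivOfLe hPC).symm.surjective
      · exact fun h => hp.out.ne_one (by
          rw [← hzord, show z = 1 from congrArg Subtype.val h, orderOf_one])
      · exact Subtype.ext (Subgroup.mem_centralizer_singleton_iff.1 v.2)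
    refine H10.isPSolvable_of_normal _ hCs (of_card_coprime ?_)
    refine ((hp.out.coprime_iff_not_dvd.2 fun hd => P.not_dvd_index ?_)).symm
    exact hd.trans (Subgroup.index_dvd_of_le hPC)

theorem of_pairs {G : Type u} [Group G] [Finite G] (P : Sylow p G)
    (hP : IsCyclic (P : Subgroup G))
    (hpairs : ∀ a b : G, orderOf a = p → orderOf b = p →
      IsPSolvable p ↥(Subgroup.closure ({a, b} : Set G))) : IsPSolvable p G :=
  of_pairs_aux _ G rfl P hP hpairs

end H65.CycSolv
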