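import Cfsg.Agent.H61.MonomialMax

/-!
Overgroups of the monomial group in `SL 6 F` (`5 ≤ #F`).
-/

set_option autoImplicit false

namespace H65.MonomialSix

open Matrix H61.Monomial

variable {F : Type*} [Field F] {n : ℕ}

/-- `g` fixes the `m`th coordinate. -/
def RowFixes (g : GL (Fin n) F) (m : Fin n) : Prop := ∀ c, g.val m c = if m = c then 1 else 0

theorem RowFixes.inv {g : GL (Fin n) F} {m : Fin n} (h : RowFixes g m) : RowFixes g⁻¹ m := by
  intro c
  have := mul_inv_val g m c
  rwa [Finset.sum_eq_single m (fun x _ hx => by rw [h x, if_neg (Ne.symm hx), zero_mul]) (by simp),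
    h m, if_pos rfl, one_mul] at this

theorem rowFixes_biRefl {g : GL (Fin n) F} {i j m : Fin n} (hij : i ≠ j) (hi : g.val m i = 0)
    (hj : g.val m j = 0) (a : Fˣ) : RowFixes (biRefl g i j a) m := fun c => by
  rw [biRefl_val _ hij, hi, hj]; ring

/-- A monomial matrix within rank two of a scalar has two columns of that scalar. -/
theorem few_moved (hn : 6 ≤ n) {W : GL (Fin n) F} (hW : IsMono W) {lam : F} (u v φ ψ : Fin n → F)
    (he : ∀ r c, W.val r c = lam * (if r = c then 1 else 0) + u r * φ c + v r * ψ c) :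
    ∃ c1 c2, c1 ≠ c2 ∧ (∀ r, W.val r c1 = if r = c1 then lam else 0) ∧
      ∀ r, W.val r c2 = if r = c2 then lam else 0 := by
  classical
  obtain ⟨σ, hσ⟩ := hW
  have hinj : Function.Injective σ := fun c d e =>
    col_single_inj (fun r hr => hσ r c hr) (fun r hr => hσ r d hr) e
  let S : Finset (Fin n) := Finset.univ.filter fun x => ¬ ∀ r, W.val r x = if r = x then lam else 0
  by_cases hS : 1 < Sᶜ.card
  · obtain ⟨x, hx, x', hx', hxx⟩ := Finset.one_lt_card.mp hS
    simp only [S, Finset.mem_compl, Finset.mem_filter, Finset.mem_univ, true_and, not_not] at hx hx'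
    exact ⟨x, x', hxx, hx, hx'⟩
  exfalso
  rw [Finset.card_compl, Fintype.card_fin] at hS
  let E : Fin n → Fin n → F := fun r c => u r * φ c + v r * ψ c
  have hE : ∀ r c, E r c = W.val r c - lam * (if r = c then 1 else 0) := fun r c => by
    rw [he]; ring
  have hdia : ∀ x ∈ S, E (σ x) x ≠ 0 := by
    intro x hx h
    simp only [S, Finset.mem_filter, Finset.mem_univ, true_and] at hx
    rw [hE] at h
    by_cases hσx : σ x = x
    · rw [hσx, if_pos rfl, mul_one] at h
      refine hx fun r => ?_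
      by_cases hr : r = x
      · rw [if_pos hr, hr]; exact sub_eq_zero.mp h
      · rw [if_neg hr]; exact hσ r x (by rwa [hσx])
    · rw [if_neg hσx, mul_zero, sub_zero] at h
      exact col_single_ne_zero (fun r hr => hσ r x hr) h
  have hoff : ∀ x y, x ≠ y → y ≠ σ x → E (σ x) y = 0 := fun x y h1 h2 => by
    rw [hE, hσ _ y (fun e => h1 (hinj e)), if_neg (Ne.symm h2), mul_zero, sub_zero]
  obtain ⟨x1, hx1⟩ : S.Nonempty := Finset.card_pos.mp (by omega)
  obtain ⟨x2, hx2, hb2⟩ := Finset.exists_mem_notMem_of_card_lt_card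
    (s := ({x1, σ x1} : Finset (Fin n))) (t := S) (lt_of_le_of_lt Finset.card_le_two (by omega))
  obtain ⟨x3, hx3, hb3⟩ := Finset.exists_mem_notMem_of_card_lt_card
    (s := ({x1, σ x1} : Finset (Fin n)) ∪ {x2, σ x2}) (t := S)
    (lt_of_le_of_lt ((Finset.card_union_le _ _).trans
      (Nat.add_le_add Finset.card_le_two Finset.card_le_two)) (by omega))
  simp only [Finset.mem_insert, Finset.mem_singleton, Finset.mem_union, not_or] at hb2 hb3
  have key : E (σ x1) x1 * E (σ x2) x2 * E (σ x3) x3 + E (σ x1) x2 * E (σ x2) x3 * E (σ x3) x1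
      + E (σ x1) x3 * E (σ x2) x1 * E (σ x3) x2 - E (σ x1) x3 * E (σ x2) x2 * E (σ x3) x1
      - E (σ x1) x2 * E (σ x2) x1 * E (σ x3) x3 - E (σ x1) x1 * E (σ x2) x3 * E (σ x3) x2 = 0 := by
    simp only [E]; ring
  rw [hoff x1 x2 (Ne.symm hb2.1) hb2.2, hoff x1 x3 (Ne.symm hb3.1.1) hb3.1.2,
    hoff x2 x3 (Ne.symm hb3.2.1) hb3.2.2] at key
  refine mul_ne_zero (mul_ne_zero (hdia x1 hx1) (hdia x2 hx2)) (hdia x3 hx3) ?_
  linear_combination key

variable [Fintype F] {X : Subgroup (GL (Fin n) F)}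

section NotFull

variable (hn : 6 ≤ n) (hq : 5 ≤ Fintype.card F) (hN : HasMono X) (hF : ¬ Full X)
include hn hq hN hF

/-- No non-monomial element of `X` maps two coordinate lines to coordinate lines. -/
theorem mono_of_two_lines {G : GL (Fin n) F} (hG : G ∈ X) {k l p q : Fin n} (hkl : k ≠ l)
    (hp : ∀ r, r ≠ p → G.val r k = 0) (hq' : ∀ r, r ≠ q → G.val r l = 0) : IsMono G := by
  by_contra hmono
  have hpq : p ≠ q := fun e => hkl (col_single_inj hp hq' e)
  obtain ⟨z, hzk, hzl, -, -⟩ := exists_ne₄ (show 5 ≤ n by omega) k l k l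
  obtain ⟨σ, hσk, hσl⟩ : ∃ σ : Equiv.Perm (Fin n), σ k = p ∧ σ l = q := by
    refine ⟨Equiv.swap (Equiv.swap k p l) q * Equiv.swap k p, ?_, ?_⟩
    · rw [Equiv.Perm.mul_apply, Equiv.swap_apply_left, Equiv.swap_apply_of_ne_of_ne _ hpq]
      intro e
      have := congrArg (Equiv.swap k p) e
      rw [Equiv.swap_apply_self, Equiv.swap_apply_right] at this
      exact hkl this
    · rw [Equiv.Perm.mul_apply, Equiv.swap_apply_left]
  obtain ⟨d, hd, hdet⟩ := exists_monGL_det_one σ
    (fun c => if c = k then Units.mk0 _ (col_single_ne_zero hp)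
      else if c = l then Units.mk0 _ (col_single_ne_zero hq') else 1) z
  have hM := hN _ (isMono_monGL σ d) hdet
  have fix : ∀ c p', σ c = p' → (∀ r, r ≠ p' → G.val r c = 0) → (d c : F) = G.val p' c →
      Fixes ((monGL σ d)⁻¹ * G) c := by
    intro c p' hc h hdc r
    rw [mul_val_apply, Finset.sum_eq_single p' (fun x _ hx => by rw [h x hx, mul_zero]) (by simp),
      monGL_inv_val, ← hdc]
    by_cases hr : r = c
    · subst hr
      rw [if_pos hc, if_pos rfl, Units.inv_mul]
    · rw [if_neg (fun e => hr (σ.injective (e.trans hc.symm))), zero_mul, if_neg hr]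
  refine hF (full_of_fix_two (by omega) hq hN (mul_mem (inv_mem hM) hG) ?_ hkl
    (fix k p hσk hp (by rw [hd k hzk.symm]; simp))
    (fix l q hσl hq' (by rw [hd l hzl.symm]; simp [hkl.symm])))
  intro h
  exact hmono (by simpa [← mul_assoc] using (isMono_monGL σ d).mul h)

/-- Conjugates of good pair elements are not monomial. -/
theorem not_mono_conj {G : GL (Fin n) F} (hG : G ∈ X) (hmono : ¬ IsMono G) {k l : Fin n} (hkl : k ≠ l)
    {a : Fˣ} (h2 : a * a ≠ 1) (h3 : a * a * a ≠ 1) : ¬ IsMono (biRefl G k l a) := by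
  intro hy
  obtain ⟨R, hout, hin⟩ := H61.Monomial.pair_mono_data hkl h2 h3 hy
  -- two members of `R`
  obtain ⟨r, r', hr, hr', hne⟩ : ∃ r r', r ∈ R ∧ r' ∈ R ∧ r ≠ r' := by
    by_contra hc
    push Not at hc
    obtain ⟨r0, hr0⟩ : ∃ r, G.val r k ≠ 0 := by
      by_contra h
      push Not at h
      exact col_single_ne_zero (g := G) (p := k) (c := k) (fun r _ => h r) (h k)
    have hR := hin r0 (Or.inl hr0)
    refine hkl (col_single_inj (g := G) (p := r0) (q := r0) (fun r hr => ?_) (fun r hr => ?_) rfl)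
    · by_contra h; exact hr (hc r r0 (hin r (Or.inl h)) hR)
    · by_contra h; exact hr (hc r r0 (hin r (Or.inr h)) hR)
  obtain ⟨u, huk, hul, -, -⟩ := exists_ne₄ (show 5 ≤ n by omega) k l k l
  obtain ⟨v, hvk, hvl, hvu, -⟩ := exists_ne₄ (show 5 ≤ n by omega) k l u u
  obtain ⟨w, hwk, hwl, hwu, hwv⟩ := exists_ne₄ (show 5 ≤ n by omega) k l u v
  have hf : ∀ p q, p ≠ k → p ≠ l → q ≠ k → q ≠ l → p ≠ q → IsMono (biRefl G p q a) := by
    intro p q h1 h1' h4 h4' hpq
    by_contra hc
    have fix : ∀ s ∈ R, Fixes (biRefl G p q a) s := fun s hs z => by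
      rw [biRefl_val _ hpq, (hout p h1 h1' s hs).2, (hout q h4 h4' s hs).2]
      ring
    exact hF (full_of_fix_two (by omega) hq hN
      (mul_mem (mul_mem hG (hN _ (isMono_pairGL ..) (pairGL_det hpq a))) (inv_mem hG)) hc hne
      (fix r hr) (fix r' hr'))
  have single : ∀ p q s, p ≠ k → p ≠ l → q ≠ k → q ≠ l → s ≠ k → s ≠ l → p ≠ q → p ≠ s → q ≠ s →
      ∃ t, ∀ z, z ≠ t → G.val z p = 0 := by
    intro p q s p1 p2 q1 q2 s1 s2 hpq hps hqs
    obtain ⟨R1, o1, i1⟩ := H61.Monomial.pair_mono_data hpq h2 h3 (hf p q p1 p2 q1 q2 hpq)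
    obtain ⟨R2, o2, i2⟩ := H61.Monomial.pair_mono_data hps h2 h3 (hf p s p1 p2 s1 s2 hps)
    have others : ∀ z, z ∈ R1 → z ∈ R2 → ∀ x, x ≠ p → G.val z x = 0 := by
      intro z hz1 hz2 x hxp
      by_cases hxq : x = q
      · exact hxq ▸ (o2 q hpq.symm hqs z hz2).1
      · exact (o1 x hxp hxq z hz1).1
    have uniq : ∀ z z', z ∈ R1 → z ∈ R2 → z' ∈ R1 → z' ∈ R2 → z = z' := by
      intro z z' a1 a2 b1 b2
      by_contra hzz
      have e1 := mul_inv_val G z z'
      rw [Finset.sum_eq_single p (fun x _ hx => by rw [others z a1 a2 x hx, zero_mul]) (by simp),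
        if_neg hzz] at e1
      have e2 := mul_inv_val G z z
      rw [Finset.sum_eq_single p (fun x _ hx => by rw [others z a1 a2 x hx, zero_mul]) (by simp),
        if_pos rfl] at e2
      have e3 := mul_inv_val G z' z'
      rw [Finset.sum_eq_single p (fun x _ hx => by rw [others z' b1 b2 x hx, zero_mul]) (by simp),
        if_pos rfl] at e3
      rw [(mul_eq_zero.mp e1).resolve_left (left_ne_zero_of_mul_eq_one e2), mul_zero] at e3
      exact zero_ne_one e3
    obtain ⟨t, ht⟩ : ∃ t, G.val t p ≠ 0 := by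
      by_contra h
      push Not at h
      exact col_single_ne_zero (g := G) (p := p) (c := p) (fun r _ => h r) (h p)
    exact ⟨t, fun z hz => by_contra fun h => hz
      (uniq z t (i1 z (Or.inl h)) (i2 z (Or.inl h)) (i1 t (Or.inl ht)) (i2 t (Or.inl ht)))⟩
  obtain ⟨t, ht⟩ := single u v w huk hul hvk hvl hwk hwl hvu.symm hwu.symm hwv.symm
  obtain ⟨t', ht'⟩ := single v u w hvk hvl huk hul hwk hwl hvu hwv.symm hwu.symm
  exact hmono (mono_of_two_lines hn hq hN hF hG hvu.symm ht ht')

theorem biRefl_mem {g : GL (Fin n) F} (hg : g ∈ X) {i j : Fin n} (hij : i ≠ j) (a : Fˣ) :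
    biRefl g i j a ∈ X :=
  mul_mem (mul_mem hg (hN _ (isMono_pairGL ..) (pairGL_det hij a))) (inv_mem hg)

/-- Conjugates of non-trivial pair elements are not monomial. -/
theorem biRefl_not_mono {g : GL (Fin n) F} (hg : g ∈ X) (hmono : ¬ IsMono g) {i j : Fin n}
    (hij : i ≠ j) {a : Fˣ} (ha : (a : F) ≠ 1) : ¬ IsMono (biRefl g i j a) := by
  intro hf
  obtain ⟨x, x', hxx, hx, hx'⟩ := few_moved hn hf (lam := 1) (fun r => ((a : F) - 1) * g.val r i)
    (fun r => (((a⁻¹ : Fˣ) : F) - 1) * g.val r j) (g⁻¹.val i) (g⁻¹.val j)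
    (fun r c => by rw [biRefl_val _ hij]; ring)
  have coord : ∀ x, Fixes (biRefl g i j a) x → g⁻¹.val i x = 0 ∧ g⁻¹.val j x = 0 := by
    intro x hx
    have e : ∀ z, ((a : F) - 1) * g⁻¹.val i x * g.val z i +
        (((a⁻¹ : Fˣ) : F) - 1) * g⁻¹.val j x * g.val z j = 0 := fun z => by
      have := (biRefl_val g hij a z x).symm.trans (hx z)
      linear_combination this
    have proj : ∀ w, ((a : F) - 1) * g⁻¹.val i x * (if w = i then 1 else 0) +
        (((a⁻¹ : Fˣ) : F) - 1) * g⁻¹.val j x * (if w = j then 1 else 0) = 0 := by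
      intro w
      rw [← inv_mul_val g w i, ← inv_mul_val g w j, Finset.mul_sum, Finset.mul_sum,
        ← Finset.sum_add_distrib]
      refine Finset.sum_eq_zero fun z _ => ?_
      linear_combination g⁻¹.val w z * e z
    constructor
    · have := proj i
      rw [if_pos rfl, if_neg hij] at this
      simpa [sub_ne_zero.mpr ha] using this
    · have := proj j
      rw [if_pos rfl, if_neg hij.symm] at this
      have ha' : ((a⁻¹ : Fˣ) : F) - 1 ≠ 0 := fun e => ha (by
        have h' : a⁻¹ = 1 := Units.ext (sub_eq_zero.mp e)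
        rw [inv_eq_one.mp h', Units.val_one])
      rw [mul_zero, zero_add, mul_one] at this
      exact (mul_eq_zero.mp this).resolve_left ha'
  obtain ⟨b, hb2, hb3⟩ := exists_unit_orders hq
  have fix : ∀ x, Fixes (biRefl g i j a) x → Fixes (biRefl g i j b) x := fun x hx z => by
    rw [biRefl_val _ hij, (coord x hx).1, (coord x hx).2]; ring
  exact hF (full_of_fix_two hn hq hN (biRefl_mem hn hq hN hF hg hij b)
    (not_mono_conj hn hq hN hF hg hmono hij hb2 hb3) hxx (fix x hx) (fix x' hx'))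

/-- A member with a zero outside the fixed coordinate. -/
theorem exists_zero {Z : Finset (Fin n)} (hZ : Z.card ≤ 1) {g : GL (Fin n) F} (hg : g ∈ X)
    (hmono : ¬ IsMono g) (P : GL (Fin n) F → Prop) (hinv : ∀ g, P g → P g⁻¹)
    (hbi : ∀ i j a, i ≠ j → i ∉ Z → j ∉ Z → P (biRefl g i j a))
    (hP : P g) (hkind : (∀ z ∈ Z, Fixes g z) ∨ ∀ z ∈ Z, RowFixes g z) :
    ∃ G ∈ X, ¬ IsMono G ∧ P G ∧ ∃ k x, k ∉ Z ∧ x ∉ Z ∧ G.val k x = 0 := by
  classical
  by_contra hc
  push Not at hc
  have hgn : ∀ k x, k ∉ Z → x ∉ Z → g.val k x ≠ 0 := hc g hg hmono hP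
  have hhn : ∀ k x, k ∉ Z → x ∉ Z → g⁻¹.val k x ≠ 0 :=
    hc g⁻¹ (inv_mem hg) (not_mono_inv hmono) (hinv g hP)
  have heq : ∀ i j k x, i ∉ Z → j ∉ Z → k ∉ Z → x ∉ Z → k ≠ x →
      g.val k i * g⁻¹.val i x = g.val k j * g⁻¹.val j x := by
    intro i j k x hi hj hk hx hkx
    rcases eq_or_ne i j with rfl | hij
    · rfl
    by_contra hne
    have hP0 := mul_ne_zero (hgn k i hk hi) (hhn i x hi hx)
    have hQ0 := mul_ne_zero (hgn k j hk hj) (hhn j x hj hx)
    let a : Fˣ := Units.mk0 _ (div_ne_zero hQ0 hP0)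
    have ha : (a : F) ≠ 1 := fun e => hne ((div_eq_one_iff_eq hP0).mp e).symm
    refine hc _ (biRefl_mem hn hq hN hF hg hij a) (biRefl_not_mono hn hq hN hF hg hmono hij ha)
      (hbi i j a hij hi hj) k x hk hx ?_
    rw [biRefl_val _ hij, if_neg hkx, Units.val_inv_eq_inv_val, Units.val_mk0, inv_div]
    generalize g.val k i * g⁻¹.val i x = A at hP0 ⊢
    generalize g.val k j * g⁻¹.val j x = B at hQ0 ⊢
    field_simp
    ring
  have hcard : 5 ≤ Zᶜ.card := by rw [Finset.card_compl, Fintype.card_fin]; omega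
  have minor : ∀ i j k k', i ∉ Z → j ∉ Z → k ∉ Z → k' ∉ Z →
      g.val k i * g.val k' j = g.val k j * g.val k' i := by
    intro i j k k' hi hj hk hk'
    obtain ⟨x, hx, hxk⟩ := Finset.exists_mem_notMem_of_card_lt_card (s := ({k, k'} : Finset (Fin n)))
      (t := Zᶜ) (lt_of_le_of_lt Finset.card_le_two (by omega))
    simp only [Finset.mem_compl, Finset.mem_insert, Finset.mem_singleton, not_or] at hx hxk
    refine mul_right_cancel₀ (mul_ne_zero (hhn i x hi hx) (hhn j x hj hx)) ?_
    have e := heq i j k x hi hj hk hx (Ne.symm hxk.1)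
    have e' := heq i j k' x hi hj hk' hx (Ne.symm hxk.2)
    linear_combination g.val k' j * g⁻¹.val j x * e - g.val k j * g⁻¹.val j x * e'
  obtain ⟨p, hp, p', hp', hpp⟩ := Finset.one_lt_card.mp (show 1 < Zᶜ.card by omega)
  rw [Finset.mem_compl] at hp hp'
  obtain ⟨c, hc'⟩ : ∃ c, c * g.val p' p = g.val p p := ⟨_, div_mul_cancel₀ _ (hgn p' p hp' hp)⟩
  rcases hkind with hk | hk
  · have hrow : ∀ y, g.val p y = c * g.val p' y := fun y => by
      by_cases hy : y ∈ Z
      · rw [hk y hy p, hk y hy p', if_neg (fun e => hp (by rw [e]; exact hy)),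
          if_neg (fun e => hp' (by rw [e]; exact hy)), mul_zero]
      · refine mul_right_cancel₀ (hgn p' p hp' hp) ?_
        linear_combination -minor p y p p' hp hy hp hp' - g.val p' y * hc'
    have e := mul_inv_val g p p
    rw [Finset.sum_congr rfl fun y _ => by rw [hrow y, mul_assoc], ← Finset.mul_sum, mul_inv_val g p' p,
      if_neg hpp.symm, if_pos rfl, mul_zero] at e
    exact zero_ne_one e
  · obtain ⟨d, hd⟩ : ∃ d, d * g.val p p' = g.val p p := ⟨_, div_mul_cancel₀ _ (hgn p p' hp hp')⟩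
    have hcol : ∀ y, g.val y p = d * g.val y p' := fun y => by
      by_cases hy : y ∈ Z
      · rw [hk y hy p, hk y hy p', if_neg (fun e => hp (by rw [← e]; exact hy)),
          if_neg (fun e => hp' (by rw [← e]; exact hy)), mul_zero]
      · refine mul_right_cancel₀ (hgn p p' hp hp') ?_
        linear_combination -minor p p' p y hp hp' hp hy - g.val y p' * hd
    have e := inv_mul_val g p p
    rw [Finset.sum_congr rfl fun y _ => by rw [hcol y, mul_left_comm], ← Finset.mul_sum,
      inv_mul_val g p p', if_neg hpp, if_pos rfl, mul_zero] at e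
    exact zero_ne_one e

theorem not_fixes {y : GL (Fin n) F} (hy : y ∈ X) (hmono : ¬ IsMono y) (x : Fin n) :
    ¬ Fixes y x := by
  intro hx
  obtain ⟨G, hG, hGm, hGx, r, i, hr, hi, h0⟩ := exists_zero hn hq hN hF (Z := {x}) (by simp) hy hmono
    (fun G => Fixes G x) (fun _ h => h.inv)
    (fun i j a _ hi hj => fixes_biRefl hx (by simpa [eq_comm] using hi) (by simpa [eq_comm] using hj) a)
    hx (Or.inl (by simpa using hx))
  rw [Finset.mem_singleton] at hr hi
  obtain ⟨a, ha⟩ := exists_unit_not_mem ({1} : Finset F) (by simp; omega)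
  rw [Finset.mem_singleton] at ha
  have hA := biRefl_mem hn hq hN hF (inv_mem hG) hr a
  have hAm := biRefl_not_mono hn hq hN hF (inv_mem hG) (not_mono_inv hGm) hr ha
  set A := biRefl G⁻¹ r x a with hAdef
  obtain ⟨k, hkx, hki, -, -⟩ := exists_ne₄ (show 5 ≤ n by omega) x i x x
  obtain ⟨l, hlx, hli, hlk, -⟩ := exists_ne₄ (show 5 ≤ n by omega) x i k k
  have col : ∀ s, s ≠ x → A.val s x = 0 ∧ (s ≠ i → A.val s i = 0) := by
    intro s hs
    refine ⟨?_, fun hsi => ?_⟩ <;> rw [hAdef, biRefl_val _ hr, inv_inv]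
    · rw [hGx r, if_neg hr, hGx.inv s, if_neg hs]; ring
    · rw [h0, hGx.inv s, if_neg hs, if_neg hsi]; ring
  obtain ⟨b, hb2, hb3⟩ := exists_unit_orders hq
  exact hF (full_of_fix_two hn hq hN (biRefl_mem hn hq hN hF (inv_mem hA) hlk.symm b)
    (not_mono_conj hn hq hN hF (inv_mem hA) (not_mono_inv hAm) hlk.symm hb2 hb3) (Ne.symm hi)
    (fixes_biRefl_inv (col k hkx).1 (col l hlx).1 b)
    (fixes_biRefl_inv ((col k hkx).2 hki) ((col l hlx).2 hli) b))

theorem not_rowFixes {y : GL (Fin n) F} (hy : y ∈ X) (hmono : ¬ IsMono y) (r : Fin n) :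
    ¬ RowFixes y r := by
  intro hr
  obtain ⟨G, hG, hGm, hGr, l, c, hl, hc, h0⟩ := exists_zero hn hq hN hF (Z := {r}) (by simp) hy hmono
    (fun G => RowFixes G r) (fun _ h => h.inv)
    (fun i j a hij hi hj => rowFixes_biRefl hij (by rw [hr i, if_neg (by simpa [eq_comm] using hi)])
      (by rw [hr j, if_neg (by simpa [eq_comm] using hj)]) a)
    hr (Or.inr (by simpa using hr))
  rw [Finset.mem_singleton] at hl hc
  obtain ⟨a, ha⟩ := exists_unit_not_mem ({1} : Finset F) (by simp; omega)
  rw [Finset.mem_singleton] at ha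
  exact not_fixes hn hq hN hF (biRefl_mem hn hq hN hF (inv_mem hG) (Ne.symm hl) a)
    (biRefl_not_mono hn hq hN hF (inv_mem hG) (not_mono_inv hGm) (Ne.symm hl) ha) c
    (fixes_biRefl_inv (by rw [hGr c, if_neg (Ne.symm hc)]) h0 a)

/-- A monomial element scaling all but few coordinates gives a contradiction. -/
theorem false_of_twist {g t : GL (Fin n) F} (hg : g ∈ X) (hmono : ¬ IsMono g) (ht : IsMono t)
    (htd : t.val.det = 1) {r i : Fin n} (h0 : g.val r i = 0) {lam d : F} (hlam : lam ≠ 0) (hd : d ≠ 0)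
    (w ψ : Fin n → F) (hw : w r = 0) (hψ : ∑ y, ψ y * g.val y i = 0)
    (hval : ∀ x y, t.val x y =
      lam * (if x = y then 1 else 0) + d * ((if x = r then 1 else 0) * (if y = r then 1 else 0))
        + w x * ψ y) : False := by
  classical
  have htg : ∀ x c, (t * g).val x c =
      lam * g.val x c + d * ((if x = r then 1 else 0) * g.val r c) + w x * ∑ y, ψ y * g.val y c := by
    intro x c
    rw [mul_val_apply]
    simp only [hval, add_mul, Finset.sum_add_distrib, Finset.mul_sum]
    refine congrArg₂ (· + ·) (congrArg₂ (· + ·) ?_ ?_) ?_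
    · rw [Finset.sum_eq_single x (fun y _ hy => by rw [if_neg (Ne.symm hy)]; ring) (by simp),
        if_pos rfl, mul_one]
    · rw [Finset.sum_eq_single r (fun y _ hy => by rw [if_neg hy]; ring) (by simp), if_pos rfl]
      ring
    · exact Finset.sum_congr rfl fun y _ => by ring
  set A := g⁻¹ * (t * g) with hA
  have hAX : A ∈ X := mul_mem (inv_mem hg) (mul_mem (hN t ht htd) hg)
  have hAval : ∀ s c, A.val s c = lam * (if s = c then 1 else 0) + (d * g⁻¹.val s r) * g.val r c
      + (∑ x, g⁻¹.val s x * w x) * ∑ y, ψ y * g.val y c := by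
    intro s c
    rw [hA, mul_val_apply, ← inv_mul_val g s c, Finset.mul_sum, Finset.sum_mul]
    simp only [htg, mul_add, Finset.sum_add_distrib]
    refine congrArg₂ (· + ·) (congrArg₂ (· + ·) ?_ ?_) ?_
    · exact Finset.sum_congr rfl fun y _ => by ring
    · rw [Finset.sum_eq_single r (fun y _ hy => by rw [if_neg hy]; ring) (by simp), if_pos rfl]
      ring
    · exact Finset.sum_congr rfl fun y _ => by ring
  have hcol : ∀ s, A.val s i = lam * (if s = i then 1 else 0) := fun s => by
    rw [hAval, hψ, h0]; ring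
  by_cases hAm : IsMono A
  · obtain ⟨c1, c2, hne, h1, h2⟩ := few_moved hn hAm (fun s => d * g⁻¹.val s r)
      (fun s => ∑ x, g⁻¹.val s x * w x) (g.val r) (fun c => ∑ y, ψ y * g.val y c) hAval
    obtain ⟨c, hci, hc⟩ : ∃ c, c ≠ i ∧ ∀ s, A.val s c = if s = c then lam else 0 := by
      by_cases e : c1 = i
      · exact ⟨c2, fun e' => hne (e.trans e'.symm), h2⟩
      · exact ⟨c1, e, h1⟩
    have hrc : g.val r c = 0 := by
      have e1 : (g * A).val r c = lam * g.val r c := by
        rw [mul_val_apply, Finset.sum_eq_single c (fun y _ hy => by rw [hc y, if_neg hy, mul_zero])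
          (by simp), hc c, if_pos rfl, mul_comm]
      rw [hA, mul_inv_cancel_left, htg, if_pos rfl, hw] at e1
      have : d * g.val r c = 0 := by linear_combination e1
      exact (mul_eq_zero.mp this).resolve_left hd
    obtain ⟨a, ha⟩ := exists_unit_not_mem ({1} : Finset F) (by simp; omega)
    rw [Finset.mem_singleton] at ha
    exact not_rowFixes hn hq hN hF (biRefl_mem hn hq hN hF hg (Ne.symm hci) a)
      (biRefl_not_mono hn hq hN hF hg hmono (Ne.symm hci) ha) r (rowFixes_biRefl (Ne.symm hci) h0 hrc a)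
  · obtain ⟨m, hmi, -, -, -⟩ := exists_ne₄ (show 5 ≤ n by omega) i i i i
    let p : GL (Fin n) F := pairGL i m (Units.mk0 lam hlam)⁻¹
    refine not_fixes hn hq hN hF (mul_mem hAX (hN p (isMono_pairGL ..) (pairGL_det (Ne.symm hmi) _)))
      (fun h => hAm ?_) i fun s => ?_
    · simpa [p, mul_assoc] using h.mul (isMono_pairGL i m (Units.mk0 lam hlam)⁻¹).inv
    · rw [mul_val_apply, Finset.sum_eq_single i (fun y _ hy => by rw [pairGL_val, if_neg hy, mul_zero])
        (by simp), hcol, pairGL_val, if_pos rfl, if_pos rfl]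
      by_cases hs : s = i
      · rw [if_pos hs, Units.val_inv_eq_inv_val, Units.val_mk0]; field_simp
      · rw [if_neg hs]; ring

end NotFull

/-- A subgroup of `GL 6 F` containing all monomial elements of determinant one and a non-monomial
element contains every elementary transvection. -/
theorem full_of_not_mono (hn : n = 6) (hq : 5 ≤ Fintype.card F) (hN : HasMono X)
    {g : GL (Fin n) F} (hg : g ∈ X) (hmono : ¬ IsMono g) : Full X := by
  classical
  by_contra hF
  have hn6 : 6 ≤ n := hn.ge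
  obtain ⟨G, hG, hGm, -, r, i, -, -, h0⟩ := exists_zero hn6 hq hN hF (Z := ∅) (by simp) hg hmono
    (fun _ => True) (fun _ _ => trivial) (fun _ _ _ _ _ _ => trivial) trivial (Or.inl (by simp))
  obtain ⟨a, ha⟩ := exists_unit_not_mem ({1} : Finset F) (by simp; omega)
  rw [Finset.mem_singleton] at ha
  by_cases h2 : ∃ s, s ≠ r ∧ G.val s i = 0
  · obtain ⟨s, hsr, hs⟩ := h2
    exact not_fixes hn6 hq hN hF (biRefl_mem hn6 hq hN hF (inv_mem hG) (Ne.symm hsr) a)
      (biRefl_not_mono hn6 hq hN hF (inv_mem hG) (not_mono_inv hGm) (Ne.symm hsr) ha) i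
      (fixes_biRefl_inv h0 hs a)
  push Not at h2
  by_cases hchar : (2 : F) = 0
  · obtain ⟨e, he⟩ := IsCyclic.exists_ofOrder_eq_natCard (α := Fˣ)
    rw [Nat.card_eq_fintype_card, Fintype.card_units] at he
    haveI : CharP F 2 := CharTwo.of_one_ne_zero_of_two_eq_zero one_ne_zero hchar
    have heven : Fintype.card F % 2 = 0 :=
      FiniteField.even_card_of_char_two (ringChar.eq F 2)
    have he6 : e ^ n ≠ 1 := fun h => by
      have := orderOf_dvd_of_pow_eq_one h
      rw [he, hn] at this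
      have := Nat.le_of_dvd (by norm_num) this
      have : Fintype.card F = 6 ∨ Fintype.card F = 7 := by omega
      rcases this with h' | h'
      · rw [h'] at he
        have := orderOf_dvd_of_pow_eq_one h
        rw [he, hn] at this
        norm_num at this
      · omega
    let d : Fin n → Fˣ := fun c => if c = r then (e ^ (n - 1))⁻¹ else e
    refine false_of_twist hn6 hq hN hF hG hGm (t := monGL 1 d) (isMono_monGL _ _) ?_ h0 e.ne_zero
      (d := (((e ^ (n - 1))⁻¹ : Fˣ) : F) - e) ?_ 0 0 rfl (by simp) ?_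
    · rw [det_monGL, Equiv.Perm.sign_one, ← Finset.mul_prod_erase _ _ (Finset.mem_univ r),
        Finset.prod_congr rfl (g := fun _ => (e : F)) fun c hc => by simp [d, (Finset.mem_erase.mp hc).1],
        Finset.prod_const, Finset.card_erase_of_mem (Finset.mem_univ r), Finset.card_univ, Fintype.card_fin]
      simp [d]
    · refine fun h => he6 ?_
      have h' : (e ^ (n - 1))⁻¹ = e := Units.ext (sub_eq_zero.mp h)
      rw [show n = n - 1 + 1 by omega, pow_succ]
      conv_lhs => arg 2; rw [← h']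
      exact mul_inv_cancel _
    · intro x y
      rw [monGL_val]
      by_cases hxy : x = y
      · subst hxy
        by_cases hxr : x = r
        · simp [d, hxr]
        · simp [d, hxr]
      · rw [if_neg (show ¬ x = (1 : Equiv.Perm (Fin n)) y from hxy)]
        by_cases hxr : x = r
        · simp [hxy, show y ≠ r from fun h => hxy (hxr.trans h.symm)]
        · simp [hxy, hxr]
  · obtain ⟨p, hp, -, -, -⟩ := exists_ne₄ (show 5 ≤ n by omega) r r r r
    obtain ⟨p', hp', hpp, -, -⟩ := exists_ne₄ (show 5 ≤ n by omega) r p r r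
    let α : Fˣ := Units.mk0 _ (h2 p hp) * (Units.mk0 _ (h2 p' hp'))⁻¹
    let d : Fin n → Fˣ := fun c => if c = p' then α else if c = p then α⁻¹ else if c = r then -1 else 1
    refine false_of_twist hn6 hq hN hF hG hGm (t := monGL (Equiv.swap p p') d) (isMono_monGL _ _) ?_ h0
      one_ne_zero (d := -2) (neg_ne_zero.mpr hchar)
      (fun x => if x = p then 1 else if x = p' then -((α⁻¹ : Fˣ) : F) else 0)
      (fun y => if y = p' then (α : F) else if y = p then -1 else 0)
      (by simp [Ne.symm hp, Ne.symm hp']) ?_ ?_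
    · rw [det_monGL, Equiv.Perm.sign_swap (Ne.symm hpp), ← Finset.mul_prod_erase _ _ (Finset.mem_univ r),
        Finset.prod_eq_mul p p' (Ne.symm hpp) (fun c hc hne => by
          simp [d, (Finset.mem_erase.mp hc).1, hne.1, hne.2]) (by simp [hp]) (by simp [hp'])]
      simp [d, Ne.symm hp, Ne.symm hp', Ne.symm hpp]
    · rw [Finset.sum_eq_add p p' (Ne.symm hpp) (fun c _ hc => by simp [hc.1, hc.2]) (by simp) (by simp)]
      have := h2 p' hp'
      simp [α, Ne.symm hpp]
      field_simp
      ring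
    · intro x y
      rw [monGL_val, Equiv.swap_apply_def]
      by_cases h1 : y = p
      · subst h1
        by_cases h3 : x = y
        · subst h3; simp [d, hp, Ne.symm hpp]
        · by_cases h4 : x = p'
          · subst h4; simp [d, hp, hp', hpp, Ne.symm hpp]
          · simp [d, hp, h3, h4, Ne.symm hpp]
      · by_cases h3 : y = p'
        · subst h3
          by_cases h4 : x = p
          · subst h4; simp [d, hp, hp', hpp, Ne.symm hpp]
          · by_cases h5 : x = y
            · subst h5; simp [d, hp', hpp]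
            · simp [d, hp', h4, h5, hpp]
        · by_cases h4 : x = y
          · subst h4
            by_cases h5 : x = r
            · subst h5; simp [d, h1, h3]; norm_num
            · simp [d, h1, h3, h5]
          · by_cases h5 : x = r
            · subst h5; simp [h1, h3, h4, Ne.symm h4, Ne.symm hp, Ne.symm hp']
            · simp [h1, h3, h4, h5]

end H65.MonomialSix
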