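import Cfsg.Prelude.Def_GeometricClasses
import Cfsg.Agent.H42.LinGenDecomp
import Cfsg.Agent.H65.MonomialSix

/-!
Decomposition stabilisers are maximal in `SL 6 F`.
-/

set_option autoImplicit false

namespace H65.DecompSix

open Matrix H61.Monomial H61.Block

variable {F : Type*} [Field F] {n t m : ℕ} {e : Fin n ≃ (_ : Fin t) × Fin m}
variable {X : Subgroup (GL (Fin n) F)}

/-- Centre parts in one block can be made single. -/
theorem normalize_keep (hB : HasBlock e X) {u ψ : Fin n → F} (a : Fin t) (h : PairIn X u ψ) :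
    ∃ u' ψ', PairIn X u' ψ' ∧ (∀ r, (e r).1 ≠ a → u' r = u r ∧ ψ' r = ψ r) ∧
      ((∃ r, (e r).1 = a ∧ ψ r ≠ 0) → ∃ r, (e r).1 = a ∧ ψ' r ≠ 0) ∧
      ((∃ r, (e r).1 = a ∧ u r ≠ 0) → ∃ r, (e r).1 = a ∧ u' r ≠ 0) ∧
      ∀ r r', (e r).1 = a → (e r').1 = a → u' r ≠ 0 → u' r' ≠ 0 → r = r' := by
  classical
  by_cases hu : ∀ r, (e r).1 = a → u r = 0
  · exact ⟨u, ψ, h, fun r _ => ⟨rfl, rfl⟩, id, id, fun r r' hr _ h0 _ => absurd (hu r hr) h0⟩
  push Not at hu
  obtain ⟨w, hwa, hw⟩ := hu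
  let v : Fin n → F := fun r => if (e r).1 = a ∧ r ≠ w then -u r else 0
  have hv : (Pi.single w (u w)⁻¹ : Fin n → F) ⬝ᵥ v = 0 := by simp [v]
  have hT := tr_mem_of_block hB hv (a := a) (fun r hr => by simp [v, hr])
    (fun r hr => single_supp w _ r (hwa ▸ hr))
  have h2 := pair_conj_tr hv hT h
  rw [single_dotProduct, inv_mul_cancel₀ hw, one_smul] at h2
  refine ⟨_, _, h2, fun r hr => ⟨by simp [v, hr], ?_⟩, ?_, fun _ => ⟨w, hwa, by simp [v, hw]⟩, fun r r' hr hr' h0 h0' => ?_⟩
  · have hrw : r ≠ w := fun h' => hr (h' ▸ hwa)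
    simp [hrw]
  · rintro ⟨r, hr, h0⟩
    by_cases hex : ∃ r', (e r').1 = a ∧ r' ≠ w ∧ ψ r' ≠ 0
    · obtain ⟨r', h1, h2, h3⟩ := hex
      exact ⟨r', h1, by simp [h2, h3]⟩
    push Not at hex
    have hψv : ψ ⬝ᵥ v = 0 := Finset.sum_eq_zero fun x _ => by
      by_cases hx : (e x).1 = a ∧ x ≠ w
      · simp [v, hx, hex x hx.1 hx.2]
      · simp only [v, if_neg hx, mul_zero]
    exact ⟨r, hr, by simp [hψv, h0]⟩
  · have key : ∀ r, (e r).1 = a → (u + v) r ≠ 0 → r = w := fun r hr h0 => by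
      by_contra hrw
      simp [v, hr, hrw] at h0
    exact (key r hr h0).trans (key r' hr' h0').symm

/-- A subgroup containing the block monomial group and one further element is full. -/
theorem full_of_not_block [Fintype F] (hn : 6 ≤ n) (hm : 2 ≤ m) (h22 : m = 2 → 3 ≤ Fintype.card F)
    (hB : HasBlock e X) {g : GL (Fin n) F} (hg : g ∈ X) (hblock : ¬ IsBlock e g) : Full X := by
  classical
  obtain ⟨u0, ψ0, h0, a, z0, y, hz0a, hψ0, hy, hya⟩ := exists_pair_of_not_block hm hB hg hblock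
  obtain ⟨u, ψ, h, hout, hkeep, huniq⟩ := normalize hB a h0
  have hy1 : u y ≠ 0 := by rw [(hout y hya).1]; exact hy
  obtain ⟨z, hza, hz⟩ := hkeep ⟨z0, hz0a, hψ0⟩
  -- isolate an axis in block `a`
  have step : ∀ (u ψ : Fin n → F), PairIn X u ψ → u y ≠ 0 → ∀ z w, (e z).1 = a → (e w).1 = a →
      z ≠ w → ψ z ≠ 0 → u w = 0 → Full X := by
    intro u ψ h hy z w hz hw hzw hψ huw
    have h4 : (Pi.single w 1 : Fin n → F) ⬝ᵥ (Pi.single z 1 : Fin n → F) = 0 := by simp [hzw.symm]
    have hT' := tr_mem_of_block hB h4 (a := a) (fun r hr => single_supp z 1 r (hz ▸ hr))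
      (fun r hr => single_supp w 1 r (hw ▸ hr))
    have h5 := pair_conj_tr h4 hT' h
    rw [single_dotProduct, huw, mul_zero, zero_smul, add_zero, dotProduct_single, mul_one] at h5
    have h6 : PairIn X u (Pi.single w (-ψ z)) := by
      have := h5.add_right h.neg_right
      convert this using 1
      ext r
      by_cases hr : r = w
      · subst hr; simp; ring
      · simp [hr]
    exact full_of_axis hm (by omega) hB h6 (fun c hc => single_supp w _ c (hw ▸ hc))
      (fun h' => hψ (by simpa using congrFun h' w)) hy hya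
  by_cases hex : ∃ w, (e w).1 = a ∧ w ≠ z ∧ u w = 0
  · obtain ⟨w, hw, hwz, huw⟩ := hex
    exact step u ψ h hy1 z w hza hw hwz.symm hz huw
  push Not at hex
  obtain ⟨w, hwz, hwa'⟩ := exists_other hm z (e := e)
  have hwa : (e w).1 = a := hwa'.trans hza
  have huw := hex w hwa hwz
  have huz : u z = 0 := by
    by_contra h'
    exact hwz (huniq w z hwa hza huw h')
  have hm2 : ∀ r, (e r).1 = a → r = z ∨ r = w := fun r hr => by
    by_cases h' : r = z
    · exact Or.inl h'
    · exact Or.inr (huniq r w hr hwa (hex r hr h') huw)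
  by_cases hψw : ψ w = 0
  swap
  · exact step u ψ h hy1 w z hwa hza hwz hψw huz
  -- blocks of size two and three coordinates with zero centre
  have hmeq : m = 2 := by
    by_contra hne
    obtain ⟨k, -, hk⟩ := Finset.exists_mem_notMem_of_card_lt_card
      (s := ({(e z).2, (e w).2} : Finset (Fin m))) (t := Finset.univ)
      (lt_of_le_of_lt Finset.card_le_two (by simp; omega))
    simp only [Finset.mem_insert, Finset.mem_singleton, not_or] at hk
    rcases hm2 (e.symm ⟨a, k⟩) (by rw [Equiv.apply_symm_apply]) with h' | h'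
    · exact hk.1 (by rw [← h', Equiv.apply_symm_apply])
    · exact hk.2 (by rw [← h', Equiv.apply_symm_apply])
  obtain ⟨μ, hμ⟩ := exists_unit_not_mem ({1} : Finset F) (by simp; have := h22 hmeq; omega)
  rw [Finset.mem_singleton] at hμ
  have ht : 3 ≤ t := by
    have := Fintype.card_congr e
    simp [hmeq] at this
    omega
  obtain ⟨b, -, hb⟩ := Finset.exists_mem_notMem_of_card_lt_card
    (s := ({a, (e y).1} : Finset (Fin t))) (t := Finset.univ)
    (lt_of_le_of_lt Finset.card_le_two (by simp; omega))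
  simp only [Finset.mem_insert, Finset.mem_singleton, not_or] at hb
  obtain ⟨u1, ψ1, h1, hout1, -, hu1⟩ := normalize hB b h
  obtain ⟨u2, ψ2, h2, hout2, -, hkeep2, hu2⟩ := normalize_keep hB (e y).1 h1
  have zero_in : ∀ (v : Fin n → F) (i : Fin t),
      (∀ r r', (e r).1 = i → (e r').1 = i → v r ≠ 0 → v r' ≠ 0 → r = r') → ∃ c, (e c).1 = i ∧ v c = 0 := by
    intro v i hv
    by_contra hc
    push Not at hc
    have e1 : (e.symm ⟨i, ⟨0, by omega⟩⟩) = e.symm ⟨i, ⟨1, by omega⟩⟩ :=
      hv _ _ (by simp) (by simp) (hc _ (by simp)) (hc _ (by simp))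
    simp at e1
  obtain ⟨c, hc, huc1⟩ := zero_in u1 b hu1
  obtain ⟨c', hc', huc'⟩ := zero_in u2 (e y).1 hu2
  have r1 : ∀ r, (e r).1 = a → (e r).1 ≠ b ∧ (e r).1 ≠ (e y).1 := fun r hr =>
    ⟨fun h' => hb.1 (h'.symm.trans hr), fun h' => hya (h'.symm.trans hr)⟩
  have hay : ∀ r, (e r).1 = a → u2 r = u r ∧ ψ2 r = ψ r := fun r hr =>
    ⟨(hout2 r (r1 r hr).2).1.trans (hout1 r (r1 r hr).1).1,
      (hout2 r (r1 r hr).2).2.trans (hout1 r (r1 r hr).1).2⟩
  obtain ⟨y', hy', hy2⟩ := hkeep2 ⟨y, rfl, by rw [(hout1 y (fun h' => hb.2 h'.symm)).1]; exact hy1⟩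
  have huc : u2 c = 0 := by
    rw [(hout2 c (fun h' => hb.2 (by rw [← hc, h']))).1, huc1]
  have hcz : c ≠ z := fun h' => hb.1 (by rw [← hc, h', hza])
  have hc'z : c' ≠ z := fun h' => hya (by rw [← hc', h', hza])
  have hc'c : c' ≠ c := fun h' => hb.2 (by rw [← hc, ← h', hc'])
  have diag : ∀ (v χ : Fin n → F) (c : Fin n), c ≠ z → v z = 0 → v c = 0 → PairIn X v χ →
      PairIn X v (fun r => χ r * (if r = z then ((μ⁻¹ : Fˣ) : F) else if r = c then (μ : F) else 1) - χ r) := by
    intro v χ c hcz hvz hvc hv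
    have hM : (pairGL z c μ : GL (Fin n) F) ∈ X :=
      hB _ (isBlock_monGL 1 _ id fun _ => rfl) (pairGL_det hcz.symm μ)
    have h' : PairIn X v (fun r => χ r * (if r = z then ((μ⁻¹ : Fˣ) : F) else if r = c then (μ : F) else 1)) := by
      refine pair_of_conj hM hv ?_ ?_
      · ext r
        rw [Matrix.mulVec, dotProduct, Finset.sum_eq_single r
          (fun x _ hx => by rw [pairGL_val, if_neg (Ne.symm hx), zero_mul]) (by simp), pairGL_val, if_pos rfl]
        by_cases hr : r = z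
        · subst hr; simp [hvz]
        · by_cases hr' : r = c
          · subst hr'; simp [hvc]
          · simp [hr, hr']
      · ext r
        rw [Matrix.vecMul, dotProduct, Finset.sum_eq_single r
          (fun x _ hx => by rw [pairGL_val, if_neg hx, mul_zero]) (by simp), pairGL_val, if_pos rfl]
        by_cases hr : r = z
        · subst hr; simp
        · by_cases hr' : r = c
          · subst hr'; simp [hr]
          · simp [hr, hr']
    have := h'.add_right hv.neg_right
    convert this using 1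
    ext r
    simp [sub_eq_add_neg]
  have hu2z : u2 z = 0 := by rw [(hay z hza).1, huz]
  have h3 := diag u2 ψ2 c hcz hu2z huc h2
  have h4 := diag u2 _ c' hc'z hu2z huc' h3
  refine full_of_axis hm (by omega) hB h4 (a := a) (fun r hr => ?_) (fun h' => ?_)
    hy2 (hy' ▸ hya)
  · have hrz : r ≠ z := fun h' => hr (h' ▸ hza)
    by_cases hrc : r = c
    · subst hrc; simp [hrz, Ne.symm hc'c]
    · by_cases hrc' : r = c'
      · subst hrc'; simp [hrz, hrc]
      · simp [hrz, hrc, hrc']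
  · have := congrFun h' z
    simp only [if_true, Pi.zero_apply, (hay z hza).2] at this
    have hne : ((μ⁻¹ : Fˣ) : F) - 1 ≠ 0 := fun e1 => hμ (by
      have e2 : μ⁻¹ = 1 := Units.ext (sub_eq_zero.mp e1)
      rw [inv_eq_one.mp e2, Units.val_one])
    exact mul_ne_zero hz (pow_ne_zero 2 hne) (by linear_combination this)

end H65.DecompSix

open Cfsg

namespace H65.DecompSix

open scoped Matrix

/-- The stabiliser is maximal in `SL_n` in dimension six. -/
theorem maximal {F : Type*} [Field F] [Fintype F] (n : ℕ) (hn : n = 6) {t : ℕ} (m : ℕ) (D : Fin t → Submodule F (Fin n → F)) (hD : Cfsg.Geo.IsMDecomposition m D) (h1 : ¬ (m = 1 ∧ Fintype.card F ≤ 4)) (h2 : ¬ (m = 2 ∧ Fintype.card F = 2)) : Cfsg.Geo.IsMaximalIn (Cfsg.Geo.specialLinear (Fin n) F) (Cfsg.Geo.decompositionStabilizer D ⊓ Cfsg.Geo.specialLinear (Fin n) F) := by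
  classical
  obtain ⟨e, P, hP, hPi⟩ := H42.LinGenDecomp.exists_adapted hD
  have ht := hD.two_le
  have hm := hD.pos
  have hnt : n = t * m := by simpa using Fintype.card_congr e
  set N := Cfsg.Geo.decompositionStabilizer D ⊓ Cfsg.Geo.specialLinear (Fin n) F with hN
  have hdet : ∀ g : GL (Fin n) F, g ∈ Cfsg.Geo.specialLinear (Fin n) F ↔ g.val.det = 1 := fun g => by
    rw [Cfsg.Geo.specialLinear, MonoidHom.mem_ker, Units.ext_iff, Matrix.GeneralLinearGroup.val_det_apply,
      Units.val_one]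
  have hdc : ∀ g : GL (Fin n) F, (P * g * P⁻¹).val.det = g.val.det := fun g => by
    rw [Units.val_mul, Units.val_mul, Matrix.det_mul, Matrix.det_mul, mul_right_comm, ← Matrix.det_mul,
      ← Units.val_mul, mul_inv_cancel, Units.val_one, Matrix.det_one, one_mul]
  have hcol : ∀ (g : GL (Fin n) F) c r,
      (P⁻¹.val *ᵥ ((P * g * P⁻¹).val *ᵥ (P.val *ᵥ Pi.single c 1))) r = g.val r c := fun g c r => by
    rw [Matrix.mulVec_mulVec, Matrix.mulVec_mulVec, ← Units.val_mul, ← Units.val_mul,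
      show P⁻¹ * (P * g * P⁻¹) * P = g by group, Matrix.mulVec_single_one]
    rfl
  have hinto : ∀ g : GL (Fin n) F, P * g * P⁻¹ ∈ N → H61.Block.IsBlock e g := by
    intro g hg
    obtain ⟨σ, hσ⟩ := (Subgroup.mem_inf.mp hg).1
    refine ⟨σ, fun r c hrc => ?_⟩
    have h' : (P * g * P⁻¹).val *ᵥ (P.val *ᵥ Pi.single c 1) ∈ D (σ (e c).1) := by
      rw [← hσ]
      exact ⟨_, hP c, Matrix.toLin'_apply _ _⟩
    rw [← hcol g c r]
    exact hPi _ _ h' r hrc
  have hback : ∀ g : GL (Fin n) F, H61.Block.IsBlock e g → g.val.det = 1 → P * g * P⁻¹ ∈ N := by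
    rintro g ⟨σ, hσ⟩ hg
    set h := P * g * P⁻¹ with hh
    have hmap : ∀ i, (D i).map (Matrix.toLin' (h : Matrix (Fin n) (Fin n) F)) ≤ D (σ i) := by
      rintro i _ ⟨v, hv, rfl⟩
      rw [Matrix.toLin'_apply, hh, Units.val_mul, Units.val_mul, ← Matrix.mulVec_mulVec, ← Matrix.mulVec_mulVec,
        pi_eq_sum_univ' (g.val *ᵥ (P⁻¹.val *ᵥ v)), Matrix.mulVec_sum]
      refine Submodule.sum_mem _ fun r _ => ?_
      rw [Matrix.mulVec_smul]
      by_cases hr : (e r).1 = σ i
      · exact Submodule.smul_mem _ _ (hr ▸ hP r)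
      · have h0 : (g.val *ᵥ (P⁻¹.val *ᵥ v)) r = 0 := by
          show ∑ x, g.val r x * (P⁻¹.val *ᵥ v) x = 0
          refine Finset.sum_eq_zero fun x _ => ?_
          by_cases hx : (e x).1 = i
          · show g.val r x * _ = 0
            rw [hσ r x (hx ▸ hr), zero_mul]
          · show _ * (P⁻¹.val *ᵥ v) x = 0
            rw [hPi i v hv x hx, mul_zero]
        rw [h0, zero_smul]
        exact zero_mem _
    have hsurj : Function.Surjective σ := by
      intro k
      by_contra hk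
      push Not at hk
      have htop : (⊤ : Submodule F (Fin n → F)) ≤ ⨆ j, ⨆ (_ : j ≠ k), D j := by
        have hsur : LinearMap.range (Matrix.toLin' (h : Matrix (Fin n) (Fin n) F)) = ⊤ :=
          LinearMap.range_eq_top.mpr fun y => ⟨h⁻¹.val *ᵥ y, by rw [Matrix.toLin'_apply, H49.gl_mulVec_inv]⟩
        rw [← hsur, LinearMap.range_eq_map, ← hD.iSup_eq_top, Submodule.map_iSup]
        exact iSup_le fun i => (hmap i).trans (le_iSup₂_of_le (σ i) (hk i) le_rfl)
      have : D k = ⊥ := disjoint_self.mp ((hD.indep k).mono_right (le_top.trans htop))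
      have h0 := hD.finrank_eq k
      rw [this, finrank_bot] at h0
      omega
    refine Subgroup.mem_inf.mpr ⟨⟨Equiv.ofBijective σ ⟨Finite.injective_iff_surjective.mpr hsurj, hsurj⟩,
      fun i => ?_⟩, (hdet _).mpr (by rw [hdc, hg])⟩
    refine Submodule.eq_of_le_of_finrank_eq (hmap i) ?_
    have hinj : Function.Injective (Matrix.toLin' (h : Matrix (Fin n) (Fin n) F)) := fun x y hxy => by
      rw [Matrix.toLin'_apply, Matrix.toLin'_apply] at hxy
      exact H49.gl_mulVec_injective h hxy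
    rw [← (Submodule.equivMapOfInjective _ hinj (D i)).finrank_eq]
    exact (hD.finrank_eq i).trans (hD.finrank_eq _).symm
  refine ⟨lt_of_le_of_ne inf_le_right fun heq => ?_, fun M hle hMS => ?_⟩
  · -- the stabiliser is proper
    have x0 : Fin n := e.symm ⟨⟨0, by omega⟩, ⟨0, hm⟩⟩
    obtain ⟨x, y, hxy⟩ : ∃ x y, (e x).1 ≠ (e y).1 :=
      ⟨e.symm ⟨⟨0, by omega⟩, ⟨0, hm⟩⟩, e.symm ⟨⟨1, by omega⟩, ⟨0, hm⟩⟩, by simp⟩
    have hne : x ≠ y := fun h => hxy (by rw [h])
    have hmem : P * H49.elem x y hne 1 * P⁻¹ ∈ N := by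
      rw [heq, hdet, hdc]
      exact H61.Block.tr_det _ _ _
    obtain ⟨σ, hσ⟩ := hinto _ hmem
    have a1 : (e x).1 = σ (e y).1 := by
      by_contra h
      have := hσ x y h
      rw [show H49.elem x y hne (1 : F) = H49.tr (Pi.single x 1) (Pi.single y 1) (by simp [hne]) from rfl,
        H61.Block.tr_val_apply] at this
      simp [hne] at this
    have a2 : (e y).1 = σ (e y).1 := by
      by_contra h
      have := hσ y y h
      rw [show H49.elem x y hne (1 : F) = H49.tr (Pi.single x 1) (Pi.single y 1) (by simp [hne]) from rfl,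
        H61.Block.tr_val_apply] at this
      simp [hne.symm] at this
    exact hxy (a1.trans a2.symm)
  rcases hle.eq_or_lt with h | h
  · exact Or.inl h.symm
  refine Or.inr (le_antisymm hMS ?_)
  obtain ⟨g0, hg0M, hg0N⟩ := SetLike.exists_of_lt h
  let X : Subgroup (GL (Fin n) F) := M.comap (MulAut.conj P).toMonoidHom
  have hX : ∀ g, g ∈ X ↔ P * g * P⁻¹ ∈ M := fun g => Iff.rfl
  set g := P⁻¹ * g0 * P with hg
  have hconj : P * g * P⁻¹ = g0 := by rw [hg]; group
  have hgX : g ∈ X := by rw [hX, hconj]; exact hg0M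
  have hgb : ¬ H61.Block.IsBlock e g := fun hb => by
    refine hg0N (hconj ▸ hback g hb ?_)
    rw [← hdc, hconj]
    exact (hdet _).mp (hMS hg0M)
  have hBX : H61.Block.HasBlock e X := fun g hb hg' => (hX g).mpr (hle (hback g hb hg'))
  have hfull : H61.Monomial.Full X := by
    rcases Nat.lt_or_ge m 2 with h1m | h2m
    · have hm1 : m = 1 := by omega
      subst hm1
      have hbij : ∀ a b : Fin n, (e a).1 = (e b).1 → a = b := fun a b h =>
        e.injective (Sigma.ext h (heq_of_eq (Subsingleton.elim _ _)))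
      refine H65.MonomialSix.full_of_not_mono hn (by by_contra hq; exact h1 ⟨rfl, by omega⟩) (fun g hg hgd => ?_)
        hgX (fun hm' => hgb ?_)
      · refine hBX g ?_ hgd
        obtain ⟨σ, hσ⟩ := hg
        exact ⟨fun i => (e (σ (e.symm ⟨i, 0⟩))).1, fun r c hrc => hσ r c fun h' => hrc (by
          beta_reduce; rw [h', hbij (e.symm ⟨(e c).1, 0⟩) c (by rw [Equiv.apply_symm_apply])])⟩
      · obtain ⟨σ, hσ⟩ := hm'
        exact ⟨fun i => (e (σ (e.symm ⟨i, 0⟩))).1, fun r c hrc => hσ r c fun h' => hrc (by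
          beta_reduce; rw [h', hbij (e.symm ⟨(e c).1, 0⟩) c (by rw [Equiv.apply_symm_apply])])⟩
    · refine full_of_not_block (by omega) h2m (fun hm2 => ?_) hBX hgX hgb
      have hq := Fintype.one_lt_card (α := F)
      by_contra hq3
      exact h2 ⟨hm2, by omega⟩
  intro x hx
  haveI : Nontrivial (Fin n) := Fin.nontrivial_iff_two_le.mpr (by omega)
  have := H49.sl_le_of_elem_mem X hfull (P⁻¹ * x * P) (by
    rw [← hdc, show P * (P⁻¹ * x * P) * P⁻¹ = x by group]; exact (hdet x).mp hx)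
  rwa [hX, show P * (P⁻¹ * x * P) * P⁻¹ = x by group] at this

end H65.DecompSix
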