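import Cfsg.Agent.H64.LikePSL2Zass
import Cfsg.Agent.H65.BrauerFowler
import Cfsg.Agent.H37.SmallIso
import Cfsg.Agent.S0730
import Cfsg.Agent.S0054

/-!
Transitive groups of degree `18` whose point stabilisers have a regular normal subgroup of order `17`.
-/

set_option autoImplicit false

namespace H65.DegreeEighteen

open Subgroup MulAction

universe u

theorem degree_eighteen {Ω : Type u} [Fintype Ω] [DecidableEq Ω] (H : Subgroup (Equiv.Perm Ω))
    [IsPretransitive H Ω] (hΩ : Fintype.card Ω = 18) (x : Ω) (F : Subgroup H)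
    (hFle : F ≤ stabilizer H x) (hFn : (F.subgroupOf (stabilizer H x)).Normal)
    (hFc : Nat.card F = 17) (hfree : ∀ u ∈ F, u ≠ 1 → ∀ y : Ω, u • y = y → y = x) :
    ∃ (K : Type) (_ : Field K) (_ : Fintype K), Fintype.card K = 17 ∧
      (Nonempty (H ≃* Matrix.ProjectiveSpecialLinearGroup (Fin 2) K) ∨
        Nonempty (H ≃* Matrix.ProjGenLinGroup (Fin 2) K)) := by
  classical
  haveI : Finite H := inferInstance
  haveI : FaithfulSMul H Ω := ⟨fun {a b} e => Subtype.ext (Equiv.ext e)⟩
  haveI h17 : Fact (Nat.Prime 17) := ⟨by norm_num⟩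
  have hc' : ∀ y : Ω, Nat.card {w : Ω // w ≠ y} = 17 := fun y => by
    rw [Nat.card_eq_fintype_card, Fintype.card_subtype_compl, Fintype.card_subtype_eq, hΩ]
  have hne : ∀ u ∈ F, ∀ y : Ω, y ≠ x → u • y ≠ x := fun u hu y hy e =>
    hy (smul_left_cancel u (e.trans (show u • x = x from hFle hu).symm))
  have hreg : ∀ y z : Ω, y ≠ x → z ≠ x → ∃! u : F, (u : H) • y = z := by
    intro y z hy hz
    let φ : F → {w : Ω // w ≠ x} := fun u => ⟨(u : H) • y, hne u u.2 y hy⟩
    have hinj : Function.Injective φ := fun u v e => by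
      have e' : (u : H) • y = (v : H) • y := congrArg Subtype.val e
      by_contra huv
      refine hy (hfree ((v : H)⁻¹ * u) (mul_mem (inv_mem v.2) u.2) (fun e1 => huv ?_) y
        (by rw [mul_smul, e', inv_smul_smul]))
      exact Subtype.ext (inv_mul_eq_one.1 e1).symm
    obtain ⟨u, hu⟩ := ((Nat.bijective_iff_injective_and_card φ).2 ⟨hinj, by rw [hFc, hc']⟩).2 ⟨z, hz⟩
    exact ⟨u, congrArg Subtype.val hu,
      fun v hv => hinj (Subtype.ext (hv.trans (congrArg Subtype.val hu).symm))⟩
  obtain ⟨y, hy⟩ : ∃ y : Ω, y ≠ x := Fintype.exists_ne_of_one_lt_card (by omega) x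
  have h2 : IsMultiplyPretransitive H Ω 2 := by
    rw [is_two_pretransitive_iff]
    intro a b c e hab hce
    obtain ⟨g₁, hg₁⟩ := exists_smul_eq H a x
    obtain ⟨g₂, hg₂⟩ := exists_smul_eq H c x
    have hb : g₁ • b ≠ x := fun e1 => hab (smul_left_cancel g₁ (hg₁.trans e1.symm))
    have he : g₂ • e ≠ x := fun e1 => hce (smul_left_cancel g₂ (hg₂.trans e1.symm))
    obtain ⟨u, hu, -⟩ := hreg _ _ hb he
    refine ⟨g₂⁻¹ * (u : H) * g₁, ?_, ?_⟩
    · rw [mul_smul, mul_smul, hg₁, show (u : H) • x = x from hFle u.2, inv_smul_eq_iff]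
      exact hg₂.symm
    · rw [mul_smul, mul_smul, hu, inv_smul_smul]
  have hfix : ∀ g : H, ∀ a b : Ω, a ≠ x → b ≠ x → a ≠ b → g • x = x → g • a = a → g • b = b → g = 1 := by
    intro g a b ha hb hab hgx hga hgb
    obtain ⟨u, hu, huniq⟩ := hreg a b ha hb
    have hmem : g * u * g⁻¹ ∈ F := hFn.conj_mem ⟨u, hFle u.2⟩ u.2 ⟨g, hgx⟩
    have e' : g * u * g⁻¹ = u := congrArg Subtype.val (huniq ⟨g * u * g⁻¹, hmem⟩ (by
      show (g * u * g⁻¹) • a = b
      rw [mul_smul, mul_smul, inv_smul_eq_iff.2 hga.symm, hu, hgb]))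
    have hu1 : u ≠ 1 := fun e0 => hab (by rw [← hu, e0]; exact (one_smul H a).symm)
    have hgen := zpowers_eq_top_of_prime_card hFc hu1
    have hcomm : Commute g (u : H) := mul_inv_eq_iff_eq_mul.1 e'
    refine FaithfulSMul.eq_of_smul_eq_smul (α := Ω) fun w => ?_
    rw [one_smul]
    by_cases hw : w = x
    · rw [hw, hgx]
    obtain ⟨v, hv, -⟩ := hreg a w ha hw
    obtain ⟨i, hi⟩ := mem_zpowers_iff.1 (hgen ▸ mem_top v)
    rw [← hv, ← mul_smul, ← hi, Subgroup.coe_zpow, (hcomm.zpow_right i).eq, mul_smul, hga]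
  have h3 : ∀ g : H, ∀ a b c : Ω, a ≠ b → b ≠ c → a ≠ c → g • a = a → g • b = b → g • c = c → g = 1 := by
    intro g a b c hab hbc hac hga hgb hgc
    obtain ⟨k, hk⟩ := exists_smul_eq H a x
    have hm : ∀ t : Ω, g • t = t → (k * g * k⁻¹) • (k • t) = k • t := fun t ht => by
      rw [mul_smul, mul_smul, inv_smul_smul, ht]
    have := hfix (k * g * k⁻¹) (k • b) (k • c) (fun e => hab (smul_left_cancel k (e.trans hk.symm)).symm)
      (fun e => hac (smul_left_cancel k (e.trans hk.symm)).symm) (fun e => hbc (smul_left_cancel k e))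
      (hk ▸ hm a hga) (hm b hgb) (hm c hgc)
    exact conj_eq_one_iff.1 this
  -- orders
  set d := Nat.card (stabilizer H x ⊓ stabilizer H y : Subgroup H) with hd
  have hxc : Nat.card (stabilizer H x) = 17 * d := by
    let φ : F × ↥(stabilizer H x ⊓ stabilizer H y) → stabilizer H x := fun t =>
      ⟨(t.1 : H) * t.2, mul_mem (hFle t.1.2) t.2.2.1⟩
    have hbij : Function.Bijective φ := by
      constructor
      · rintro ⟨u, g⟩ ⟨u', g'⟩ e
        have e' : (u : H) * g = (u' : H) * g' := congrArg Subtype.val e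
        have hQu : (u : H) • y = (u' : H) • y := by
          have h1 := congrArg (fun t : H => t • y) e'
          simpa only [mul_smul, show (g : H) • y = y from g.2.2, show (g' : H) • y = y from g'.2.2] using h1
        obtain rfl := (hreg y _ hy (hne u' u'.2 y hy)).unique hQu rfl
        exact Prod.ext rfl (Subtype.ext (mul_left_cancel e'))
      · rintro ⟨g, hg⟩
        have hR : g • y ≠ x := fun e => hy (smul_left_cancel g (e.trans (show g • x = x from hg).symm))
        obtain ⟨u, hu, -⟩ := hreg y _ hy hR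
        refine ⟨(u, ⟨(u : H)⁻¹ * g, (stabilizer H x).mul_mem ((stabilizer H x).inv_mem (hFle u.2)) hg, ?_⟩),
          Subtype.ext (mul_inv_cancel_left _ _)⟩
        show ((u : H)⁻¹ * g) • y = y
        rw [mul_smul, ← hu, inv_smul_smul]
    rw [← Nat.card_congr (Equiv.ofBijective φ hbij), Nat.card_prod, hFc]
  have hHc : Nat.card H = 18 * (17 * d) := by
    rw [← hxc, ← hΩ, ← Nat.card_eq_fintype_card, ← index_stabilizer_of_transitive H x,
      Subgroup.index_mul_card]
  have hd16 : d ∣ 16 := by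
    set A := stabilizer H x ⊓ stabilizer H y
    letI : MulAction A {w : Ω // w ≠ x ∧ w ≠ y} :=
      { smul := fun g w => ⟨(g : H) • w.1,
          fun e => w.2.1 (smul_left_cancel (g : H) (e.trans (show (g : H) • x = x from g.2.1).symm)),
          fun e => w.2.2 (smul_left_cancel (g : H) (e.trans (show (g : H) • y = y from g.2.2).symm))⟩
        one_smul := fun w => Subtype.ext (one_smul H w.1)
        mul_smul := fun g g' w => Subtype.ext (mul_smul (g : H) (g' : H) w.1) }
    have := H64.semireg_dvd (H := A) (α := {w : Ω // w ≠ x ∧ w ≠ y}) fun w =>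
      (Subgroup.eq_bot_iff_forall _).2 fun g hg => Subtype.ext
        (hfix g y w.1 hy w.2.1 (Ne.symm w.2.2) g.2.1 g.2.2 (congrArg Subtype.val hg))
    have he : Nat.card {w : Ω // w ≠ x ∧ w ≠ y} = 16 := by
      rw [Nat.card_eq_fintype_card, Fintype.card_subtype,
        show (Finset.univ.filter fun w : Ω => w ≠ x ∧ w ≠ y) = Finset.univ \ {x, y} by ext w; simp,
        Finset.card_sdiff, Finset.card_univ, hΩ, Finset.inter_univ, Finset.card_pair (Ne.symm hy)]
    rwa [he] at this
  have hd1 : d ≠ 1 := by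
    intro e
    rw [e] at hHc
    obtain ⟨M, hM⟩ := H65.exists_index_two_of_card_mod_four (G := H) (by rw [hHc])
    haveI : M.Normal := normal_of_index_eq_two hM
    have hFM : F ≤ M := fun v hv => by
      have h1 : v ^ 17 = 1 := orderOf_dvd_iff_pow_eq_one.1 (hFc ▸ Subgroup.orderOf_dvd_natCard F hv)
      have h2 : (v ^ 9) ^ 2 = v := by rw [← pow_mul, show 9 * 2 = 17 + 1 by rfl, pow_succ, h1, one_mul]
      exact h2 ▸ sq_mem_of_index_two hM _
    have hMc : Nat.card M = 153 := by
      have := M.card_mul_index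
      rw [hM, hHc] at this
      omega
    have hp : ∀ g : H, IsPGroup 17 ((F.map (MulAut.conj g).toMonoidHom).subgroupOf M) := fun g => by
      refine IsPGroup.comap_subtype (IsPGroup.of_card (n := 1) ?_)
      rw [card_map_of_injective (MulEquiv.injective _), hFc, pow_one]
    obtain ⟨P, hP⟩ := (hp 1).exists_le_sylow
    have hPc : Nat.card P = 17 := by
      rw [P.card_eq_multiplicity, hMc,
        show (153 : ℕ) = 17 * 9 by rfl, Nat.factorization_mul_apply_of_coprime (by norm_num),
        Nat.Prime.factorization_self (by norm_num), Nat.factorization_eq_zero_of_not_dvd (by norm_num)]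
      norm_num
    have huniq : Nat.card (Sylow 17 M) = 1 := by
      have h1 := P.card_dvd_index
      have h2 : (P : Subgroup M).index = 9 := by
        have := (P : Subgroup M).card_mul_index
        rw [hPc, hMc] at this
        omega
      rw [h2] at h1
      have h3 := card_sylow_modEq_one 17 M
      have := Nat.le_of_dvd (by norm_num) h1
      rw [Nat.ModEq] at h3
      omega
    haveI := (Nat.card_eq_one_iff_unique.1 huniq).1
    -- every conjugate of `F` is `F`
    have hFnorm : ∀ g : H, F.map (MulAut.conj g).toMonoidHom = F := fun g => by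
      obtain ⟨Q, hQ⟩ := (hp g).exists_le_sylow
      rw [Subsingleton.elim Q P] at hQ
      have hle : ∀ k : H, F.map (MulAut.conj k).toMonoidHom ≤ M := fun k => by
        rintro _ ⟨v, hv, rfl⟩
        exact ‹M.Normal›.conj_mem v (hFM hv) k
      have hc : ∀ k : H, Nat.card ((F.map (MulAut.conj k).toMonoidHom).subgroupOf M) = 17 := fun k => by
        rw [Nat.card_congr (subgroupOfEquivOfLe (hle k)).toEquiv,
          card_map_of_injective (MulEquiv.injective _), hFc]
      have e1 := eq_of_le_of_card_ge hQ (by rw [hc, hPc])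
      have e2 := eq_of_le_of_card_ge hP (by rw [hc, hPc])
      have := (subgroupOf_inj.1 (e1.trans e2.symm))
      rw [inf_eq_left.2 (hle g), inf_eq_left.2 (hle 1)] at this
      rw [this]
      ext v
      simp
    obtain ⟨v, hv⟩ : ∃ v : F, v ≠ 1 := by
      haveI : Nontrivial F := Finite.one_lt_card_iff_nontrivial.1 (by omega)
      exact exists_ne 1
    refine hv (Subtype.ext (FaithfulSMul.eq_of_smul_eq_smul (α := Ω) fun w => ?_))
    obtain ⟨g, rfl⟩ := exists_smul_eq H x w
    have hmem : g⁻¹ * (v : H) * g ∈ F := by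
      have h1 : g⁻¹ * (v : H) * g ∈ F.map (MulAut.conj g⁻¹).toMonoidHom := ⟨v, v.2, by simp⟩
      rwa [hFnorm] at h1
    rw [Subgroup.coe_one, one_smul, ← inv_smul_eq_iff, ← mul_smul, ← mul_smul]
    exact hFle hmem
  -- Zassenhaus
  have hZ : Cfsg.IsZassenhausGroup H Ω := by
    refine ⟨inferInstance, h2, h3, ?_, fun N hN hNt => ?_⟩
    · haveI : Nontrivial (stabilizer H x ⊓ stabilizer H y : Subgroup H) :=
        Finite.one_lt_card_iff_nontrivial.1 (by
          have : 0 < d := Nat.card_pos
          omega)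
      obtain ⟨⟨g, hgx, hgy⟩, hg⟩ := exists_ne (1 : (stabilizer H x ⊓ stabilizer H y : Subgroup H))
      exact ⟨g, fun e => hg (Subtype.ext e), x, y, Ne.symm hy, hgx, hgy⟩
    · by_contra hcon
      push Not at hcon
      haveI := hN
      haveI : Nonempty Ω := ⟨x⟩
      obtain ⟨-, p, hp, hexp⟩ := Cfsg.Agent.S0054.result h2 N hNt hcon
      have hNc : Nat.card N = 18 := by
        have := MulAction.index_stabilizer_of_transitive N x
        rwa [hcon x, Subgroup.index_bot, Nat.card_eq_fintype_card (α := Ω), hΩ] at this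
      have key : ∀ r : ℕ, r.Prime → r ∣ 18 → r = p := fun r hr hr18 => by
        haveI := Fact.mk hr
        obtain ⟨n, hn⟩ := exists_prime_orderOf_dvd_card' r (hNc ▸ hr18)
        have h1 : orderOf n ∣ p := orderOf_dvd_of_pow_eq_one (Subtype.ext (hexp n n.2))
        rw [hn] at h1
        exact (Nat.prime_dvd_prime_iff_eq hr hp).1 h1
      have e1 := key 2 Nat.prime_two (by norm_num)
      have e2 := key 3 Nat.prime_three (by norm_num)
      omega
  haveI : IsCyclic F := isCyclic_of_prime_card hFc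
  have hFab : IsMulCommutative F := inferInstance
  rcases Cfsg.Agent.S0731.result hZ x F hFle hFn hFab hreg with ⟨h3', hsh⟩ | ⟨K, i1, i2, hK, ⟨e⟩⟩
  · obtain ⟨K, i1, i2, hK, hiso⟩ := Cfsg.Agent.S0730.result (α := Ω) (p := 17) (f := 1) (by norm_num)
      (by norm_num) odd_one (by rw [hΩ]; norm_num) H h3' hsh
    exact ⟨K, i1, i2, by rw [hK]; norm_num, Or.inr hiso⟩
  · refine ⟨K, i1, i2, ?_, Or.inl ⟨e⟩⟩
    have hodd : Odd (Nat.card K) := by
      rw [Nat.card_eq_fintype_card, Nat.odd_iff]
      exact FiniteField.odd_card_of_char_ne_two hK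
    have hc := H37.card_PSL_two (F := K)
    rw [← Nat.card_congr e.toEquiv, hHc] at hc
    rw [← Nat.card_eq_fintype_card]
    generalize hq : Nat.card K = q at hc hodd ⊢
    obtain ⟨k, rfl⟩ := hodd
    rw [show 2 * k + 1 - 1 = 2 * k by omega, Nat.gcd_eq_left (dvd_mul_right 2 k)] at hc
    have hd' : d ≤ 16 := Nat.le_of_dvd (by norm_num) hd16
    have hk : k ≤ 10 := by
      by_contra hlt
      push Not at hlt
      have h1 : 23 * (23 ^ 2 - 1) ≤ (2 * k + 1) * ((2 * k + 1) ^ 2 - 1) :=
        Nat.mul_le_mul (by omega) (Nat.sub_le_sub_right (Nat.pow_le_pow_left (by omega) 2) 1)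
      omega
    have hd0 : 0 < d := Nat.card_pos
    interval_cases k <;> (norm_num at hc ⊢ <;> omega)

end H65.DegreeEighteen
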