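import Cfsg.Agent.H22.SectionOrth
import Cfsg.Agent.H20.SecondMainApps
import Cfsg.Agent.H68.DihedralData

/-!
The columns of the principal `2`-block on the cyclic part of a dihedral Sylow `2`-subgroup.
-/

set_option autoImplicit false

namespace H65

open Subgroup Cfsg H68
open scoped ComplexConjugate

universe u

variable {G : Type u} [Group G] [Fintype G]

theorem DB_dih_of_iso {S : Subgroup G} (hS : IsPGroup 2 S) {m : ℕ} (hm : 3 ≤ m)
    (e : S ≃* DihedralGroup m) {σ : G} (hσ : σ ∈ S) (hσo : orderOf σ = m) : Dih S σ := by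
  obtain ⟨c, h, hc⟩ := exists_dih hS (by omega) e
  have hσc : σ ∈ zpowers c := by_contra fun hn => by
    have h1 := orderOf_dvd_of_pow_eq_one (show σ ^ 2 = 1 by rw [pow_two]; exact h.invol σ hσ hn)
    rw [hσo] at h1
    have := Nat.le_of_dvd two_pos h1
    omega
  have hz : zpowers σ = zpowers c :=
    Subgroup.eq_of_le_of_card_ge (zpowers_le.2 hσc)
      (by rw [Nat.card_zpowers, Nat.card_zpowers, hσo, hc])
  have ho : orderOf σ = orderOf c := hσo.trans hc.symm
  exact ⟨hσ, ho ▸ h.ord, hz ▸ h.invol, hz ▸ h.idx, hz ▸ h.exists_out, ho ▸ h.card_eq⟩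

omit [Fintype G] in
theorem mem_normalizer_iff_conj_smul_eq' [Finite G] {g u v : G} (hz : zpowers v = zpowers u)
    (hg : g * u * g⁻¹ = v) : g ∈ normalizer (zpowers u : Set G) := by
  have h : (zpowers u).map (MulAut.conj g).toMonoidHom = zpowers u := by
    rw [MonoidHom.map_zpowers]
    show zpowers (g * u * g⁻¹) = _
    rw [hg, hz]
  refine mem_normalizer_iff.2 fun z => ⟨fun hz' => ?_, fun hz' => ?_⟩
  · rw [← h]; exact ⟨z, hz', rfl⟩
  · rw [← h] at hz'
    obtain ⟨a, ha, he⟩ := hz'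
    exact (MulAut.conj g).injective he ▸ ha

omit [Fintype G] in
/-- A `2`-element centralised by a Sylow `2`-subgroup lies in it. -/
theorem mem_of_commuting [Finite G] (T : Sylow 2 G) {u : G} {a : ℕ} (ha : orderOf u = 2 ^ a)
    (h : ∀ w ∈ (T : Subgroup G), w * u = u * w) : u ∈ (T : Subgroup G) := by
  haveI : Fact (Nat.Prime 2) := ⟨Nat.prime_two⟩
  have hp : IsPGroup 2 (zpowers u) := IsPGroup.of_card (n := a) (by rw [Nat.card_zpowers, ha])
  have hn : zpowers u ≤ normalizer ((T : Subgroup G) : Set G) := by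
    refine zpowers_le.2 (mem_normalizer_iff.2 fun z => ⟨fun hz => ?_, fun hz => ?_⟩)
    · rwa [← h z hz, mul_inv_cancel_right]
    · have e := h _ hz
      rw [show u * z * u⁻¹ * u = u * z by group, mul_left_cancel_iff] at e
      rwa [← e] at hz
  have hsup := hp.to_sup_of_normal_right' T.isPGroup' hn
  exact (T.is_maximal' hsup le_sup_right).le (mem_sup_left (mem_zpowers u))

variable (P : Sylow 2 G) {σ : G} (hD : Dih (P : Subgroup G) σ)
include hD

theorem DB_exists_pow {u : G} (hu : u ∈ zpowers σ) (hu1 : u ≠ 1) :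
    ∃ e : ℕ, u ^ e = dz σ ∧ orderOf u = 2 * e ∧ 0 < e := by
  obtain ⟨k, hk, hσk⟩ := hD.ord
  have hdvd : orderOf u ∣ 2 ^ k := hσk ▸ Nat.card_zpowers σ ▸ Subgroup.orderOf_dvd_natCard _ hu
  obtain ⟨i, -, hi⟩ := (Nat.dvd_prime_pow Nat.prime_two).1 hdvd
  have hi0 : i ≠ 0 := fun e => hu1 (orderOf_eq_one_iff.1 (by rw [hi, e, pow_zero]))
  refine ⟨2 ^ (i - 1), hD.dz_unique ?_ (pow_mem hu _),
    by rw [hi, ← pow_succ', Nat.sub_add_cancel (by omega)], Nat.two_pow_pos _⟩
  rw [orderOf_pow' _ (pow_ne_zero _ two_ne_zero), hi,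
    Nat.gcd_eq_right (pow_dvd_pow 2 (Nat.sub_le i 1)), Nat.pow_div (Nat.sub_le i 1) two_pos,
    show i - (i - 1) = 1 by omega, pow_one]

/-- Elements of the cyclic part fused in `G` are equal or inverse. -/
theorem DB_fusion {u v : G} (hu : u ∈ zpowers σ) (hv : v ∈ zpowers σ) (huv : IsConj u v) :
    v = u ∨ v = u⁻¹ := by
  obtain ⟨g, hg⟩ := isConj_iff.1 huv
  have hord : orderOf v = orderOf u := by rw [← hg, ← MulAut.conj_apply, MulEquiv.orderOf_eq]
  by_cases hu1 : u = 1
  · left; rw [← hg, hu1]; group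
  obtain ⟨e, hue, heo, he0⟩ := DB_exists_pow P hD hu hu1
  obtain ⟨kσ, -, hσk⟩ := hD.ord
  -- the same cyclic subgroup
  have hz : zpowers v = zpowers u := by
    have hle : ∀ w ∈ zpowers σ, ∃ i : ℕ, w = σ ^ i := fun w hw =>
      ((mem_powers_iff_mem_zpowers (x := σ)).2 hw).imp fun i hi => hi.symm
    obtain ⟨i, rfl⟩ := hle u hu
    obtain ⟨j, rfl⟩ := hle v hv
    refine Subgroup.eq_of_le_of_card_ge (zpowers_le.2 ?_)
      (by rw [Nat.card_zpowers, Nat.card_zpowers, hord])
    rw [orderOf_pow, orderOf_pow] at hord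
    have hgcd : Nat.gcd (orderOf σ) j = Nat.gcd (orderOf σ) i :=
      Nat.eq_of_mul_eq_mul_left (Nat.div_pos (Nat.gcd_le_left j (orderOf_pos σ))
        (Nat.gcd_pos_of_pos_left j (orderOf_pos σ))) (by
        rw [Nat.div_mul_cancel (Nat.gcd_dvd_left _ _), hord,
          Nat.div_mul_cancel (Nat.gcd_dvd_left _ _)])
    have hmem : ∀ r : ℕ, σ ^ Nat.gcd (orderOf σ) r ∈ zpowers (σ ^ r) := fun r => by
      refine ⟨Nat.gcdB (orderOf σ) r, ?_⟩
      show (σ ^ r) ^ _ = _
      rw [← zpow_natCast σ r, ← zpow_mul, ← zpow_natCast σ (Nat.gcd _ _), Nat.gcd_eq_gcd_ab,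
        zpow_add, zpow_mul σ (orderOf σ : ℤ), zpow_natCast, pow_orderOf_eq_one, one_zpow, one_mul]
    obtain ⟨q, hq⟩ := hgcd ▸ Nat.gcd_dvd_right (orderOf σ) j
    rw [hq, pow_mul]
    exact pow_mem (hmem i) q
  set N := normalizer (zpowers u : Set G) with hN
  have hgN : g ∈ N := mem_normalizer_iff_conj_smul_eq' hz hg
  -- the elements inverting or centralising `u`
  let V : Subgroup G :=
    { carrier := {x | x * u * x⁻¹ = u ∨ x * u * x⁻¹ = u⁻¹}
      one_mem' := Or.inl (by group)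
      mul_mem' := by
        intro a b ha hb
        have e : a * b * u * (a * b)⁻¹ = a * (b * u * b⁻¹) * a⁻¹ := by group
        rcases hb with hb | hb <;> rcases ha with ha | ha
        · exact Or.inl (by rw [e, hb, ha])
        · exact Or.inr (by rw [e, hb, ha])
        · exact Or.inr (by rw [e, hb, ← conj_inv, ha])
        · exact Or.inl (by rw [e, hb, ← conj_inv, ha, inv_inv])
      inv_mem' := by
        intro a ha
        rcases ha with ha | ha
        · refine Or.inl ?_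
          calc a⁻¹ * u * a⁻¹⁻¹ = a⁻¹ * (a * u * a⁻¹) * a := by rw [ha, inv_inv]
            _ = u := by group
        · refine Or.inr ?_
          calc a⁻¹ * u * a⁻¹⁻¹ = a⁻¹ * (a * u * a⁻¹)⁻¹ * a := by rw [ha, inv_inv, inv_inv]
            _ = u⁻¹ := by group }
  obtain ⟨i, rfl⟩ := hu
  have hPV : (P : Subgroup G) ≤ V := fun x hx => by
    by_cases hxA : x ∈ zpowers σ
    · obtain ⟨j, rfl⟩ := hxA
      exact Or.inl (by group)
    · exact Or.inr (by rw [show x * (fun z : ℤ => σ ^ z) i * x⁻¹ = σ ^ (-i) from hD.conj_zpow' hx hxA i, zpow_neg])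
  set u := (fun z : ℤ => σ ^ z) i with hudef
  have hPN : (P : Subgroup G) ≤ N := fun x hx => by
    rcases hPV hx with h | h
    · exact mem_normalizer_iff_conj_smul_eq' (v := u) rfl h
    · exact mem_normalizer_iff_conj_smul_eq' (v := u⁻¹) zpowers_inv h
  have hodd : ∀ x ∈ N, Odd (orderOf x) → x ∈ V := by
    intro x hx hxo
    obtain ⟨j, hj⟩ := mem_zpowers_iff.1 ((mem_normalizer_iff.1 hx u).1 (mem_zpowers u))
    obtain ⟨r, hr⟩ : ∃ r, orderOf u = 2 ^ r := by
      have hdvd : orderOf u ∣ 2 ^ kσ :=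
        hσk ▸ Nat.card_zpowers σ ▸ Subgroup.orderOf_dvd_natCard _ ⟨i, rfl⟩
      obtain ⟨r, -, hr⟩ := (Nat.dvd_prime_pow Nat.prime_two).1 hdvd
      exact ⟨r, hr⟩
    refine Or.inl ?_
    rw [(commute_of_odd_of_conj_pow hxo hr hj.symm).eq, mul_inv_cancel_right]
  have htwo : ∀ x ∈ N, ∀ a, orderOf x = 2 ^ a → x ∈ V := by
    intro x hx a ha
    have hp : IsPGroup 2 (zpowers (⟨x, hx⟩ : N)) :=
      IsPGroup.of_card (n := a) (by rw [Nat.card_zpowers, ← Subgroup.orderOf_coe]; exact ha)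
    obtain ⟨Q, hQ⟩ := hp.exists_le_sylow
    obtain ⟨c, hc⟩ := MulAction.exists_smul_eq N Q (P.subtype hPN)
    have hmem : c * (⟨x, hx⟩ : N) * c⁻¹ ∈ P.subtype hPN := by
      rw [← hc]
      show c * (⟨x, hx⟩ : N) * c⁻¹ ∈ ((c • Q : Sylow 2 N) : Subgroup N)
      rw [Sylow.coe_subgroup_smul]
      exact smul_mem_pointwise_smul _ (MulAut.conj c) _ (hQ (mem_zpowers _))
    have hV := hPV (show (c : G) * x * (c : G)⁻¹ ∈ (P : Subgroup G) from hmem)
    obtain ⟨j, hj⟩ := mem_zpowers_iff.1 ((mem_normalizer_iff.1 c.2 u).1 (mem_zpowers u))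
    have hc' : (c : G)⁻¹ * (u ^ j) * c = u := by rw [hj]; group
    have e : x * u * x⁻¹ =
        (c : G)⁻¹ * ((c * x * (c : G)⁻¹) * u * (c * x * (c : G)⁻¹)⁻¹) ^ j * c := by
      rw [conj_zpow, hj]; group
    rcases hV with h | h
    · left; rw [e, h, hc']
    · right
      calc x * u * x⁻¹ = (c : G)⁻¹ * (u⁻¹) ^ j * c := by rw [e, h]
        _ = ((c : G)⁻¹ * (u ^ j) * c)⁻¹ := by rw [inv_zpow]; group
        _ = u⁻¹ := by rw [hc']
  have hgV : g ∈ V := by
    obtain ⟨a, r, hr, hgo⟩ := Nat.exists_eq_two_pow_mul_odd (orderOf_pos g).ne'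
    have h1 : g ^ (2 ^ a) ∈ V := hodd _ (pow_mem hgN _) (by
      rw [orderOf_pow, hgo, Nat.gcd_mul_right_left, Nat.mul_div_cancel_left _ (Nat.two_pow_pos a)]
      exact hr)
    have h2 : g ^ r ∈ V := htwo _ (pow_mem hgN _) a (by
      rw [orderOf_pow, hgo, Nat.gcd_mul_left_left, Nat.mul_div_cancel _ hr.pos])
    have hcop : Nat.gcd (2 ^ a) r = 1 :=
      Nat.Coprime.pow_left a ((Nat.prime_two.coprime_iff_not_dvd).2 hr.not_two_dvd_nat)
    rw [show g = (g ^ (2 ^ a)) ^ Nat.gcdA (2 ^ a) r * (g ^ r) ^ Nat.gcdB (2 ^ a) r by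
      rw [← zpow_natCast g (2 ^ a), ← zpow_natCast g r, ← zpow_mul, ← zpow_mul, ← zpow_add,
        ← Nat.gcd_eq_gcd_ab, hcop, Nat.cast_one, zpow_one]]
    exact mul_mem (zpow_mem h1 _) (zpow_mem h2 _)
  rcases hgV with h | h
  · exact Or.inl (hg.symm.trans h)
  · exact Or.inr (hg.symm.trans h)

/-- A non-trivial element of the cyclic part is conjugate to its inverse. -/
theorem DB_inv_conj {u : G} (hu : u ∈ zpowers σ) : IsConj u u⁻¹ := by
  obtain ⟨y, hy, hyA⟩ := hD.exists_out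
  obtain ⟨i, rfl⟩ := hu
  exact isConj_iff.2 ⟨y, by rw [← zpow_neg]; exact hD.conj_zpow' hy hyA i⟩

theorem DB_complement {m : ℕ} (e : (P : Subgroup G) ≃* DihedralGroup m) {u : G} (hu : u ∈ zpowers σ)
    (hu1 : u ≠ 1) : HasNormalPComplement 2 (centralizer ({u} : Set G)) := by
  haveI : Fact (Nat.Prime 2) := ⟨Nat.prime_two⟩
  obtain ⟨r, hr, -, -⟩ := DB_exists_pow P hD hu hu1
  obtain ⟨N, hN, hNodd, k, hk⟩ := exists_complement_of_dihedral P m e hD.dz_two
  haveI := hN
  have h : HasNormalPComplement 2 (centralizer ({dz σ} : Set G)) :=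
    H5.hasNormalPComplement_of_normal N hNodd.not_two_dvd_nat ⟨k, hk⟩
  have hle : centralizer ({u} : Set G) ≤ centralizer ({dz σ} : Set G) := fun c hc => by
    rw [mem_centralizer_singleton_iff] at hc ⊢
    rw [← hr]
    exact Commute.pow_right hc r
  exact H5.hasNormalPComplement_of_injective (Subgroup.inclusion hle) (Subgroup.inclusion_injective hle) h

open scoped Classical in
theorem DB_factorization {k : ℕ} (hk : orderOf σ = 2 ^ (k + 2)) {u : G} (hu : u ∈ zpowers σ)
    (hu1 : u ≠ 1) :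
    (Nat.card (centralizer ({u} : Set G))).factorization 2 =
      if u⁻¹ = u then k + 3 else k + 2 := by
  haveI : Fact (Nat.Prime 2) := ⟨Nat.prime_two⟩
  have hcard : Nat.card (P : Subgroup G) = 2 ^ (k + 3) := by rw [hD.card_eq, hk]; ring
  have hG : (Nat.card G).factorization 2 = k + 3 := by
    have h := P.card_eq_multiplicity
    rw [hcard] at h
    exact (Nat.pow_right_injective le_rfl h).symm
  set C := centralizer ({u} : Set G)
  have hle : (Nat.card C).factorization 2 ≤ k + 3 :=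
    hG ▸ ((Nat.factorization_le_iff_dvd Nat.card_pos.ne' Nat.card_pos.ne').2
      (card_subgroup_dvd_card C)) 2
  have hge : ∀ (H : Subgroup G) (a : ℕ), Nat.card H = 2 ^ a → H ≤ C → a ≤ (Nat.card C).factorization 2 :=
    fun H a ha hH => (Nat.prime_two.pow_dvd_iff_le_factorization Nat.card_pos.ne').1
      (ha ▸ card_dvd_of_le hH)
  have hσC : zpowers σ ≤ C := fun w hw => mem_centralizer_singleton_iff.2 (by
    obtain ⟨i, rfl⟩ := hw
    obtain ⟨j, rfl⟩ := hu
    show σ ^ i * σ ^ j = σ ^ j * σ ^ i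
    rw [← zpow_add, ← zpow_add, add_comm])
  have hge2 := hge (zpowers σ) (k + 2) (by rw [Nat.card_zpowers, hk]) hσC
  split_ifs with hinv
  · refine le_antisymm hle (hge P (k + 3) hcard fun w hw => ?_)
    have huu : u = dz σ := hD.dz_unique (orderOf_eq_prime (by
      rw [pow_two]; nth_rewrite 1 [← hinv]; exact inv_mul_cancel u) hu1) hu
    rw [mem_centralizer_singleton_iff, huu]
    exact hD.dz_comm hw
  · refine le_antisymm (Nat.lt_succ_iff.1 (lt_of_le_of_ne hle fun heq => hinv ?_)) hge2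
    obtain ⟨T⟩ : Nonempty (Sylow 2 C) := inferInstance
    have hT : Nat.card ((T : Subgroup C).map C.subtype) = 2 ^ (k + 3) := by
      rw [card_map_of_injective C.subtype_injective, T.card_eq_multiplicity, heq]
    let T' : Sylow 2 G := Sylow.ofCard ((T : Subgroup C).map C.subtype) (by rw [hT, hG])
    obtain ⟨g, hg⟩ := MulAction.exists_smul_eq G T' P
    -- the conjugate of `u` is central in `P`
    have hT'le : (T' : Subgroup G) ≤ C := by rw [Sylow.coe_ofCard]; exact map_subtype_le _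
    have hP' : ∀ w ∈ (P : Subgroup G), w * (g * u * g⁻¹) = (g * u * g⁻¹) * w := by
      intro w hw
      rw [← hg, Sylow.coe_subgroup_smul, mem_pointwise_smul_iff_inv_smul_mem] at hw
      have h := mem_centralizer_singleton_iff.1 (hT'le hw)
      simp only [MulAut.smul_def, MulAut.conj_inv_apply] at h
      calc w * (g * u * g⁻¹) = g * (g⁻¹ * w * g * u) * g⁻¹ := by group
        _ = g * (u * (g⁻¹ * w * g)) * g⁻¹ := by rw [h]
        _ = _ := by group
    have hmemP : g * u * g⁻¹ ∈ (P : Subgroup G) := by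
      rw [← hg, Sylow.coe_subgroup_smul]
      refine smul_mem_pointwise_smul u (MulAut.conj g) _ ?_
      obtain ⟨a, ha⟩ : ∃ a, orderOf u = 2 ^ a := by
        obtain ⟨a, -, ha⟩ := (Nat.dvd_prime_pow Nat.prime_two).1
          (hk ▸ Nat.card_zpowers σ ▸ Subgroup.orderOf_dvd_natCard _ hu)
        exact ⟨a, ha⟩
      exact mem_of_commuting T' ha fun w hw => mem_centralizer_singleton_iff.1 (hT'le hw)
    -- central elements are of order two
    obtain ⟨y, hy, hyA⟩ := hD.exists_out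
    have hsq : (g * u * g⁻¹) * (g * u * g⁻¹) = 1 := by
      by_cases hA : g * u * g⁻¹ ∈ zpowers σ
      · obtain ⟨i, hi⟩ := hA
        have h1 := hP' y hy
        replace hi : σ ^ i = g * u * g⁻¹ := hi
        rw [← hi] at h1 ⊢
        have h2 := hD.conj_zpow' hy hyA i
        rw [show y * σ ^ i * y⁻¹ = σ ^ i from by rw [h1]; group, zpow_neg] at h2
        nth_rewrite 1 [h2]
        exact inv_mul_cancel _
      · exact hD.invol _ hmemP hA
    have hu2 : u * u = 1 := by
      rw [show u * u = g⁻¹ * ((g * u * g⁻¹) * (g * u * g⁻¹)) * g by group, hsq]; group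
    exact inv_eq_of_mul_eq_one_right hu2

end H65
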