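import Cfsg.Agent.H42.LinGenSubspace
import Cfsg.Agent.H42.LinGenTensor
import Cfsg.Agent.H42.LinGenSymp

/-!
Subspace, tensor and symplectic stabilisers are maximal in `SL n F`, `6 ≤ n`.
-/

set_option autoImplicit false
open Cfsg

open scoped Kronecker MatrixGroups

namespace H65.GeoSix

/-- The stabiliser is maximal in `SL_n` from dimension six on. -/
theorem subspace_maximal {F : Type*} [Field F] [Fintype F] (n : ℕ) (hn : 6 ≤ n) (W : Submodule F (Fin n → F)) (hW0 : W ≠ ⊥) (hW1 : W ≠ ⊤) : Cfsg.Geo.IsMaximalIn (Cfsg.Geo.specialLinear (Fin n) F) (Cfsg.Geo.subspaceStabilizer W ⊓ Cfsg.Geo.specialLinear (Fin n) F) := by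
  haveI : Nontrivial (Fin n) := Fin.nontrivial_iff_two_le.mpr (by omega)
  refine ⟨lt_of_le_of_ne inf_le_right fun he => ?_, fun H hle hHS => ?_⟩
  · obtain ⟨w, hw, hw0⟩ := W.exists_mem_ne_zero_of_ne_bot hW0
    obtain ⟨y, -, hy⟩ := SetLike.exists_of_lt (lt_top_iff_ne_top.2 hW1)
    have hwy : w ∉ (⊥ : Submodule F (Fin n → F)) ⊔ Submodule.span F {y} := by
      rw [bot_sup_eq, Submodule.mem_span_singleton]
      rintro ⟨c, rfl⟩
      refine hy ?_
      have hc : c ≠ 0 := by rintro rfl; simp at hw0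
      simpa [smul_smul, hc] using W.smul_mem c⁻¹ hw
    obtain ⟨g, hg, -, hgw⟩ := H42.exists_specialLinear_fix_move ⊥ w y hwy
    have h1 := ((Subgroup.mem_inf.1 (he.ge hg)).1 w).1 hw
    change (g : Matrix (Fin n) (Fin n) F).mulVec w ∈ W at h1
    rw [hgw] at h1
    exact hy (by simpa using W.sub_mem h1 hw)
  rcases hle.eq_or_lt with h | h
  · exact Or.inl h.symm
  refine Or.inr (le_antisymm hHS ?_)
  obtain ⟨g, hgH, hgP⟩ := SetLike.exists_of_lt h
  have hgS := hHS hgH
  obtain ⟨w, hwW, hgw⟩ : ∃ w ∈ W, (g : Matrix (Fin n) (Fin n) F).mulVec w ∉ W := by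
    by_contra hc
    push Not at hc
    refine hgP ⟨fun v => ⟨hc v, fun hv => ?_⟩, hgS⟩
    have hinj : Function.Injective fun x : W => (⟨_, hc x x.2⟩ : W) := fun x y e =>
      Subtype.ext (H49.gl_mulVec_injective g (congrArg Subtype.val e))
    obtain ⟨x, hx⟩ := (Finite.injective_iff_surjective.mp hinj) ⟨_, hv⟩
    have := H49.gl_mulVec_injective g (congrArg Subtype.val hx)
    exact this ▸ x.2
  let U : Set (Fin n → F) := {v | ∀ φ (h : dotProduct φ v = 0), H49.tr v φ h ∈ H}
  have hconj : ∀ (x : GL (Fin n) F) v, x ∈ H → v ∈ U → (x : Matrix _ _ F).mulVec v ∈ U := by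
    intro x v hx hv φ h
    have hψ : dotProduct (Matrix.vecMul φ (x : Matrix (Fin n) (Fin n) F)) v = 0 := by
      rw [← Matrix.dotProduct_mulVec, h]
    have heq : H49.tr ((x : Matrix _ _ F).mulVec v) φ h = x * H49.tr v _ hψ * x⁻¹ := by
      rw [eq_mul_inv_iff_mul_eq]
      refine H49.gl_ext_mulVec fun z => ?_
      rw [Units.val_mul, ← Matrix.mulVec_mulVec, H49.tr_mulVec, Units.val_mul, ← Matrix.mulVec_mulVec,
        H49.tr_mulVec, Matrix.mulVec_add, Matrix.mulVec_smul, Matrix.dotProduct_mulVec]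
    rw [heq]
    exact mul_mem (mul_mem hx (hv _ hψ)) (inv_mem hx)
  have hscale : ∀ (c : F), ∀ v ∈ U, c ≠ 0 → c • v ∈ U := fun c v hv hc φ h' => by
    have h2 : dotProduct (c • φ) v = 0 := by rw [smul_dotProduct, ← dotProduct_smul, h']
    have : H49.tr (c • v) φ h' = H49.tr v (c • φ) h2 := H49.gl_ext_mulVec fun z => by
      rw [H49.tr_mulVec, H49.tr_mulVec, smul_smul, smul_dotProduct, smul_eq_mul, mul_comm]
    rw [this]; exact hv _ h2
  have hW : ∀ v ∈ W, v ∈ U := fun v hv φ h' => hle ⟨fun z => by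
    change z ∈ W ↔ ((H49.tr v φ h' : GL (Fin n) F) : Matrix (Fin n) (Fin n) F).mulVec z ∈ W
    rw [H49.tr_mulVec]
    exact (Submodule.add_mem_iff_left W (W.smul_mem _ hv)).symm, H49.tr_mem_SL v φ h'⟩
  set u := (g : Matrix (Fin n) (Fin n) F).mulVec w with hu
  have huU : u ∈ U := hconj g w hgH (hW w hwW)
  have hmove : ∀ u' ∈ U, ∀ z, u' ∉ W ⊔ Submodule.span F {z - u'} → z ∈ U := by
    intro u' hu' z hz
    obtain ⟨t, ht, hfix, htu⟩ := H42.exists_specialLinear_fix_move W u' (z - u') hz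
    have := hconj t u' (hle (Subgroup.mem_inf.2 ⟨H42.mem_subspaceStabilizer_of_fix W t hfix, ht⟩)) hu'
    rwa [htu, add_sub_cancel] at this
  have hall : ∀ z, z ∈ U := by
    intro z
    by_cases hz : z ∈ W
    · exact hW z hz
    by_cases hzu : z ∈ W ⊔ Submodule.span F {u}
    · obtain ⟨a, ha, b, hb, rfl⟩ := Submodule.mem_sup.mp hzu
      obtain ⟨c, rfl⟩ := Submodule.mem_span_singleton.mp hb
      have hc : c ≠ 0 := by rintro rfl; simp [ha] at hz
      refine hmove _ (hscale c u huU hc) _ fun hm => ?_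
      rw [add_sub_cancel_right, sup_eq_left.mpr ((Submodule.span_singleton_le_iff_mem a W).mpr ha)] at hm
      exact hgw (by simpa [smul_smul, hc] using W.smul_mem c⁻¹ hm)
    · refine hmove u huU z fun hm => ?_
      obtain ⟨a, ha, b, hb, hab⟩ := Submodule.mem_sup.mp hm
      obtain ⟨c, rfl⟩ := Submodule.mem_span_singleton.mp hb
      by_cases hc : c = 0
      · rw [hc, zero_smul, add_zero] at hab
        exact hgw (hab ▸ ha)
      · refine hzu (Submodule.mem_sup.mpr ⟨-(c⁻¹ • a), W.neg_mem (W.smul_mem _ ha), (1 + c⁻¹) • u,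
          Submodule.smul_mem _ _ (Submodule.mem_span_singleton_self u), ?_⟩)
        have h3 : c⁻¹ • u = c⁻¹ • a + (z - u) := by
          conv_lhs => rw [← hab]
          rw [smul_add, inv_smul_smul₀ hc]
        rw [add_smul, one_smul, h3]
        abel
  intro x hx
  refine H49.sl_le_of_elem_mem H (fun i j hij c => hall _ _ _) x ?_
  have := congrArg Units.val (MonoidHom.mem_ker.mp hx)
  rwa [Matrix.GeneralLinearGroup.val_det_apply, Units.val_one] at this


/-- The stabiliser is maximal in `SL_n` from dimension six on. -/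
theorem tensor_maximal {F : Type*} [Field F] [Fintype F] (n : ℕ) (hn : 6 ≤ n) (n₁ n₂ : ℕ) (h1 : 2 ≤ n₁) (h12 : n₁ < n₂) (hex : ¬ (n₁ = 2 ∧ Fintype.card F = 2)) (e : Fin n ≃ Fin n₁ × Fin n₂) (P : Matrix.GeneralLinearGroup (Fin n) F) : Cfsg.Geo.IsMaximalIn (Cfsg.Geo.specialLinear (Fin n) F) (Cfsg.Geo.tensorProductSubgroup n₁ n₂ e P ⊓ Cfsg.Geo.specialLinear (Fin n) F) := by
  classical
  let φ : GL (Fin n₁ × Fin n₂) F ≃* GL (Fin n) F := (Cfsg.Geo.glReindex e.symm).trans (MulAut.conj P)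
  have hdet : ∀ g : GL (Fin n₁ × Fin n₂) F,
      φ g ∈ Cfsg.Geo.specialLinear (Fin n) F ↔ (g : Matrix (Fin n₁ × Fin n₂) (Fin n₁ × Fin n₂) F).det = 1 := by
    intro g
    have h1 : Matrix.GeneralLinearGroup.det (φ g) =
        Matrix.GeneralLinearGroup.det (Cfsg.Geo.glReindex e.symm g : GL (Fin n) F) := by
      show Matrix.GeneralLinearGroup.det (P * Cfsg.Geo.glReindex e.symm g * P⁻¹) = _
      rw [map_mul, map_mul, map_inv, mul_right_comm, mul_inv_cancel, one_mul]
    rw [Cfsg.Geo.specialLinear, MonoidHom.mem_ker, h1, Units.ext_iff, Units.val_one,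
      Matrix.GeneralLinearGroup.val_det_apply]
    show (Matrix.reindexAlgEquiv F F e.symm (g : Matrix _ _ F)).det = 1 ↔ _
    rw [Matrix.det_reindexAlgEquiv]
  have hK : ∀ g : GL (Fin n₁ × Fin n₂) F,
      φ g ∈ Cfsg.Geo.tensorProductSubgroup n₁ n₂ e P ↔ H42.TensorMax.IsT g := by
    intro g
    constructor
    · rintro ⟨k, ⟨g', hg', rfl⟩, hk⟩
      obtain rfl : g' = g := φ.injective hk
      obtain ⟨a, b, hab⟩ := hg'
      exact ⟨_, _, hab⟩
    · rintro ⟨a, b, hab⟩
      refine ⟨_, ⟨g, ?_, rfl⟩, rfl⟩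
      have hd : (g : Matrix (Fin n₁ × Fin n₂) (Fin n₁ × Fin n₂) F).det ≠ 0 :=
        ((Matrix.isUnit_iff_isUnit_det _).1 g.isUnit).ne_zero
      rw [hab, Matrix.det_kronecker] at hd
      have ha : a.det ≠ 0 := fun h => hd (by rw [h, zero_pow (by simp; omega), zero_mul])
      have hb : b.det ≠ 0 := fun h => hd (by rw [h, zero_pow (by simp; omega), mul_zero])
      exact ⟨Matrix.GeneralLinearGroup.mkOfDetNeZero a ha, Matrix.GeneralLinearGroup.mkOfDetNeZero b hb, hab⟩
  refine ⟨lt_of_le_of_ne inf_le_right ?_, fun M hKM hMS => ?_⟩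
  · intro heq
    let i0 : Fin n₁ := ⟨0, by omega⟩
    let i1 : Fin n₁ := ⟨1, by omega⟩
    let j0 : Fin n₂ := ⟨0, by omega⟩
    let j1 : Fin n₂ := ⟨1, by omega⟩
    have hi : i0 ≠ i1 := by simp [i0, i1]
    have hj : j0 ≠ j1 := by simp [j0, j1]
    have hne : (i0, j0) ≠ (i1, j1) := fun h => hi (congrArg Prod.fst h)
    set g := H49.elem (i0, j0) (i1, j1) hne (1 : F) with hg
    have hm : φ g ∈ Cfsg.Geo.specialLinear (Fin n) F := by
      rw [hdet, hg, H49.elem, H49.tr_val, H49.det_trM]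
      simp [hne]
    rw [← heq] at hm
    obtain ⟨a, b, hab⟩ := (hK g).1 (Subgroup.mem_inf.1 hm).1
    have e0 := congrFun (congrFun hab (i0, j0)) (i0, j0)
    have e1 := congrFun (congrFun hab (i0, j0)) (i1, j1)
    have e2 := congrFun (congrFun hab (i0, j0)) (i1, j0)
    simp [hg, H49.elem, H49.tr_val, H49.trM, Matrix.vecMulVec_apply, hne, hi, hj, Matrix.one_apply,
      Matrix.kroneckerMap_apply, Pi.single_apply, hi.symm] at e0 e1 e2
    rcases e2 with h | h
    · rw [h, zero_mul] at e1; exact one_ne_zero e1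
    · rw [h, mul_zero] at e0; exact one_ne_zero e0
  · set H := M.comap φ.toMonoidHom with hH
    have hO : H42.TensorMax.Over H :=
      { det_one := fun g hg => (hdet g).1 (hMS hg)
        tens := fun g a b hd hab => hKM (Subgroup.mem_inf.2 ⟨(hK g).2 ⟨a, b, hab⟩, (hdet g).2 hd⟩) }
    have hbig : 3 ≤ Fintype.card (Fin n₁) ∨ ∃ d : F, d ≠ 0 ∧ d ≠ 1 := by
      by_cases h3 : 3 ≤ n₁
      · left; simpa using h3
      · right
        by_contra hcon
        push_neg at hcon
        have h2 : (Finset.univ : Finset F) ⊆ {0, 1} := fun x _ => by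
          rcases eq_or_ne x 0 with h | h
          · simp [h]
          · simp [hcon x h]
        have h2 := Finset.card_le_card h2
        rw [Finset.card_univ] at h2
        have := (Finset.card_le_two : ({0, 1} : Finset F).card ≤ 2)
        have := Fintype.one_lt_card (α := F)
        exact hex ⟨by omega, by omega⟩
    by_cases hsc : ∀ (A : Matrix (Fin n₁) (Fin n₁) F) (j l : Fin n₂), j ≠ l →
        H42.TensorMax.OneAdd H (A ⊗ₖ Matrix.single j l 1) → ∃ t : F, A = t • 1
    · left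
      have hS : H42.TensorMax.Small H := ⟨hO, by simpa using h1, by simpa using h12, hsc⟩
      refine le_antisymm (fun g hg => ?_) hKM
      obtain ⟨g', rfl⟩ := φ.surjective g
      exact Subgroup.mem_inf.2 ⟨(hK g').2 (hS.all_isT (show g' ∈ H from hg)), hMS hg⟩
    · right
      push_neg at hsc
      obtain ⟨A, j, l, hjl, hA, hns⟩ := hsc
      refine le_antisymm hMS fun g hg => ?_
      obtain ⟨g', rfl⟩ := φ.surjective g
      exact (show g' ∈ H from hO.sl_le (by simp; omega) (by simpa using h1) hbig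
        (hO.allPos_of_one (by simp; omega) hjl hA) hns g' ((hdet g').1 hg))


/-- The stabiliser is maximal in `SL_n` from dimension six on. -/
theorem symp_maximal {F : Type*} [Field F] [Fintype F] (n : ℕ) (hn : 6 ≤ n) (f : (Fin n → F) → (Fin n → F) → F) (hf : Cfsg.Geo.IsSymplecticForm f) : Cfsg.Geo.IsMaximalIn (Cfsg.Geo.specialLinear (Fin n) F) (Cfsg.Geo.similarityGroup f ⊓ Cfsg.Geo.specialLinear (Fin n) F) := by
  haveI : Nontrivial (Fin n) := Fin.nontrivial_iff_two_le.mpr (by omega)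
  have hstr : ∀ v c, H49.str hf v c ∈ Cfsg.Geo.similarityGroup f ⊓ Cfsg.Geo.specialLinear (Fin n) F :=
    fun v c => ⟨⟨1, fun u w => by simpa using H49.str_mem_isoGrp hf v c u w⟩, H49.tr_mem_SL _ _ _⟩
  refine ⟨lt_of_le_of_ne inf_le_right ?_, fun M hHM hMK => ?_⟩
  · -- a transvection that is not a similarity
    intro heq
    let i0 : Fin n := ⟨0, by omega⟩
    let i1 : Fin n := ⟨1, by omega⟩
    let i2 : Fin n := ⟨2, by omega⟩
    have h01 : i0 ≠ i1 := by simp [i0, i1]
    have h02 : i0 ≠ i2 := by simp [i0, i2]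
    have h12 : i1 ≠ i2 := by simp [i1, i2]
    let v : Fin n → F := Pi.single i0 1
    obtain ⟨w, hvw, hw⟩ : ∃ w : Fin n → F, f v w = 0 ∧ ∀ c : F, w ≠ c • v := by
      by_cases h1 : f v (Pi.single i1 1) = 0
      · exact ⟨_, h1, fun c e => by simpa [v, h01.symm] using congrFun e i1⟩
      · refine ⟨f v (Pi.single i1 1) • (Pi.single i2 1 : Fin n → F) -
          f v (Pi.single i2 1) • (Pi.single i1 1 : Fin n → F), ?_, fun c e => ?_⟩
        · rw [H49.sf_sub_right hf, hf.bilinear.smul_right, hf.bilinear.smul_right]; ring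
        · have := congrFun e i2
          simp [v, h02.symm, h12.symm, h1] at this
    have hd : H49.fvec f w ⬝ᵥ v = 0 := by rw [H49.fvec_dot hf, hvw]
    have hmem : H49.tr v _ hd ∈ Cfsg.Geo.similarityGroup f ⊓ Cfsg.Geo.specialLinear (Fin n) F := by
      rw [heq]; exact H49.tr_mem_SL _ _ _
    obtain ⟨⟨c, hc⟩, -⟩ := hmem
    have hv : v ≠ 0 := by simp [v]
    obtain ⟨y, hy⟩ := (hf.nondegenerate v hv).2
    have hexp : ∀ x y, f x y + f y w * f x v + f x w * f v y = (c : F) * f x y := by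
      intro x y
      have h := hc x y
      rw [H49.tr_mulVec, H49.tr_mulVec, H49.fvec_dot hf, H49.fvec_dot hf] at h
      simp only [hf.bilinear.add_left, hf.bilinear.add_right, hf.bilinear.smul_left,
        hf.bilinear.smul_right, hf.alternating] at h
      linear_combination h
    have hc1 : (c : F) = 1 := by
      have h := hexp v y
      rw [hf.alternating, hvw] at h
      exact mul_right_cancel₀ hy (by linear_combination -h)
    apply hw (f y w / f y v)
    by_contra hne
    obtain ⟨x, hx⟩ := (hf.nondegenerate _ (sub_ne_zero.mpr hne)).1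
    apply hx
    have h := hexp x y
    rw [hc1, one_mul, hf.skew v y] at h
    have hyv : f y v ≠ 0 := by rw [hf.skew]; simpa using hy
    rw [H49.sf_sub_right hf, hf.bilinear.smul_right]
    field_simp
    linear_combination -h
  · by_cases hle : M ≤ Cfsg.Geo.similarityGroup f
    · exact Or.inl (le_antisymm (le_inf hle hMK) hHM)
    · obtain ⟨g, hg, hns⟩ := SetLike.not_le_iff_exists.mp hle
      refine Or.inr (le_antisymm hMK fun s hs => ?_)
      refine H49.sl_le_of_not_similar hf M (fun v c => hHM (hstr v c)) g hg hns s ?_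
      exact congrArg Units.val (show Matrix.GeneralLinearGroup.det s = 1 from hs)

end H65.GeoSix
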