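import Cfsg.Agent.H64.LikePSL2Zass
import Cfsg.Agent.H39.ProjField

/-!
Simple groups of order `q(q²-1)/2` with an abelian self-centralising Sylow subgroup of order `q`.
-/

set_option autoImplicit false

namespace H65.Isolated

open Subgroup MulAction

/-- A simple group of order `q(q²-1)/2` in which the centraliser of every nontrivial element of
each Sylow `p`-subgroup, of order `q`, lies in that abelian subgroup. -/
structure Iso (G : Type*) [Group G] (p q : ℕ) : Prop where
  simple : IsSimpleGroup G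
  five : 5 ≤ q
  odd : Odd q
  card : 2 * Nat.card G = q * ((q - 1) * (q + 1))
  sylow : ∀ P : Sylow p G, Nat.card P = q
  comm : ∀ P : Sylow p G, ∀ a ∈ P, ∀ b ∈ P, a * b = b * a
  cent : ∀ (P : Sylow p G), ∀ x ∈ P, x ≠ 1 → ∀ y : G, Commute x y → y ∈ P

namespace Iso

variable {G : Type*} [Group G] [Finite G] {p q : ℕ} [Fact p.Prime] (h : Iso G p q)
include h

theorem free {P Q : Sylow p G} (hQ : Q ≠ P) {x : G} (hx : x ∈ (P : Subgroup G)) (hfix : x • Q = Q) :
    x = 1 := by
  by_contra hx1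
  have hn : x ∈ normalizer ((Q : Subgroup G) : Set G) := Sylow.smul_eq_iff_mem_normalizer.1 hfix
  have hp : IsPGroup p (zpowers x) := P.2.to_le (zpowers_le.2 hx)
  have hxQ : x ∈ (Q : Subgroup G) := ((hp.inf_normalizer_sylow Q).le ⟨mem_zpowers x, hn⟩).2
  exact hQ (Sylow.ext (Q.3 P.2 fun y hy => h.cent P x hx hx1 y (h.comm Q x hxQ y hy)).symm)

theorem ne_smul {P Q : Sylow p G} (hQ : Q ≠ P) {g : G} (hg : g • P = P) : g • Q ≠ P :=
  fun e => hQ (smul_left_cancel g (e.trans hg.symm))

theorem fix_self {P : Sylow p G} {x : G} (hx : x ∈ (P : Subgroup G)) : x • P = P :=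
  Sylow.smul_eq_iff_mem_normalizer.2 (le_normalizer hx)

theorem sylow_numbers (P : Sylow p G) :
    Nat.card (Sylow p G) = q + 1 ∧ Nat.card (stabilizer G P) = q * ((q - 1) / 2) := by
  classical
  have h5 := h.five
  obtain ⟨c, hc⟩ := h.odd
  letI : MulAction (P : Subgroup G) {Q : Sylow p G // Q ≠ P} :=
    { smul := fun x Q => ⟨(x : G) • Q.1, h.ne_smul Q.2 (h.fix_self x.2)⟩
      one_smul := fun Q => Subtype.ext (one_smul G Q.1)
      mul_smul := fun x y Q => Subtype.ext (mul_smul (x : G) (y : G) Q.1) }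
  have hdvd : q ∣ Nat.card {Q : Sylow p G // Q ≠ P} := by
    rw [← h.sylow P]
    refine H64.semireg_dvd fun Q => (Subgroup.eq_bot_iff_forall _).2 fun x hx => Subtype.ext ?_
    exact h.free Q.2 x.2 (congrArg Subtype.val hx)
  have hn : Nat.card (Sylow p G) = Nat.card {Q : Sylow p G // Q ≠ P} + 1 := by
    rw [← Nat.card_congr (Equiv.optionSubtypeNe P), Finite.card_option]
  set N := stabilizer G P with hNdef
  set P' := (P : Subgroup G).subgroupOf N with hP'
  have hle : (P : Subgroup G) ≤ N := fun x hx => h.fix_self hx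
  haveI : P'.Normal := ⟨fun a ha g => by
    rw [hP', Subgroup.mem_subgroupOf] at ha ⊢
    exact (Subgroup.mem_normalizer_iff.1 (Sylow.smul_eq_iff_mem_normalizer.1 g.2) _).1 ha⟩
  have hP'c : Nat.card P' = q := (Nat.card_congr (Subgroup.subgroupOfEquivOfLe hle).toEquiv).trans (h.sylow P)
  have hcop : Nat.Coprime (Nat.card P') P'.index := (P.subtype hle).card_coprime_index
  obtain ⟨H, hH⟩ := Subgroup.exists_right_complement'_of_coprime hcop
  set m := P'.index with hmdef
  have hHc : Nat.card H = m := (hH.symm.index_eq_card).symm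
  have hNc : Nat.card N = q * m := by rw [← P'.card_mul_index, hP'c]
  have hm : m ∣ q - 1 := by
    letI : MulAction H {x : P' // x ≠ 1} :=
      { smul := fun g x => ⟨⟨(g : N) * x.1 * (g : N)⁻¹, (inferInstance : P'.Normal).conj_mem _ x.1.2 _⟩, fun e =>
          x.2 (Subtype.ext (conj_eq_one_iff.1 (congrArg Subtype.val e)))⟩
        one_smul := fun x => Subtype.ext (Subtype.ext (by
          show (1 : N) * x.1 * (1 : N)⁻¹ = x.1
          simp))
        mul_smul := fun a b x => Subtype.ext (Subtype.ext (by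
          show ((a : N) * b) * x.1 * ((a : N) * b)⁻¹ = (a : N) * ((b : N) * x.1 * (b : N)⁻¹) * (a : N)⁻¹
          group)) }
    have hd := H64.semireg_dvd (H := H) (α := {x : P' // x ≠ 1}) fun x => (Subgroup.eq_bot_iff_forall _).2 fun g hg => by
      have e : (g : N) * x.1 * (g : N)⁻¹ = x.1 := congrArg (fun t : {x : P' // x ≠ 1} => (t.1 : N)) hg
      have e' : ((g : N) : G) * ((x.1 : N) : G) * ((g : N) : G)⁻¹ = ((x.1 : N) : G) := congrArg Subtype.val e
      have hxne : ((x.1 : N) : G) ≠ 1 := fun e0 => x.2 (Subtype.ext (Subtype.ext e0))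
      have hgP : ((g : N) : G) ∈ (P : Subgroup G) :=
        h.cent P _ x.1.2 hxne _ (mul_inv_eq_iff_eq_mul.1 e').symm
      exact Subtype.ext (Subgroup.disjoint_def.1 hH.disjoint (Subgroup.mem_subgroupOf.2 hgP) g.2)
    have e : Nat.card {x : P' // x ≠ 1} = q - 1 := by
      have := Nat.card_congr (Equiv.optionSubtypeNe (1 : P'))
      rw [Finite.card_option, hP'c] at this
      omega
    rwa [hHc, e] at hd
  have horb : Nat.card (Sylow p G) * (q * m) = Nat.card G := by
    rw [← hNc, ← MulAction.index_stabilizer_of_transitive G P, Subgroup.index_mul_card]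
  obtain ⟨k, hk⟩ := hdvd
  rw [hk] at hn
  have hG := h.card
  rw [← horb, hn] at hG
  have hq0 : 0 < q := by omega
  have hG' : 2 * m * (q * k + 1) = (q - 1) * (q + 1) :=
    Nat.eq_of_mul_eq_mul_left hq0 (by linarith)
  obtain ⟨e, he⟩ := hm
  have hm0 : 0 < m := Nat.pos_of_ne_zero fun e' => by rw [e', zero_mul] at he; omega
  have hcase : e = 2 ∧ k = 1 := by
    rw [he] at hG'
    have h2 : 2 * (q * k + 1) = e * (q + 1) := Nat.eq_of_mul_eq_mul_left hm0 (by linarith)
    have hle' : e ≤ q - 1 := he ▸ Nat.le_mul_of_pos_left e hm0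
    have h3 : q * (2 * k) + 2 = q * e + e := by linarith
    rcases lt_trichotomy (2 * k) e with hlt | heq | hgt
    · have := Nat.mul_le_mul_left q (Nat.succ_le_of_lt hlt)
      rw [Nat.mul_succ] at this
      omega
    · rw [heq] at h3
      omega
    · have := Nat.mul_le_mul_left q (Nat.succ_le_of_lt hgt)
      rw [Nat.mul_succ] at this
      omega
  obtain ⟨rfl, rfl⟩ := hcase
  refine ⟨by rw [hn, mul_one], ?_⟩
  rw [hNc, he, Nat.mul_div_cancel _ two_pos]

theorem regular (P : Sylow p G) {Q R : Sylow p G} (hQ : Q ≠ P) (hR : R ≠ P) :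
    ∃! u : (P : Subgroup G), (u : G) • Q = R := by
  classical
  let φ : ↥(P : Subgroup G) → {R : Sylow p G // R ≠ P} := fun u =>
    ⟨(u : G) • Q, h.ne_smul hQ (h.fix_self u.2)⟩
  have hinj : Function.Injective φ := fun u v e => by
    have e' : (u : G) • Q = (v : G) • Q := congrArg Subtype.val e
    have h1 : ((v : G)⁻¹ * u) • Q = Q := by rw [mul_smul, e', inv_smul_smul]
    exact Subtype.ext (inv_mul_eq_one.1 (h.free hQ (mul_mem (inv_mem v.2) u.2) h1)).symm
  have hc : Nat.card (P : Subgroup G) = Nat.card {R : Sylow p G // R ≠ P} := by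
    have h1 := Nat.card_congr (Equiv.optionSubtypeNe P)
    rw [Finite.card_option, (h.sylow_numbers P).1] at h1
    rw [h.sylow P]
    omega
  obtain ⟨u, hu⟩ := ((Nat.bijective_iff_injective_and_card φ).2 ⟨hinj, hc⟩).2 ⟨R, hR⟩
  exact ⟨u, congrArg Subtype.val hu, fun v hv => hinj (Subtype.ext (hv.trans (congrArg Subtype.val hu).symm))⟩

theorem card_two_point {P Q : Sylow p G} (hQ : Q ≠ P) :
    Nat.card (stabilizer G P ⊓ stabilizer G Q : Subgroup G) = (q - 1) / 2 := by
  classical
  let φ : ↥(P : Subgroup G) × ↥(stabilizer G P ⊓ stabilizer G Q) → stabilizer G P := fun t =>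
    ⟨(t.1 : G) * t.2, mul_mem (h.fix_self t.1.2) t.2.2.1⟩
  have hbij : Function.Bijective φ := by
    constructor
    · rintro ⟨u, g⟩ ⟨u', g'⟩ e
      have e' : (u : G) * g = (u' : G) * g' := congrArg Subtype.val e
      have hQu : (u : G) • Q = (u' : G) • Q := by
        have h1 := congrArg (fun t : G => t • Q) e'
        simpa only [mul_smul, show (g : G) • Q = Q from g.2.2, show (g' : G) • Q = Q from g'.2.2] using h1
      obtain rfl := (h.regular P hQ (h.ne_smul hQ (h.fix_self u'.2))).unique hQu rfl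
      exact Prod.ext rfl (Subtype.ext (mul_left_cancel e'))
    · rintro ⟨g, hg⟩
      obtain ⟨u, hu, -⟩ := h.regular P hQ (h.ne_smul hQ (show g • P = P from hg))
      refine ⟨(u, ⟨(u : G)⁻¹ * g, (stabilizer G P).mul_mem ((stabilizer G P).inv_mem (h.fix_self u.2)) hg, ?_⟩),
        Subtype.ext (mul_inv_cancel_left _ _)⟩
      show ((u : G)⁻¹ * g) • Q = Q
      rw [mul_smul, ← hu, inv_smul_smul]
  have := Nat.card_congr (Equiv.ofBijective φ hbij)
  rw [Nat.card_prod, h.sylow P, (h.sylow_numbers P).2] at this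
  exact Nat.eq_of_mul_eq_mul_left (by have := h.five; omega) this

theorem three_fixed {g : G} {A B C : Sylow p G} (hab : A ≠ B) (hbc : B ≠ C) (hac : A ≠ C)
    (hA : g • A = A) (hB : g • B = B) (hC : g • C = C) : g = 1 := by
  obtain ⟨u, hu, huniq⟩ := h.regular A (Ne.symm hab) (Ne.symm hac)
  have hmem : g * u * g⁻¹ ∈ (A : Subgroup G) :=
    (Subgroup.mem_normalizer_iff.1 (Sylow.smul_eq_iff_mem_normalizer.1 hA) _).1 u.2
  have e : (⟨g * u * g⁻¹, hmem⟩ : (A : Subgroup G)) = u := huniq _ (by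
    show (g * u * g⁻¹) • B = C
    rw [mul_smul, mul_smul, inv_smul_eq_iff.2 hB.symm, hu, hC])
  have e' : g * u * g⁻¹ = u := congrArg Subtype.val e
  have hu1 : (u : G) ≠ 1 := fun e0 => hbc (by rw [← hu, e0, one_smul])
  exact h.free (Ne.symm hab) (h.cent A u u.2 hu1 g (mul_inv_eq_iff_eq_mul.1 e').symm) hB

theorem third_point (A B : Sylow p G) : ∃ C : Sylow p G, C ≠ A ∧ C ≠ B := by
  classical
  haveI := Fintype.ofFinite (Sylow p G)
  by_contra hcon
  push Not at hcon
  have hsub : (Finset.univ : Finset (Sylow p G)) ⊆ {A, B} := fun C _ => by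
    by_cases e : C = A
    · simp [e]
    · simp [hcon C e]
  have h1 := (Finset.card_le_card hsub).trans (Finset.card_le_two)
  rw [Finset.card_univ, ← Nat.card_eq_fintype_card, (h.sylow_numbers A).1] at h1
  have := h.five
  omega

theorem zassenhaus : Cfsg.IsZassenhausGroup G (Sylow p G) := by
  classical
  obtain ⟨P⟩ : Nonempty (Sylow p G) := inferInstance
  obtain ⟨Q, hQ, -⟩ := h.third_point P P
  obtain ⟨R, hRP, hRQ⟩ := h.third_point P Q
  have h5 := h.five
  refine ⟨⟨fun {a b} e => ?_⟩, ?_, fun g A B C hab hbc hac hA hB hC =>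
    h.three_fixed hab hbc hac hA hB hC, ?_, fun N hN hNt => ?_⟩
  · have hfix : ∀ S : Sylow p G, (b⁻¹ * a) • S = S := fun S => by rw [mul_smul, e, inv_smul_smul]
    exact (inv_mul_eq_one.1
      (h.three_fixed (Ne.symm hQ) (Ne.symm hRQ) (Ne.symm hRP) (hfix P) (hfix Q) (hfix R))).symm
  · rw [is_two_pretransitive_iff]
    intro A B C D hAB hCD
    obtain ⟨g, rfl⟩ := exists_smul_eq G A C
    have hB : g⁻¹ • D ≠ A := fun e => hCD (by rw [← e, smul_inv_smul])
    obtain ⟨u, hu, -⟩ := h.regular A (Ne.symm hAB) hB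
    refine ⟨g * u, ?_, ?_⟩
    · rw [mul_smul, h.fix_self u.2]
    · rw [mul_smul, hu, smul_inv_smul]
  · have h1 : 1 < Nat.card (stabilizer G P ⊓ stabilizer G Q : Subgroup G) := by
      rw [h.card_two_point hQ]; omega
    haveI := Finite.one_lt_card_iff_nontrivial.1 h1
    obtain ⟨⟨g, hgP, hgQ⟩, hg⟩ := exists_ne (1 : (stabilizer G P ⊓ stabilizer G Q : Subgroup G))
    exact ⟨g, fun e => hg (Subtype.ext e), P, Q, Ne.symm hQ, hgP, hgQ⟩
  · haveI := h.simple
    rcases hN.eq_bot_or_eq_top with rfl | rfl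
    · exfalso
      obtain ⟨⟨g, hg⟩, hgQ⟩ := hNt.exists_smul_eq P Q
      rw [Subgroup.mem_bot] at hg
      subst hg
      exact hQ (hgQ.symm.trans (one_smul G P))
    · have h1 : 1 < Nat.card (stabilizer G P) := by
        rw [(h.sylow_numbers P).2]
        exact lt_of_lt_of_le (show 1 < q by omega) (Nat.le_mul_of_pos_right _ (by omega))
      haveI := Finite.one_lt_card_iff_nontrivial.1 h1
      obtain ⟨⟨g, hg⟩, hg1⟩ := exists_ne (1 : stabilizer G P)
      refine ⟨P, fun e => hg1 (Subtype.ext ?_)⟩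
      have : (⟨g, mem_top g⟩ : (⊤ : Subgroup G)) ∈ stabilizer (⊤ : Subgroup G) P := hg
      rw [e, Subgroup.mem_bot] at this
      exact congrArg (fun x : (⊤ : Subgroup G) => (x : G)) this

theorem exists_psl :
    ∃ (K : Type) (_ : Field K) (_ : Fintype K), Fintype.card K = q ∧
      Nonempty (G ≃* Matrix.ProjectiveSpecialLinearGroup (Fin 2) K) := by
  classical
  haveI := Fintype.ofFinite (Sylow p G)
  obtain ⟨P⟩ : Nonempty (Sylow p G) := inferInstance
  obtain ⟨Q, hQ, -⟩ := h.third_point P P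
  have hle : (P : Subgroup G) ≤ stabilizer G P := fun x hx => h.fix_self hx
  have hFn : ((P : Subgroup G).subgroupOf (stabilizer G P)).Normal := ⟨fun a ha g => by
    rw [Subgroup.mem_subgroupOf] at ha ⊢
    exact (Subgroup.mem_normalizer_iff.1 (Sylow.smul_eq_iff_mem_normalizer.1 g.2) _).1 ha⟩
  have hreg : ∀ y z : Sylow p G, y ≠ P → z ≠ P → ∃! u : (P : Subgroup G), (u : G) • y = z :=
    fun y z hy hz => h.regular P hy hz
  have hn : Fintype.card (Sylow p G) = q + 1 := by rw [← Nat.card_eq_fintype_card]; exact (h.sylow_numbers P).1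
  have hab : IsMulCommutative (P : Subgroup G) :=
    ⟨⟨fun a b => Subtype.ext (h.comm P a a.2 b b.2)⟩⟩
  have h5 := h.five
  rcases Cfsg.Agent.S0731.result h.zassenhaus P (P : Subgroup G) hle hFn hab hreg with
    ⟨h3, hfree⟩ | ⟨K, i1, i2, hK, ⟨e⟩⟩
  · exfalso
    haveI := h3
    obtain ⟨R, hRP, hRQ⟩ := h.third_point P Q
    let t : Fin 3 ↪ Sylow p G := ⟨![P, Q, R], by
      intro i j e
      fin_cases i <;> fin_cases j <;> simp_all [eq_comm]⟩
    have h1 := MulAction.index_stabilizer_of_transitive G t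
    rw [hfree t, Subgroup.index_bot, Nat.card_eq_fintype_card (α := Fin 3 ↪ Sylow p G), Fintype.card_embedding_eq,
      hn, Fintype.card_fin] at h1
    have h2 := h.card
    rw [h1, Nat.descFactorial_succ, Nat.descFactorial_succ, Nat.descFactorial_succ, Nat.descFactorial_zero,
      mul_one, show q + 1 - 2 = q - 1 by omega, show q + 1 - 1 = q by omega, Nat.sub_zero] at h2
    have hpos : 0 < q * ((q - 1) * (q + 1)) := Nat.mul_pos (by omega) (Nat.mul_pos (by omega) (by omega))
    nlinarith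
  · refine ⟨K, i1, i2, ?_, ⟨e⟩⟩
    have hodd : Fintype.card K % 2 = 1 := FiniteField.odd_card_of_char_ne_two hK
    have hk1 : 1 < Fintype.card K := Fintype.one_lt_card
    have hc := H39.card_PSL2_mul (F := K)
    rw [Nat.gcd_eq_left (show 2 ∣ Fintype.card K - 1 by omega), ← Nat.card_congr e.toEquiv, h.card,
      show (q - 1) * (q + 1) = q ^ 2 - 1 by rw [mul_comm, ← Nat.sq_sub_sq, one_pow]] at hc
    rcases lt_trichotomy q (Fintype.card K) with hlt | heq | hgt
    · exfalso
      have h4 : q * (q ^ 2 - 1) < Fintype.card K * (Fintype.card K ^ 2 - 1) := by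
        refine Nat.mul_lt_mul_of_lt_of_le hlt
          (Nat.sub_le_sub_right (Nat.pow_le_pow_left hlt.le 2) 1) ?_
        have : 2 ^ 2 ≤ Fintype.card K ^ 2 := Nat.pow_le_pow_left hk1 2
        omega
      omega
    · exact heq.symm
    · exfalso
      have h4 : Fintype.card K * (Fintype.card K ^ 2 - 1) < q * (q ^ 2 - 1) := by
        refine Nat.mul_lt_mul_of_lt_of_le hgt
          (Nat.sub_le_sub_right (Nat.pow_le_pow_left hgt.le 2) 1) ?_
        have : 2 ^ 2 ≤ q ^ 2 := Nat.pow_le_pow_left (by omega) 2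
        omega
      omega

end Iso

end H65.Isolated
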