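import Cfsg.Prelude.Def_Spor_Mathieu
import Cfsg.Agent.H91.Srg77Main
import Cfsg.Agent.H91.DerivedAut
import Cfsg.Agent.H96.HSRec
import Cfsg.Agent.H95.M22Simple

/-!
A group of order 443520 acting faithfully on a strongly regular (77, 16, 0, 4) graph is `M₂₂`.
-/

set_option autoImplicit false

noncomputable section

namespace H65.M22Graph

open Cfsg Finset H91 H91.Derived

/-- Two subgroups: a subgroup of the order of a simple subgroup of index two equals it. -/
theorem eq_of_simple_index_two {K : Type*} [Group K] [Finite K] (H I : Subgroup K)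
    [IsSimpleGroup H] (hH : H.index = 2) (hI : Nat.card I = Nat.card H) (h2 : 2 < Nat.card H) :
    I = H := by
  have hIi : I.index = 2 := by
    have h := I.card_mul_index
    rw [hI, ← H.card_mul_index, hH] at h
    exact Nat.eq_of_mul_eq_mul_left (by omega) h
  haveI : I.Normal := Subgroup.normal_of_index_eq_two hIi
  have hle : H ≤ I := by
    rcases (inferInstance : (I.subgroupOf H).Normal).eq_bot_or_eq_top with h | h
    · exfalso
      have h1 : I.relIndex H ≤ 2 := by
        have := I.relIndex_dvd_index_of_normal H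
        rw [hIi] at this
        exact Nat.le_of_dvd (by norm_num) this
      rw [Subgroup.relIndex, h, Subgroup.index_bot] at h1
      omega
    · exact Subgroup.subgroupOf_eq_top.mp h
  exact (Subgroup.eq_of_le_of_card_ge hle hI.le).symm

variable {α : Type*} [Fintype α] [DecidableEq α] {B : Set (Finset α)} [Fintype B]

/-- the blocks through a point -/
def star (B : Set (Finset α)) [Fintype B] (x : α) : Finset B :=
  univ.filter fun b : B => x ∈ (b : Finset α)

/-- the permutation of blocks preserves disjointness -/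
def IsDisjAut (f : Equiv.Perm B) : Prop :=
  ∀ b c : B, Disjoint (f b : Finset α) (f c : Finset α) ↔ Disjoint (b : Finset α) (c : Finset α)

theorem mem_star {x : α} {b : B} : b ∈ star B x ↔ x ∈ (b : Finset α) := by simp [star]

theorem star_card (hα : Fintype.card α = 22) (hB : IsSteinerSystem 3 6 B) (x : α) :
    (star B x).card = 21 :=
  (card_filter_blocks (B := B) fun d => x ∈ d).trans ((s22_lambda hα hB).2.1 x)

theorem star_injective (hα : Fintype.card α = 22) (hB : IsSteinerSystem 3 6 B) :
    Function.Injective (star B) := by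
  classical
  intro x y h
  by_contra hxy
  have h1 := star_card hα hB x
  have h2 : (star B x ∩ star B y).card = 5 := by
    rw [← (s22_lambda hα hB).2.2 x y hxy,
      ← card_filter_blocks (B := B) (fun d => x ∈ d ∧ y ∈ d), star, star, ← filter_and]
  rw [← h, inter_self] at h2
  omega

/-- every coclique of 21 blocks is a star -/
theorem is21_is_star [DecidableRel (blockGraph B).Adj] (hα : Fintype.card α = 22)
    (hB : IsSteinerSystem 3 6 B) {X : Finset B} (hX : G77.Is21 (blockGraph B) X) :
    ∃ x, star B x = X := by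
  classical
  have hne := steiner_nonempty hB
  have h := G77.params_of_srg (blockGraph_srg hα hB)
  set 𝒳 := ((univ : Finset B).powersetCard 21).filter (G77.Is21 (blockGraph B)) with h𝒳
  have h1 : ∀ b : B, (𝒳.filter fun X => b ∈ X).card = 6 := fun b => by
    rw [h𝒳, filter_filter]; exact G77.coclique_count_one h b
  have h22 : 𝒳.card = 22 := by
    have hmul := Finset.sum_card_bipartiteAbove_eq_sum_card_bipartiteBelow
      (s := 𝒳) (t := (univ : Finset B)) (fun (X : Finset B) (c : B) => c ∈ X)
    have l1 : ∀ X ∈ 𝒳,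
        ((univ : Finset B).bipartiteAbove (fun (X : Finset B) (c : B) => c ∈ X) X).card = 21 := by
      intro X hX
      simp only [h𝒳, mem_filter] at hX
      rw [← hX.2.1]
      congr 1
      ext c
      simp [bipartiteAbove]
    have l2 : ∀ c ∈ (univ : Finset B),
        (𝒳.bipartiteBelow (fun (X : Finset B) (c : B) => c ∈ X) c).card = 6 := fun c _ => h1 c
    rw [sum_congr rfl l1, sum_congr rfl l2, sum_const, sum_const, card_univ, h.card, smul_eq_mul,
      smul_eq_mul] at hmul
    omega
  have hsub : (univ : Finset α).image (star B) = 𝒳 := by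
    refine eq_of_subset_of_card_le ?_ ?_
    · intro Y hY
      obtain ⟨x, -, rfl⟩ := mem_image.mp hY
      refine mem_filter.mpr ⟨mem_powersetCard.mpr ⟨subset_univ _, star_card hα hB x⟩,
        star_card hα hB x, fun b hb c hc => ?_⟩
      rw [blockGraph_adj (hne := hne)]
      exact not_disjoint_iff.mpr ⟨x, mem_star.mp hb, mem_star.mp hc⟩
    · rw [h22, card_image_of_injective _ (star_injective hα hB), card_univ, hα]
  have hXm : X ∈ 𝒳 := mem_filter.mpr ⟨mem_powersetCard.mpr ⟨subset_univ _, hX.1⟩, hX⟩
  rw [← hsub] at hXm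
  obtain ⟨x, -, hx⟩ := mem_image.mp hXm
  exact ⟨x, hx⟩

theorem exists_point (hα : Fintype.card α = 22) (hB : IsSteinerSystem 3 6 B)
    {f : Equiv.Perm B} (hf : IsDisjAut f) (x : α) :
    ∃ y, ∀ b : B, y ∈ (f b : Finset α) ↔ x ∈ (b : Finset α) := by
  classical
  have hne := steiner_nonempty hB
  have hX : G77.Is21 (blockGraph B) ((star B x).map f.toEmbedding) := by
    refine ⟨by rw [card_map, star_card hα hB], fun b hb c hc => ?_⟩
    obtain ⟨b', hb', rfl⟩ := mem_map.mp hb
    obtain ⟨c', hc', rfl⟩ := mem_map.mp hc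
    rw [blockGraph_adj (hne := hne)]
    show ¬ Disjoint (f b' : Finset α) (f c' : Finset α)
    rw [hf]
    exact not_disjoint_iff.mpr ⟨x, mem_star.mp hb', mem_star.mp hc'⟩
  obtain ⟨y, hy⟩ := is21_is_star hα hB hX
  refine ⟨y, fun b => ?_⟩
  rw [← mem_star, hy, ← mem_star (x := x)]
  exact mem_map' f.toEmbedding

theorem point_unique (hα : Fintype.card α = 22) (hB : IsSteinerSystem 3 6 B) {y z : α}
    (h : ∀ c : B, y ∈ (c : Finset α) ↔ z ∈ (c : Finset α)) : y = z :=
  star_injective hα hB (Finset.ext fun c => by rw [mem_star, mem_star, h])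

/-- A group acting faithfully on the blocks, preserving disjointness, embeds into the automorphism
group of the system. -/
theorem exists_hom {G : Type*} [Group G] (hα : Fintype.card α = 22) (hB : IsSteinerSystem 3 6 B)
    (f : G →* Equiv.Perm B) (hf : ∀ g, IsDisjAut (f g)) (hinj : Function.Injective f) :
    ∃ θ : G →* setSystemAut B, Function.Injective θ := by
  classical
  have hp : ∀ g x, ∃ y, ∀ b : B, y ∈ (f g b : Finset α) ↔ x ∈ (b : Finset α) :=
    fun g x => exists_point hα hB (hf g) x
  choose s hs using hp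
  have hmul : ∀ g h x, s (g * h) x = s g (s h x) := fun g h x => point_unique hα hB fun c => by
    obtain ⟨b, rfl⟩ := (f (g * h)).surjective c
    rw [hs, map_mul, Equiv.Perm.mul_apply, hs, hs]
  have hone : ∀ x, s 1 x = x := fun x => point_unique hα hB fun c => by
    have := hs 1 x c
    rwa [map_one, Equiv.Perm.one_apply] at this
  let σ : G → Equiv.Perm α := fun g =>
    { toFun := s g
      invFun := s g⁻¹
      left_inv := fun x => by rw [← hmul, inv_mul_cancel, hone]
      right_inv := fun x => by rw [← hmul, mul_inv_cancel, hone] }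
  have himg : ∀ g (b : B), (b : Finset α).image (σ g) = (f g b : Finset α) := by
    intro g b
    ext y
    obtain ⟨x, rfl⟩ := (σ g).surjective y
    rw [(σ g).injective.mem_finset_image]
    exact (hs g x b).symm
  have hmem : ∀ g, σ g ∈ setSystemAut B := by
    intro g
    rw [H90.mem_setSystemAut_iff]
    ext c
    constructor
    · rintro ⟨b, hb, rfl⟩
      show b.image (σ g) ∈ B
      rw [himg g ⟨b, hb⟩]
      exact Subtype.prop _
    · intro hc
      refine ⟨((f g).symm ⟨c, hc⟩ : B), Subtype.prop _, ?_⟩
      show ((f g).symm ⟨c, hc⟩ : Finset α).image (σ g) = c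
      rw [himg, Equiv.apply_symm_apply]
  refine ⟨MonoidHom.mk' (fun g => ⟨σ g, hmem g⟩)
    fun g h => Subtype.ext (Equiv.ext fun x => hmul g h x), fun g h e => hinj ?_⟩
  refine Equiv.ext fun b => Subtype.ext ?_
  rw [← himg, ← himg]
  exact congrArg (fun τ : setSystemAut B => (b : Finset α).image τ.1) e

omit [Fintype α] [DecidableEq α] [Fintype B]

theorem m22_of_srg {G : Type*} [Group G] [Finite G] (hcard : Nat.card G = 443520) {V : Type*}
    [Fintype V] [DecidableEq V] (Γ : SimpleGraph V) [DecidableRel Γ.Adj]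
    (hΓ : Γ.IsSRGWith 77 16 0 4) (ρ : G →* Equiv.Perm V) (hinj : Function.Injective ρ)
    (haut : ∀ g a b, Γ.Adj (ρ g a) (ρ g b) ↔ Γ.Adj a b) :
    Nonempty (G ≃* ↥Cfsg.Spor.M22) := by
  classical
  obtain ⟨e⟩ := G77.srg77_iso_model hΓ
  have hB := H96.HSRec.steiner_model22
  have hα : Fintype.card Pts22 = 22 := by decide +kernel
  haveI : Fintype H90.model22 := Fintype.ofFinite _
  have hne := steiner_nonempty hB
  let f : G →* Equiv.Perm H90.model22 := e.toEquiv.permCongrHom.toMonoidHom.comp ρ
  have hf : ∀ g b, f g b = e (ρ g (e.symm b)) := fun g b => rfl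
  have hfinj : Function.Injective f := e.toEquiv.permCongrHom.injective.comp hinj
  have hfd : ∀ g, IsDisjAut (f g) := by
    intro g b c
    rw [← blockGraph_adj (hne := hne), ← blockGraph_adj (hne := hne), hf, hf, e.map_adj_iff, haut]
    exact e.symm.map_adj_iff
  obtain ⟨θ, hθ⟩ := exists_hom hα hB f hfd hfinj
  let Q := Derived.ptsStab
  let e22 : pairStab ≃* setSystemAut H90.model22 :=
    MulEquiv.ofBijective aut22Hom aut22Hom_bijective
  let φ : G →* pairStab := e22.symm.toMonoidHom.comp θ
  have hφ : Function.Injective φ := e22.symm.injective.comp hθ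
  let he2 : Q ≃* ↥(MulAction.stabilizer M24 (none : GolayPt) ⊓
      MulAction.stabilizer M24 (some 0 : GolayPt)) := Subgroup.subgroupOfEquivOfLe ptsStab_le
  haveI : IsSimpleGroup Q := by
    haveI := H95.pair_stab_simple (p := (none : GolayPt)) (q := some 0) (by simp)
    exact he2.isSimpleGroup
  have hQc : Nat.card Q = 443520 := by
    rw [Nat.card_congr he2.toEquiv, H90.natCard_stab_pair (by simp)]
  have hQi : Q.index = 2 := by
    have h := Q.card_mul_index
    rw [hQc, card_pairStab] at h
    omega
  have hI : Nat.card φ.range = Nat.card Q := by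
    rw [hQc, ← hcard, Nat.card_congr (MonoidHom.ofInjective hφ).toEquiv]
  have hrange : φ.range = Q := eq_of_simple_index_two Q φ.range hQi hI (by rw [hQc]; norm_num)
  have hsub : (MulAction.stabilizer M24 (none : GolayPt) ⊓
      MulAction.stabilizer M24 (some 0 : GolayPt)).map M24.subtype = Cfsg.Spor.M22 := by
    ext x
    simp only [Subgroup.mem_map, Subgroup.mem_inf, MulAction.mem_stabilizer_iff, Cfsg.Spor.M22,
      Cfsg.Spor.M23]
    constructor
    · rintro ⟨g, ⟨h1, h2⟩, rfl⟩
      exact ⟨⟨g.2, h1⟩, h2⟩
    · rintro ⟨⟨h, h1⟩, h2⟩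
      exact ⟨⟨x, h⟩, ⟨h1, h2⟩, rfl⟩
  exact ⟨(((MonoidHom.ofInjective hφ).trans (MulEquiv.subgroupCongr hrange)).trans he2).trans
    ((Subgroup.equivMapOfInjective _ _ M24.subtype_injective).trans (MulEquiv.subgroupCongr hsub))⟩

end H65.M22Graph
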