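import Cfsg.Agent.H78.M22R.Hex
import Cfsg.Agent.H65.M22Graph
import Mathlib.GroupTheory.Sylow
import Mathlib.GroupTheory.GroupAction.Quotient

/-!
The seventy-seven cosets of the normaliser of the sixteen-group: the suborbits are 1, 16, 60 and
the orbital of length 16 is a (77, 16, 0, 4) graph.
-/

set_option autoImplicit false

noncomputable section

namespace H65.M22Count

open Subgroup H78.M22R
open scoped Pointwise

variable {G : Type*} [Group G]

/-- The possible orders of the normaliser of a self-centralising group of order five. -/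
theorem normalizer_five {H : Type*} [Group H] [Finite H] (z : H) (hz : orderOf z = 5)
    (hc : Nat.card (centralizer ({z} : Set H)) = 5) (h25 : ¬ 25 ∣ Nat.card H) :
    ∃ m, 1 ≤ m ∧ m ≤ 4 ∧ Nat.card (normalizer (zpowers z : Set H)) = 5 * m ∧
      ∃ i, i % 5 = 1 ∧ Nat.card H = 5 * m * i := by
  classical
  haveI : Fact (Nat.Prime 5) := ⟨by norm_num⟩
  have hfac : (Nat.card H).factorization 5 = 1 := by
    have h1 : 5 ∣ Nat.card H := hz ▸ orderOf_dvd_natCard z
    refine le_antisymm ?_ ((Nat.Prime.factorization_pos_of_dvd (by norm_num) Nat.card_pos.ne' h1))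
    by_contra hlt
    exact h25 ((pow_dvd_pow 5 (show 2 ≤ (Nat.card H).factorization 5 by omega)).trans
      (Nat.ordProj_dvd _ _))
  let P : Sylow 5 H := Sylow.ofCard (zpowers z) (by rw [Nat.card_zpowers, hz, hfac, pow_one])
  set R := normalizer (zpowers z : Set H) with hR
  have hPR : P.toSubgroup = zpowers z := rfl
  have hsyl : R.index % 5 = 1 := by
    have h := card_sylow_modEq_one 5 H
    rw [P.card_eq_index_normalizer] at h
    exact h
  have hz1 : ∀ k : ℕ, z ^ k = 1 ↔ 5 ∣ k := fun k => by rw [← orderOf_dvd_iff_pow_eq_one, hz]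
  have hrange : ∀ r : R, ∃ k : Fin 4, (r : H) * z * (r : H)⁻¹ = z ^ (k.val + 1) := by
    intro r
    have h : (r : H) * z * (r : H)⁻¹ ∈ zpowers z :=
      (mem_normalizer_iff.mp r.2 z).mp (mem_zpowers z)
    obtain ⟨k, hk⟩ := Submonoid.mem_powers_iff _ _ |>.mp (mem_powers_iff_mem_zpowers.mpr h)
    have hk5 : k % 5 ≠ 0 := by
      intro h0
      have h1 : z ^ k = 1 := (hz1 k).mpr (Nat.dvd_of_mod_eq_zero h0)
      rw [h1, eq_comm, mul_inv_eq_one, mul_eq_left] at hk
      rw [hk, orderOf_one] at hz
      omega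
    refine ⟨⟨k % 5 - 1, by omega⟩, ?_⟩
    rw [← hk]
    show z ^ k = z ^ (k % 5 - 1 + 1)
    rw [Nat.sub_add_cancel (by omega), ← hz, pow_mod_orderOf]
  choose k hk using hrange
  have hCR : centralizer ({z} : Set H) ≤ R := by
    intro c hc'
    rw [hR, mem_normalizer_iff]
    have hcz : c * z = z * c := mem_centralizer_singleton_iff.mp hc'
    intro y
    constructor
    · intro hy
      obtain ⟨i, rfl⟩ := mem_zpowers_iff.mp hy
      rw [(Commute.zpow_right hcz i).eq, mul_inv_cancel_right]
      exact hy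
    · intro hy
      obtain ⟨i, hi⟩ := mem_zpowers_iff.mp hy
      have : y = c⁻¹ * z ^ i * c := by rw [hi]; group
      rw [this, mul_assoc, ← (Commute.zpow_right hcz i).eq, inv_mul_cancel_left]
      exact zpow_mem (mem_zpowers z) _
  obtain ⟨m, hm⟩ : 5 ∣ Nat.card R := hc ▸ card_dvd_of_le hCR
  have hm4 : m ≤ 4 := by
    let C := (centralizer ({z} : Set H)).subgroupOf R
    have hC : Nat.card C = 5 := (Nat.card_congr (subgroupOfEquivOfLe hCR).toEquiv).trans hc
    have hi : C.index ≤ 4 := by
      have hf : ∀ q : R ⧸ C, True := fun _ => trivial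
      have hinj : Function.Injective fun q : R ⧸ C => k q.out := by
        intro p q h
        have h1 := hk p.out
        rw [show k p.out = k q.out from h, ← hk q.out] at h1
        rw [← p.out_eq, ← q.out_eq]
        refine QuotientGroup.eq.mpr ?_
        show ((p.out⁻¹ * q.out : R) : H) ∈ centralizer ({z} : Set H)
        rw [mem_centralizer_singleton_iff, Subgroup.coe_mul, Subgroup.coe_inv]
        calc (p.out : H)⁻¹ * q.out * z = (p.out : H)⁻¹ * ((q.out : H) * z * (q.out : H)⁻¹) * q.out := by
              group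
          _ = (p.out : H)⁻¹ * ((p.out : H) * z * (p.out : H)⁻¹) * q.out := by rw [h1]
          _ = z * ((p.out : H)⁻¹ * q.out) := by group
      rw [index_eq_card]
      exact (Nat.card_le_card_of_injective _ hinj).trans_eq (Nat.card_fin 4)
    have := C.card_mul_index
    rw [hC, hm] at this
    omega
  refine ⟨m, ?_, hm4, hm, R.index, hsyl, by rw [← hm, R.card_mul_index]⟩
  rcases Nat.eq_zero_or_pos m with rfl | h
  · exact absurd hm (by have : 0 < Nat.card R := Nat.card_pos; omega)
  · exact h

variable [Finite G] (L : Loc G) (H : Hex G)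

/-- the normaliser of the sixteen-group -/
abbrev nE : Subgroup G := normalizer (H.E : Set G)

/-- the seventy-seven points -/
abbrev Pt : Type _ := G ⧸ nE H

/-- the base point -/
def base : Pt H := QuotientGroup.mk 1

/-- the sixteen-group inside its normaliser -/
abbrev eN : Subgroup (nE H) := H.E.subgroupOf (nE H)

include L

theorem mem_nE_of_meet {g v : G} (hv : v ∈ H.E) (hv1 : v ≠ 1) (h : g⁻¹ * v * g ∈ H.E) :
    g ∈ nE H := by
  have hne : g⁻¹ * v * g ≠ 1 := fun e => hv1 (by
    have := congrArg (fun y => g * y * g⁻¹) e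
    simpa [mul_assoc] using this)
  obtain ⟨n, hn, e⟩ := H.trans _ h _ hv hne hv1
  have hC : g * n⁻¹ ∈ centralizer ({v} : Set G) := by
    rw [mem_centralizer_singleton_iff]
    calc g * n⁻¹ * v = g * n⁻¹ * (n * (g⁻¹ * v * g) * n⁻¹) := by rw [e]
      _ = v * (g * n⁻¹) := by group
  have := mul_mem (H.cent v hv hv1 hC) hn
  rwa [inv_mul_cancel_right] at this

omit L in
theorem smul_base (g : G) : g • base H = QuotientGroup.mk g := by
  rw [base, MulAction.Quotient.smul_mk, smul_eq_mul, mul_one]

omit L in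
theorem smul_eq_base {g : G} : g • base H = base H ↔ g ∈ nE H := by
  rw [smul_base, base, eq_comm, QuotientGroup.eq, inv_one, one_mul]

omit L in
theorem exists_smul_base (x : Pt H) : ∃ g : G, g • base H = x := by
  obtain ⟨g, rfl⟩ := QuotientGroup.mk_surjective x
  exact ⟨g, smul_base H g⟩

theorem card_pt : Nat.card (Pt H) = 77 := by
  show Nat.card (G ⧸ nE H) = 77
  have h := (nE H).card_mul_index
  rw [H.card_N, L.card] at h
  rw [← index_eq_card]
  omega

omit L in
theorem card_eN : Nat.card (eN H) = 16 := by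
  rw [Nat.card_congr (subgroupOfEquivOfLe (Subgroup.le_normalizer (H := H.E))).toEquiv, H.card_E]

/-- the part of the sixteen-group fixing a point -/
abbrev kPt (x : Pt H) : Subgroup (nE H) := MulAction.stabilizer (nE H) x ⊓ eN H

theorem kPt_image {g : G} (hg : g ∉ nE H) {k : nE H} (hk : k ∈ kPt H (g • base H)) :
    g⁻¹ * (k : G) * g ∈ nE H ∧ (g⁻¹ * (k : G) * g ∈ H.E → k = 1) := by
  refine ⟨?_, fun h => ?_⟩
  · have h1 : (k : G) • g • base H = g • base H := hk.1
    rw [← smul_eq_base, mul_smul, mul_smul, h1, inv_smul_smul]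
  · by_contra hne
    exact hg (mem_nE_of_meet L H hk.2 (fun e => hne (Subtype.ext e)) h)

theorem card_kPt {x : Pt H} (hx : x ≠ base H) :
    Nat.card (kPt H x) = 1 ∨ Nat.card (kPt H x) = 2 ∨ Nat.card (kPt H x) = 4 := by
  haveI : Fact (Nat.Prime 2) := ⟨Nat.prime_two⟩
  obtain ⟨g, rfl⟩ := exists_smul_base H x
  have hg : g ∉ nE H := fun h => hx ((smul_eq_base H).mpr h)
  have hd : Nat.card (kPt H (g • base H)) ∣ 2 ^ 4 := by
    have := card_dvd_of_le (inf_le_right : kPt H (g • base H) ≤ eN H)
    rwa [card_eN] at this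
  obtain ⟨j, hj, e⟩ := (Nat.dvd_prime_pow Nat.prime_two).mp hd
  by_contra hne
  have hj3 : 3 ≤ j := by
    by_contra hlt
    refine hne ?_
    rw [e]
    interval_cases j <;> norm_num
  obtain ⟨K', hK'⟩ := Sylow.exists_subgroup_card_pow_prime (G := kPt H (g • base H)) 2 (n := 3)
    (by rw [e]; exact pow_dvd_pow 2 hj3)
  let f : kPt H (g • base H) →* G :=
    (MulAut.conj g⁻¹).toMonoidHom.comp ((nE H).subtype.comp (kPt H (g • base H)).subtype)
  have hf : ∀ y, f y = g⁻¹ * ((y : nE H) : G) * g := fun y => by simp [f]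
  have hfi : Function.Injective f := (MulAut.conj g⁻¹).injective.comp
    (Subtype.val_injective.comp Subtype.val_injective)
  refine H.noEight (K'.map f) ?_ ?_ ?_ ?_
  · rintro _ ⟨y, -, rfl⟩
    rw [hf]
    exact (kPt_image L H hg y.2).1
  · rw [eq_bot_iff]
    rintro _ ⟨⟨y, -, rfl⟩, hy⟩
    have : (y : nE H) = 1 := (kPt_image L H hg y.2).2 (by rw [← hf]; exact hy)
    rw [show y = 1 from Subtype.ext this, map_one]
    exact Subgroup.one_mem _
  · rintro _ ⟨y, -, rfl⟩
    rw [← map_mul, show y * y = 1 from Subtype.ext (Subtype.ext (H.sq _ y.2.2)), map_one]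
  · rw [← Nat.card_congr (K'.equivMapOfInjective f hfi).toEquiv, hK']
    norm_num

omit L in
theorem orbit_card (x : Pt H) :
    Nat.card (MulAction.orbit (nE H) x) * Nat.card (MulAction.stabilizer (nE H) x) = 5760 := by
  rw [← H.card_N, Nat.card_congr (MulAction.orbitEquivQuotientStabilizer (nE H) x), ← index_eq_card,
    index_mul_card]

omit L in
/-- with the product by the sixteen-group -/
theorem sup_card (x : Pt H) :
    Nat.card ↥(MulAction.stabilizer (nE H) x ⊔ eN H) * Nat.card (kPt H x) =
      16 * Nat.card (MulAction.stabilizer (nE H) x) := by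
  set M := MulAction.stabilizer (nE H) x with hM
  haveI : (eN H).Normal := Subgroup.normal_in_normalizer
  have h1 : (eN H).relIndex (M ⊔ eN H) = (eN H).relIndex M := relIndex_sup_right ..
  have h2 : Nat.card (eN H) * (eN H).relIndex (M ⊔ eN H) = Nat.card ↥(M ⊔ eN H) := by
    rw [← Nat.card_congr (subgroupOfEquivOfLe (le_sup_right : eN H ≤ M ⊔ eN H)).toEquiv]
    exact ((eN H).subgroupOf (M ⊔ eN H)).card_mul_index
  have h3 : Nat.card (kPt H x) * (eN H).relIndex M = Nat.card M := by
    rw [← inf_relIndex_right, inf_comm,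
      ← Nat.card_congr (subgroupOfEquivOfLe (inf_le_left : kPt H x ≤ M)).toEquiv]
    exact ((kPt H x).subgroupOf M).card_mul_index
  rw [card_eN] at h2
  rw [← h2, ← h3, h1]
  ring

omit L in
/-- orbit lengths are multiples of the orbit lengths of the sixteen-group -/
theorem orbit_dvd (x : Pt H) :
    16 ∣ Nat.card (MulAction.orbit (nE H) x) * Nat.card (kPt H x) := by
  obtain ⟨r, hr⟩ := (MulAction.stabilizer (nE H) x ⊔ eN H).card_subgroup_dvd_card
  rw [H.card_N] at hr
  refine ⟨r, Nat.eq_of_mul_eq_mul_right (Nat.card_pos (α := MulAction.stabilizer (nE H) x)) ?_⟩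
  calc Nat.card (MulAction.orbit (nE H) x) * Nat.card (kPt H x) *
        Nat.card (MulAction.stabilizer (nE H) x)
      = Nat.card (kPt H x) * 5760 := by rw [← orbit_card H x]; ring
    _ = _ := by
      rw [hr, ← mul_assoc, mul_comm (Nat.card (kPt H x)), sup_card]
      ring

/-- the data of an element of order five -/
structure Five (z : nE H) (b : Pt H) (h : G) : Prop where
  ord : orderOf z = 5
  fixb : z • b = b
  only : ∀ x : Pt H, z • x = x → x = base H ∨ x = b
  hne : b ≠ base H
  ha : h • base H = b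
  hb : h • b = base H

theorem exists_five : ∃ z b h, Five H z b h := by
  haveI : Fact (Nat.Prime 5) := ⟨by norm_num⟩
  obtain ⟨z, hz⟩ := exists_prime_orderOf_dvd_card' (G := nE H) 5 (by rw [H.card_N]; norm_num)
  have hzG : orderOf (z : G) = 5 := by rw [Subgroup.orderOf_coe, hz]
  have hcG := L.cent5 _ hzG
  have hcN : Nat.card (centralizer ({z} : Set (nE H))) = 5 := by
    refine le_antisymm ?_ ?_
    · rw [← hcG]
      refine Nat.card_le_card_of_injective
        (fun c : centralizer ({z} : Set (nE H)) => (⟨((c : nE H) : G), mem_centralizer_singleton_iff.mpr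
          (congrArg Subtype.val (mem_centralizer_singleton_iff.mp c.2))⟩ :
            centralizer ({(z : G)} : Set G))) fun a b e => ?_
      have h' : ((a : nE H) : G) = ((b : nE H) : G) := congrArg (fun c => (c : centralizer ({(z : G)} : Set G)).1) e
      exact Subtype.ext (Subtype.ext h')
    · calc 5 = Nat.card (zpowers z) := by rw [Nat.card_zpowers, hz]
        _ ≤ _ := card_le_of_le (zpowers_le.mpr (mem_centralizer_singleton_iff.mpr rfl))
  obtain ⟨m, hm1, hm4, hR, i, hi, hGi⟩ :=
    normalizer_five (z : G) hzG hcG (by rw [L.card]; norm_num)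
  obtain ⟨m', hm'1, hm'4, hR', i', hi', hNi⟩ :=
    normalizer_five z hz hcN (by rw [H.card_N]; norm_num)
  have hm' : m' = 2 := by
    rw [H.card_N] at hNi
    interval_cases m' <;> omega
  have hm : m = 4 := by
    rw [L.card] at hGi
    interval_cases m <;> omega
  subst hm hm'
  set R := normalizer (zpowers (z : G) : Set G) with hRdef
  have hmap : (zpowers z).map (nE H).subtype = zpowers (z : G) := MonoidHom.map_zpowers _ _
  -- the fixed points lie in the orbit of the base point under R
  have hfix : ∀ x : Pt H, z • x = x → x ∈ MulAction.orbit R (base H) := by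
    intro x hx
    obtain ⟨g, rfl⟩ := exists_smul_base H x
    have hy : g⁻¹ * (z : G) * g ∈ nE H := by
      rw [← smul_eq_base, mul_smul, mul_smul]
      have h1 : (z : G) • g • base H = g • base H := hx
      rw [h1, inv_smul_smul]
    let y : nE H := ⟨_, hy⟩
    have hy5 : orderOf y = 5 := by
      rw [← Subgroup.orderOf_coe]
      show orderOf (g⁻¹ * (z : G) * g) = 5
      rw [← hzG]
      simpa using MulEquiv.orderOf_eq (MulAut.conj g⁻¹) (z : G)
    have hfac : (Nat.card (nE H)).factorization 5 = 1 := by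
      rw [H.card_N, show 5760 = 5 * 1152 by norm_num, Nat.factorization_mul (by norm_num) (by norm_num),
        Finsupp.add_apply, Nat.Prime.factorization_self (by norm_num),
        Nat.factorization_eq_zero_of_not_dvd (n := 1152) (by norm_num)]
    let P : Sylow 5 (nE H) := Sylow.ofCard (zpowers z) (by rw [Nat.card_zpowers, hz, hfac, pow_one])
    let P' : Sylow 5 (nE H) := Sylow.ofCard (zpowers y) (by rw [Nat.card_zpowers, hy5, hfac, pow_one])
    obtain ⟨n, hn⟩ := MulAction.exists_smul_eq (nE H) P P'
    have hPP := congrArg Sylow.toSubgroup hn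
    rw [Sylow.coe_subgroup_smul] at hPP
    have hzy : n * z * n⁻¹ ∈ zpowers y := by
      have h1 : n * z * n⁻¹ ∈ (MulAut.conj n • (zpowers z)) :=
        Subgroup.smul_mem_pointwise_smul z (MulAut.conj n) _ (mem_zpowers z)
      rw [show MulAut.conj n • (zpowers z) = zpowers y from hPP] at h1
      exact h1
    obtain ⟨j, hj⟩ := mem_zpowers_iff.mp hzy
    have hj' : (g⁻¹ * (z : G) * g) ^ j = (n : G) * z * (n : G)⁻¹ := by
      have := congrArg Subtype.val hj
      simpa using this
    have hgn : g * (n : G) ∈ R := by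
      rw [hRdef, mem_normalizer_iff_map_conj_eq, MonoidHom.map_zpowers]
      refine eq_of_le_of_card_ge (zpowers_le.mpr ?_) ?_
      · refine mem_zpowers_iff.mpr ⟨j, ?_⟩
        have e : (g⁻¹ * (z : G) * g) ^ j = g⁻¹ * (z : G) ^ j * g := by
          have := conj_zpow (i := j) (a := g⁻¹) (b := (z : G))
          rwa [inv_inv] at this
        rw [e] at hj'
        show (z : G) ^ j = g * (n : G) * z * (g * (n : G))⁻¹
        calc (z : G) ^ j = g * (g⁻¹ * (z : G) ^ j * g) * g⁻¹ := by group
          _ = g * ((n : G) * z * (n : G)⁻¹) * g⁻¹ := by rw [hj']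
          _ = _ := by group
      · rw [Nat.card_zpowers, Nat.card_zpowers]
        exact ((MulEquiv.orderOf_eq (MulAut.conj (g * (n : G))) (z : G))).ge
    refine ⟨⟨_, hgn⟩, ?_⟩
    show (g * (n : G)) • base H = g • base H
    rw [mul_smul, (smul_eq_base H).mpr n.2]
  have horb : Nat.card (MulAction.orbit R (base H)) = 2 := by
    have h1 := (MulAction.stabilizer R (base H)).index_mul_card
    rw [Subgroup.index_eq_card, ← Nat.card_congr (MulAction.orbitEquivQuotientStabilizer R (base H)),
      hR] at h1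
    have h2 : Nat.card (MulAction.stabilizer R (base H)) = 10 := by
      rw [show (10 : ℕ) = 5 * 2 from rfl, ← hR']
      refine Nat.card_congr
        { toFun := fun r => ⟨⟨((r : R) : G), (smul_eq_base H).mp r.2⟩, ?_⟩
          invFun := fun n => ⟨⟨((n : nE H) : G), ?_⟩, (smul_eq_base H).mpr (n : nE H).2⟩
          left_inv := fun r => rfl
          right_inv := fun n => rfl }
      · have hr : ((r : R) : G) ∈ normalizer (zpowers (z : G) : Set G) := (r : R).2
        rw [mem_normalizer_iff_map_conj_eq, MonoidHom.map_zpowers] at hr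
        rw [mem_normalizer_iff_map_conj_eq, MonoidHom.map_zpowers]
        refine Subgroup.map_injective (nE H).subtype_injective ?_
        rw [MonoidHom.map_zpowers, hmap]
        exact hr
      · have hn := n.2
        rw [mem_normalizer_iff_map_conj_eq, MonoidHom.map_zpowers] at hn
        rw [hRdef, mem_normalizer_iff_map_conj_eq, MonoidHom.map_zpowers]
        have := congrArg (Subgroup.map (nE H).subtype) hn
        rwa [MonoidHom.map_zpowers, hmap] at this
    rw [h2] at h1
    omega
  obtain ⟨p, q, hpq, hset⟩ := Set.ncard_eq_two.mp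
    ((Nat.card_coe_set_eq _).symm.trans horb)
  have hbase : base H ∈ ({p, q} : Set (Pt H)) := hset ▸ MulAction.mem_orbit_self _
  obtain ⟨b, hb, hne, honly⟩ : ∃ b, b ∈ MulAction.orbit R (base H) ∧ b ≠ base H ∧
      ∀ x ∈ MulAction.orbit R (base H), x = base H ∨ x = b := by
    rw [hset]
    rcases hbase with e | e
    · exact ⟨q, Or.inr rfl, fun e' => hpq (e ▸ e'.symm), fun x hx => hx.imp (fun h => h.trans e.symm) id⟩
    · rw [Set.mem_singleton_iff] at e
      exact ⟨p, Or.inl rfl, fun e' => hpq (e ▸ e'), fun x hx => hx.symm.imp (fun h => h.trans e.symm) id⟩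
  obtain ⟨⟨r, hr⟩, hrb⟩ := hb
  have hrb' : r • base H = b := hrb
  have hzb : ∀ j : ℤ, (z : G) ^ j • base H = base H := fun j =>
    (smul_eq_base H).mpr (zpow_mem z.2 j)
  have hzfix : z • b = b := by
    show (z : G) • b = b
    have hr' := inv_mem hr
    obtain ⟨j, hj⟩ := mem_zpowers_iff.mp ((mem_normalizer_iff.mp hr' (z : G)).mp (mem_zpowers _))
    rw [inv_inv] at hj
    rw [← hrb', smul_smul, show (z : G) * r = r * (z : G) ^ j by rw [hj]; group, mul_smul, hzb]
  refine ⟨z, b, r, hz, hzfix, fun x hx => honly x (hfix x hx), hne, hrb', ?_⟩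
  have h2 : r • b ∈ MulAction.orbit R (base H) :=
    ⟨⟨r * r, mul_mem hr hr⟩, by rw [← hrb', smul_smul]; rfl⟩
  rcases honly _ h2 with e | e
  · exact e
  · exact absurd (smul_left_cancel r (hrb'.trans e.symm)) hne.symm

variable {H} {z : nE H} {b : Pt H} {h : G} (F : Five H z b h)
include F

/-- lengths of orbits modulo five -/
theorem orbit_mod_five (x : Pt H) :
    Nat.card (MulAction.orbit (nE H) x) % 5 =
      Nat.card {y : MulAction.orbit (nE H) x // z • (y : Pt H) = y} % 5 := by
  haveI : Fact (Nat.Prime 5) := ⟨by norm_num⟩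
  have hP : IsPGroup 5 (zpowers z) :=
    IsPGroup.of_card (n := 1) (by rw [Nat.card_zpowers, F.ord, pow_one])
  have h5 := hP.card_modEq_card_fixedPoints (MulAction.orbit (nE H) x)
  refine h5.trans (congrArg (· % 5) (Nat.card_congr (Equiv.subtypeEquivRight fun y => ?_)))
  constructor
  · intro hy
    have := hy ⟨z, mem_zpowers z⟩
    exact congrArg Subtype.val this
  · intro hy c
    obtain ⟨j, hj⟩ := mem_zpowers_iff.mp c.2
    apply Subtype.ext
    show (c : nE H) • (y : Pt H) = y
    rw [← hj]
    exact MulAction.mem_stabilizer_iff.mp (zpow_mem (MulAction.mem_stabilizer_iff.mpr hy) j)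

theorem kPt_b : kPt H b = ⊥ := by
  classical
  rw [eq_bot_iff]
  intro k hk
  rw [Subgroup.mem_bot]
  have hconj : ∀ j : ℤ, ∀ c ∈ kPt H b, z ^ j * c * (z ^ j)⁻¹ ∈ kPt H b := by
    intro j c hc
    haveI : (eN H).Normal := Subgroup.normal_in_normalizer
    have hzM : z ∈ MulAction.stabilizer (nE H) b := F.fixb
    have hzj := Subgroup.zpow_mem _ hzM j
    exact ⟨Subgroup.mul_mem _ (Subgroup.mul_mem _ hzj hc.1) (Subgroup.inv_mem _ hzj),
      Subgroup.Normal.conj_mem inferInstance _ hc.2 _⟩
  let σ : Equiv.Perm (kPt H b) :=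
    { toFun := fun c => ⟨z * c * z⁻¹, by simpa using hconj 1 c c.2⟩
      invFun := fun c => ⟨z⁻¹ * c * z, by simpa using hconj (-1) c c.2⟩
      left_inv := fun c => Subtype.ext (by group)
      right_inv := fun c => Subtype.ext (by group) }
  have hpow : ∀ i : ℕ, ∀ c, ((σ ^ i) c : nE H) = z ^ i * c * (z ^ i)⁻¹ := by
    intro i
    induction i with
    | zero => intro c; simp
    | succ i ih =>
      intro c
      rw [pow_succ', Equiv.Perm.mul_apply, pow_succ']
      show z * ((σ ^ i) c : nE H) * z⁻¹ = _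
      rw [ih]
      group
  have h5 : σ ^ 5 = 1 := Equiv.ext fun c => Subtype.ext (by
    rw [hpow, ← F.ord, pow_orderOf_eq_one]; simp)
  have hσ : σ = 1 := by
    rcases (Nat.dvd_prime (by norm_num : Nat.Prime 5)).mp (orderOf_dvd_of_pow_eq_one h5) with e | e
    · exact orderOf_eq_one_iff.mp e
    · exfalso
      have h' : 5 ∣ Nat.card (Equiv.Perm (kPt H b)) := e ▸ orderOf_dvd_natCard σ
      rw [Nat.card_perm] at h'
      rcases card_kPt L H F.hne with e' | e' | e' <;> rw [e'] at h' <;> revert h' <;> decide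
  have hk1 : z * k * z⁻¹ = k := congrArg Subtype.val (DFunLike.congr_fun hσ ⟨k, hk⟩)
  have hzG : orderOf (z : G) = 5 := by rw [Subgroup.orderOf_coe, F.ord]
  have hC : (k : G) ∈ centralizer ({(z : G)} : Set G) := by
    rw [mem_centralizer_singleton_iff]
    conv_lhs => rw [← hk1]
    push_cast
    group
  have h2 : orderOf (k : G) ∣ 2 := orderOf_dvd_of_pow_eq_one (by rw [pow_two]; exact H.sq _ hk.2)
  have h5' : orderOf (k : G) ∣ 5 :=
    L.cent5 _ hzG ▸ Subgroup.orderOf_dvd_natCard _ hC
  exact Subtype.ext (orderOf_eq_one_iff.mp (Nat.dvd_one.mp (Nat.dvd_gcd h2 h5')))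

/-- the suborbit of length sixteen -/
theorem card_delta : Nat.card (MulAction.orbit (nE H) b) = 16 := by
  set s := Nat.card (MulAction.orbit (nE H) b) with hs
  have h16 : 16 ∣ s := by
    have := orbit_dvd H b
    rwa [kPt_b L F, Subgroup.card_bot, mul_one] at this
  have hnot : base H ∉ MulAction.orbit (nE H) b := by
    rintro ⟨n, hn⟩
    refine F.hne (smul_left_cancel n (hn.trans ?_))
    exact ((smul_eq_base H).mpr n.2).symm
  have h76 : s ≤ 76 := by
    have h := Set.ncard_le_ncard (t := {base H}ᶜ)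
      (fun y hy (e : y = base H) => hnot (e ▸ hy) : MulAction.orbit (nE H) b ⊆ {base H}ᶜ)
    rw [Set.ncard_compl, Set.ncard_singleton, card_pt L H, ← Nat.card_coe_set_eq] at h
    exact h
  have h1 : s % 5 = 1 := by
    rw [hs, orbit_mod_five L F]
    haveI : Unique {y : MulAction.orbit (nE H) b // z • (y : Pt H) = y} :=
      { default := ⟨⟨b, MulAction.mem_orbit_self b⟩, F.fixb⟩
        uniq := fun y => by
          rcases F.only _ y.2 with e | e
          · exact absurd (e ▸ y.1.2) hnot
          · exact Subtype.ext (Subtype.ext e) }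
    rw [Nat.card_unique]
  obtain ⟨c, hc⟩ := h16
  omega

/-- the stabiliser of the second point moves any involution of the sixteen-group to any other -/
theorem delta_trans {y y' : Pt H} (hy : y ∈ MulAction.orbit (nE H) b) (hy1 : y ≠ b)
    (hy' : y' ∈ MulAction.orbit (nE H) b) (hy'1 : y' ≠ b) :
    ∃ n : nE H, n • b = b ∧ n • y = y' := by
  set M := MulAction.stabilizer (nE H) b with hM
  haveI : (eN H).Normal := Subgroup.normal_in_normalizer
  have hMc : Nat.card M = 360 := by
    have := orbit_card H b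
    rw [card_delta L F, ← hM] at this
    omega
  have htop : M ⊔ eN H = ⊤ := by
    apply Subgroup.eq_top_of_card_eq
    have := sup_card H b
    rw [kPt_b L F, Subgroup.card_bot, mul_one, hMc] at this
    rw [this, H.card_N]
  have hdec : ∀ n : nE H, ∃ e ∈ eN H, ∃ m ∈ M, n = e * m := by
    intro n
    have hn : n ∈ eN H ⊔ M := by rw [sup_comm, htop]; exact Subgroup.mem_top n
    obtain ⟨e, he, m, hm, rfl⟩ := Subgroup.mem_sup_of_normal_left.mp hn
    exact ⟨e, he, m, hm, rfl⟩
  have hgen : ∀ w, w ∈ MulAction.orbit (nE H) b → w ≠ b → ∃ e ∈ eN H, e ≠ 1 ∧ e • b = w := by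
    rintro _ ⟨n, rfl⟩ hw
    obtain ⟨e, he, m, hm, rfl⟩ := hdec n
    have hmb : m • b = b := hm
    refine ⟨e, he, ?_, by show e • b = (e * m) • b; rw [mul_smul, hmb]⟩
    rintro rfl
    exact hw (by show (1 * m) • b = b; rw [one_mul, hmb])
  obtain ⟨e, he, he1, rfl⟩ := hgen y hy hy1
  obtain ⟨e', he', he'1, rfl⟩ := hgen y' hy' hy'1
  obtain ⟨n, hn, hne⟩ := H.trans _ he _ he' (fun c => he1 (Subtype.ext c))
    (fun c => he'1 (Subtype.ext c))
  obtain ⟨f, hf, m, hm, hnm⟩ := hdec ⟨n, hn⟩
  have hmb : m • b = b := hm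
  refine ⟨m, hmb, ?_⟩
  have hcomm : ∀ p ∈ H.E, ∀ q ∈ H.E, p * q = q * p := fun p hp q hq => by
    have h1 := H.sq _ (mul_mem hp hq)
    calc p * q = p * q * (q * q) := by rw [H.sq _ hq, mul_one]
      _ = p * (q * q) * q := by group
      _ = p * q := by rw [H.sq _ hq, mul_one]
      _ = (p * q)⁻¹ := eq_inv_of_mul_eq_one_left h1
      _ = q * p := by rw [mul_inv_rev, inv_eq_of_mul_eq_one_left (H.sq _ hp),
          inv_eq_of_mul_eq_one_left (H.sq _ hq)]
  have hme : m * e * m⁻¹ = e' := by
    have hG : (f : G) * ((m : G) * e * (m : G)⁻¹) * (f : G)⁻¹ = e' := by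
      have hv : n = (f : G) * (m : G) := congrArg Subtype.val hnm
      refine Eq.trans ?_ hne
      rw [hv]
      show _ = (f : G) * m * (e : G) * ((f : G) * m)⁻¹
      group
    have hin : (m : G) * e * (m : G)⁻¹ ∈ H.E :=
      (Subgroup.Normal.conj_mem inferInstance e he m : m * e * m⁻¹ ∈ eN H)
    rw [hcomm (f : G) hf _ hin, mul_inv_cancel_right] at hG
    exact Subtype.ext hG
  calc m • e • b = (m * e * m⁻¹) • m • b := by rw [smul_smul, smul_smul]; group
    _ = e' • b := by rw [hme, hmb]

/-- the suborbit of length sixty -/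
theorem far_orbit {x y : Pt H} (hx : x ≠ base H) (hx' : x ∉ MulAction.orbit (nE H) b)
    (hy : y ≠ base H) (hy' : y ∉ MulAction.orbit (nE H) b) :
    y ∈ MulAction.orbit (nE H) x := by
  haveI : Fact (Nat.Prime 2) := ⟨Nat.prime_two⟩
  haveI : Fact (Nat.Prime 3) := ⟨Nat.prime_three⟩
  set T : Set (Pt H) := ({base H} ∪ MulAction.orbit (nE H) b)ᶜ with hT
  have hTc : T.ncard = 60 := by
    have hdis : Disjoint ({base H} : Set (Pt H)) (MulAction.orbit (nE H) b) := by
      rw [Set.disjoint_singleton_left]
      rintro ⟨n, hn⟩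
      exact F.hne (smul_left_cancel n (hn.trans ((smul_eq_base H).mpr n.2).symm))
    rw [hT, Set.ncard_compl, Set.ncard_union_eq hdis, Set.ncard_singleton, ← Nat.card_coe_set_eq,
      card_delta L F, card_pt L H]
  have hsub : MulAction.orbit (nE H) x ⊆ T := by
    rintro _ ⟨n, rfl⟩
    simp only [hT, Set.mem_compl_iff, Set.mem_union, Set.mem_singleton_iff, not_or]
    refine ⟨fun e => hx (smul_left_cancel n (e.trans ((smul_eq_base H).mpr n.2).symm)), fun e => hx' ?_⟩
    have := MulAction.mem_orbit_of_mem_orbit n⁻¹ e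
    rwa [inv_smul_smul] at this
  set s := Nat.card (MulAction.orbit (nE H) x) with hs
  have hs60 : s ≤ 60 := by
    rw [hs, Nat.card_coe_set_eq, ← hTc]
    exact Set.ncard_le_ncard hsub
  have h5 : s % 5 = 0 := by
    rw [hs, orbit_mod_five L F]
    haveI : IsEmpty {y : MulAction.orbit (nE H) x // z • (y : Pt H) = y} := by
      refine ⟨fun y => ?_⟩
      have hyT := hsub y.1.2
      simp only [hT, Set.mem_compl_iff, Set.mem_union, Set.mem_singleton_iff, not_or] at hyT
      rcases F.only _ y.2 with e | e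
      · exact hyT.1 e
      · refine hyT.2 ?_
        rw [e]
        exact MulAction.mem_orbit_self b
    rw [Nat.card_of_isEmpty]
  haveI : Nonempty (MulAction.orbit (nE H) x) := ⟨⟨x, MulAction.mem_orbit_self x⟩⟩
  have hs0 : 0 < s := Nat.card_pos
  have hcard := orbit_card H x
  have hdvd := orbit_dvd H x
  rw [← hs] at hcard hdvd
  have key : s = 60 := by
    obtain ⟨c, hc⟩ := hdvd
    rcases card_kPt L H hx with e | e | e <;> rw [e] at hc
    · omega
    · exfalso
      have h40 : s = 40 := by omega
      rw [h40] at hcard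
      have hsup := sup_card H x
      rw [e] at hsup
      refine H.noFive ((MulAction.stabilizer (nE H) x ⊔ eN H).map (nE H).subtype) (map_subtype_le _) ?_
      rw [card_map_of_injective (nE H).subtype_injective]
      omega
    · by_contra hne
      have h9 : 3 ^ 2 ∣ Nat.card (MulAction.stabilizer (nE H) x) := by
        rcases (show s = 20 ∨ s = 40 by omega) with e' | e' <;> rw [e'] at hcard <;>
          exact ⟨Nat.card (MulAction.stabilizer (nE H) x) / 9, by omega⟩
      obtain ⟨Q, hQ⟩ := Sylow.exists_subgroup_card_pow_prime (G := MulAction.stabilizer (nE H) x) 3 h9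
      obtain ⟨g, rfl⟩ := exists_smul_base H x
      have hg : g ∉ nE H := fun hh => hx ((smul_eq_base H).mpr hh)
      set K := (kPt H (g • base H)).map (nE H).subtype with hK
      have hKsq : ∀ k ∈ K, k * k = 1 := by
        rintro _ ⟨k, hk, rfl⟩; exact H.sq _ hk.2
      have hKn : ∀ k ∈ K, ∀ v, g⁻¹ * v * g ∈ H.E → g⁻¹ * (k * v * k⁻¹) * g ∈ H.E := by
        rintro _ ⟨k, hk, rfl⟩ v hv
        have h1 := (mem_normalizer_iff.mp (kPt_image L H hg hk).1 _).mp hv
        simpa [mul_assoc] using h1
      let W : Subgroup G := H.E.comap (MulAut.conj g⁻¹).toMonoidHom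
      have hW : ∀ v, v ∈ W ↔ g⁻¹ * v * g ∈ H.E := fun v => by simp [W]
      have hWc : Nat.card W = 16 := by
        rw [← H.card_E]
        exact Nat.card_congr (Equiv.subtypeEquiv (MulAut.conj g⁻¹).toEquiv fun v => Iff.rfl)
      letI act : MulAction K W :=
        { smul := fun k v => ⟨(k : G) * v * (k : G)⁻¹,
            (hW _).mpr (hKn k k.2 v ((hW _).mp v.2))⟩
          one_smul := fun v => Subtype.ext (by show (1 : G) * v * (1 : G)⁻¹ = v; group)
          mul_smul := fun k l v => Subtype.ext (by
            show (k : G) * l * v * ((k : G) * l)⁻¹ = (k : G) * ((l : G) * v * (l : G)⁻¹) * (k : G)⁻¹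
            group) }
      have hKc : Nat.card K = 4 := by rw [hK, card_map_of_injective (nE H).subtype_injective, e]
      have hKp : IsPGroup 2 K := IsPGroup.of_card (n := 2) (by rw [hKc]; norm_num)
      have h1W : (1 : W) ∈ MulAction.fixedPoints K W := fun k => Subtype.ext (by
        show (k : G) * 1 * (k : G)⁻¹ = 1; group)
      obtain ⟨w, hw, hw1⟩ := hKp.exists_fixed_point_of_prime_dvd_card_of_fixed_point W
        (by rw [hWc]; norm_num) h1W
      have hwsq : (w : G) * w = 1 := by
        have h1 := H.sq _ ((hW _).mp w.2)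
        have h2 := congrArg (fun v => g * v * g⁻¹) h1
        simpa [mul_assoc] using h2
      have hwE : (w : G) ∈ H.E := by
        refine H.kill K ?_ hKc ((Q.map (MulAction.stabilizer (nE H) (g • base H)).subtype).map
          (nE H).subtype) (map_subtype_le _) ?_ ?_ _ hwsq fun k hk => ?_
        · rintro _ ⟨k, hk, rfl⟩; exact hk.2
        · rw [card_map_of_injective (nE H).subtype_injective,
            card_map_of_injective (MulAction.stabilizer (nE H) (g • base H)).subtype_injective, hQ]
          norm_num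
        · rintro _ ⟨_, ⟨q, -, rfl⟩, rfl⟩ _ ⟨k, hk, rfl⟩
          haveI : (eN H).Normal := Subgroup.normal_in_normalizer
          exact ⟨(q : nE H) * k * (q : nE H)⁻¹,
            ⟨Subgroup.mul_mem _ (Subgroup.mul_mem _ q.2 hk.1) (Subgroup.inv_mem _ q.2),
            Subgroup.Normal.conj_mem inferInstance _ hk.2 _⟩, rfl⟩
        · have h1 := congrArg Subtype.val (hw ⟨k, hk⟩)
          have h2 : k * (w : G) * k⁻¹ = w := h1
          show (w : G) * k = k * w
          conv_lhs => rw [← h2]
          group
      exact hg (mem_nE_of_meet L H hwE (fun c => hw1 (Subtype.ext c).symm) ((hW _).mp w.2))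
  have heq : MulAction.orbit (nE H) x = T :=
    Set.eq_of_subset_of_ncard_le hsub (by rw [hTc, ← Nat.card_coe_set_eq, ← hs, key])
  rw [heq, hT]
  simp [hy, hy']

omit F

/-- the orbital graph -/
def orb (b : Pt H) (x y : Pt H) : Prop := ∃ g : G, g • base H = x ∧ g • b = y

omit L in
theorem orb_smul (b : Pt H) (g : G) {x y : Pt H} : orb b (g • x) (g • y) ↔ orb b x y := by
  constructor
  · rintro ⟨k, h1, h2⟩
    exact ⟨g⁻¹ * k, by rw [mul_smul, h1, inv_smul_smul], by rw [mul_smul, h2, inv_smul_smul]⟩
  · rintro ⟨k, h1, h2⟩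
    exact ⟨g * k, by rw [mul_smul, h1], by rw [mul_smul, h2]⟩

omit L in
theorem orb_base (b : Pt H) {y : Pt H} : orb b (base H) y ↔ y ∈ MulAction.orbit (nE H) b :=
  ⟨fun ⟨k, h1, h2⟩ => ⟨⟨k, (smul_eq_base H).mp h1⟩, h2⟩,
    fun ⟨n, hn⟩ => ⟨n, (smul_eq_base H).mpr n.2, hn⟩⟩

include F

theorem orb_symm {x y : Pt H} (hxy : orb b x y) : orb b y x := by
  obtain ⟨g, rfl, rfl⟩ := hxy
  exact ⟨g * h, by rw [mul_smul, F.ha], by rw [mul_smul, F.hb]⟩

theorem orb_irrefl {x : Pt H} : ¬ orb b x x := fun ⟨g, h1, h2⟩ =>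
  F.hne (smul_left_cancel g (h2.trans h1.symm))

/-- two neighbours in the suborbit are not joined -/
theorem no_triangle {y : Pt H} (hy : y ∈ MulAction.orbit (nE H) b) : ¬ orb b b y := by
  intro hby
  set D := MulAction.orbit (nE H) b with hD
  have hyb : y ≠ b := fun e => orb_irrefl L F (e ▸ hby)
  have hall : ∀ w ∈ D, w ≠ b → orb b b w := by
    intro w hw hwb
    obtain ⟨n, hn1, hn2⟩ := delta_trans L F hy hyb hw hwb
    have := (orb_smul b (n : G)).mpr hby
    rwa [show (n : G) • b = b from hn1, show (n : G) • y = w from hn2] at this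
  set C : Set (Pt H) := insert (base H) D with hC
  have hbase : base H ∉ D := fun e => orb_irrefl L F ((orb_base b).mpr e)
  have hCc : C.ncard = 17 := by
    rw [hC, Set.ncard_insert_of_notMem hbase, ← Nat.card_coe_set_eq, card_delta L F]
  -- the neighbours of b
  have hnb : ∀ w, orb b b w → w ∈ C := by
    have hnbr : {w | orb b b w} = (fun w => h • w) '' D := by
      ext w
      simp only [Set.mem_setOf_eq, Set.mem_image]
      constructor
      · intro hw
        refine ⟨h⁻¹ • w, (orb_base b).mp ?_, smul_inv_smul h w⟩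
        have := (orb_smul b h⁻¹).mpr hw
        rwa [show h⁻¹ • b = base H from inv_smul_eq_iff.mpr F.ha.symm] at this
      · rintro ⟨v, hv, rfl⟩
        have := (orb_smul b h).mpr ((orb_base b).mpr hv)
        rwa [F.ha] at this
    have hsub : C \ {b} ⊆ {w | orb b b w} := by
      rintro w ⟨rfl | hw, hwb⟩
      · exact orb_symm L F ((orb_base b).mpr (MulAction.mem_orbit_self b))
      · exact hall w hw hwb
    have hcard : {w | orb b b w}.ncard = 16 := by
      rw [hnbr, Set.ncard_image_of_injective _ (MulAction.injective h), ← Nat.card_coe_set_eq,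
        card_delta L F]
    have heq := Set.eq_of_subset_of_ncard_le hsub (by
      rw [hcard, Set.ncard_sdiff_singleton_of_mem (show b ∈ C from Or.inr (MulAction.mem_orbit_self b)), hCc])
    intro w hw
    have : w ∈ {w | orb b b w} := hw
    rw [← heq] at this
    exact this.1
  -- the setwise stabiliser of the closed neighbourhood is transitive on it
  let S : Subgroup G := MulAction.stabilizer G C
  have hN : nE H ≤ S := by
    intro n hn
    rw [MulAction.mem_stabilizer_iff, ← Set.image_smul]
    refine Set.eq_of_subset_of_ncard_le ?_ (by rw [Set.ncard_image_of_injective _ (MulAction.injective n)])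
    rintro _ ⟨w, rfl | hw, rfl⟩
    · exact Or.inl ((smul_eq_base H).mpr hn)
    · exact Or.inr (MulAction.mem_orbit_of_mem_orbit (⟨n, hn⟩ : nE H) hw)
  have hh : h ∈ S := by
    rw [MulAction.mem_stabilizer_iff, ← Set.image_smul]
    refine Set.eq_of_subset_of_ncard_le ?_ (by rw [Set.ncard_image_of_injective _ (MulAction.injective h)])
    rintro _ ⟨w, rfl | hw, rfl⟩
    · show h • base H ∈ C
      rw [F.ha]; exact Or.inr (MulAction.mem_orbit_self b)
    · refine hnb _ ?_
      have := (orb_smul b h).mpr ((orb_base b).mpr hw)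
      rwa [F.ha] at this
  have hCorb : C = MulAction.orbit S (base H) := by
    refine Set.Subset.antisymm ?_ ?_
    · rintro w (rfl | ⟨n, rfl⟩)
      · exact MulAction.mem_orbit_self _
      · refine ⟨⟨(n : G) * h, mul_mem (hN n.2) hh⟩, ?_⟩
        show ((n : G) * h) • base H = n • b
        rw [mul_smul, F.ha]; rfl
    · rintro _ ⟨s, rfl⟩
      have hs : (s : G) • C = C := s.2
      rw [← hs]
      exact Set.smul_mem_smul_set (Set.mem_insert _ _)
  have hst : Nat.card (MulAction.stabilizer S (base H)) = 5760 := by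
    rw [← H.card_N]
    exact Nat.card_congr
      { toFun := fun s => ⟨((s : S) : G), (smul_eq_base H).mp s.2⟩
        invFun := fun n => ⟨⟨n, hN n.2⟩, (smul_eq_base H).mpr n.2⟩
        left_inv := fun s => rfl
        right_inv := fun n => rfl }
  have hS := (MulAction.stabilizer S (base H)).index_mul_card
  rw [Subgroup.index_eq_card, ← Nat.card_congr (MulAction.orbitEquivQuotientStabilizer S (base H)),
    Nat.card_coe_set_eq, ← hCorb, hCc, hst] at hS
  have := S.card_subgroup_dvd_card
  rw [← hS, L.card] at this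
  revert this
  decide

omit F

/-- the group with the local data acts on the graph -/
theorem m22_of_hex (H : Hex G) : Nonempty (G ≃* ↥Cfsg.Spor.M22) := by
  classical
  obtain ⟨z, b, h, F⟩ := exists_five L H
  haveI : Fintype (Pt H) := Fintype.ofFinite _
  let Γ : SimpleGraph (Pt H) :=
    { Adj := orb b
      symm := { symm := fun _ _ hxy => orb_symm L F hxy }
      loopless := { irrefl := fun _ hx => orb_irrefl L F hx } }
  have hadj : ∀ {x y}, Γ.Adj x y ↔ orb b x y := Iff.rfl
  set D := MulAction.orbit (nE H) b with hD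
  have hDf : D.toFinset.card = 16 := by
    rw [← Set.ncard_eq_toFinset_card', ← Nat.card_coe_set_eq]; exact card_delta L F
  have hnbr : ∀ g : G, Γ.neighborFinset (g • base H) = D.toFinset.image (g • ·) := by
    intro g
    ext w
    simp only [SimpleGraph.mem_neighborFinset, Finset.mem_image, Set.mem_toFinset]
    constructor
    · intro hw
      refine ⟨g⁻¹ • w, (orb_base b).mp ?_, smul_inv_smul g w⟩
      have := (orb_smul b g⁻¹).mpr hw
      rwa [inv_smul_smul] at this
    · rintro ⟨v, hv, rfl⟩
      exact (orb_smul b g).mpr ((orb_base b).mpr hv)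
  have hdeg : ∀ v, (Γ.neighborFinset v).card = 16 := by
    intro v
    obtain ⟨g, rfl⟩ := exists_smul_base H v
    rw [hnbr, Finset.card_image_of_injective _ (MulAction.injective g), hDf]
  let cn : Pt H → Pt H → ℕ := fun v w => (Γ.neighborFinset v ∩ Γ.neighborFinset w).card
  have hcn : ∀ v w, Fintype.card (Γ.commonNeighbors v w) = cn v w := by
    intro v w
    rw [← Set.toFinset_card]
    congr 1
    ext u
    simp [SimpleGraph.mem_commonNeighbors]
  have hshift : ∀ (g : G) v w, cn (g • v) (g • w) = cn v w := by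
    intro g v w
    show (Γ.neighborFinset (g • v) ∩ Γ.neighborFinset (g • w)).card =
      (Γ.neighborFinset v ∩ Γ.neighborFinset w).card
    conv_rhs => rw [← Finset.card_image_of_injective (f := fun u => g • u) _ (MulAction.injective g)]
    congr 1
    ext u
    simp only [Finset.mem_inter, SimpleGraph.mem_neighborFinset, Finset.mem_image]
    constructor
    · rintro ⟨h1, h2⟩
      refine ⟨g⁻¹ • u, ⟨(orb_smul b g).mp ?_, (orb_smul b g).mp ?_⟩, smul_inv_smul g u⟩
      · rw [smul_inv_smul]; exact h1
      · rw [smul_inv_smul]; exact h2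
    · rintro ⟨u, ⟨h1, h2⟩, rfl⟩
      exact ⟨(orb_smul b g).mpr h1, (orb_smul b g).mpr h2⟩
  have hlam : ∀ y ∈ D, cn (base H) y = 0 := by
    rintro _ ⟨n, rfl⟩
    show cn (base H) ((n : G) • b) = 0
    rw [← (smul_eq_base H).mpr n.2, hshift, Finset.card_eq_zero, Finset.eq_empty_iff_forall_notMem]
    intro u hu
    simp only [Finset.mem_inter, SimpleGraph.mem_neighborFinset] at hu
    exact no_triangle L F ((orb_base b).mp hu.1) hu.2
  set T : Finset (Pt H) := Finset.univ \ (insert (base H) D.toFinset) with hT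
  have hbase : base H ∉ D := fun e => orb_irrefl L F ((orb_base b).mpr e)
  have hTmem : ∀ {w}, w ∈ T ↔ w ≠ base H ∧ w ∉ D := by simp [hT]
  have hTc : T.card = 60 := by
    rw [hT, Finset.card_sdiff_of_subset (Finset.subset_univ _),
      Finset.card_insert_of_notMem (by simpa using hbase), hDf, Finset.card_univ,
      ← Nat.card_eq_fintype_card, card_pt L H]
  have hconst : ∀ w ∈ T, ∀ w' ∈ T, cn (base H) w' = cn (base H) w := by
    intro w hw w' hw'
    obtain ⟨n, rfl⟩ := far_orbit L F (hTmem.mp hw).1 (hTmem.mp hw).2 (hTmem.mp hw').1 (hTmem.mp hw').2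
    conv_lhs => rw [← (smul_eq_base H).mpr n.2]
    exact hshift _ _ _
  have hmu : ∀ w ∈ T, cn (base H) w = 4 := by
    intro w hw
    have hN0 : Γ.neighborFinset (base H) = D.toFinset := by
      have := hnbr 1
      rw [show (1 : G) • base H = base H from one_smul G _] at this
      rw [this]
      ext u
      simp
    have hflag := Finset.sum_card_bipartiteAbove_eq_sum_card_bipartiteBelow
      (s := D.toFinset) (t := T) Γ.Adj
    have l1 : ∀ y ∈ D.toFinset, (T.bipartiteAbove Γ.Adj y).card = 15 := by
      intro y hy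
      rw [Set.mem_toFinset] at hy
      have e : T.bipartiteAbove Γ.Adj y = (Γ.neighborFinset y).erase (base H) := by
        ext u
        simp only [Finset.bipartiteAbove, Finset.mem_filter, Finset.mem_erase,
          SimpleGraph.mem_neighborFinset, hTmem]
        refine ⟨fun hu => ⟨hu.1.1, hu.2⟩, fun hu => ⟨⟨hu.1, fun huD => ?_⟩, hu.2⟩⟩
        have h0 := hlam y hy
        rw [Finset.card_eq_zero] at h0
        have hmem : u ∈ Γ.neighborFinset (base H) ∩ Γ.neighborFinset y := by
          simp only [Finset.mem_inter, SimpleGraph.mem_neighborFinset]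
          exact ⟨(orb_base b).mpr huD, hu.2⟩
        rw [h0] at hmem
        exact Finset.notMem_empty u hmem
      rw [e, Finset.card_erase_of_mem (by
        rw [SimpleGraph.mem_neighborFinset]
        exact orb_symm L F ((orb_base b).mpr hy)), hdeg]
    have l2 : ∀ u ∈ T, (D.toFinset.bipartiteBelow Γ.Adj u).card = cn (base H) w := by
      intro u hu
      rw [← hconst w hw u hu]
      congr 1
      ext y
      simp only [Finset.bipartiteBelow, Finset.mem_filter, Finset.mem_inter, hN0,
        SimpleGraph.mem_neighborFinset]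
      exact and_congr_right fun _ => Γ.adj_comm y u
    rw [Finset.sum_congr rfl l1, Finset.sum_congr rfl l2, Finset.sum_const, Finset.sum_const, hDf,
      hTc, smul_eq_mul, smul_eq_mul] at hflag
    omega
  have hsrg : Γ.IsSRGWith 77 16 0 4 := by
    refine ⟨?_, fun v => ?_, fun v w hvw => ?_, fun v w hne hvw => ?_⟩
    · rw [← Nat.card_eq_fintype_card, card_pt L H]
    · rw [← SimpleGraph.card_neighborFinset_eq_degree]; exact hdeg v
    · obtain ⟨g, rfl⟩ := exists_smul_base H v
      rw [hcn, ← smul_inv_smul g w, hshift]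
      refine hlam _ ((orb_base b).mp ?_)
      rw [← orb_smul b g, smul_inv_smul]
      exact hvw
    · obtain ⟨g, rfl⟩ := exists_smul_base H v
      rw [hcn, ← smul_inv_smul g w, hshift]
      refine hmu _ (hTmem.mpr ⟨fun e => hne ?_, fun e => hvw ?_⟩)
      · rw [← e, smul_inv_smul]
      · have := (orb_smul b g).mpr ((orb_base b).mpr e)
        rwa [smul_inv_smul] at this
  have hinj : Function.Injective (MulAction.toPermHom G (Pt H)) := by
    rw [injective_iff_map_eq_one]
    intro k hk
    have hfx : ∀ (u : G) x, (u * k * u⁻¹) • (x : Pt H) = x := by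
      intro u x
      rw [mul_smul, mul_smul, show k • u⁻¹ • x = u⁻¹ • x from Equiv.ext_iff.mp hk _, smul_inv_smul]
    have hkx : ∀ x : Pt H, k • x = x := fun x => Equiv.ext_iff.mp hk x
    have hkN : k ∈ nE H := (smul_eq_base H).mp (hkx _)
    have hcomm : ∀ e ∈ H.E, e * k = k * e := by
      intro e he
      have hce : e * k * e⁻¹ * k⁻¹ ∈ H.E := by
        have h1 := (mem_normalizer_iff.mp hkN _).mp (inv_mem he)
        have h2 := mul_mem he h1
        rwa [show e * (k * e⁻¹ * k⁻¹) = e * k * e⁻¹ * k⁻¹ by group] at h2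
      have hmem : (⟨_, Subgroup.le_normalizer hce⟩ : nE H) ∈ kPt H b := by
        refine ⟨?_, hce⟩
        show (e * k * e⁻¹ * k⁻¹) • b = b
        have hkinv : k⁻¹ • b = b := inv_smul_eq_iff.mpr (hkx b).symm
        rw [mul_smul, hkinv, hfx]
      rw [kPt_b L F, Subgroup.mem_bot] at hmem
      have h1 : e * k * e⁻¹ * k⁻¹ = 1 := congrArg Subtype.val hmem
      calc e * k = e * k * e⁻¹ * k⁻¹ * (k * e) := by group
        _ = k * e := by rw [h1, one_mul]
    have hkE : k ∈ H.E := H.self (mem_centralizer_iff.mpr hcomm)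
    have hmem : (⟨k, hkN⟩ : nE H) ∈ kPt H b := ⟨hkx b, hkE⟩
    rw [kPt_b L F, Subgroup.mem_bot] at hmem
    exact congrArg Subtype.val hmem
  exact H65.M22Graph.m22_of_srg L.card Γ hsrg (MulAction.toPermHom G (Pt H)) hinj
    fun g x y => orb_smul b g

end H65.M22Count
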