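import Cfsg.Agent.H42.LinGenOrth

/-!
The orthogonal similarity group is maximal in `SL n F`, `6 ≤ n`, odd characteristic.
-/

set_option autoImplicit false

namespace H65.OrthSix

open Matrix H61.OrthSim

variable {F : Type*} [Field F] {n : ℕ} {B : (Fin n → F) → (Fin n → F) → F}

section Basic

variable (hf : SymForm B)
include hf

/-- An anisotropic vector orthogonal to at most two vectors. -/
theorem exists_aniso (hn : 6 ≤ n) {k : ℕ} (hk : k ≤ 2) (vs : Fin k → (Fin n → F)) :
    ∃ y, B y y ≠ 0 ∧ ∀ i, B y (vs i) = 0 := by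
  classical
  by_contra hc
  push Not at hc
  set P := LinearMap.ker (LinearMap.pi fun i => lf hf (vs i)) with hP
  have hmem : ∀ x, x ∈ P ↔ ∀ i, B x (vs i) = 0 := fun x => by
    rw [hP, LinearMap.mem_ker, funext_iff]
    exact Iff.rfl
  have hiso : ∀ x ∈ P, B x x = 0 := fun x hx => by
    by_contra h
    obtain ⟨i, hi⟩ := hc x h
    exact hi ((hmem x).mp hx i)
  have htot : ∀ x ∈ P, ∀ y ∈ P, B x y = 0 := by
    intro x hx y hy
    have h1 := hiso _ (P.add_mem hx hy)
    rw [hf.add_left, add_right hf, add_right hf, hiso x hx, hiso y hy, hf.symm y x] at h1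
    exact (mul_eq_zero.mp (show (2 : F) * B x y = 0 by linear_combination h1)).resolve_left hf.two_ne
  -- totally isotropic subspaces are small
  have hdim : n ≤ Module.finrank F P + k := by
    have h1 := LinearMap.finrank_range_add_finrank_ker (LinearMap.pi fun i => lf hf (vs i))
    have h2 := Submodule.finrank_le (LinearMap.range (LinearMap.pi fun i => lf hf (vs i)))
    rw [Module.finrank_fintype_fun_eq_card, Fintype.card_fin] at h1 h2
    rw [← hP] at h1
    omega
  have hle : P.map (lf hf) ≤ P.dualAnnihilator := by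
    rintro _ ⟨p, hp, rfl⟩
    exact (Submodule.mem_dualAnnihilator _).mpr fun x hx => htot x hx p hp
  have h3 := Submodule.finrank_mono hle
  rw [← (Submodule.equivMapOfInjective _ (lf_injective hf) P).finrank_eq] at h3
  have := Subspace.finrank_add_finrank_dualAnnihilator_eq P
  rw [Module.finrank_fintype_fun_eq_card, Fintype.card_fin] at this
  omega

variable [Fintype F] (hn : 6 ≤ n)
include hn

/-- Every value is taken on the orthogonal of at most two vectors. -/
theorem exists_rep {k : ℕ} (hk : k ≤ 2) (vs : Fin k → (Fin n → F)) (t : F) :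
    ∃ y, B y y = t ∧ ∀ i, B y (vs i) = 0 := by
  obtain ⟨y1, h1, h1'⟩ := H65.OrthSix.exists_aniso hf hn (by omega) vs
  obtain ⟨y2, h2, h2i, h2y⟩ := (H61.OrthSim.exists_aniso_or hf vs ![y1] (fun a => by fin_cases a; simpa using h1)
    (fun a b hab => absurd (Subsingleton.elim a b) hab) (fun a i => by fin_cases a; simpa using h1' i)).resolve_right
    (fun h => by omega)
  have h21 : B y2 y1 = 0 := by simpa using h2y 0
  obtain ⟨a, b, hab⟩ := H43.exists_sum_sq_eq h1 h2 t
  refine ⟨a • y1 + b • y2, ?_, fun i => ?_⟩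
  · rw [hf.add_left, add_right hf, add_right hf, hf.smul_left, hf.smul_left, hf.smul_left, hf.smul_left,
      smul_right hf, smul_right hf, smul_right hf, smul_right hf, hf.symm y1 y2, h21]
    linear_combination hab
  · rw [hf.add_left, hf.smul_left, hf.smul_left, h1', show B y2 (vs i) = 0 from h2i i]
    ring

/-- Singular vectors with prescribed products against at most two vectors. -/
theorem exists_iso {k : ℕ} (hk : k ≤ 2) (y : Fin n → F) (vs : Fin k → (Fin n → F)) :
    ∃ z, B z z = 0 ∧ ∀ i, B z (vs i) = B y (vs i) := by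
  obtain ⟨y1, h1, h1'⟩ := H65.OrthSix.exists_aniso hf hn (by omega) vs
  obtain ⟨y2, h2, h2i, h2y⟩ := (H61.OrthSim.exists_aniso_or hf vs ![y1] (fun a => by fin_cases a; simpa using h1)
    (fun a b hab => absurd (Subsingleton.elim a b) hab) (fun a i => by fin_cases a; simpa using h1' i)).resolve_right
    (fun h => by omega)
  have h21 : B y2 y1 = 0 := by simpa using h2y 0
  have h12 : B y1 y2 = 0 := by rw [hf.symm, h21]
  obtain ⟨y0, hy0⟩ : ∃ y0, y0 = y - (B y y1 / B y1 y1) • y1 - (B y y2 / B y2 y2) • y2 := ⟨_, rfl⟩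
  have p1 : B y0 y1 = 0 := by
    rw [hy0, sub_left hf, sub_left hf, hf.smul_left, hf.smul_left, h21, div_mul_cancel₀ _ h1]; ring
  have p2 : B y0 y2 = 0 := by
    rw [hy0, sub_left hf, sub_left hf, hf.smul_left, hf.smul_left, h12, div_mul_cancel₀ _ h2]; ring
  obtain ⟨a, b, hab⟩ := H43.exists_sum_sq_eq h1 h2 (-B y0 y0)
  refine ⟨y0 + (a • y1 + b • y2), ?_, fun i => ?_⟩
  · simp only [hf.add_left, add_right hf, hf.smul_left, smul_right hf, p1, p2, h21, h12,
      hf.symm y1 y0, hf.symm y2 y0]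
    linear_combination hab
  · rw [hy0]
    simp only [hf.add_left, sub_left hf, hf.smul_left, h1', show B y2 (vs i) = 0 from h2i i]
    ring

/-- A hyperbolic pair orthogonal to at most one vectors. -/
theorem exists_hyp {k : ℕ} (hk : k ≤ 1) (vs : Fin k → (Fin n → F)) :
    ∃ e f, B e e = 0 ∧ B f f = 0 ∧ B e f = 1 ∧ ∀ i, B e (vs i) = 0 ∧ B f (vs i) = 0 := by
  obtain ⟨y1, h1, h1'⟩ := H65.OrthSix.exists_aniso hf hn (by omega) vs
  obtain ⟨y2, h2, h2'⟩ := H65.OrthSix.exists_rep hf hn (k := k + 1) (by omega) (Fin.cons y1 vs) (-B y1 y1)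
  have h21 : B y2 y1 = 0 := by simpa using h2' 0
  exact H61.OrthSim.hyp_of_orth hf vs h1 h2 h21 h1' (fun i => by simpa using h2' i.succ)

/-- The singular vectors orthogonal to at most one vector span their orthogonal. -/
theorem mem_of_singular {k : ℕ} (hk : k ≤ 1) (vs : Fin k → (Fin n → F)) (S : Submodule F (Fin n → F))
    (hS : ∀ z, B z z = 0 → (∀ i, B z (vs i) = 0) → z ∈ S) {y : Fin n → F} (hy : ∀ i, B y (vs i) = 0) :
    y ∈ S := by
  obtain ⟨y', h', hperp⟩ := H65.OrthSix.exists_rep hf hn (k := k + 1) (by omega) (Fin.cons y vs) (-B y y)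
  have hy0 : B y' y = 0 := by simpa using hperp 0
  have hy0' : B y y' = 0 := by rw [hf.symm, hy0]
  have hi : ∀ i, B y' (vs i) = 0 := fun i => by simpa using hperp i.succ
  have k1 := hS (y + y') (by rw [hf.add_left, add_right hf, add_right hf, h', hy0, hy0']; ring)
    (fun i => by rw [hf.add_left, hy, hi, add_zero])
  have k2 := hS (y - y') (by rw [sub_left hf, sub_right hf, sub_right hf, h', hy0, hy0']; ring)
    (fun i => by rw [sub_left hf, hy, hi, sub_zero])
  have := S.smul_mem (2 : F)⁻¹ (S.add_mem k1 k2)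
  rwa [add_add_sub_cancel, ← two_smul F, inv_smul_smul₀ hf.two_ne] at this

omit [Fintype F] in
theorem exists_perp_apply_ne {u w : Fin n → F} (hu : u ≠ 0) (hw : ∀ c : F, w ≠ c • u) :
    ∃ y, B y u = 0 ∧ B y w ≠ 0 := by
  by_contra h
  push Not at h
  obtain ⟨y0, hy0⟩ := exists_apply_eq_one hf hu
  refine hw (B y0 w) (ext_right hf fun z => ?_)
  have := h (z + (-B z u) • y0) (by rw [hf.add_left, hf.smul_left, hy0]; ring)
  rw [hf.add_left, hf.smul_left] at this
  rw [smul_right hf]
  linear_combination this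

omit hn [Fintype F] in
/-- A sum or difference with an anisotropic vector is anisotropic. -/
theorem exists_aniso_sign {y y' : Fin n → F} (hy : B y y = 0) (hy' : B y' y' ≠ 0) :
    ∃ c : F, B (y + c • y') (y + c • y') ≠ 0 := by
  by_contra h
  push Not at h
  have h1 := h 1
  have h2 := h (-1)
  simp only [hf.add_left, add_right hf, hf.smul_left, smul_right hf, hy, hf.symm y y'] at h1 h2
  exact mul_ne_zero hf.two_ne hy' (by linear_combination h1 + h2)

/-- An anisotropic vector orthogonal to `vs` and not to `x`. -/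
theorem exists_aniso_apply {k : ℕ} (vs : Fin k → (Fin n → F)) {x : Fin n → F}
    (hx : ∀ i, B x (vs i) = 0) (hns : x ∉ Submodule.span F (Set.range vs)) :
    ∃ a, B a a ≠ 0 ∧ (∀ i, B a (vs i) = 0) ∧ B a x ≠ 0 := by
  by_contra hcon
  push Not at hcon
  obtain ⟨y, hy, hyx⟩ : ∃ y, (∀ i, B y (vs i) = 0) ∧ B y x ≠ 0 := by
    by_contra h
    push Not at h
    apply hns
    have hmem := FiniteDimensional.mem_span_of_iInf_ker_le_ker (L := fun i => lf hf (vs i))
      (K := lf hf x) (fun z hz => by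
        simp only [Submodule.mem_iInf, LinearMap.mem_ker] at hz
        exact h z hz)
    obtain ⟨c, hc⟩ := (Submodule.mem_span_range_iff_exists_fun F).mp hmem
    exact (Submodule.mem_span_range_iff_exists_fun F).mpr ⟨c, lf_injective hf (by rw [map_sum, ← hc]; simp)⟩
  have hyy : B y y = 0 := by_contra fun h => hyx (hcon y h hy)
  obtain ⟨y', hy', hy'v⟩ : ∃ y', B y' y' ≠ 0 ∧ ∀ i, B y' (vs i) = 0 := by
    by_contra h
    push Not at h
    have hz : ∀ z, (∀ i, B z (vs i) = 0) → B z z = 0 := fun z hz => by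
      by_contra hne
      obtain ⟨i, hi⟩ := h z hne
      exact hi (hz i)
    have hxx := hz x hx
    have := hz (x + y) fun i => by rw [hf.add_left, hx, hy, add_zero]
    rw [hf.add_left, add_right hf, add_right hf, hxx, hyy, hf.symm x y] at this
    exact hyx ((mul_eq_zero.mp (show (2 : F) * B y x = 0 by linear_combination this)).resolve_left hf.two_ne)
  obtain ⟨c, hc⟩ := H65.OrthSix.exists_aniso_sign hf hyy hy'
  have h0 := hcon (y + c • y') hc fun i => by rw [hf.add_left, hf.smul_left, hy, hy'v, mul_zero, add_zero]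
  rw [hf.add_left, hf.smul_left, hcon y' hy' hy'v, mul_zero, add_zero] at h0
  exact hyx h0

/-- Closure argument: an additive subgroup of a perp, stable under reflections, is everything. -/
theorem closure_eq_perp {u : Fin n → F} (hu : u ≠ 0) (P : AddSubgroup (Fin n → F))
    (hstab : ∀ x ∈ P, ∀ a, B a a ≠ 0 → B a u = 0 → (2 * B x a / B a a) • a ∈ P)
    {w : Fin n → F} (hw : w ∈ P) (hne : ∀ c : F, w ≠ c • u) :
    ∀ x, B x u = 0 → x ∈ P := by
  classical
  have htwo := hf.two_ne
  -- an anisotropic vector seeing `w`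
  obtain ⟨a, hau, haw, haa⟩ : ∃ a, B a u = 0 ∧ B a w ≠ 0 ∧ B a a ≠ 0 := by
    obtain ⟨y, hyu, hyw⟩ := H65.OrthSix.exists_perp_apply_ne hf hn hu hne
    by_cases hyy : B y y = 0
    · obtain ⟨y', hy', hp⟩ := H65.OrthSix.exists_aniso hf hn (k := 1) (by omega) ![u]
      have p1 : B y' u = 0 := by simpa using hp 0
      by_cases p2 : B y' w = 0
      · obtain ⟨c, hc⟩ := H65.OrthSix.exists_aniso_sign hf hyy hy'
        exact ⟨y + c • y', by rw [hf.add_left, hf.smul_left, hyu, p1]; ring,
          by rw [hf.add_left, hf.smul_left, p2, mul_zero, add_zero]; exact hyw, hc⟩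
      · exact ⟨y', p1, p2, hy'⟩
    · exact ⟨y, hyu, hyw, hyy⟩
  obtain ⟨e, he⟩ : ∃ e : Fin n → F, e = (2 * B w a / B a a) • a := ⟨_, rfl⟩
  have heP : e ∈ P := he ▸ hstab w hw a haa hau
  have heu : B e u = 0 := by rw [he, hf.smul_left, hau, mul_zero]
  have hε : B e e ≠ 0 := by
    rw [he, hf.smul_left, smul_right hf]
    have : 2 * B w a / B a a ≠ 0 := div_ne_zero (mul_ne_zero htwo (by rwa [hf.symm])) haa
    exact mul_ne_zero this (mul_ne_zero this haa)
  -- all multiples of `e`
  have hmul : ∀ c : F, c • e ∈ P := by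
    intro c
    by_cases hc : c = 0
    · rw [hc, zero_smul]; exact P.zero_mem
    obtain ⟨μ, hμ⟩ : ∃ μ : F, μ = 4 / (c * B e e) := ⟨_, rfl⟩
    have hμ0 : μ ≠ 0 := hμ ▸ div_ne_zero
      (by rw [show (4 : F) = 2 * 2 by norm_num]; exact mul_ne_zero htwo htwo) (mul_ne_zero hc hε)
    obtain ⟨y', hy', hp⟩ := H65.OrthSix.exists_rep hf hn (k := 2) (by omega) ![u, e] (μ - (B e e)⁻¹)
    have p1 : B y' u = 0 := by simpa using hp 0
    have p2 : B y' e = 0 := by simpa using hp 1
    obtain ⟨a', ha'⟩ : ∃ a' : Fin n → F, a' = (B e e)⁻¹ • e + y' := ⟨_, rfl⟩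
    have hau' : B a' u = 0 := by rw [ha', hf.add_left, hf.smul_left, heu, p1]; ring
    have hae : B a' e = 1 := by rw [ha', hf.add_left, hf.smul_left, p2, inv_mul_cancel₀ hε, add_zero]
    have haa' : B a' a' = μ := by
      rw [ha', hf.add_left, add_right hf, add_right hf, hf.smul_left, smul_right hf, hf.smul_left,
        smul_right hf, p2, hf.symm e y', p2, hy']
      field_simp
      ring
    have s1 := hstab e heP a' (haa'.symm ▸ hμ0) hau'
    have s2 := hstab _ s1 e hε heu
    rw [hf.smul_left, hf.symm e a', hae, haa', mul_one] at s2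
    rwa [show 2 * (2 * 1 / μ) / B e e = c by
      rw [hμ, show (4 : F) = 2 * 2 by norm_num]; field_simp] at s2
  -- anisotropic vectors seeing `e`
  have hhop : ∀ a, B a a ≠ 0 → B a u = 0 → B e a ≠ 0 → a ∈ P := by
    intro a haa hau hea
    have := hstab _ (hmul (B a a / (2 * B e a))) a haa hau
    rw [hf.smul_left] at this
    rwa [show 2 * (B a a / (2 * B e a) * B e a) / B a a = 1 by field_simp, one_smul] at this
  have hoff : ∀ v, B v u = 0 → B v e = 0 → B e e + B v v ≠ 0 → v ∈ P := by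
    intro v hvu hve hne0
    have hev : B e v = 0 := by rw [hf.symm, hve]
    have m1 : e + v ∈ P := by
      refine hhop _ ?_ (by rw [hf.add_left, heu, hvu, add_zero]) ?_
      · rwa [hf.add_left, add_right hf, add_right hf, hve, hev, add_zero, zero_add]
      · rwa [add_right hf, hev, add_zero]
    have := P.sub_mem m1 (by simpa using hmul 1)
    rwa [add_sub_cancel_left] at this
  have hperp : ∀ v, B v u = 0 → B v e = 0 → v ∈ P := by
    intro v hvu hve
    by_cases hgen : B e e + B v v ≠ 0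
    · exact hoff v hvu hve hgen
    push Not at hgen
    obtain ⟨v', hv'⟩ : ∃ v', v' = (2 : F)⁻¹ • v := ⟨_, rfl⟩
    have hvv : B v v ≠ 0 := fun h => hε (by linear_combination hgen - h)
    have c0 : B v' v' ≠ 0 := by rw [hv', hf.smul_left, smul_right hf]; simp [htwo, hvv]
    have vu : B v' u = 0 := by rw [hv', hf.smul_left, hvu, mul_zero]
    have ve : B v' e = 0 := by rw [hv', hf.smul_left, hve, mul_zero]
    obtain ⟨y2, h2, h2i, h2y⟩ := (H61.OrthSim.exists_aniso_or hf ![u, e] ![v'] (fun a => by fin_cases a; simpa using c0)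
      (fun a b hab => absurd (Subsingleton.elim a b) hab)
      (fun a i => by fin_cases a; fin_cases i <;> simp [vu, ve])).resolve_right (fun h => by omega)
    have h2v : B y2 v' = 0 := by simpa using h2y 0
    have h2v' : B v' y2 = 0 := by rw [hf.symm, h2v]
    have h2u : B y2 u = 0 := by simpa using h2i 0
    have h2e : B y2 e = 0 := by simpa using h2i 1
    obtain ⟨y3, h3, h3i, h3y⟩ := (H61.OrthSim.exists_aniso_or hf ![u, e] ![v', y2]
      (fun a => by fin_cases a <;> simp [c0, h2])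
      (fun a b hab => by fin_cases a <;> fin_cases b <;> simp [h2v, h2v'] at hab ⊢)
      (fun a i => by fin_cases a <;> fin_cases i <;> simp [vu, ve, h2u, h2e])).resolve_right
      (fun h => hε (by simpa using h.2 (by omega) 1 1))
    have h32 : B y3 y2 = 0 := by simpa using h3y 1
    have h3v : B y3 v' = 0 := by simpa using h3y 0
    have h3u : B y3 u = 0 := by simpa using h3i 0
    have h3e : B y3 e = 0 := by simpa using h3i 1
    obtain ⟨a, b, hab⟩ := H43.exists_sum_sq_eq h2 h3 (-B v' v')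
    have key : ∀ c : F, c * c = 1 → v' + c • (a • y2 + b • y3) ∈ P := by
      intro c hc
      refine hoff _ ?_ ?_ ?_
      · simp only [hf.add_left, hf.smul_left, vu, h2u, h3u]; ring
      · simp only [hf.add_left, hf.smul_left, ve, h2e, h3e]; ring
      · have e0 : B (v' + c • (a • y2 + b • y3)) (v' + c • (a • y2 + b • y3)) = 0 := by
          simp only [hf.add_left, add_right hf, hf.smul_left, smul_right hf, h2v, h2v', h3v,
            hf.symm v' y3, hf.symm y2 y3, h32]
          linear_combination c * c * hab - B v' v' * hc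
        rwa [e0, add_zero]
    have := P.add_mem (key 1 (by ring)) (key (-1) (by ring))
    convert this using 1
    rw [hv']
    match_scalars <;> field_simp <;> ring
  intro x hx
  have h := P.add_mem (hperp (x - (B x e / B e e) • e)
    (by rw [sub_left hf, hf.smul_left, hx, heu, mul_zero, sub_zero])
    (by rw [sub_left hf, hf.smul_left, div_mul_cancel₀ _ hε, sub_self])) (hmul (B x e / B e e))
  rwa [sub_add_cancel] at h

theorem exists_refl_pair (a u v : Fin n → F) (ha : B a a ≠ 0) : ∃ g : GL (Fin n) F, g.val.det = 1 ∧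
    (∀ x y, B (g.val *ᵥ x) (g.val *ᵥ y) = B x y) ∧
    g.val *ᵥ u = u - (2 * B u a / B a a) • a ∧ g.val *ᵥ v = v - (2 * B v a / B a a) • a := by
  obtain ⟨b, hb, hp⟩ := H65.OrthSix.exists_aniso hf hn (k := 2) (by omega) ![u, v]
  have hub : B u b = 0 := by rw [hf.symm]; simpa using hp 0
  have hvb : B v b = 0 := by rw [hf.symm]; simpa using hp 1
  obtain ⟨r, hr, hri, hrv⟩ := exists_reflection hf a ha
  obtain ⟨s, hs, hsi, hsv⟩ := exists_reflection hf b hb
  refine ⟨r * s, ?_, fun x y => ?_, ?_, ?_⟩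
  · rw [Units.val_mul, Matrix.det_mul, hr, hs]; ring
  · rw [Units.val_mul, ← Matrix.mulVec_mulVec, ← Matrix.mulVec_mulVec, hri, hsi]
  · rw [Units.val_mul, ← Matrix.mulVec_mulVec, hsv, hub, mul_zero, zero_div, zero_smul, sub_zero, hrv]
  · rw [Units.val_mul, ← Matrix.mulVec_mulVec, hsv, hvb, mul_zero, zero_div, zero_smul, sub_zero, hrv]

end Basic

section Pairs

variable {X : Subgroup (GL (Fin n) F)} (hf : SymForm B) [Fintype F] (hn : 6 ≤ n) (hX : HasOrth B X)
include hf hn hX

theorem pair_all_right {u w : Fin n → F} (hu : u ≠ 0) (h : PairH B X u w) (hne : ∀ c : F, w ≠ c • u) :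
    ∀ x, B x u = 0 → PairH B X u x := by
  let P : AddSubgroup (Fin n → F) :=
    { carrier := {x | PairH B X u x}
      add_mem' := fun a b => PairH.add_right hf a b
      zero_mem' := pair_zero_right hf u
      neg_mem' := fun a => PairH.neg_right hf a }
  refine H65.OrthSix.closure_eq_perp hf hn hu P (fun x hx a haa hau => ?_) h hne
  obtain ⟨g, hg, hiso, gu, gx⟩ := hX.refl a u x haa
  have h1 := PairH.conj hf hx hg hiso
  rw [gu, hf.symm u a, hau, mul_zero, zero_div, zero_smul, sub_zero, gx] at h1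
  have := P.sub_mem hx h1
  rwa [sub_sub_cancel] at this

theorem pair_all_left {u w : Fin n → F} (hw : w ≠ 0) (h : PairH B X u w) (hne : ∀ c : F, u ≠ c • w) :
    ∀ x, B x w = 0 → PairH B X x w := by
  let P : AddSubgroup (Fin n → F) :=
    { carrier := {x | PairH B X x w}
      add_mem' := fun a b => PairH.add_left hf a b
      zero_mem' := pair_zero_left hf w
      neg_mem' := fun a => PairH.neg_left hf a }
  refine H65.OrthSix.closure_eq_perp hf hn hw P (fun x hx a haa haw => ?_) h hne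
  obtain ⟨g, hg, hiso, gx, gw⟩ := hX.refl a x w haa
  have h1 := PairH.conj hf hx hg hiso
  rw [gw, hf.symm w a, haw, mul_zero, zero_div, zero_smul, sub_zero, gx] at h1
  have := P.sub_mem hx h1
  rwa [sub_sub_cancel] at this

theorem pair_all {u w : Fin n → F} (hu : u ≠ 0) (hw : w ≠ 0) (h : PairH B X u w)
    (hne : ∀ c : F, w ≠ c • u) {u' w' : Fin n → F} (hu' : u' ≠ 0) (h' : B u' w' = 0) :
    PairH B X u' w' := by
  have prop : ∀ {a b : Fin n → F}, a ≠ 0 → (∀ c : F, b ≠ c • a) → ∀ c : F, a ≠ c • b := by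
    intro a b ha hab c hc
    have hc0 : c ≠ 0 := fun e => ha (by rw [hc, e, zero_smul])
    exact hab c⁻¹ (by rw [hc, inv_smul_smul₀ hc0])
  have main : ∀ a b : Fin n → F, a ≠ 0 → b ≠ 0 → B a b = 0 → (∀ c : F, b ≠ c • a) → PairH B X a b := by
    intro a b ha hb hab hne'
    obtain ⟨y, hy, hperp⟩ := H65.OrthSix.exists_aniso hf hn (k := 2) (by omega) ![w, b]
    have hyw : B y w = 0 := by simpa using hperp 0
    have hyb : B y b = 0 := by simpa using hperp 1
    have hy0 : y ≠ 0 := fun e => hy (by rw [e, zero_left hf])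
    have aux : ∀ v, B y v = 0 → v ≠ 0 → ∀ c : F, v ≠ c • y := fun v hv hv0 c hc => by
      rw [hc, smul_right hf] at hv
      exact hv0 (by rw [hc, (mul_eq_zero.mp hv).resolve_right hy, zero_smul])
    have h1 := H65.OrthSix.pair_all_left hf hn hX hw h (prop hu hne) y hyw
    have h2 := H65.OrthSix.pair_all_right hf hn hX hy0 h1 (aux w hyw hw) b (by rw [hf.symm, hyb])
    exact H65.OrthSix.pair_all_left hf hn hX hb h2 (prop hy0 (aux b hyb hb)) a hab
  by_cases hne' : ∀ c : F, w' ≠ c • u'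
  · by_cases hw' : w' = 0
    · rw [hw']; exact pair_zero_right hf u'
    · exact main u' w' hu' hw' h' hne'
  push Not at hne'
  obtain ⟨c, hc⟩ := hne'
  obtain ⟨y, hy, hperp⟩ := H65.OrthSix.exists_aniso hf hn (k := 1) (by omega) ![u']
  have hyu : B y u' = 0 := by simpa using hperp 0
  have hy0 : y ≠ 0 := fun e => hy (by rw [e, zero_left hf])
  have hyp : ∀ d : F, y ≠ d • u' := fun d hd => hy (by
    have e : B y y = B y (d • u') := congrArg (B y) hd
    rw [smul_right hf, hyu, mul_zero] at e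
    exact e)
  have huy : B u' y = 0 := by rw [hf.symm, hyu]
  have hsum : ∀ d : F, w' + y ≠ d • u' := fun d hd => hyp (d - c) (by
    rw [sub_smul, ← hd, hc, add_sub_cancel_left])
  have a1 := main u' (w' + y) hu' (fun e => hsum 0 (by rw [e, zero_smul]))
    (by rw [H61.OrthSim.add_right hf, h', huy, add_zero]) hsum
  have a2 := main u' y hu' hy0 huy hyp
  have := PairH.add_right hf a1 (PairH.neg_right hf a2)
  rwa [add_neg_cancel_right] at this

variable (hR : ∀ a b, B a a ≠ 0 → B b b ≠ 0 → ∃ T ∈ X, (∀ x y, B (T.val *ᵥ x) (T.val *ᵥ y) = B x y) ∧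
  ∀ x, T.val *ᵥ x = x - (2 * B x b / B b b) • b - (2 * B (x - (2 * B x b / B b b) • b) a / B a a) • a)
include hR

/-- A subgroup with enough isometries and a non-similarity contains a transvection. -/
theorem exists_pair {g : GL (Fin n) F} (hg : g ∈ X) (hns : g ∉ Cfsg.Geo.similarityGroup B) :
    ∃ u w, u ≠ 0 ∧ w ≠ 0 ∧ PairH B X u w ∧ ∀ c : F, w ≠ c • u := by
  classical
  have htr : ∀ z, ∃ k, ∀ x, B (g.val *ᵥ x) k = B x z := by
    intro z
    obtain ⟨k, hk⟩ := exists_lf hf ((lf hf z) ∘ₗ Matrix.mulVecLin g⁻¹.val)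
    refine ⟨k, fun x => ?_⟩
    rw [hk, LinearMap.comp_apply, Matrix.mulVecLin_apply, lf_apply, H49.gl_inv_mulVec]
  choose κ hκ using htr
  have hκ' : ∀ z y, B (g⁻¹.val *ᵥ y) z = B y (κ z) := fun z y => by
    rw [← hκ z (g⁻¹.val *ᵥ y), H49.gl_mulVec_inv]
  by_cases hA : ∀ z w : Fin n → F, B z z = 0 → B w w = 0 → B z w = 0 → z ≠ 0 → (∀ c : F, w ≠ c • z) →
      ∃ a b : F, κ z = a • (g.val *ᵥ z) + b • (g.val *ᵥ w)
  · -- then `g` is a similarity
    exfalso
    have hd : ∀ z, B z z = 0 → z ≠ 0 →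
        ∃ d : F, d ≠ 0 ∧ ∀ x, B (g.val *ᵥ x) (g.val *ᵥ z) = d * B x z := by
      intro z hz hz0
      obtain ⟨w, f, hw, hff, hwf, hp⟩ := H65.OrthSix.exists_hyp hf hn (k := 1) (by omega) ![z]
      have hwz : B w z = 0 := by simpa using (hp 0).1
      have hfz : B f z = 0 := by simpa using (hp 0).2
      have hw1 : ∀ c : F, w ≠ c • z := fun c hc => by
        rw [hc, hf.smul_left, hf.symm z f, hfz, mul_zero] at hwf
        exact zero_ne_one hwf
      have hf1 : ∀ c : F, f ≠ c • z := fun c hc => by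
        rw [hc, smul_right hf, hwz, mul_zero] at hwf
        exact zero_ne_one hwf
      obtain ⟨a, b, hab⟩ := hA z w hz hw (by rw [hf.symm, hwz]) hz0 hw1
      obtain ⟨a', b', hab'⟩ := hA z f hz hff (by rw [hf.symm, hfz]) hz0 hf1
      have e : a • z + b • w = a' • z + b' • f := by
        apply H49.gl_mulVec_injective g
        show g.val *ᵥ _ = g.val *ᵥ _
        simp only [Matrix.mulVec_add, Matrix.mulVec_smul]
        exact hab.symm.trans hab'
      have e' := congrArg (B w) e
      simp only [H61.OrthSim.add_right hf, smul_right hf, hwz, hw, hwf, mul_zero, mul_one, add_zero,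
        zero_add] at e'
      rw [← e', zero_smul, add_zero] at hab'
      obtain ⟨y, hy⟩ := exists_apply_eq_one hf hz0
      have ha0 : a' ≠ 0 := fun h => by
        have := hκ z y
        rw [hab', h, zero_smul, zero_right hf, hy] at this
        exact zero_ne_one this
      refine ⟨a'⁻¹, inv_ne_zero ha0, fun x => ?_⟩
      rw [← hκ z x, hab', smul_right hf, inv_mul_cancel_left₀ ha0]
    choose! d hd using hd
    have hsame : ∀ v v' : Fin n → F, B v v = 0 → v ≠ 0 → B v' v' = 0 → v' ≠ 0 → B v' v ≠ 0 → d v = d v' := by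
      intro v v' a b a' b' h
      have h1 := (hd v a b).2 v'
      rw [hf.symm, (hd v' a' b').2 v, hf.symm v v'] at h1
      exact (mul_right_cancel₀ h h1).symm
    have hconst : ∀ v v' : Fin n → F, B v v = 0 → v ≠ 0 → B v' v' = 0 → v' ≠ 0 → d v = d v' := by
      intro v v' a b a' b'
      obtain ⟨y, hy⟩ : ∃ y, B y v ≠ 0 ∧ B y v' ≠ 0 := by
        obtain ⟨y1, h1⟩ := exists_apply_eq_one hf b
        obtain ⟨y2, h2⟩ := exists_apply_eq_one hf b'
        by_cases h3 : B y1 v' = 0
        · by_cases h4 : B y2 v = 0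
          · exact ⟨y1 + y2, by simp [hf.add_left, h1, h4], by simp [hf.add_left, h2, h3]⟩
          · exact ⟨y2, h4, by rw [h2]; exact one_ne_zero⟩
        · exact ⟨y1, by rw [h1]; exact one_ne_zero, h3⟩
      obtain ⟨z, hz, hz'⟩ := H65.OrthSix.exists_iso hf hn (k := 2) (by omega) y ![v, v']
      have e1 : B z v = B y v := by simpa using hz' 0
      have e2 : B z v' = B y v' := by simpa using hz' 1
      have hz0 : z ≠ 0 := fun e => hy.1 (by rw [← e1, e, zero_left hf])
      rw [hsame v z a b hz hz0 (e1 ▸ hy.1), hsame v' z a' b' hz hz0 (e2 ▸ hy.2)]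
    obtain ⟨v0, f0, hv0, -, hv0f, -⟩ := H65.OrthSix.exists_hyp hf hn (k := 0) (by omega) ![]
    have hv00 : v0 ≠ 0 := fun e => by
      rw [e, zero_left hf] at hv0f
      exact zero_ne_one hv0f
    let S : Submodule F (Fin n → F) :=
      { carrier := {v | ∀ x, B (g.val *ᵥ x) (g.val *ᵥ v) = d v0 * B x v}
        zero_mem' := fun x => by simp [zero_right hf]
        add_mem' := fun {v v'} h h' x => by
          rw [Matrix.mulVec_add, H61.OrthSim.add_right hf, h x, h' x, H61.OrthSim.add_right hf, mul_add]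
        smul_mem' := fun c v h x => by
          rw [Matrix.mulVec_smul, smul_right hf, h x, smul_right hf]; ring }
    have hiso : ∀ v, B v v = 0 → v ∈ S := by
      intro v hv x
      by_cases hv' : v = 0
      · simp [hv', zero_right hf]
      · rw [(hd v hv hv').2 x, hconst v v0 hv hv' hv0 hv00]
    refine hns ⟨Units.mk0 (d v0) (hd v0 hv0 hv00).1, fun x v => ?_⟩
    exact (H65.OrthSix.mem_of_singular hf hn (k := 0) (by omega) ![] S (fun z hz _ => hiso z hz)
      (fun i => i.elim0) : v ∈ S) x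
  push Not at hA
  obtain ⟨z, w, hz, hw, hzw, hz0, hwz, hno⟩ := hA
  set p := g.val *ᵥ z with hp
  set q := g.val *ᵥ w with hq
  obtain ⟨E0, hE, hEe⟩ := hX.root z w hz hw hzw
  set h := g * E0 * g⁻¹ with hh
  have hhX : h ∈ X := mul_mem (mul_mem hg hE) (inv_mem hg)
  have hhe : ∀ x, h.val *ᵥ x = x + B x (κ z) • q - B x (κ w) • p := fun x => by
    rw [hh, Units.val_mul, Units.val_mul, ← Matrix.mulVec_mulVec, ← Matrix.mulVec_mulVec, hEe,
      Matrix.mulVec_sub, Matrix.mulVec_add, Matrix.mulVec_smul, Matrix.mulVec_smul, H49.gl_mulVec_inv,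
      hκ', hκ']
  have pz : B p (κ z) = 0 := by rw [hp, hκ, hz]
  have qz : B q (κ z) = 0 := by rw [hq, hκ, hf.symm, hzw]
  have pw : B p (κ w) = 0 := by rw [hp, hκ, hzw]
  have qw : B q (κ w) = 0 := by rw [hq, hκ, hw]
  have hind : ∀ a b : F, a • q - b • p = 0 → a = 0 ∧ b = 0 := by
    intro a b hab
    have h' : g.val *ᵥ (a • w - b • z) = g.val *ᵥ 0 := by
      rw [Matrix.mulVec_sub, Matrix.mulVec_smul, Matrix.mulVec_smul, Matrix.mulVec_zero]
      exact hab
    have h'' := sub_eq_zero.mp (H49.gl_mulVec_injective g h')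
    by_cases ha : a = 0
    · rw [ha, zero_smul] at h''
      exact ⟨ha, (smul_eq_zero.mp h''.symm).resolve_right hz0⟩
    · exact absurd (by rw [mul_smul, ← h'', inv_smul_smul₀ ha]) (hwz (a⁻¹ * b))
  -- a commutator of rank one
  have comm : ∀ M ∈ X, (∀ x y, B (M.val *ᵥ x) (M.val *ᵥ y) = B x y) → M.val *ᵥ p = p → M.val *ᵥ q = q →
      ∀ (v : Fin n → F) (sz sw : F), M.val *ᵥ κ z = κ z + sz • v → M.val *ᵥ κ w = κ w + sw • v →
        B p v = 0 → B q v = 0 → v ≠ 0 → (sz ≠ 0 ∨ sw ≠ 0) → (∀ c : F, v ≠ c • (sz • q - sw • p)) →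
        ∃ u w, u ≠ 0 ∧ w ≠ 0 ∧ PairH B X u w ∧ ∀ c : F, w ≠ c • u := by
    intro M hM hiso hMp hMq v sz sw hMz hMw pv qv hv hs hne
    refine ⟨sz • q - sw • p, v, fun h0 => ?_, hv, ⟨?_, M * h * M⁻¹ * h⁻¹,
      mul_mem (mul_mem (mul_mem hM hhX) (inv_mem hM)) (inv_mem hhX), fun x => ?_⟩, hne⟩
    · rcases hs with hs | hs
      · exact hs (hind _ _ h0).1
      · exact hs (hind _ _ h0).2
    · rw [sub_left hf, hf.smul_left, hf.smul_left, pv, qv]; ring
    · obtain ⟨x0, rfl⟩ : ∃ x0, (h * M).val *ᵥ x0 = x :=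
        ⟨(h * M)⁻¹.val *ᵥ x, H49.gl_mulVec_inv _ x⟩
      rw [Matrix.mulVec_mulVec, ← Units.val_mul,
        show M * h * M⁻¹ * h⁻¹ * (h * M) = M * h by group]
      simp only [Units.val_mul, ← Matrix.mulVec_mulVec]
      rw [hhe, hhe]
      have i1 : B (M.val *ᵥ x0) (κ z) + sz * B (M.val *ᵥ x0) v = B x0 (κ z) := by
        rw [← smul_right hf, ← H61.OrthSim.add_right hf, ← hMz, hiso]
      have i2 : B (M.val *ᵥ x0) (κ w) + sw * B (M.val *ᵥ x0) v = B x0 (κ w) := by
        rw [← smul_right hf, ← H61.OrthSim.add_right hf, ← hMw, hiso]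
      rw [Matrix.mulVec_sub, Matrix.mulVec_add, Matrix.mulVec_smul, Matrix.mulVec_smul, hMp, hMq,
        ← i1, ← i2]
      simp only [hf.add_left, sub_left hf, hf.smul_left, pv, qv]
      module
  have hzq : κ z ∉ Submodule.span F (Set.range ![p, q]) := fun hmem => by
    obtain ⟨c, hc⟩ := (Submodule.mem_span_range_iff_exists_fun F).mp hmem
    exact hno (c 0) (c 1) (by rw [← hc]; simp [Fin.sum_univ_two])
  by_cases hb : ∃ b, B b b ≠ 0 ∧ B b p = 0 ∧ B b q = 0 ∧ B b (κ z) = 0 ∧ B b (κ w) = 0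
  · obtain ⟨b, hbb, bp, bq, bz, bw⟩ := hb
    obtain ⟨a, haa, hai, haz⟩ := H65.OrthSix.exists_aniso_apply hf hn ![p, q]
      (x := κ z) (fun i => by fin_cases i <;> simp [hf.symm (κ z), pz, qz]) hzq
    have ap : B p a = 0 := by rw [hf.symm]; simpa using hai 0
    have aq : B q a = 0 := by rw [hf.symm]; simpa using hai 1
    obtain ⟨M, hM, hiso, hMe⟩ := hR a b haa hbb
    have hfix : ∀ x, B x b = 0 → M.val *ᵥ x = x + (-(2 * B x a / B a a)) • a := fun x hx => by
      rw [hMe, hx, mul_zero, zero_div, zero_smul, sub_zero, neg_smul, ← sub_eq_add_neg]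
    refine comm M hM hiso ?_ ?_ a _ _ (hfix _ (by rw [hf.symm, bz])) (hfix _ (by rw [hf.symm, bw])) ap aq
      (fun h0 => haa (by rw [h0, zero_left hf])) (Or.inl ?_) fun c hc => ?_
    · rw [hfix p (by rw [hf.symm, bp]), ap]; simp
    · rw [hfix q (by rw [hf.symm, bq]), aq]; simp
    · exact neg_ne_zero.mpr (div_ne_zero (mul_ne_zero hf.two_ne (by rwa [hf.symm])) haa)
    · apply haa
      nth_rw 1 [hc]
      rw [hf.smul_left, sub_left hf, hf.smul_left, hf.smul_left, ap, aq]; ring
  push Not at hb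
  set L : (Fin n → F) →ₗ[F] (Fin 4 → F) := LinearMap.pi fun i => lf hf (![p, q, κ z, κ w] i) with hL
  have hmem : ∀ x, x ∈ LinearMap.ker L ↔ B x p = 0 ∧ B x q = 0 ∧ B x (κ z) = 0 ∧ B x (κ w) = 0 := fun x => by
    rw [LinearMap.mem_ker, funext_iff]
    simp [hL, Fin.forall_fin_succ, lf_apply]
  have hsing : ∀ x ∈ LinearMap.ker L, B x x = 0 := fun x hx => by
    obtain ⟨h1, h2, h3, h4⟩ := (hmem x).mp hx
    by_contra hne
    exact hb x hne h1 h2 h3 h4
  -- a singular vector orthogonal to the four, and a transvection along it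
  have root2 : ∀ e ∈ LinearMap.ker L, e ≠ 0 → ∀ k, (k = κ z ∨ k = κ w) →
      k ∉ Submodule.span F (Set.range ![p, q, e]) →
      (∀ (a : Fin n → F) (c : F), B a k ≠ 0 → e ≠ c • (B (κ z) a • q - B (κ w) a • p)) →
      ∃ u w, u ≠ 0 ∧ w ≠ 0 ∧ PairH B X u w ∧ ∀ c : F, w ≠ c • u := by
    intro e he he0 k hk hks hne
    obtain ⟨ep, eq', ez, ew⟩ := (hmem e).mp he
    have hk' : ∀ i, B k (![p, q, e] i) = 0 := by
      intro i
      rcases hk with rfl | rfl <;> fin_cases i <;>
        simp [hf.symm (κ z), hf.symm (κ w), pz, qz, pw, qw, ez, ew]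
    obtain ⟨a, haa, hai, hak⟩ := H65.OrthSix.exists_aniso_apply hf hn ![p, q, e] hk' hks
    have ap : B p a = 0 := by rw [hf.symm]; simpa using hai 0
    have aq : B q a = 0 := by rw [hf.symm]; simpa using hai 1
    have ae : B a e = 0 := by simpa using hai 2
    have ea : B e a = 0 := by rw [hf.symm, ae]
    have hb' : B (a + e) (a + e) = B a a := by
      rw [hf.add_left, H61.OrthSim.add_right hf, H61.OrthSim.add_right hf, ae, ea, hsing e he]; ring
    obtain ⟨M, hM, hiso, hMe⟩ := hR a (a + e) haa (hb'.symm ▸ haa)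
    have hfix : ∀ x, B x e = 0 → M.val *ᵥ x = x + (-(2 * B x a / B a a)) • e := fun x hx => by
      rw [hMe, hb', H61.OrthSim.add_right hf, hx, add_zero, sub_left hf, hf.smul_left, hf.add_left, ea]
      match_scalars <;> field_simp <;> ring
    refine comm M hM hiso ?_ ?_ e _ _ (hfix _ (by rw [hf.symm, ez])) (hfix _ (by rw [hf.symm, ew]))
      (by rw [hf.symm, ep]) (by rw [hf.symm, eq']) he0 ?_ fun c hc => ?_
    · rw [hfix p (by rw [hf.symm, ep]), ap]; simp
    · rw [hfix q (by rw [hf.symm, eq']), aq]; simp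
    · have hne' : B k a ≠ 0 := by rwa [hf.symm]
      rcases hk with rfl | rfl
      · exact Or.inl (neg_ne_zero.mpr (div_ne_zero (mul_ne_zero hf.two_ne hne') haa))
      · exact Or.inr (neg_ne_zero.mpr (div_ne_zero (mul_ne_zero hf.two_ne hne') haa))
    · refine hne a (c * -(2 / B a a)) hak (hc.trans ?_)
      match_scalars <;> ring
  have hpq : ∀ c : F, p ≠ c • q := fun c hc => by
    have := hind c 1 (by rw [one_smul, ← hc, sub_self])
    exact one_ne_zero this.2
  by_cases hpR : p ∈ LinearMap.ker L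
  · refine root2 p hpR (fun h0 => hpq 0 (by rw [h0, zero_smul])) (κ z) (Or.inl rfl) ?_ fun a c ha hc => ?_
    · intro hm'
      obtain ⟨c, hc⟩ := (Submodule.mem_span_range_iff_exists_fun F).mp hm'
      exact hno (c 0 + c 2) (c 1) (by rw [← hc]; simp [Fin.sum_univ_three]; module)
    · have := hind (c * B (κ z) a) (c * B (κ w) a + 1) (by
        rw [add_smul, one_smul]; nth_rw 2 [hc]; module)
      rcases mul_eq_zero.mp this.1 with h' | h'
      · rw [h'] at this
        simp at this
      · exact ha (by rw [hf.symm, h'])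
  obtain ⟨e, heR, hes⟩ : ∃ e ∈ LinearMap.ker L, e ∉ Submodule.span F (Set.range ![p, q]) := by
    by_contra hall
    push Not at hall
    have h1 := LinearMap.finrank_range_add_finrank_ker L
    have h2 := Submodule.finrank_le (LinearMap.range L)
    rw [Module.finrank_fintype_fun_eq_card, Fintype.card_fin] at h1 h2
    have h3 : Module.finrank F (Submodule.span F (Set.range ![p, q])) ≤ 2 :=
      (finrank_range_le_card ![p, q]).trans (by rw [Fintype.card_fin])
    apply hpR
    rw [Submodule.eq_of_le_of_finrank_le (show LinearMap.ker L ≤ _ from hall) (by omega)]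
    exact Submodule.subset_span ⟨0, rfl⟩
  have he0 : e ≠ 0 := fun h0 => hes (by rw [h0]; exact zero_mem _)
  have hne : ∀ (a : Fin n → F) (c : F), e ≠ c • (B (κ z) a • q - B (κ w) a • p) := fun a c hc => hes (by
    rw [hc]
    exact Submodule.smul_mem _ _ (Submodule.sub_mem _ (Submodule.smul_mem _ _ (Submodule.subset_span ⟨1, rfl⟩))
      (Submodule.smul_mem _ _ (Submodule.subset_span ⟨0, rfl⟩))))
  by_cases h1 : κ z ∈ Submodule.span F (Set.range ![p, q, e])
  swap
  · exact root2 e heR he0 (κ z) (Or.inl rfl) h1 fun a c _ => hne a c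
  by_cases h2 : κ w ∈ Submodule.span F (Set.range ![p, q, e])
  swap
  · exact root2 e heR he0 (κ w) (Or.inr rfl) h2 fun a c _ => hne a c
  exfalso
  have hspan : ∀ x k, k ∈ Submodule.span F (Set.range ![p, q, e]) →
      (∀ i, B x (![p, q, e] i) = 0) → B x k = 0 := by
    intro x k hk hx
    obtain ⟨c, rfl⟩ := (Submodule.mem_span_range_iff_exists_fun F).mp hk
    simp only [Fin.sum_univ_three, H61.OrthSim.add_right hf, smul_right hf, hx]
    ring
  rcases H61.OrthSim.exists_aniso_or hf ![p, q, e] (![] : Fin 0 → (Fin n → F)) (fun a => a.elim0) (fun a => a.elim0)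
      (fun a => a.elim0) with ⟨y, hy, hyi, -⟩ | ⟨hle, htot⟩
  · exact hy (hsing y ((hmem y).mpr ⟨by simpa using hyi 0, by simpa using hyi 1, hspan y _ h1 hyi,
      hspan y _ h2 hyi⟩))
  · refine hpR ((hmem p).mpr ⟨?_, ?_, pz, pw⟩)
    · simpa using htot (by omega) 0 0
    · simpa using htot (by omega) 0 1

/-- A subgroup with enough isometries and a non-similarity contains every elementary transvection. -/
theorem full_of_not_similar {g : GL (Fin n) F} (hg : g ∈ X) (hns : g ∉ Cfsg.Geo.similarityGroup B) :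
    ∀ i j (hij : i ≠ j) (c : F), H49.elem i j hij c ∈ X := by
  obtain ⟨u, w, hu, hw, hp, hne⟩ := H65.OrthSix.exists_pair hf hn hX hR hg hns
  intro i j hij c
  obtain ⟨w', hw'⟩ := exists_lf hf (c • LinearMap.proj j)
  have hwv : ∀ x : Fin n → F, B x w' = c * x j := hw'
  obtain ⟨-, T, hT, he⟩ := H65.OrthSix.pair_all hf hn hX hu hw hp hne (u' := Pi.single i 1) (w' := w') (by simp)
    (by rw [hwv]; simp [hij.symm])
  convert hT using 1
  refine H49.gl_ext_mulVec fun x => funext fun k => ?_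
  rw [H49.elem_mulVec, he, hwv]
  by_cases hk : k = i <;> simp [hk]

end Pairs

end H65.OrthSix

open Cfsg

namespace H65.OrthSix

open scoped Matrix

/-- The stabiliser is maximal in `SL_n` from dimension six on. -/
theorem maximal {F : Type*} [Field F] [Fintype F] (n : ℕ) (hn : 6 ≤ n) (hodd : Odd (Fintype.card F)) (Q : (Fin n → F) → F) (hQ : Cfsg.Geo.IsNondegenerateQuadraticForm Q) : Cfsg.Geo.IsMaximalIn (Cfsg.Geo.specialLinear (Fin n) F) (Cfsg.Geo.quadSimilarityGroup Q ⊓ Cfsg.Geo.specialLinear (Fin n) F) := by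
  haveI : Nontrivial (Fin n) := Fin.nontrivial_iff_two_le.mpr (by omega)
  have h2 : (2 : F) ≠ 0 := Ring.two_ne_zero fun h => by
    have := FiniteField.even_card_of_char_two h
    rw [Nat.odd_iff] at hodd
    omega
  set B := QuadraticMap.polar Q with hBdef
  have hbil := hQ.polar_bilinear
  have hQB : ∀ v, B v v = 2 * Q v := fun v => by
    show Q (v + v) - Q v - Q v = 2 * Q v
    rw [← two_smul F v, hQ.smul]; ring
  have hf : H61.OrthSim.SymForm B :=
    ⟨hbil.add_left, hbil.smul_left, fun x y => QuadraticMap.polar_comm Q x y,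
      fun v hv => (hQ.nondegenerate v hv).1, h2⟩
  have hsim : Cfsg.Geo.quadSimilarityGroup Q = Cfsg.Geo.similarityGroup B := by
    ext g
    constructor
    · rintro ⟨c, hc⟩
      refine ⟨c, fun u v => ?_⟩
      show Q (g.val *ᵥ u + g.val *ᵥ v) - Q (g.val *ᵥ u) - Q (g.val *ᵥ v) = (c : F) * (Q (u + v) - Q u - Q v)
      rw [← Matrix.mulVec_add, hc, hc, hc]; ring
    · rintro ⟨c, hc⟩
      refine ⟨c, fun v => ?_⟩
      have := hc v v
      rw [hQB, hQB] at this
      exact mul_left_cancel₀ h2 (by rw [this]; ring)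
  set N := Cfsg.Geo.quadSimilarityGroup Q ⊓ Cfsg.Geo.specialLinear (Fin n) F with hN
  have hmem : ∀ g : GL (Fin n) F, g.val.det = 1 → (∀ x y, B (g.val *ᵥ x) (g.val *ᵥ y) = B x y) → g ∈ N := by
    intro g hg hi
    refine Subgroup.mem_inf.mpr ⟨?_, ?_⟩
    · rw [hsim]
      exact ⟨1, fun x y => by rw [hi, Units.val_one, one_mul]⟩
    · show Matrix.GeneralLinearGroup.det g = 1
      exact Units.ext hg
  refine ⟨lt_of_le_of_ne inf_le_right fun heq => ?_, fun M hle hMS => ?_⟩
  · -- a transvection that is not a similarity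
    obtain ⟨e, f, he, hff, hef, -⟩ := H65.OrthSix.exists_hyp hf hn (k := 0) (by omega) ![]
    obtain ⟨φ, hφ⟩ := H61.OrthSim.exists_phi hf e
    have h1 : φ ⬝ᵥ e = 0 := by rw [hφ, he]
    have hg : H49.tr e φ h1 ∈ N := by rw [heq]; exact H49.tr_mem_SL _ _ _
    rw [hN, hsim] at hg
    obtain ⟨⟨c, hc⟩, -⟩ := hg
    have hfe : B f e = 1 := by rw [hf.symm, hef]
    have h := hc f f
    rw [H49.tr_mulVec, hφ, hfe, one_smul, hf.add_left, H61.OrthSim.add_right hf,
      H61.OrthSim.add_right hf, he, hff, hef, hfe] at h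
    exact h2 (by linear_combination h)
  by_cases hs : M ≤ Cfsg.Geo.quadSimilarityGroup Q
  · exact Or.inl (le_antisymm (le_inf hs hMS) hle)
  obtain ⟨g, hg, hns⟩ := SetLike.not_le_iff_exists.mp hs
  rw [hsim] at hns
  have hM : H61.OrthSim.HasOrth B M := by
    refine ⟨fun z w hz hw hzw => ?_, fun a u v ha => ?_⟩
    · obtain ⟨T, hd, hi, he⟩ := H61.OrthSim.exists_root hf z w hz hw hzw
      exact ⟨T, hle (hmem T hd hi), he⟩
    · obtain ⟨T, hd, hi, he⟩ := H65.OrthSix.exists_refl_pair hf hn a u v ha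
      exact ⟨T, hle (hmem T hd hi), hi, he⟩
  have hR : ∀ a b, B a a ≠ 0 → B b b ≠ 0 → ∃ T ∈ M, (∀ x y, B (T.val *ᵥ x) (T.val *ᵥ y) = B x y) ∧
      ∀ x, T.val *ᵥ x = x - (2 * B x b / B b b) • b
        - (2 * B (x - (2 * B x b / B b b) • b) a / B a a) • a := by
    intro a b ha hb
    obtain ⟨r, hr, hri, hrv⟩ := H61.OrthSim.exists_reflection hf a ha
    obtain ⟨t, ht, hti, htv⟩ := H61.OrthSim.exists_reflection hf b hb
    have hi : ∀ x y, B ((r * t).val *ᵥ x) ((r * t).val *ᵥ y) = B x y := fun x y => by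
      rw [Units.val_mul, ← Matrix.mulVec_mulVec, ← Matrix.mulVec_mulVec, hri, hti]
    exact ⟨r * t, hle (hmem _ (by rw [Units.val_mul, Matrix.det_mul, hr, ht]; ring) hi), hi,
      fun x => by rw [Units.val_mul, ← Matrix.mulVec_mulVec, htv, hrv]⟩
  refine Or.inr (le_antisymm hMS fun s hs' => ?_)
  exact H49.sl_le_of_elem_mem M (H65.OrthSix.full_of_not_similar hf hn hM hR hg hns) s
    (congrArg Units.val (show Matrix.GeneralLinearGroup.det s = 1 from hs'))

end H65.OrthSix
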