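import Cfsg.Agent.H46.OrthTwelve

/-!
# Clauses for the maximal subgroups of the ten-dimensional orthogonal groups
-/

set_option autoImplicit false
open Cfsg

namespace H65.OrthTen

variable {F : Type*} [Field F] [Fintype F] {Q : (Fin 10 → F) → F}

theorem nondeg_clause (hQ : Cfsg.Geo.IsNondegenerateQuadraticForm Q) (W : Submodule F (Fin 10 → F))
    (hW0 : W ≠ ⊥) (hW1 : W ≠ ⊤) (hW : Cfsg.Geo.IsNondegenerateOn (QuadraticMap.polar Q) W)
    (h5 : Module.finrank F W ≠ 5) (h8 : Module.finrank F W ≠ 8)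
    (hplane : Module.finrank F W = 2 → Fintype.card F ≤ 3 → ¬ Cfsg.Geo.IsPlusTypeOn Q W) :
    Cfsg.Geo.IsMaximalIn (Cfsg.Geo.omegaGL Q)
      (Cfsg.Geo.subspaceStabilizer W ⊓ Cfsg.Geo.omegaGL Q) := by
  obtain ⟨q, rfl, hq⟩ := H45.exists_quadForm hQ
  have hfin := H43.finrank_orth_add hq W
  rw [Module.finrank_pi, Fintype.card_fin] at hfin
  refine H45.subspaceStabilizer_maximal (by simp) q hq W hW0 hW1 hW
    (fun g hg => ?_) fun hc U hU hU2 hpl => ?_
  · have h := congrArg (fun X : Submodule F _ => Module.finrank F X) hg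
    simp only [LinearEquiv.finrank_map_eq] at h
    omega
  · rcases hU with rfl | rfl
    · exact hplane hU2 hc hpl
    · omega

theorem sing_clause (hQ : Cfsg.Geo.IsNondegenerateQuadraticForm Q) (W : Submodule F (Fin 10 → F))
    (hW0 : W ≠ ⊥) (hW : Cfsg.Geo.IsTotallySingularQuad Q W)
    (h : Module.finrank F W ≠ 4 ∨ ¬ Cfsg.Geo.IsPlusTypeOn Q ⊤) :
    Cfsg.Geo.IsMaximalIn (Cfsg.Geo.omegaGL Q)
      (Cfsg.Geo.subspaceStabilizer W ⊓ Cfsg.Geo.omegaGL Q) := by
  obtain ⟨q, rfl, hq⟩ := H45.exists_quadForm hQ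
  refine H45.singStabilizer_maximal (by simp) q hq W hW0 hW fun U hU hd hU2 => ?_
  rcases h with h | h
  · rw [Fintype.card_fin] at hU2; omega
  · exact h ⟨U, le_top, hU, by rw [hU2, finrank_top, Module.finrank_pi]⟩

theorem point_clause (hQ : Cfsg.Geo.IsNondegenerateQuadraticForm Q) (hchar : ¬ Odd (Fintype.card F))
    (v : Fin 10 → F) (hv : Q v ≠ 0) :
    Cfsg.Geo.IsMaximalIn (Cfsg.Geo.omegaGL Q)
      (Cfsg.Geo.subspaceStabilizer (Submodule.span F {v}) ⊓ Cfsg.Geo.omegaGL Q) := by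
  obtain ⟨q, rfl, hq⟩ := H45.exists_quadForm hQ
  have h2 : (2 : F) = 0 := by
    by_contra h
    exact hchar (Nat.odd_iff.mpr (FiniteField.odd_card_of_char_ne_two fun hc => h (by
      haveI := ringChar.of_eq hc
      exact CharTwo.two_eq_zero)))
  obtain ⟨r, hr⟩ := H43.isSquare_of_two_eq_zero h2 (q v)
  have hr0 : r ≠ 0 := fun h => hv (by rw [hr, h, mul_zero])
  have hspan : Submodule.span F {r⁻¹ • v} = Submodule.span F {v} :=
    Submodule.span_singleton_smul_eq (IsUnit.mk0 _ (inv_ne_zero hr0)) v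
  have hv1 : q (r⁻¹ • v) = 1 := by rw [H43.qmap_smul, hr]; field_simp
  rw [← hspan]
  exact H45.isMaximalIn_of_orth q _ _ (fun g _ => H45.toGL_mem_subspaceStabilizer_iff q g _)
    (H45.point_stab_maximal hq (by simp) h2 hv1)

theorem frame_clause (hQ : Cfsg.Geo.IsNondegenerateQuadraticForm Q) (hp : (Fintype.card F).Prime)
    (hodd : Odd (Fintype.card F)) (D : Fin 10 → Submodule F (Fin 10 → F))
    (hD : Cfsg.Geo.IsOrthogonalMDecomposition Q 1 D) :
    Cfsg.Geo.IsMaximalIn (Cfsg.Geo.omegaGL Q)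
      (Cfsg.Geo.decompositionStabilizer D ⊓ Cfsg.Geo.omegaGL Q) := by
  obtain ⟨q, rfl, hq⟩ := H45.exists_quadForm hQ
  exact H45.Frame.frame_maximal
    (Ring.two_ne_zero (H44.ringChar_ne_two_of_odd_card hodd)) (by simp) hp hq hD

/-- An orthogonal sum of planes with singular vectors has a singular subspace of half dimension. -/
theorem plusTypeOn_top_of_planes {n t : ℕ} {q : QuadraticForm F (Fin n → F)}
    (hq : (H43.polB q).Nondegenerate)
    {D : Fin t → Submodule F (Fin n → F)} (hD : Cfsg.Geo.IsOrthogonalMDecomposition (⇑q) 2 D)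
    (hall : ∀ i, Cfsg.Geo.IsPlusTypeOn (⇑q) (D i)) : Cfsg.Geo.IsPlusTypeOn (⇑q) ⊤ := by
  classical
  have hOD := H45.od_of_decomposition hD
  have hn : Fintype.card (Fin n) = t * 2 := H45.finrank_eq_mul hD
  have hb : ∀ i, ∃ b ∈ D i, b ≠ 0 ∧ q b = 0 := fun i => by
    obtain ⟨U, hU, hsing, hdim⟩ := hall i
    rw [hOD.dim] at hdim
    obtain ⟨b, hb, hb0⟩ := Submodule.exists_mem_ne_zero_of_ne_bot (p := U) fun e => by
      rw [e, finrank_bot] at hdim; omega
    exact ⟨b, hU hb, hb0, hsing b hb⟩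
  choose b hbD hb0 hbQ using hb
  let L : (Fin t → F) →ₗ[F] (Fin n → F) := Fintype.linearCombination F b
  have hL : ∀ x, L x = ∑ i, x i • b i := fun x => Fintype.linearCombination_apply F b x
  have hLinj : Function.Injective L := by
    rw [← LinearMap.ker_eq_bot, LinearMap.ker_eq_bot']
    intro x hx
    funext j
    have h := congrArg (H45.dpart hq hOD j) hx
    rw [hL, map_sum, map_zero, Finset.sum_eq_single j
      (fun i _ hij => H45.dpart_other hq hOD hij.symm ((D i).smul_mem _ (hbD i))) (by simp),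
      H45.dpart_of_mem hq hOD ((D j).smul_mem _ (hbD j))] at h
    exact (smul_eq_zero.mp h).resolve_right (hb0 j)
  refine ⟨LinearMap.range L, le_top, ?_, ?_⟩
  · rintro _ ⟨x, rfl⟩
    rw [hL]
    induction (Finset.univ : Finset (Fin t)) using Finset.induction_on with
    | empty => simp
    | insert j s hj ih =>
      rw [Finset.sum_insert hj, H43.qmap_add, ih, H43.qmap_smul, hbQ, map_sum,
        Finset.sum_eq_zero fun i hi => hOD.perp j i (fun e => hj (e ▸ hi)) _
          ((D j).smul_mem _ (hbD j)) _ ((D i).smul_mem _ (hbD i))]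
      ring
  · rw [LinearMap.finrank_range_of_inj hLinj, finrank_top, Module.finrank_fin_fun,
      Module.finrank_fin_fun]
    rw [Fintype.card_fin] at hn
    omega

theorem plane_clause (hQ : Cfsg.Geo.IsNondegenerateQuadraticForm Q) (h3 : Fintype.card F ≠ 3)
    (D : Fin 5 → Submodule F (Fin 10 → F)) (hD : Cfsg.Geo.IsOrthogonalMDecomposition Q 2 D)
    (h : 7 ≤ Fintype.card F ∨ ¬ Cfsg.Geo.IsPlusTypeOn Q ⊤) :
    Cfsg.Geo.IsMaximalIn (Cfsg.Geo.omegaGL Q)
      (Cfsg.Geo.decompositionStabilizer D ⊓ Cfsg.Geo.omegaGL Q) := by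
  obtain ⟨q, rfl, hq⟩ := H45.exists_quadForm hQ
  exact H45.decomposition_maximal_two (by simp) hq hD h3
    (h.imp_right fun hm hall => hm (plusTypeOn_top_of_planes hq hD hall))

theorem halves_iso_clause (hQ : Cfsg.Geo.IsNondegenerateQuadraticForm Q)
    (D : Fin 2 → Submodule F (Fin 10 → F)) (hD : Cfsg.Geo.IsOrthogonalMDecomposition Q 5 D) :
    Cfsg.Geo.IsMaximalIn (Cfsg.Geo.omegaGL Q)
      (Cfsg.Geo.decompositionStabilizer D ⊓ Cfsg.Geo.omegaGL Q) := by
  obtain ⟨q, rfl, hq⟩ := H45.exists_quadForm hQ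
  exact H45.decomposition_maximal (by simp) hq (by norm_num) hD (fun h => by omega)
    (fun h => by omega)

theorem halves_clause (hQ : Cfsg.Geo.IsNondegenerateQuadraticForm Q)
    (D : Fin 2 → Submodule F (Fin 10 → F))
    (hD : Cfsg.Geo.IsNondegenerateMDecomposition (QuadraticMap.polar Q) 5 D)
    (hni : ¬ Cfsg.Geo.AreIsometricFor Q (D 0) (D 1)) :
    Cfsg.Geo.IsMaximalIn (Cfsg.Geo.omegaGL Q)
      (Cfsg.Geo.decompositionStabilizer D ⊓ Cfsg.Geo.omegaGL Q) := by
  obtain ⟨q, rfl, hq⟩ := H45.exists_quadForm hQ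
  exact H45.halves_maximal le_rfl (by norm_num) q hq D hD hni

theorem ext_clause (hQ : Cfsg.Geo.IsNondegenerateQuadraticForm Q) (hodd : Odd (Fintype.card F))
    (K : Subalgebra F (Matrix (Fin 10) (Fin 10) F)) (hK : Cfsg.Geo.IsFieldSubalgebra 2 K)
    (hsa : Cfsg.Geo.IsSelfAdjointFor (QuadraticMap.polar Q) K) :
    Cfsg.Geo.IsMaximalIn (Cfsg.Geo.omegaGL Q)
      (Cfsg.Geo.subalgebraNormalizer K ⊓ Cfsg.Geo.omegaGL Q) := by
  obtain ⟨q, rfl, hq⟩ := H45.exists_quadForm hQ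
  exact H49.extension_normalizer_maximal q hq
    (Ring.two_ne_zero (H44.ringChar_ne_two_of_odd_card hodd))
    (by simp) 2 Nat.prime_two (by simp) K hK hsa

theorem subfield_clause (hQ : Cfsg.Geo.IsNondegenerateQuadraticForm Q) (F₀ : Subfield F) (r : ℕ)
    (hr : r.Prime) (hcard : Fintype.card F = Nat.card F₀ ^ r)
    (P : Matrix.GeneralLinearGroup (Fin 10) F) (ζ : F) (hζ : ζ ≠ 0)
    (hP : Cfsg.Geo.IsQuadFormRationalStructure (fun v : Fin 10 → F => ζ * Q v) F₀ P) :
    Cfsg.Geo.IsMaximalIn (Cfsg.Geo.omegaGL Q)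
      (Cfsg.Geo.subfieldSubgroup F₀ P ⊓ Cfsg.Geo.omegaGL Q) := by
  haveI : Nonempty (Fin 10) := ⟨0⟩
  obtain ⟨q, rfl, hq⟩ := H45.exists_quadForm hQ
  have hnd : (H43.polB (ζ • q)).Nondegenerate := by
    have key : ∀ x, (∀ y, H43.polB (ζ • q) x y = 0) → x = 0 := fun x hx =>
      H43.eq_zero_of_polB_eq_zero hq fun y => by
        have h := hx y
        rw [H43.polB_apply, QuadraticMap.polar] at h
        simp only [QuadraticMap.smul_apply, smul_eq_mul, ← mul_sub] at h
        rw [H43.polB_apply, QuadraticMap.polar]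
        exact (mul_eq_zero.1 h).resolve_left hζ
    exact ⟨key, fun x hx => key x fun y => by rw [H43.polB_comm]; exact hx y⟩
  have D : H38.SubO.Dat (ζ • q) F₀ P :=
    ⟨hnd, by simp, fun u => by
      rw [QuadraticMap.smul_apply, smul_eq_mul]
      exact hP _ fun i => (u i).2⟩
  have hmax := H38.SubO.subfield_maximal D hr (by rw [Nat.card_eq_fintype_card]; exact hcard)
  rwa [H46.OrthTwelve.omegaGL_smul hζ q] at hmax

end H65.OrthTen
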