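import Cfsg.Agent.H18.DegreeGraphPSL2

/-!
The degrees of the irreducible characters of `PSL(2, q)` for `q ≡ 1 (mod 4)`.
-/

set_option autoImplicit false

open Cfsg

namespace H65.PSLDegrees

variable {F : Type*} [Field F] [Fintype F]

theorem degree_cases (h4 : Fintype.card F % 4 = 1) {d : ℕ}
    (ψ : IrrCharacter (Matrix.ProjectiveSpecialLinearGroup (Fin 2) F))
    (hd : (ψ : Matrix.ProjectiveSpecialLinearGroup (Fin 2) F → ℂ) 1 = (d : ℂ)) :
    d = 1 ∨ d = Fintype.card F ∨ d = Fintype.card F + 1 ∨ d = Fintype.card F - 1 ∨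
      d = (Fintype.card F + 1) / 2 := by
  classical
  have hodd : Odd (Fintype.card F) := Nat.odd_iff.2 (by omega)
  have hF1 : 1 ≤ Fintype.card F := Fintype.card_pos
  obtain ⟨C, hC⟩ := (H17.slEmb F).exists_nonSplit
  obtain ⟨O⟩ := H17.nonempty_slOdd hC hodd
  set D := H17.slD hC with hD
  set Zc := Subgroup.center (Matrix.SpecialLinearGroup (Fin 2) F) with hZc
  set χ := H12.inflate Zc ψ with hχ
  have h1 : (χ : Matrix.SpecialLinearGroup (Fin 2) F → ℂ) 1 = (d : ℂ) := by
    rw [hχ, H12.inflate_apply, QuotientGroup.mk_one, hd]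
  rcases H17.sl_odd_degree hC hodd O χ with ⟨_, -, -, e⟩ | ⟨_, -, -, e⟩ | ⟨-, e⟩ | ⟨-, e⟩ | ⟨-, e⟩ | ⟨h, e⟩
  · exact Or.inr (Or.inr (Or.inl (by rw [h1] at e; exact_mod_cast e)))
  · refine Or.inr (Or.inr (Or.inr (Or.inl ?_)))
    rw [h1, show (Fintype.card F : ℂ) - 1 = ((Fintype.card F - 1 : ℕ) : ℂ) by
      rw [Nat.cast_sub hF1, Nat.cast_one]] at e
    exact_mod_cast e
  · exact Or.inl (by rw [h1] at e; exact_mod_cast e)
  · exact Or.inr (Or.inl (by rw [h1] at e; exact_mod_cast e))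
  · exact Or.inr (Or.inr (Or.inr (Or.inr (by rw [h1] at e; exact_mod_cast e))))
  · exfalso
    obtain ⟨ω, hω⟩ := H17.exists_central_char χ.2 D.Z D.Z_center
    have hωη := D.mC_central ω hω h
    have hZ : Nat.card D.Z = 2 := H17.natCard_slZ hC hodd
    haveI : Nontrivial D.Z := Finite.one_lt_card_iff_nontrivial.1 (by omega)
    obtain ⟨z, hz1⟩ := exists_ne (1 : D.Z)
    have hzsq : z ^ 2 = 1 := orderOf_dvd_iff_pow_eq_one.1 (dvd_trans (orderOf_dvd_natCard z) hZ.dvd)
    have hzc : (z : Matrix.SpecialLinearGroup (Fin 2) F) ∈ Zc := by rw [hZc, H17.center_eq]; exact z.2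
    have hone : (ω z : ℂ) = 1 := by
      have e1 := hω z 1
      rw [mul_one, hχ, H12.inflate_apply, H12.inflate_apply, QuotientGroup.mk_one,
        (QuotientGroup.eq_one_iff _).2 hzc, hd] at e1
      have hd0 : (d : ℂ) ≠ 0 := by
        rw [← hd]; intro e0
        rw [h1, ← hd, e0] at e
        have : (Fintype.card F - 1) / 2 ≠ 0 := by
          have : 1 < Fintype.card F := Fintype.one_lt_card
          omega
        exact this (by exact_mod_cast e.symm)
      exact (mul_left_inj' hd0).1 (by rw [← e1, one_mul])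
    obtain ⟨k, hk⟩ : Odd ((Fintype.card F + 1) / 2) := Nat.odd_iff.2 (by omega)
    have hne : D.zC z ^ ((Fintype.card F + 1) / 2) ≠ 1 := by
      rw [hk, pow_succ, pow_mul, ← map_pow D.zC, hzsq, map_one, one_pow, one_mul]
      intro e1
      exact hz1 (Subtype.ext ((D.coe_zC z).symm.trans (congrArg Subtype.val e1)))
    have hm := (O.θ_val (D.zC z)).2 hne
    have h2 : O.θ₀ (D.zC z) = ω z := DFunLike.congr_fun hωη z
    rw [← h2, hm] at hone
    norm_num at hone

end H65.PSLDegrees
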