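import Cfsg.Agent.H13.RealLinTwist
import Cfsg.Agent.H24.CharBasic

/-!
Involutions, real characters of small degree and small classes.
-/

set_option autoImplicit false

namespace H65

open Subgroup Cfsg

universe u

variable {G : Type u} [Group G] [Fintype G]

/-- The involutions are bounded by the degrees of the real non-principal characters. -/
theorem RD_involutions_le :
    ∃ R : Finset (IrrCharacter G),
      (∀ χ ∈ R, (χ : G → ℂ) ≠ (fun _ => 1) ∧ ∀ g : G, ((χ : G → ℂ) g).im = 0) ∧
      (Nat.card {x : G // orderOf x = 2} : ℝ) ≤ ∑ χ ∈ R, (H12.degree (χ : G → ℂ) : ℝ) ∧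
      ∑ χ ∈ R, (H12.degree (χ : G → ℂ) : ℝ) ^ 2 ≤ (Nat.card G : ℝ) - 1 := by
  classical
  set R : Finset (IrrCharacter G) := Finset.univ.filter
    (fun χ => χ ≠ H12.oneIrr G ∧ ∀ g : G, ((χ : G → ℂ) g).im = 0) with hR
  refine ⟨R, fun χ hχ => ⟨fun e => (Finset.mem_filter.1 hχ).2.1 (Subtype.ext e),
    (Finset.mem_filter.1 hχ).2.2⟩, ?_, ?_⟩
  · have hcard : (Finset.univ.filter fun g : G => g * g = 1).card
        = Nat.card {x : G // orderOf x = 2} + 1 := by
      rw [Nat.card_eq_fintype_card, Fintype.card_subtype,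
        ← Finset.card_erase_add_one (a := (1 : G)) (s := Finset.univ.filter fun g : G => g * g = 1)
          (by simp)]
      congr 2
      ext g
      simp only [Finset.mem_erase, Finset.mem_filter, Finset.mem_univ, true_and, ← pow_two]
      exact ⟨fun h => orderOf_eq_prime h.2 h.1,
        fun h => ⟨fun e => by simp [e] at h, by rw [← h]; exact pow_orderOf_eq_one g⟩⟩
    have h := congrArg Complex.re (H13.Twist.card_sq_eq_one_sum (G := G))
    rw [hcard, Complex.natCast_re, Complex.re_sum,
      ← Finset.add_sum_erase _ _ (Finset.mem_univ (H12.oneIrr G))] at h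
    have h1 : (H17.fsInd (H12.oneIrr G : G → ℂ) * (H12.oneIrr G : G → ℂ) 1).re = 1 := by
      simp [H17.fsInd, H12.oneIrr_apply]
    rw [h1, Nat.cast_add, Nat.cast_one] at h
    have h2 : (Nat.card {x : G // orderOf x = 2} : ℝ) = ∑ χ ∈ Finset.univ.erase (H12.oneIrr G),
        (H17.fsInd (χ : G → ℂ) * (χ : G → ℂ) 1).re := by linarith
    rw [h2]
    have h3 : ∀ χ ∈ Finset.univ.erase (H12.oneIrr G),
        (H17.fsInd (χ : G → ℂ) * (χ : G → ℂ) 1).re ≤
          if χ ∈ R then (H12.degree (χ : G → ℂ) : ℝ) else 0 := by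
      intro χ hχ
      rw [H12.irr_apply_one]
      rcases H25.fsInd_irr_cases χ with h | ⟨h, hreal⟩
      · rw [h]
        split_ifs <;> simp
      · rw [if_pos (Finset.mem_filter.2 ⟨Finset.mem_univ _, (Finset.mem_erase.1 hχ).1, hreal⟩)]
        rcases h with h | h <;> simp [h]
    refine (Finset.sum_le_sum h3).trans (le_of_eq ?_)
    rw [← Finset.sum_filter]
    refine Finset.sum_congr ?_ fun _ _ => rfl
    ext χ
    simp only [Finset.mem_filter, Finset.mem_erase, Finset.mem_univ, hR, and_true, true_and]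
    tauto
  · have h := H12.sum_degree_sq_nat (G := G)
    rw [← Finset.add_sum_erase _ _ (Finset.mem_univ (H12.oneIrr G))] at h
    have h1 : H12.degree (H12.oneIrr G : G → ℂ) = 1 := by
      simp [H12.degree, H12.oneIrr_apply]
    rw [h1] at h
    have h' : (1 : ℝ) ^ 2 + ∑ χ ∈ Finset.univ.erase (H12.oneIrr G),
        (H12.degree (χ : G → ℂ) : ℝ) ^ 2 = (Nat.card G : ℝ) := by exact_mod_cast h
    have hsub : R ⊆ Finset.univ.erase (H12.oneIrr G) := fun χ hχ =>
      Finset.mem_erase.2 ⟨(Finset.mem_filter.1 hχ).2.1, Finset.mem_univ _⟩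
    have := Finset.sum_le_sum_of_subset_of_nonneg (f := fun χ : IrrCharacter G =>
      (H12.degree (χ : G → ℂ) : ℝ) ^ 2) hsub (fun _ _ _ => by positivity)
    linarith

/-- A small class and a small real degree. -/
theorem RD_bounds {t : ℕ} (ht0 : 0 < t) (ht : Nat.card {x : G // orderOf x = 2} = t) :
    (∃ x : G, x ≠ 1 ∧
      ((centralizer ({x} : Set G)).index : ℝ) ≤ (((Nat.card G : ℝ) - 1) / t) ^ 2) ∧
    ∃ χ : IrrCharacter G, (χ : G → ℂ) ≠ (fun _ => 1) ∧ (∀ g : G, ((χ : G → ℂ) g).im = 0) ∧
      (H12.degree (χ : G → ℂ) : ℝ) ≤ ((Nat.card G : ℝ) - 1) / t := by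
  classical
  obtain ⟨R, hR, hsum, hsq⟩ := RD_involutions_le (G := G)
  rw [ht] at hsum
  have ht' : (0 : ℝ) < t := by exact_mod_cast ht0
  have hRne : R.Nonempty := Finset.nonempty_iff_ne_empty.2 fun e => by
    rw [e, Finset.sum_empty] at hsum; linarith
  set g₁ := (Nat.card G : ℝ) - 1 with hg₁
  constructor
  · have hcs := sq_sum_le_card_mul_sum_sq (s := R) (f := fun χ : IrrCharacter G =>
      (H12.degree (χ : G → ℂ) : ℝ))
    have hRk : R.card ≤ (Finset.univ.erase (1 : ConjClasses G)).card := by
      have h1 := Finset.card_le_card (show R ⊆ Finset.univ.erase (H12.oneIrr G) from fun χ hχ =>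
        Finset.mem_erase.2 ⟨fun e => (hR χ hχ).1 (by rw [e]; rfl), Finset.mem_univ _⟩)
      rw [Finset.card_erase_of_mem (Finset.mem_univ _), Finset.card_univ,
        ← Nat.card_eq_fintype_card, H12.card_irrCharacter, Nat.card_eq_fintype_card,
        ← Finset.card_univ, ← Finset.card_erase_of_mem (Finset.mem_univ (1 : ConjClasses G))] at h1
      exact h1
    haveI : Nontrivial G := by
      by_contra hn
      rw [not_nontrivial_iff_subsingleton] at hn
      have : IsEmpty {x : G // orderOf x = 2} := ⟨fun x => by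
        have := x.2; rw [Subsingleton.elim (x : G) 1, orderOf_one] at this; omega⟩
      rw [Nat.card_of_isEmpty] at ht
      omega
    obtain ⟨x, hx, hmin⟩ := Finset.exists_min_image ((Finset.univ : Finset G).erase 1)
      (fun x => (centralizer ({x} : Set G)).index) (by
        obtain ⟨a, ha⟩ := exists_ne (1 : G)
        exact ⟨a, Finset.mem_erase.2 ⟨ha, Finset.mem_univ _⟩⟩)
    refine ⟨x, (Finset.mem_erase.1 hx).1, ?_⟩
    set i := (centralizer ({x} : Set G)).index
    have hcount : (Finset.univ.erase (1 : ConjClasses G)).card * i ≤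
        ((Finset.univ : Finset G).erase 1).card := by
      rw [Finset.card_eq_sum_card_fiberwise (s := (Finset.univ : Finset G).erase 1)
        (f := ConjClasses.mk) (t := Finset.univ.erase (1 : ConjClasses G)) (fun y hy => ?_)]
      · rw [← smul_eq_mul, ← Finset.sum_const]
        refine Finset.sum_le_sum fun C hC => ?_
        induction C using Quotient.inductionOn with
        | h y =>
          have hy : y ≠ 1 := by
            rintro rfl
            exact (Finset.mem_erase.1 hC).1 rfl
          refine (hmin y (Finset.mem_erase.2 ⟨hy, Finset.mem_univ _⟩)).trans (le_of_eq ?_)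
          rw [H24.index_centralizer_eq_card]
          congr 1
          ext z
          simp only [Finset.mem_filter, Finset.mem_univ, true_and, Finset.mem_erase, and_true]
          constructor
          · intro h
            refine ⟨fun e => hy ?_, ConjClasses.mk_eq_mk_iff_isConj.2 h.symm⟩
            rw [e] at h
            exact isConj_one_right.1 h.symm
          · exact fun h => (ConjClasses.mk_eq_mk_iff_isConj.1 h.2).symm
      · refine Finset.mem_erase.2 ⟨fun e => (Finset.mem_erase.1 hy).1 ?_, Finset.mem_univ _⟩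
        exact isConj_one_right.1 (ConjClasses.mk_eq_mk_iff_isConj.1 e).symm
    rw [Finset.card_erase_of_mem (Finset.mem_univ (1 : G)), Finset.card_univ,
      ← Nat.card_eq_fintype_card] at hcount
    have hcount' : (R.card : ℝ) * i ≤ g₁ := by
      have : ((R.card * i : ℕ) : ℝ) ≤ ((Nat.card G - 1 : ℕ) : ℝ) :=
        Nat.cast_le.2 ((Nat.mul_le_mul_right _ hRk).trans hcount)
      rw [Nat.cast_sub Nat.card_pos] at this
      push_cast at this
      linarith
    have h1 : (t : ℝ) ^ 2 ≤ R.card * g₁ :=
      le_trans (by gcongr) (hcs.trans (mul_le_mul_of_nonneg_left hsq (by positivity)))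
    rw [div_pow, le_div_iff₀ (by positivity)]
    have hg0 : 0 ≤ g₁ := le_trans (Finset.sum_nonneg fun _ _ => by positivity) hsq
    calc (i : ℝ) * (t : ℝ) ^ 2 ≤ i * (R.card * g₁) := mul_le_mul_of_nonneg_left h1 (by positivity)
      _ = (R.card * i) * g₁ := by ring
      _ ≤ g₁ * g₁ := mul_le_mul_of_nonneg_right hcount' hg0
      _ = g₁ ^ 2 := by ring
  · by_contra hno
    push Not at hno
    have hlt : ∀ χ ∈ R, g₁ / t * (H12.degree (χ : G → ℂ) : ℝ) <
        (H12.degree (χ : G → ℂ) : ℝ) ^ 2 := fun χ hχ => by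
      rw [pow_two]
      exact mul_lt_mul_of_pos_right (hno χ (hR χ hχ).1 (hR χ hχ).2)
        (by exact_mod_cast H12.irr_degree_pos χ)
    have h := Finset.sum_lt_sum_of_nonempty hRne hlt
    rw [← Finset.mul_sum] at h
    have hg0 : 0 ≤ g₁ := le_trans (Finset.sum_nonneg fun _ _ => by positivity) hsq
    have h2 : g₁ ≤ g₁ / t * ∑ χ ∈ R, (H12.degree (χ : G → ℂ) : ℝ) := by
      calc g₁ = g₁ / t * t := by field_simp
        _ ≤ _ := mul_le_mul_of_nonneg_left hsum (by positivity)
    linarith

end H65
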