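import Cfsg.Agent.S0165
import Cfsg.Agent.H12.Orth
import Cfsg.Agent.H12.Linear
import Cfsg.Agent.H12.Transport
import Cfsg.Agent.H12.Integral
import Cfsg.Agent.H65.IsolatedSylow

/-!
Groups with the order and the possible degrees of `PSL(2, p²)`, `p` odd.
-/

set_option autoImplicit false

open Cfsg

namespace H65.SquareDegrees

open Subgroup

variable {G : Type*} [Group G] [Finite G]

theorem vanish {r n d : ℕ} (hr : r.Prime) (χ : IrrCharacter G) (hd : (χ : G → ℂ) 1 = (d : ℂ))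
    (hn : r ^ n ∣ Nat.card G) (hn' : ¬ r ^ (n + 1) ∣ Nat.card G) (hdeg : r ^ n ∣ d)
    {x : G} (hx : r ∣ orderOf x) : (χ : G → ℂ) x = 0 := by
  obtain ⟨m, ρ, hirr, e⟩ := χ.2
  haveI := hirr
  have hm : Module.finrank ℂ (Fin m → ℂ) = d := by
    rw [← e, Representation.char_one] at hd
    exact_mod_cast hd
  rw [← e]
  exact Cfsg.Agent.S0165.result ρ r n hr hn hn' (hm ▸ hdeg) x hx

/-- The hypotheses on `G`: order and perfectness of `PSL(2, q)`, and its degrees. -/
structure Hyp (G : Type*) [Group G] (p q : ℕ) : Prop where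
  pp : p.Prime
  hq : q = p ^ 2
  q4 : q % 4 = 1
  q5 : 5 ≤ q
  card : 2 * Nat.card G = q * ((q - 1) * (q + 1))
  linear : (commutator G).index = 1
  degs : ∀ (χ : IrrCharacter G) (d : ℕ), (χ : G → ℂ) 1 = (d : ℂ) →
    d = 1 ∨ d = q ∨ d = q + 1 ∨ d = q - 1 ∨ d = (q + 1) / 2

variable {p q : ℕ} (h : Hyp G p q)
include h

theorem p_part : p ^ 2 ∣ Nat.card G ∧ ¬ p ^ (2 + 1) ∣ Nat.card G := by
  have hp := h.pp
  have hq4 := h.q4
  obtain ⟨k, hk⟩ : ∃ k, q = 2 * k + 1 := ⟨q / 2, by omega⟩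
  have hG : Nat.card G = q * (k * (q + 1)) := by
    have := h.card
    rw [show q - 1 = 2 * k by omega, show q * (2 * k * (q + 1)) = 2 * (q * (k * (q + 1))) by ring] at this
    omega
  have hpq : p ∣ q := h.hq ▸ dvd_pow_self p two_ne_zero
  refine ⟨hG ▸ h.hq ▸ dvd_mul_right _ _, fun hd => ?_⟩
  rw [hG, pow_succ, ← h.hq] at hd
  rcases hp.dvd_mul.1 (Nat.dvd_of_mul_dvd_mul_left (by have := h.q5; omega) hd) with e | e
  · have h2 : p ∣ 2 * k := e.mul_left 2
    exact hp.not_dvd_one ((Nat.dvd_add_right h2).1 (hk ▸ hpq))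
  · exact hp.not_dvd_one ((Nat.dvd_add_right hpq).1 e)

theorem eq_one_of_degree_one (χ : IrrCharacter G) (h1 : (χ : G → ℂ) 1 = 1) :
    χ = H12.oneIrr G := by
  have h2 : Nat.card {χ : IrrCharacter G // (χ : G → ℂ) 1 = 1} = 1 := H12.card_linear_irr.trans h.linear
  haveI := (Nat.card_eq_one_iff_unique.1 h2).1
  exact congrArg Subtype.val (Subsingleton.elim (⟨χ, h1⟩ : {χ : IrrCharacter G // (χ : G → ℂ) 1 = 1})
    ⟨H12.oneIrr G, H12.oneIrr_apply G 1⟩)

/-- No element has order divisible by `p` and another prime. -/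
theorem not_mixed {g : G} {s : ℕ} (hs : s.Prime) (hsp : s ≠ p) (hpg : p ∣ orderOf g)
    (hsg : s ∣ orderOf g) : False := by
  classical
  haveI := Fintype.ofFinite G
  have hp := h.pp
  have h5 := h.q5
  have hq4 := h.q4
  obtain ⟨hpn, hpn'⟩ := p_part h
  have hg1 : g ≠ 1 := fun e => hp.not_dvd_one (by rwa [e, orderOf_one] at hpg)
  set n := (Nat.card G).factorization s with hn
  have hn1 : s ^ n ∣ Nat.card G := Nat.ordProj_dvd _ _
  have hn2 : ¬ s ^ (n + 1) ∣ Nat.card G := Nat.pow_succ_factorization_not_dvd Nat.card_pos.ne' hs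
  obtain ⟨k, hk⟩ : ∃ k, q = 4 * k + 1 := ⟨q / 4, by omega⟩
  have hG : Nat.card G = q * (4 * k * (2 * k + 1)) := by
    have := h.card
    rw [hk, show 4 * k + 1 - 1 = 4 * k by omega,
      show (4 * k + 1) * (4 * k * (4 * k + 1 + 1)) = 2 * ((4 * k + 1) * (4 * k * (2 * k + 1))) by ring] at this
    rw [hk]
    omega
  have hm : (q + 1) / 2 = 2 * k + 1 := by omega
  -- the exponent of `s` sits in one of the two factors
  have hsplit : (s ^ n ∣ 2 * k + 1) ∨ (s ^ n ∣ 4 * k) := by
    have hcop : Nat.Coprime (s ^ n) q := by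
      refine Nat.Coprime.pow_left _ ?_
      rw [h.hq]
      exact Nat.Coprime.pow_right _ ((Nat.coprime_primes hs hp).2 hsp)
    have h1 : s ^ n ∣ 4 * k * (2 * k + 1) := hcop.dvd_of_dvd_mul_left (hG ▸ hn1)
    by_cases hs2 : s ∣ 2 * k + 1
    · refine Or.inl ((Nat.Coprime.dvd_of_dvd_mul_left ?_ h1))
      refine Nat.Coprime.pow_left _ (hs.coprime_iff_not_dvd.2 fun hd => ?_)
      have h2 := Nat.dvd_sub (hs2.mul_left 2) hd
      rw [show 2 * (2 * k + 1) - 4 * k = 2 by omega] at h2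
      obtain rfl := (Nat.prime_dvd_prime_iff_eq hs Nat.prime_two).1 h2
      omega
    · exact Or.inr ((Nat.Coprime.pow_left _ (hs.coprime_iff_not_dvd.2 hs2)).dvd_of_dvd_mul_right h1)
  set c := if s ^ n ∣ 2 * k + 1 then 4 * k else 2 * k + 1 with hc
  have hc2 : 2 ≤ c := by rw [hc]; split_ifs <;> omega
  have hterm : ∀ χ : IrrCharacter G, χ ≠ H12.oneIrr G →
      ∃ a : ℂ, IsIntegral ℤ a ∧ (χ : G → ℂ) 1 * (χ : G → ℂ) g = (c : ℂ) * a := by
    intro χ hχ
    set d := H12.degree (χ : G → ℂ)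
    have hd : (χ : G → ℂ) 1 = (d : ℂ) := H12.irr_apply_one χ
    have hint : IsIntegral ℤ ((χ : G → ℂ) g) := H12.IsCharacter.isIntegral (H12.isCharacter_irr χ) g
    have hzero : ∀ (r m : ℕ), r.Prime → r ^ m ∣ Nat.card G → ¬ r ^ (m + 1) ∣ Nat.card G →
        r ^ m ∣ d → r ∣ orderOf g → ∃ a : ℂ, IsIntegral ℤ a ∧ (χ : G → ℂ) 1 * (χ : G → ℂ) g = (c : ℂ) * a :=
      fun r m hr a1 a2 a3 a4 => ⟨0, isIntegral_zero, by rw [vanish hr χ hd a1 a2 a3 a4, mul_zero, mul_zero]⟩
    have hmul : c ∣ d → ∃ a : ℂ, IsIntegral ℤ a ∧ (χ : G → ℂ) 1 * (χ : G → ℂ) g = (c : ℂ) * a := by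
      rintro ⟨e, he⟩
      exact ⟨(e : ℂ) * (χ : G → ℂ) g, IsIntegral.mul (show IsIntegral ℤ (e : ℂ) by simpa using (isIntegral_algebraMap (R := ℤ) (A := ℂ) (x := (e : ℤ)))) hint,
        by rw [hd, he, Nat.cast_mul, mul_assoc]⟩
    rcases h.degs χ d hd with e | e | e | e | e
    · exact absurd (eq_one_of_degree_one h χ (by rw [hd, e, Nat.cast_one])) hχ
    · exact hzero p 2 hp hpn hpn' (by rw [e, h.hq]) hpg
    · by_cases hcs : s ^ n ∣ 2 * k + 1
      · exact hzero s n hs hn1 hn2 (by rw [e, show q + 1 = 2 * (2 * k + 1) by omega]; exact hcs.mul_left 2) hsg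
      · refine hmul ?_
        rw [hc, if_neg hcs, e, show q + 1 = 2 * (2 * k + 1) by omega]
        exact dvd_mul_left _ _
    · by_cases hcs : s ^ n ∣ 2 * k + 1
      · refine hmul ?_
        rw [hc, if_pos hcs, e, show q - 1 = 4 * k by omega]
      · exact hzero s n hs hn1 hn2 (by rw [e, show q - 1 = 4 * k by omega]; exact hsplit.resolve_left hcs) hsg
    · by_cases hcs : s ^ n ∣ 2 * k + 1
      · exact hzero s n hs hn1 hn2 (by rw [e, hm]; exact hcs) hsg
      · refine hmul ?_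
        rw [hc, if_neg hcs, e, hm]
  choose! a ha using hterm
  have horth := H12.regular_eq_sum (G := G) g
  rw [if_neg hg1, ← Finset.add_sum_erase _ _ (Finset.mem_univ (H12.oneIrr G)), H12.oneIrr_apply,
    H12.oneIrr_apply, one_mul, Finset.sum_congr rfl (fun χ hχ => (ha χ (Finset.ne_of_mem_erase hχ)).2),
    ← Finset.mul_sum] at horth
  set A := ∑ χ ∈ Finset.univ.erase (H12.oneIrr G), a χ
  have hA : IsIntegral ℤ A := IsIntegral.sum _ fun χ hχ => (ha χ (Finset.ne_of_mem_erase hχ)).1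
  have hc0 : (c : ℂ) ≠ 0 := by exact_mod_cast (by omega : c ≠ 0)
  have h1c : ((1 : ℕ) : ℂ) / (c : ℂ) = -A := by
    rw [div_eq_iff hc0, Nat.cast_one]
    linear_combination horth
  have := H12.nat_dvd_of_isIntegral_div (a := 1) (b := c) (by omega) (h1c ▸ hA.neg)
  have := Nat.le_of_dvd one_pos this
  omega

variable [Fact p.Prime]

theorem card_sylow (P : Sylow p G) : Nat.card P = q := by
  obtain ⟨hpn, hpn'⟩ := p_part h
  rw [P.card_eq_multiplicity, h.hq]
  congr 1
  have h1 : 2 ≤ (Nat.card G).factorization p :=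
    (h.pp.pow_dvd_iff_le_factorization Nat.card_pos.ne').1 hpn
  have h2 : ¬ 3 ≤ (Nat.card G).factorization p := fun e =>
    hpn' ((h.pp.pow_dvd_iff_le_factorization Nat.card_pos.ne').2 e)
  omega

theorem comm (P : Sylow p G) : ∀ a ∈ P, ∀ b ∈ P, a * b = b * a := by
  intro a ha b hb
  have h1 := IsPGroup.isMulCommutative_of_card_eq_prime_sq (G := (P : Subgroup G)) (p := p) (by rw [card_sylow h P, h.hq])
  exact congrArg Subtype.val (h1.is_comm.comm ⟨a, ha⟩ ⟨b, hb⟩)

theorem cent (P : Sylow p G) : ∀ x ∈ P, x ≠ 1 → ∀ y : G, Commute x y → y ∈ P := by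
  intro x hx hx1 y hy
  set C := centralizer ({x} : Set G) with hC
  have hPC : (P : Subgroup G) ≤ C := fun w hw => mem_centralizer_singleton_iff.2 (comm h P w hw x hx)
  have hp : IsPGroup p C := by
    refine IsPGroup.iff_orderOf.2 fun w => ?_
    have hw : ∀ s : ℕ, s.Prime → s ∣ orderOf w → s = p := by
      intro s hs hsw
      by_contra hsp
      have hcw : Commute x (w : G) := (mem_centralizer_singleton_iff.1 w.2).symm
      have hsw' : s ∣ orderOf (w : G) := by rwa [Subgroup.orderOf_coe]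
      obtain ⟨i, hi⟩ := IsPGroup.iff_orderOf.1 P.isPGroup' ⟨x, hx⟩
      rw [Subgroup.orderOf_mk] at hi
      have hi0 : i ≠ 0 := fun e => hx1 (orderOf_eq_one_iff.1 (by rw [hi, e, pow_zero]))
      have hy' : orderOf ((w : G) ^ (orderOf (w : G) / s)) = s := orderOf_pow_orderOf_div (orderOf_pos (w : G)).ne' hsw'
      have hmul := (hcw.pow_right (orderOf (w : G) / s)).orderOf_mul_eq_mul_orderOf_of_coprime
        (by rw [hi, hy']; exact Nat.Coprime.pow_left _ ((Nat.coprime_primes h.pp hs).2 (Ne.symm hsp)))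
      rw [hi, hy'] at hmul
      exact not_mixed h hs hsp (hmul ▸ (dvd_pow_self p hi0).mul_right s) (hmul ▸ dvd_mul_left s _)
    exact ⟨_, Nat.eq_prime_pow_of_unique_prime_dvd (orderOf_pos w).ne' (fun {s} hs hd => hw s hs hd)⟩
  exact (P.3 hp hPC).le (mem_centralizer_singleton_iff.2 hy.symm.eq)

/-- A nontrivial quotient is large. -/
theorem quotient_large (N : Subgroup G) [N.Normal] (hN : N ≠ ⊤) :
    (q + 1) ^ 2 < 2 * Nat.card (G ⧸ N) := by
  classical
  haveI := Fintype.ofFinite (G ⧸ N)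
  have hnt : Nontrivial (G ⧸ N) := Finite.one_lt_card_iff_nontrivial.1 (by
    rw [← Subgroup.index_eq_card]
    have h1 := Subgroup.index_ne_zero_of_finite (H := N)
    have h2 : N.index ≠ 1 := fun e => hN (Subgroup.index_eq_one.1 e)
    omega)
  have h5 := h.q5
  have hq4 := h.q4
  obtain ⟨k, hk⟩ : ∃ k, q = 4 * k + 1 := ⟨q / 4, by omega⟩
  have hd : ∀ ψ : IrrCharacter (G ⧸ N), ψ ≠ H12.oneIrr (G ⧸ N) →
      2 * k + 1 ≤ H12.degree (ψ : G ⧸ N → ℂ) := by
    intro ψ hψ
    have e1 : (H12.inflate N ψ : G → ℂ) 1 = (H12.degree (ψ : G ⧸ N → ℂ) : ℂ) := by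
      rw [H12.inflate_apply, QuotientGroup.mk_one, H12.irr_apply_one]
    rcases h.degs _ _ e1 with e | e | e | e | e
    · exfalso
      have h1 := eq_one_of_degree_one h (H12.inflate N ψ) (by rw [e1, e, Nat.cast_one])
      refine hψ (Subtype.ext (funext fun w => ?_))
      obtain ⟨w, rfl⟩ := QuotientGroup.mk_surjective w
      rw [← H12.inflate_apply, h1, H12.oneIrr_apply, H12.oneIrr_apply]
    all_goals omega
  have hsum := H12.sum_degree_sq_nat (G := G ⧸ N)
  have hcard2 : 1 < Fintype.card (G ⧸ N) := Fintype.one_lt_card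
  rw [← Finset.add_sum_erase _ _ (Finset.mem_univ (H12.oneIrr (G ⧸ N)))] at hsum
  have hone : H12.degree ((H12.oneIrr (G ⧸ N) : IrrCharacter (G ⧸ N)) : G ⧸ N → ℂ) = 1 := by
    have := H12.irr_apply_one (H12.oneIrr (G ⧸ N))
    rw [H12.oneIrr_apply] at this
    exact_mod_cast this.symm
  rw [hone, one_pow, Nat.card_eq_fintype_card] at hsum
  set T := (Finset.univ : Finset (IrrCharacter (G ⧸ N))).erase (H12.oneIrr (G ⧸ N))
  have hT : 2 ≤ T.card := by
    by_contra hlt
    rcases (show T.card = 0 ∨ T.card = 1 by omega) with e | e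
    · rw [Finset.card_eq_zero.1 e, Finset.sum_empty] at hsum; omega
    · obtain ⟨ψ, hψ⟩ := Finset.card_eq_one.1 e
      rw [hψ, Finset.sum_singleton] at hsum
      set d := H12.degree (ψ : G ⧸ N → ℂ)
      have hmem : ψ ∈ T := hψ ▸ Finset.mem_singleton_self ψ
      have hd2 := hd ψ (by simpa [T] using hmem)
      obtain ⟨m, ρ, hirr, e2⟩ := ψ.2
      haveI := hirr
      obtain ⟨r, hr⟩ := H12.degree_dvd_card ρ
      have hm : (m : ℂ) = (d : ℂ) := by
        have e3 := congrFun e2 1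
        rw [Representation.char_one, Module.finrank_fin_fun, H12.irr_apply_one] at e3
        exact e3
      have hmd : d ∣ Fintype.card (G ⧸ N) := by
        rw [← Nat.card_eq_fintype_card]
        refine ⟨r, ?_⟩
        rw [hr, Module.finrank_fin_fun]
        congr 1
        exact_mod_cast hm
      rw [← hsum] at hmd
      have h1 : d ∣ 1 := (Nat.dvd_add_left (dvd_pow_self d two_ne_zero)).1 hmd
      have := Nat.le_of_dvd one_pos h1
      omega
  have hsum2 : T.card • ((2 * k + 1) ^ 2) ≤ ∑ χ ∈ T, H12.degree (χ : G ⧸ N → ℂ) ^ 2 :=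
    Finset.card_nsmul_le_sum _ _ _ fun ψ hψ => Nat.pow_le_pow_left (hd ψ (by simpa [T] using hψ)) 2
  rw [smul_eq_mul] at hsum2
  have h3 : 2 * (2 * k + 1) ^ 2 ≤ T.card * (2 * k + 1) ^ 2 := Nat.mul_le_mul_right _ hT
  rw [Nat.card_eq_fintype_card]
  have : (q + 1) ^ 2 = 4 * (2 * k + 1) ^ 2 := by rw [hk]; ring
  omega

theorem simple : IsSimpleGroup G := by
  classical
  have h5 := h.q5
  have hp := h.pp
  obtain ⟨P⟩ : Nonempty (Sylow p G) := inferInstance
  have hPc := card_sylow h P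
  haveI : Nontrivial G := by
    refine Finite.one_lt_card_iff_nontrivial.1 ?_
    have := Nat.le_of_dvd Nat.card_pos (card_subgroup_dvd_card (P : Subgroup G))
    rw [show Nat.card (P : Subgroup G) = q from hPc] at this
    omega
  refine ⟨fun N hN => ?_⟩
  by_contra hne
  push Not at hne
  haveI := hN
  have hsmall : Nat.card N < q := by
    have h1 := quotient_large h N hne.2
    rw [← Subgroup.index_eq_card] at h1
    have h2 := N.card_mul_index
    by_contra hle
    push Not at hle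
    have h4 : q * (q + 1) ^ 2 < Nat.card N * (2 * N.index) :=
      lt_of_lt_of_le (Nat.mul_lt_mul_of_pos_left h1 (by omega)) (Nat.mul_le_mul_right _ hle)
    rw [show Nat.card N * (2 * N.index) = 2 * (Nat.card N * N.index) by ring, h2, h.card] at h4
    have h5 : q * ((q - 1) * (q + 1)) ≤ q * (q + 1) ^ 2 :=
      Nat.mul_le_mul_left _ (by rw [sq]; exact Nat.mul_le_mul_right _ (by omega))
    omega
  have hdisj : ∀ x ∈ (P : Subgroup G), x ∈ N → x = 1 := by
    intro x hxP hxN
    by_contra hx1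
    have h1 : Nat.card (centralizer ({x} : Set G)) ≤ q := by
      rw [← hPc]
      exact card_le_of_le fun y hy => cent h P x hxP hx1 y (mem_centralizer_singleton_iff.1 hy).symm
    have h2 : (centralizer ({x} : Set G)).index ≤ Nat.card N := by
      rw [Subgroup.index_eq_card]
      refine Nat.card_le_card_of_injective
        (fun w : G ⧸ centralizer ({x} : Set G) => (⟨w.out * x * w.out⁻¹, hN.conj_mem x hxN _⟩ : N)) ?_
      intro a b e
      have e' : a.out * x * a.out⁻¹ = b.out * x * b.out⁻¹ := congrArg Subtype.val e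
      rw [← Quotient.out_eq' a, ← Quotient.out_eq' b]
      refine QuotientGroup.eq.2 (mem_centralizer_singleton_iff.2 ?_)
      calc a.out⁻¹ * b.out * x = a.out⁻¹ * (b.out * x * b.out⁻¹) * b.out := by group
        _ = x * (a.out⁻¹ * b.out) := by rw [← e']; group
    have h3 := (centralizer ({x} : Set G)).card_mul_index
    have h4 : Nat.card G ≤ q * Nat.card N := h3 ▸ Nat.mul_le_mul h1 h2
    have h6 : 2 * Nat.card G < 2 * (q * q) := by
      have := Nat.mul_lt_mul_of_pos_left hsmall (show 0 < q by omega)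
      omega
    rw [h.card] at h6
    have h7 : 4 * (q + 1) ≤ (q - 1) * (q + 1) := Nat.mul_le_mul_right _ (by omega)
    have h8 : q * (4 * (q + 1)) ≤ q * ((q - 1) * (q + 1)) := Nat.mul_le_mul_left _ h7
    have h9 : q * (4 * (q + 1)) = 4 * (q * q) + 4 * q := by ring
    omega
  letI : MulAction (P : Subgroup G) {v : N // v ≠ 1} :=
    { smul := fun x v => ⟨⟨(x : G) * (v.1 : G) * (x : G)⁻¹, hN.conj_mem _ v.1.2 _⟩, fun e =>
        v.2 (Subtype.ext (conj_eq_one_iff.1 (congrArg Subtype.val e)))⟩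
      one_smul := fun v => Subtype.ext (Subtype.ext (by
        show (1 : G) * (v.1 : G) * (1 : G)⁻¹ = v.1
        simp))
      mul_smul := fun x y v => Subtype.ext (Subtype.ext (by
        show ((x : G) * y) * (v.1 : G) * ((x : G) * y)⁻¹ = (x : G) * ((y : G) * (v.1 : G) * (y : G)⁻¹) * (x : G)⁻¹
        group)) }
  have hd := H64.semireg_dvd (H := (P : Subgroup G)) (α := {v : N // v ≠ 1}) fun v =>
    (Subgroup.eq_bot_iff_forall _).2 fun x hx => by
      by_contra hx1
      have e : (x : G) * (v.1 : G) * (x : G)⁻¹ = v.1 := congrArg (fun t : {v : N // v ≠ 1} => ((t.1 : N) : G)) hx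
      have := cent h P x x.2 (fun e0 => hx1 (Subtype.ext e0)) v.1 (mul_inv_eq_iff_eq_mul.1 e)
      exact v.2 (Subtype.ext (hdisj _ this v.1.2))
  rw [show Nat.card (P : Subgroup G) = q from hPc] at hd
  have hpos : 1 < Nat.card N := by
    haveI := (Subgroup.nontrivial_iff_ne_bot N).2 hne.1
    exact Finite.one_lt_card
  have e : Nat.card {v : N // v ≠ 1} = Nat.card N - 1 := by
    have := Nat.card_congr (Equiv.optionSubtypeNe (1 : N))
    rw [Finite.card_option] at this
    omega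
  rw [e] at hd
  have := Nat.le_of_dvd (by omega) hd
  omega

theorem exists_psl :
    ∃ (K : Type) (_ : Field K) (_ : Fintype K), Fintype.card K = q ∧
      Nonempty (G ≃* Matrix.ProjectiveSpecialLinearGroup (Fin 2) K) :=
  H65.Isolated.Iso.exists_psl (p := p) ⟨simple h, h.q5, Nat.odd_iff.2 (by have := h.q4; omega), h.card,
    card_sylow h, comm h, cent h⟩

end H65.SquareDegrees
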