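import Cfsg.Prelude.Def_GeometricClasses
import Cfsg.Agent.H42.LinGenSubfield

/-!
Subfield subgroups are maximal in `SL n F`, `6 ≤ n`.
-/

set_option autoImplicit false
open Cfsg Matrix
open scoped MatrixGroups

namespace H65.SubfieldSix

open H38

universe u

section
variable {F : Type u} [Field F] [Fintype F]

theorem proj_map_eq_top_of_32 (G : Subgroup SL(2, F)) (F₀ : Subfield F) {r : ℕ} (hr : r.Prime)
    (hq : Nat.card F = Nat.card F₀ ^ r) (S : AddSubgroup F)
    (hS0 : ∀ c ∈ F₀, ∀ s ∈ S, c * s ∈ S) (h61 : 61 ≤ Nat.card S ∨ Nat.card S = 32)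
    (hp3 : ringChar F ^ 3 ≤ Nat.card S) (hlt : Nat.card F₀ < Nat.card S)
    {β : F} (hβ : β ≠ 0) (hlow : ∀ s ∈ S, loSL s ∈ G) (hup : H39.upSL β ∈ G) :
    G.map H39.proj = ⊤ := by
  set p := ringChar F with hpdef
  haveI : CharP F p := ringChar.charP F
  haveI hpf : Fact p.Prime := ⟨CharP.char_is_prime F p⟩
  set H := G.map H39.proj with hH
  let S' : Subgroup (Multiplicative F) := AddSubgroup.toSubgroup S
  set E := S'.map loHom with hE
  have hEH : E ≤ H := by
    rintro _ ⟨s, hs, rfl⟩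
    exact ⟨_, hlow s.toAdd hs, rfl⟩
  have hEcard : Nat.card E = Nat.card S := by
    rw [hE, Subgroup.card_map_of_injective loHom_injective]
    exact Nat.card_congr (Multiplicative.toAdd.subtypeEquiv fun a => Iff.rfl)
  have hEexp : ∀ x ∈ E, x ^ p = 1 := by
    rintro _ ⟨s, -, rfl⟩
    rw [← map_pow]
    have : s ^ p = 1 := by
      apply Multiplicative.toAdd.injective
      rw [toAdd_pow, toAdd_one, nsmul_eq_mul, CharP.cast_eq_zero, zero_mul]
    rw [this, map_one]
  have hsmall : ¬ Nat.card S ≤ 2 * p := by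
    intro h
    have h2 := hpf.out.two_le
    have := Nat.mul_le_mul_left p (Nat.mul_le_mul h2 h2)
    have e : p ^ 3 = p * (p * p) := by ring
    nlinarith
  have hEin : Nat.card (E.subgroupOf H) = Nat.card S := by
    rw [Nat.card_congr (Subgroup.subgroupOfEquivOfLe hEH).toEquiv, hEcard]
  have hEexp' : ∀ x ∈ E.subgroupOf H, x ^ p = 1 := fun x hx => Subtype.ext (by
    rw [Subgroup.coe_pow, Subgroup.coe_one]; exact hEexp _ (Subgroup.mem_subgroupOf.1 hx))
  have hle60 : ∀ (X : Type) [Finite X], Nonempty (H ≃ X) → Nat.card X ≤ 60 →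
      ¬ 32 ∣ Nat.card X → False := by
    rintro X _ ⟨e⟩ hX h32
    have h1 := Subgroup.card_le_card_group (E.subgroupOf H)
    have h2 := Subgroup.card_subgroup_dvd_card (E.subgroupOf H)
    rw [hEin, Nat.card_congr e] at h1 h2
    rcases h61 with h61 | h61
    · omega
    · exact h32 (h61 ▸ h2)
  cases H39.dickson p H with
  | cyclic hc hk =>
    have := card_le_of_cyclic hpf.out.pos _ hEexp'
    omega
  | dihedral k hc hk =>
    exfalso
    obtain ⟨e⟩ := hc
    haveI : Finite (DihedralGroup k) := Finite.of_equiv _ e.toEquiv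
    set E' := (E.subgroupOf H).map e.toMonoidHom with hE'
    let C := Subgroup.zpowers (DihedralGroup.r (1 : ZMod k))
    have hC : C.index ≤ 2 := by
      have h0 : k ≠ 0 := by
        rintro rfl
        exact not_finite (DihedralGroup 0)
      haveI : NeZero k := ⟨h0⟩
      have := C.card_mul_index
      rw [Nat.card_zpowers, DihedralGroup.orderOf_r_one, DihedralGroup.nat_card] at this
      have hk0 : 0 < k := Nat.pos_of_ne_zero h0
      nlinarith
    have hCn : C.index ≠ 0 := Subgroup.index_ne_zero_of_finite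
    have h1 : Nat.card (E' ⊓ C : Subgroup _) ≤ p := by
      rw [← Nat.card_congr (Subgroup.subgroupOfEquivOfLe (inf_le_right (a := E') (b := C))).toEquiv]
      refine card_le_of_cyclic hpf.out.pos _ fun x hx => Subtype.ext ?_
      obtain ⟨y, hy, hyx⟩ := (Subgroup.mem_inf.1 (Subgroup.mem_subgroupOf.1 hx)).1
      rw [Subgroup.coe_pow, Subgroup.coe_one, ← hyx, MulEquiv.coe_toMonoidHom, ← map_pow,
        hEexp' y hy, map_one]
    have h2 : C.relIndex E' ≤ 2 := by
      refine le_trans ?_ hC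
      rw [← Subgroup.relIndex_top_right]
      exact Subgroup.relIndex_le_of_le_right le_top (by rwa [Subgroup.relIndex_top_right])
    have h3 : Nat.card E' = Nat.card (E' ⊓ C : Subgroup _) * C.relIndex E' := by
      have hh := Subgroup.relIndex_mul_index (inf_le_left : E' ⊓ C ≤ E')
      have hi : (E' ⊓ C).relIndex E' = C.relIndex E' := by
        rw [inf_comm]; exact Subgroup.inf_relIndex_right C E'
      rw [hi] at hh
      have a := E'.card_mul_index
      have b := (E' ⊓ C).card_mul_index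
      rw [← a, ← hh, ← mul_assoc] at b
      exact (Nat.eq_of_mul_eq_mul_right (Nat.pos_of_ne_zero Subgroup.index_ne_zero_of_finite) b).symm
    have h4 : Nat.card E' = Nat.card S := by
      rw [hE', Subgroup.card_map_of_injective e.injective, hEin]
    have := Nat.mul_le_mul h1 h2
    omega
  | borel P h hz =>
    exfalso
    obtain ⟨s, hs, hs0⟩ : ∃ s ∈ S, s ≠ 0 := by
      by_contra hc
      push Not at hc
      have : S = ⊥ := (AddSubgroup.eq_bot_iff_forall S).2 hc
      rw [this, AddSubgroup.card_bot] at h61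
      omega
    have key : ∀ g ∈ G, H39.cjSL P g 1 0 = 0 := fun g hg =>
      H39.proj_mem_borelP.1 (h ⟨_, ⟨g, hg, rfl⟩, by
        rw [MulEquiv.coe_toMonoidHom, H39.cjP_proj]⟩)
    set A := (P : Matrix (Fin 2) (Fin 2) F) with hA
    set B := ((P⁻¹ : GL (Fin 2) F) : Matrix (Fin 2) (Fin 2) F) with hB
    have h1 : (A * !![1, 0; s, 1] * B) 1 0 = 0 := key _ (hlow s hs)
    have h2 : (A * !![1, β; 0, 1] * B) 1 0 = 0 := key _ hup
    have hAB : A * B = 1 := by rw [hA, hB, ← Units.val_mul, mul_inv_cancel, Units.val_one]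
    have e10 := congrFun (congrFun hAB 1) 0
    have e00 := congrFun (congrFun hAB 0) 0
    have e11 := congrFun (congrFun hAB 1) 1
    simp [Matrix.mul_apply, Fin.sum_univ_two, Matrix.one_apply] at h1 h2 e10 e00 e11
    have k1 : A 1 1 * B 0 0 = 0 := by
      have : s * (A 1 1 * B 0 0) = 0 := by linear_combination h1 - e10
      exact (mul_eq_zero.1 this).resolve_left hs0
    have k2 : A 1 0 * B 1 0 = 0 := by
      have : β * (A 1 0 * B 1 0) = 0 := by linear_combination h2 - e10
      exact (mul_eq_zero.1 this).resolve_left hβ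
    rcases mul_eq_zero.1 k1 with hA11 | hB00
    · rcases mul_eq_zero.1 k2 with hA10 | hB10
      · exact one_ne_zero (α := F) (by rw [← e11, hA10, hA11]; ring)
      · rw [hA11, hB10] at e10
        simp at e10
        rcases e10 with hA10 | hB00
        · exact one_ne_zero (α := F) (by rw [← e11, hA10, hA11]; ring)
        · exact one_ne_zero (α := F) (by rw [← e00, hB00, hB10]; ring)
    · rcases mul_eq_zero.1 k2 with hA10 | hB10
      · rw [hA10, hB00] at e10
        simp at e10
        rcases e10 with hA11 | hB10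
        · exact one_ne_zero (α := F) (by rw [← e11, hA10, hA11]; ring)
        · exact one_ne_zero (α := F) (by rw [← e00, hB00, hB10]; ring)
      · exact one_ne_zero (α := F) (by rw [← e00, hB00, hB10]; ring)
  | a4 h =>
    obtain ⟨e⟩ := h
    exact (hle60 _ ⟨e.toEquiv⟩ (by rw [Nat.card_eq_fintype_card]; decide)
      (by rw [Nat.card_eq_fintype_card]; decide)).elim
  | s4 h =>
    obtain ⟨e⟩ := h
    exact (hle60 _ ⟨e.toEquiv⟩ (by simp [Fintype.card_perm, Nat.factorial])
      (by simp [Fintype.card_perm, Nat.factorial])).elim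
  | a5 h =>
    obtain ⟨e⟩ := h
    exact (hle60 _ ⟨e.toEquiv⟩ (by
      rw [nat_card_alternatingGroup, Nat.card_eq_fintype_card, Fintype.card_fin]
      norm_num [Nat.factorial]) (by
      rw [nat_card_alternatingGroup, Nat.card_eq_fintype_card, Fintype.card_fin]
      norm_num [Nat.factorial])).elim
  | field P K hPK he =>
    have hsq : ∀ g ∈ G, (Matrix.trace (g : Matrix (Fin 2) (Fin 2) F)) ^ 2 ∈ K := by
      intro g hg
      obtain ⟨h, hh, l, hl, hlK⟩ := hPK ⟨_, ⟨g, hg, rfl⟩, rfl⟩
      rw [MulEquiv.coe_toMonoidHom, H39.cjP_proj] at hh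
      have htr : Matrix.trace (g : Matrix (Fin 2) (Fin 2) F) =
          Matrix.trace (H39.cjSL P g : Matrix (Fin 2) (Fin 2) F) :=
        (Matrix.trace_units_conj P _).symm
      have hl2 : l * l ∈ K := by
        have hd := h.2
        rw [Matrix.det_fin_two] at hd
        have : l * l = (l * h 0 0) * (l * h 1 1) - (l * h 0 1) * (l * h 1 0) := by
          linear_combination (-(l * l)) * hd
        rw [this]
        exact sub_mem (mul_mem (hlK 0 0) (hlK 1 1)) (mul_mem (hlK 0 1) (hlK 1 0))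
      have hsum : l * (h 0 0 + h 1 1) ∈ K := by rw [mul_add]; exact add_mem (hlK 0 0) (hlK 1 1)
      have : (Matrix.trace (g : Matrix (Fin 2) (Fin 2) F)) ^ 2 =
          (l * (h 0 0 + h 1 1)) * (l * (h 0 0 + h 1 1)) / (l * l) := by
        rw [htr]
        rcases H39.proj_eq_proj_iff.1 hh with h' | h'
        · rw [h', Matrix.trace_fin_two]
          field_simp
        · rw [h', Matrix.SpecialLinearGroup.coe_neg, Matrix.trace_neg, Matrix.trace_fin_two]
          field_simp
      rw [this]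
      exact div_mem (mul_mem hsum hsum) hl2
    have hprod : ∀ s ∈ S, (2 + s * β) ^ 2 ∈ K := by
      intro s hs
      have := hsq _ (mul_mem hup (hlow s hs))
      rw [Matrix.trace_fin_two, Matrix.SpecialLinearGroup.coe_mul, coe_loSL, H39.coe_upSL] at this
      simp [Matrix.mul_apply, Fin.sum_univ_two] at this
      convert this using 1
      ring
    have htwo : (2 : F) ∈ K := by
      have := add_mem (one_mem K) (one_mem K)
      rwa [one_add_one_eq_two] at this
    have hmem : ∀ s ∈ S, s * β ∈ K := by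
      intro s hs
      by_cases h2 : (2 : F) = 0
      · have hc2 : (s * β) ^ 2 ∈ K := by simpa [h2] using hprod s hs
        haveI hF2 : CharP F 2 := CharTwo.of_one_ne_zero_of_two_eq_zero one_ne_zero h2
        haveI : CharP K 2 := RingHom.charP (K.subtype) K.subtype.injective 2
        obtain ⟨y, hy⟩ :=
          (Finite.injective_iff_bijective.1 (frobenius_inj K 2)).2 ⟨_, hc2⟩
        have hy' : (y : F) ^ 2 = (s * β) ^ 2 := congrArg Subtype.val hy
        have : (y : F) = s * β := by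
          have : ((y : F) - s * β) ^ 2 = 0 := by
            linear_combination hy' + ((s * β) ^ 2 - (y : F) * (s * β)) * h2
          simpa [sub_eq_zero] using pow_eq_zero_iff (two_ne_zero) |>.1 this
        rw [← this]
        exact y.2
      · have hp2 := hprod (s + s) (add_mem hs hs)
        have hp1 := hprod s hs
        -- (2+2x)^2 = 4(2+x)^2 - 8(...) : recover x
        have hx2 : (s * β) ^ 2 ∈ K := by
          have e : (s * β) ^ 2 = ((2 + (s + s) * β) ^ 2 - 2 * (2 + s * β) ^ 2 + 2 * 2) / 2 := by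
            field_simp
            ring
          rw [e]
          exact div_mem (add_mem (sub_mem hp2 (mul_mem htwo hp1)) (mul_mem htwo htwo)) htwo
        have e : s * β = ((2 + s * β) ^ 2 - (s * β) ^ 2 - 2 * 2) / (2 * 2) := by
          field_simp
          ring
        rw [e]
        exact div_mem (sub_mem (sub_mem hp1 hx2) (mul_mem htwo htwo)) (mul_mem htwo htwo)
    have hF0K : F₀ ≤ K := by
      intro c hc
      obtain ⟨s, hs, hs0⟩ : ∃ s ∈ S, s ≠ 0 := by
        by_contra hc
        push Not at hc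
        have : S = ⊥ := (AddSubgroup.eq_bot_iff_forall S).2 hc
        rw [this, AddSubgroup.card_bot] at h61
        omega
      have : c = (c * s * β) / (s * β) := by field_simp
      rw [this]
      exact div_mem (hmem _ (hS0 c hc s hs)) (hmem s hs)
    have hSK : Nat.card S ≤ Nat.card K :=
      Nat.card_le_card_of_injective (fun s : S => (⟨_, hmem s s.2⟩ : K)) fun a b h =>
        Subtype.ext (mul_right_cancel₀ hβ (congrArg Subtype.val h))
    have hK : K = ⊤ := subfield_eq_top_of_lt hr hq hF0K (lt_of_lt_of_le hlt hSK)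
    subst hK
    refine Subgroup.eq_top_of_le_card _ ?_
    haveI : Fintype (⊤ : Subfield F) := Fintype.ofFinite _
    rcases he with ⟨⟨e⟩⟩ | ⟨⟨e⟩⟩
    · rw [Nat.card_congr e.toEquiv,
        Nat.card_congr (H39.pglCongr (F := (⊤ : Subfield F)) (K := F) Subfield.topEquiv).toEquiv,
        H39.card_PGL2]
      calc _ ≤ Nat.gcd 2 (Fintype.card F - 1) *
            Nat.card (Matrix.ProjectiveSpecialLinearGroup (Fin 2) F) :=
          Nat.le_mul_of_pos_left _ (Nat.gcd_pos_of_pos_left _ two_pos)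
        _ = _ := H39.card_PSL2_mul
    · rw [Nat.card_congr e.toEquiv,
        Nat.card_congr (H39.pslCongr (F := (⊤ : Subfield F)) (K := F) Subfield.topEquiv).toEquiv]

end

section
variable {ι : Type*} [Fintype ι] [DecidableEq ι] {F : Type*} [Field F]
variable {F₀ : Subfield F} {M : Subgroup (GL ι F)}
variable [Finite F]

/-- Transvection with axis without rational points. -/
theorem sl_le_of_irrational {r : ℕ} (hr : r.Prime) (hq : Nat.card F = Nat.card F₀ ^ r)
    (h8 : 6 ≤ Fintype.card ι)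
    (hrat : ∀ v φ : ι → F, RatVec F₀ v → RatVec F₀ φ → φ ⬝ᵥ v = 0 → Tv M v φ)
    {b ψ : ι → F} (hb : b ≠ 0) (hker : ∀ a, RatVec F₀ a → ψ ⬝ᵥ a = 0 → a = 0)
    (h : Tv M b ψ) (g₁ : GL ι F) (hg₁ : (g₁ : Matrix ι ι F).det = 1) : g₁ ∈ M := by
  classical
  by_contra hcon
  haveI : Fintype F := Fintype.ofFinite F
  obtain ⟨k, hk⟩ := Function.ne_iff.1 hb
  obtain ⟨l, hlk, -, -⟩ := exists_notMem_pair (by omega) k k k
  have hψl : ψ l ≠ 0 := by
    intro h0
    have := congrFun (hker _ (ratVec_single l F₀.one_mem) (by simp [h0])) l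
    simp at this
  set a : ι → F := Pi.single l (ψ l)⁻¹ with ha
  set c : ι → F := Pi.single k 1 - ψ k • a with hc
  have hak : a k = 0 := by rw [ha, Pi.single_eq_of_ne hlk.symm]
  have hψa : ψ ⬝ᵥ a = 1 := by rw [ha, dotProduct_single, mul_inv_cancel₀ hψl]
  have hck : c k = 1 := by simp [hc, hak]
  have hψc : ψ ⬝ᵥ c = 0 := by
    rw [hc, dotProduct_sub, dotProduct_smul, hψa, dotProduct_single]
    simp
  let Fx : Subgroup (GL ι F) :=
    { carrier := {g | ∀ x, x k = 0 → ψ ⬝ᵥ x = 0 → (g : Matrix ι ι F) *ᵥ x = x}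
      one_mem' := fun x _ _ => by simp
      mul_mem' := fun {g g'} hg hg' x h1 h2 => by
        rw [Units.val_mul, ← Matrix.mulVec_mulVec, hg' x h1 h2, hg x h1 h2]
      inv_mem' := fun {g} hg x h1 h2 => by
        have := H49.gl_inv_mulVec g x
        rwa [hg x h1 h2] at this }
  let ρ : GL ι F → Matrix (Fin 2) (Fin 2) F := fun g =>
    !![((g : Matrix ι ι F) *ᵥ c) k, ((g : Matrix ι ι F) *ᵥ a) k;
       ψ ⬝ᵥ ((g : Matrix ι ι F) *ᵥ c), ψ ⬝ᵥ ((g : Matrix ι ι F) *ᵥ a)]
  have hdec : ∀ g ∈ Fx, ∀ y : ι → F, (g : Matrix ι ι F) *ᵥ y =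
      y k • ((g : Matrix ι ι F) *ᵥ c) + (ψ ⬝ᵥ y) • ((g : Matrix ι ι F) *ᵥ a) +
        (y - y k • c - (ψ ⬝ᵥ y) • a) := by
    intro g hg y
    set u := y - y k • c - (ψ ⬝ᵥ y) • a with hu
    have hu' : (g : Matrix ι ι F) *ᵥ u = u := hg u (by simp [hu, hck, hak])
      (by rw [hu, dotProduct_sub, dotProduct_sub, dotProduct_smul, dotProduct_smul, hψc, hψa]; simp)
    conv_rhs => rw [← hu', ← Matrix.mulVec_smul, ← Matrix.mulVec_smul, ← Matrix.mulVec_add,
      ← Matrix.mulVec_add]
    congr 1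
    rw [hu]
    abel
  have hdk : ∀ g ∈ Fx, ∀ y : ι → F, ((g : Matrix ι ι F) *ᵥ y) k =
      y k * ((g : Matrix ι ι F) *ᵥ c) k + (ψ ⬝ᵥ y) * ((g : Matrix ι ι F) *ᵥ a) k := by
    intro g hg y
    rw [hdec g hg y]
    simp [hck, hak]
  have hdψ : ∀ g ∈ Fx, ∀ y : ι → F, ψ ⬝ᵥ ((g : Matrix ι ι F) *ᵥ y) =
      y k * (ψ ⬝ᵥ ((g : Matrix ι ι F) *ᵥ c)) + (ψ ⬝ᵥ y) * (ψ ⬝ᵥ ((g : Matrix ι ι F) *ᵥ a)) := by
    intro g hg y
    rw [hdec g hg y]
    simp [dotProduct_add, dotProduct_sub, dotProduct_smul, hψc, hψa]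
  have hρmul : ∀ g ∈ Fx, ∀ g' : GL ι F, ρ (g * g') = ρ g * ρ g' := by
    intro g hg g'
    simp only [ρ, Units.val_mul, ← Matrix.mulVec_mulVec, Matrix.mul_fin_two]
    rw [hdk g hg ((g' : Matrix ι ι F) *ᵥ c), hdk g hg ((g' : Matrix ι ι F) *ᵥ a),
      hdψ g hg ((g' : Matrix ι ι F) *ᵥ c), hdψ g hg ((g' : Matrix ι ι F) *ᵥ a)]
    ext i j
    fin_cases i <;> fin_cases j <;> simp <;> ring
  have hρone : ρ 1 = 1 := by
    simp [ρ, hck, hak, hψc, hψa, Matrix.one_fin_two]
  let G : Subgroup SL(2, F) :=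
    { carrier := {x | ∃ g : GL ι F, g ∈ M ∧ g ∈ Fx ∧ ρ g = (x : Matrix (Fin 2) (Fin 2) F)}
      one_mem' := ⟨1, M.one_mem, Fx.one_mem, hρone⟩
      mul_mem' := fun {x y} hx hy => by
        obtain ⟨g, hg1, hg2, hg3⟩ := hx
        obtain ⟨g', hg1', hg2', hg3'⟩ := hy
        exact ⟨g * g', mul_mem hg1 hg1', mul_mem hg2 hg2',
          by rw [hρmul g hg2, hg3, hg3', Matrix.SpecialLinearGroup.coe_mul]⟩
      inv_mem' := fun {x} hx => by
        obtain ⟨g, hg1, hg2, hg3⟩ := hx
        refine ⟨g⁻¹, inv_mem hg1, inv_mem hg2, ?_⟩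
        have e : ρ g⁻¹ * (x : Matrix (Fin 2) (Fin 2) F) = 1 := by
          rw [← hg3, ← hρmul _ (inv_mem hg2), inv_mul_cancel, hρone]
        calc ρ g⁻¹ = ρ g⁻¹ * ((x * x⁻¹ : SL(2, F)) : Matrix (Fin 2) (Fin 2) F) := by
              rw [mul_inv_cancel, Matrix.SpecialLinearGroup.coe_one, mul_one]
          _ = _ := by rw [Matrix.SpecialLinearGroup.coe_mul, ← mul_assoc, e, one_mul] }
  -- the lower unitriangular part
  let S : AddSubgroup F :=
    { carrier := {x | ∃ v, RatVec F₀ v ∧ v k = 0 ∧ ψ ⬝ᵥ v = x}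
      zero_mem' := ⟨0, fun _ => F₀.zero_mem, rfl, dotProduct_zero ψ⟩
      add_mem' := fun {x y} hx hy => by
        obtain ⟨v, hv, hvk, rfl⟩ := hx
        obtain ⟨w, hw, hwk, rfl⟩ := hy
        exact ⟨v + w, fun i => add_mem (hv i) (hw i), by simp [hvk, hwk], dotProduct_add ..⟩
      neg_mem' := fun {x} hx => by
        obtain ⟨v, hv, hvk, rfl⟩ := hx
        exact ⟨-v, fun i => neg_mem (hv i), by simp [hvk], dotProduct_neg ..⟩ }
  have hφ0 : ∀ v : ι → F, v k = 0 → (Pi.single k (1 : F)) ⬝ᵥ v = 0 := fun v hv => by simp [hv]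
  have hlow : ∀ x ∈ S, loSL x ∈ G := by
    rintro x ⟨v, hv, hvk, rfl⟩
    obtain ⟨h0, hm⟩ := hrat v _ hv (ratVec_single k F₀.one_mem) (hφ0 v hvk)
    refine ⟨_, hm, ?_, ?_⟩
    · intro y hy _
      rw [H49.tr_mulVec, single_dotProduct, hy, mul_zero, zero_smul, add_zero]
    · rw [coe_loSL]
      simp only [ρ, H49.tr_mulVec, single_dotProduct, one_mul]
      simp [hck, hak, hvk, hψc, hψa]
  have hup : H39.upSL (b k) ∈ G := by
    obtain ⟨h0, hm⟩ := h
    refine ⟨_, hm, ?_, ?_⟩
    · intro y _ hy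
      rw [H49.tr_mulVec, hy, zero_smul, add_zero]
    · rw [H39.coe_upSL]
      simp only [ρ, H49.tr_mulVec, hψc, hψa]
      simp [hck, hak, hψc, hψa, h0]
  -- sizes
  have hinj : Function.Injective (fun v : ι → F₀ => ψ ⬝ᵥ fun i => (v i : F)) := by
    intro v w hvw
    have := hker (fun i => (v i : F) - w i) (fun i => sub_mem (v i).2 (w i).2) (by
      have : ψ ⬝ᵥ ((fun i => (v i : F)) - fun i => (w i : F)) = 0 := by
        rw [dotProduct_sub]; exact sub_eq_zero.2 hvw
      exact this)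
    funext i
    exact Subtype.ext (sub_eq_zero.1 (congrFun this i))
  set n := Fintype.card ι with hn
  set q₀ := Nat.card F₀ with hq₀
  have hq₀2 : 2 ≤ q₀ := Finite.one_lt_card
  have hle : q₀ ^ n ≤ Nat.card F := by
    have := Nat.card_le_card_of_injective _ hinj
    rwa [Nat.card_fun, Nat.card_eq_fintype_card (α := ι)] at this
  have hScard : Nat.card S = q₀ ^ (n - 1) := by
    have e : ({i : ι // i ≠ k} → F₀) ≃ S := by
      refine Equiv.ofBijective (fun v => ⟨ψ ⬝ᵥ (fun i => if hi : i = k then 0 else (v ⟨i, hi⟩ : F)),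
        _, fun i => ?_, by simp, rfl⟩) ⟨fun v w hvw => ?_, ?_⟩
      · try dsimp only
        split
        · exact F₀.zero_mem
        · exact SetLike.coe_mem _
      · funext i
        have := @hinj (fun j => if hj : j = k then 0 else v ⟨j, hj⟩)
          (fun j => if hj : j = k then 0 else w ⟨j, hj⟩) (by
            have h' := congrArg Subtype.val hvw
            dsimp only at h' ⊢
            convert h' using 2 <;> funext j <;> split <;> rfl)
        simpa [i.2] using congrFun this i.1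
      · rintro ⟨x, v, hv, hvk, rfl⟩
        refine ⟨fun i => ⟨v i, hv i⟩, Subtype.ext ?_⟩
        dsimp only
        congr 1
        funext i
        split
        · next hi => rw [hi, hvk]
        · rfl
    rw [← Nat.card_congr e, Nat.card_fun]
    congr 1
    rw [Nat.card_eq_fintype_card, Fintype.card_subtype_compl, Fintype.card_subtype_eq]
  have hS0 : ∀ d ∈ F₀, ∀ x ∈ S, d * x ∈ S := by
    rintro d hd x ⟨v, hv, hvk, rfl⟩
    exact ⟨d • v, fun i => mul_mem hd (hv i), by simp [hvk], by rw [dotProduct_smul, smul_eq_mul]⟩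
  have hbig : q₀ ^ 5 ≤ Nat.card S := by
    rw [hScard]; exact Nat.pow_le_pow_right (by omega) (by omega)
  have h64 : 61 ≤ Nat.card S ∨ Nat.card S = 32 := by
    rcases Nat.lt_or_ge q₀ 3 with h | h
    · have e : q₀ = 2 := by omega
      rcases Nat.lt_or_ge n 7 with h' | h'
      · exact Or.inr (by rw [hScard, e, show n - 1 = 5 by omega]; norm_num)
      · refine Or.inl ?_
        rw [hScard, e]
        exact le_trans (by norm_num : 61 ≤ 2 ^ 6) (Nat.pow_le_pow_right (by norm_num) (by omega))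
    · exact Or.inl (le_trans (le_trans (by norm_num : 61 ≤ 3 ^ 5) (Nat.pow_le_pow_left h 5)) hbig)
  have hp3 : ringChar F ^ 3 ≤ Nat.card S := by
    have hp : ringChar F ≤ q₀ := by
      haveI : Fintype F₀ := Fintype.ofFinite _
      haveI : CharP F₀ (ringChar F) := RingHom.charP F₀.subtype F₀.subtype.injective _
      obtain ⟨e, hprime, he⟩ := FiniteField.card F₀ (ringChar F)
      rw [hq₀, Nat.card_eq_fintype_card, he]
      exact Nat.le_self_pow e.ne_zero _
    calc ringChar F ^ 3 ≤ q₀ ^ 3 := Nat.pow_le_pow_left hp 3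
      _ ≤ q₀ ^ 5 := Nat.pow_le_pow_right (by omega) (by norm_num)
      _ ≤ _ := hbig
  have hlt : q₀ < Nat.card S := by
    calc q₀ = q₀ ^ 1 := (pow_one _).symm
      _ < q₀ ^ 5 := Nat.pow_lt_pow_right (by omega) (by norm_num)
      _ ≤ _ := hbig
  have htop := proj_map_eq_top_of_32 G F₀ hr hq S hS0 h64 hp3 hlt hk
    hlow hup
  -- the torus moves the rational transvections
  have hsq : ∀ s : F, s ≠ 0 → ∀ x ∈ S, (s * s) * x ∈ S := by
    intro s hs x hx
    obtain ⟨v, hv, hvk, rfl⟩ := hx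
    let d : SL(2, F) := ⟨!![s⁻¹, 0; 0, s], by simp [Matrix.det_fin_two, hs]⟩
    have hd : H39.proj d ∈ G.map H39.proj := by rw [htop]; exact Subgroup.mem_top _
    obtain ⟨x, hxG, hxd⟩ := hd
    obtain ⟨g, hgM, hgF, hgρ⟩ := hxG
    obtain ⟨ε, hε, hx'⟩ : ∃ ε : F, ε * ε = 1 ∧
        (x : Matrix (Fin 2) (Fin 2) F) = !![ε * s⁻¹, 0; 0, ε * s] := by
      rcases H39.proj_eq_proj_iff.1 hxd with h' | h'
      · exact ⟨1, one_mul 1, by rw [← h']; simp [d]⟩
      · refine ⟨-1, by ring, ?_⟩
        rw [show x = -d by rw [h', neg_neg], Matrix.SpecialLinearGroup.coe_neg]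
        simp [d, Matrix.neg_of, Matrix.neg_cons, Matrix.neg_empty]
    rw [hx'] at hgρ
    have r00 := congrFun (congrFun hgρ 0) 0
    have r01 := congrFun (congrFun hgρ 0) 1
    have r10 := congrFun (congrFun hgρ 1) 0
    have r11 := congrFun (congrFun hgρ 1) 1
    simp [ρ] at r00 r01 r10 r11
    set φ : ι → F := Pi.single k 1 with hφdef
    have hgv : ∀ y, ((g : Matrix ι ι F) *ᵥ y) k = (ε * s⁻¹) * y k := by
      intro y; rw [hdk g hgF, r00, r01]; ring
    have hinvφ : φ ᵥ* ((g⁻¹ : GL ι F) : Matrix ι ι F) = (ε * s) • φ := by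
      apply dotProduct_eq
      intro y
      rw [← Matrix.dotProduct_mulVec, smul_dotProduct, hφdef, single_dotProduct, single_dotProduct,
        one_mul, one_mul, smul_eq_mul]
      have := hgv (((g⁻¹ : GL ι F) : Matrix ι ι F) *ᵥ y)
      rw [H49.gl_mulVec_inv] at this
      rw [this]
      field_simp
      linear_combination (-(((g⁻¹ : GL ι F) : Matrix ι ι F) *ᵥ y) k) * hε
    have hεs : ε * s ≠ 0 := mul_ne_zero (fun h0 => by simp [h0] at hε) hs
    have h4 : Tv M ((ε * s) • ((g : Matrix ι ι F) *ᵥ v)) φ := by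
      have := tv_conj hgM (hrat v φ hv (ratVec_single k F₀.one_mem) (hφ0 v hvk))
      rw [hinvφ] at this
      exact tv_smul' this hεs
    have hw : RatVec F₀ ((ε * s) • ((g : Matrix ι ι F) *ᵥ v)) := by
      by_contra hnr
      refine hcon (sl_le_of_rat_axis hr hq (by omega) hrat (ratVec_single k F₀.one_mem) ?_ hnr h4
        g₁ hg₁)
      intro h0
      have := congrFun h0 k
      simp at this
    refine ⟨_, hw, by simp [hgv, hvk], ?_⟩
    rw [dotProduct_smul, hdψ g hgF, hvk, zero_mul, zero_add, r11, smul_eq_mul]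
    linear_combination (s * s * (ψ ⬝ᵥ v)) * hε
  -- the multipliers of `S` form a subfield
  let T : Subring F :=
    { carrier := {m | ∀ x ∈ S, m * x ∈ S}
      one_mem' := fun x hx => by rwa [one_mul]
      mul_mem' := fun {m m'} hm hm' x hx => by rw [mul_assoc]; exact hm _ (hm' x hx)
      zero_mem' := fun x hx => by rw [zero_mul]; exact S.zero_mem
      add_mem' := fun {m m'} hm hm' x hx => by rw [add_mul]; exact S.add_mem (hm x hx) (hm' x hx)
      neg_mem' := fun {m} hm x hx => by rw [neg_mul]; exact S.neg_mem (hm x hx) }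
  have hinv : ∀ m ∈ T, m⁻¹ ∈ T := by
    intro m hm
    by_cases h0 : m = 0
    · rw [h0, _root_.inv_zero]; exact T.zero_mem
    · have hq2 : 2 ≤ Fintype.card F := Fintype.one_lt_card
      have : m⁻¹ = m ^ (Fintype.card F - 2) := by
        refine inv_eq_of_mul_eq_one_right ?_
        rw [← pow_succ', show Fintype.card F - 2 + 1 = Fintype.card F - 1 by omega]
        exact FiniteField.pow_card_sub_one_eq_one m h0
      rw [this]
      exact pow_mem hm _
  let K : Subfield F := { T with inv_mem' := hinv }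
  have hsqK : ∀ s : F, s * s ∈ K := fun s => by
    by_cases hs : s = 0
    · rw [hs, mul_zero]; exact K.zero_mem
    · exact hsq s hs
  have hKtop : K = ⊤ := by
    rw [eq_top_iff]
    intro y _
    by_cases h2 : (2 : F) = 0
    · haveI : CharP F 2 := CharTwo.of_one_ne_zero_of_two_eq_zero one_ne_zero h2
      obtain ⟨z, hz⟩ := (Finite.injective_iff_bijective.1 (frobenius_inj F 2)).2 y
      rw [← hz, frobenius_def, sq]
      exact hsqK z
    · have e : y = ((y + 1) * (y + 1) - y * y - 1) / (1 + 1) := by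
        rw [one_add_one_eq_two]; field_simp; ring
      rw [e]
      exact div_mem (sub_mem (sub_mem (hsqK _) (hsqK _)) K.one_mem) (add_mem K.one_mem K.one_mem)
  obtain ⟨x, hx, hx0⟩ : ∃ x ∈ S, x ≠ 0 := by
    by_contra hc
    push Not at hc
    rw [(AddSubgroup.eq_bot_iff_forall S).2 hc, AddSubgroup.card_bot] at h64
    omega
  have hall : Nat.card F ≤ Nat.card S := Nat.card_le_card_of_injective
    (fun m : F => (⟨m * x, (show m ∈ K from hKtop ▸ Subfield.mem_top m) x hx⟩ : S))
    fun m m' hmm => mul_right_cancel₀ hx0 (congrArg Subtype.val hmm)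
  rw [hScard] at hall
  have : q₀ ^ (n - 1) < q₀ ^ n := Nat.pow_lt_pow_right (by omega) (by omega)
  omega

/-- A group containing the transvections over a subfield of prime codegree and another one not
defined over it contains `SL`. -/
theorem sl_le_of_nonrat_tv {r : ℕ} (hr : r.Prime) (hq : Nat.card F = Nat.card F₀ ^ r)
    (h8 : 6 ≤ Fintype.card ι)
    (hrat : ∀ v φ : ι → F, RatVec F₀ v → RatVec F₀ φ → φ ⬝ᵥ v = 0 → Tv M v φ)
    {b ψ : ι → F} (hnr : ∃ i j, b i * ψ j ∉ F₀) (h : Tv M b ψ)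
    (g : GL ι F) (hg : (g : Matrix ι ι F).det = 1) : g ∈ M := by
  obtain ⟨i, j, hij⟩ := hnr
  have hb : b ≠ 0 := fun h0 => hij (by simp [h0])
  have hψ : ψ ≠ 0 := fun h0 => hij (by simp [h0])
  by_cases hker : ∀ a, RatVec F₀ a → ψ ⬝ᵥ a = 0 → a = 0
  · exact sl_le_of_irrational hr hq h8 hrat hb hker h g hg
  push Not at hker
  obtain ⟨a, ha, hψa, ha0⟩ := hker
  by_cases hφ : ∃ φ, RatVec F₀ φ ∧ φ ⬝ᵥ a = 0 ∧ φ ⬝ᵥ b ≠ 0
  · obtain ⟨φ, hφr, hφa, hφb⟩ := hφ
    have h1 := tv_comm (hrat a φ ha hφr hφa) h hψa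
    by_cases hr' : RatVec F₀ ((φ ⬝ᵥ b) • ψ)
    · refine sl_le_of_rat_axis hr hq (by omega) hrat (b := (φ ⬝ᵥ b)⁻¹ • b) hr'
        (smul_ne_zero hφb hψ) (fun hbr => hij ?_) ?_ g hg
      · have := mul_mem (hbr i) (hr' j)
        simp only [Pi.smul_apply, smul_eq_mul] at this
        convert this using 1
        field_simp
      · refine tv_of_trM_eq h (by simp [smul_dotProduct, dotProduct_smul, h.orth]) ?_
        rw [H49.trM, H49.trM, Matrix.vecMulVec_smul, Matrix.smul_vecMulVec, smul_smul,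
          mul_inv_cancel₀ hφb, one_smul]
    · exact sl_le_of_rat_centre hr hq (by omega) hrat ha ha0 hr' h1 g hg
  · push Not at hφ
    obtain ⟨l, hl⟩ := Function.ne_iff.1 ha0
    have key : ∀ m, a l * b m = a m * b l := by
      intro m
      have h0 := hφ (Pi.single m (a l) - Pi.single l (a m))
        (fun i => sub_mem (ratVec_single m (ha l) i) (ratVec_single l (ha m) i))
        (by rw [sub_dotProduct, single_dotProduct, single_dotProduct]; ring)
      rw [sub_dotProduct, single_dotProduct, single_dotProduct] at h0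
      exact sub_eq_zero.1 h0
    have hbe : b = (b l / a l) • a := by
      funext m
      rw [Pi.smul_apply, smul_eq_mul]
      have hl' : a l ≠ 0 := hl
      field_simp
      linear_combination key m
    have hne : b l / a l ≠ 0 := fun h0 => hb (by rw [hbe, h0, zero_smul])
    refine sl_le_of_rat_centre hr hq (by omega) hrat ha ha0 (φ := (b l / a l) • ψ) (fun hr' => hij ?_)
      (tv_smul (hbe ▸ h) hne) g hg
    rw [hbe]
    simp only [Pi.smul_apply, smul_eq_mul]
    have := mul_mem (ha i) (hr' j)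
    simp only [Pi.smul_apply, smul_eq_mul] at this
    convert this using 1
    ring

end

variable {ι : Type} [Fintype ι] [DecidableEq ι] {F : Type*} [Field F]
variable [Finite F]

/-- The standard subfield subgroup is maximal in `SL`. -/
theorem std_maximal (F₀ : Subfield F) {r : ℕ} (hr : r.Prime)
    (hq : Nat.card F = Nat.card F₀ ^ r) (h8 : 6 ≤ Fintype.card ι) :
    Cfsg.Geo.IsMaximalIn (Cfsg.Geo.specialLinear ι F)
      (((Matrix.GeneralLinearGroup.map (F₀.subtype : F₀ →+* F)).range ⊔ Cfsg.Geo.scalars ι F) ⊓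
        Cfsg.Geo.specialLinear ι F) := by
  obtain ⟨s, hs⟩ : ∃ s : F, s ∉ F₀ := by
    by_contra hc
    push Not at hc
    have : Nat.card F₀ = Nat.card F := Nat.card_congr (Equiv.subtypeUnivEquiv hc)
    rw [← this] at hq
    have := Nat.pow_lt_pow_right (Finite.one_lt_card (α := F₀)) hr.one_lt
    rw [pow_one, ← hq] at this
    omega
  obtain ⟨i0, j0, hne⟩ : ∃ i j : ι, i ≠ j := Fintype.exists_pair_of_one_lt_card (by omega)
  refine ⟨lt_of_le_not_ge inf_le_right fun hle => ?_, fun M hM hMS => ?_⟩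
  · have horth : (Pi.single j0 s : ι → F) ⬝ᵥ Pi.single i0 1 = 0 := by simp [hne]
    have hmem : H49.tr (Pi.single i0 (1 : F)) (Pi.single j0 s) horth ∈ Cfsg.Geo.specialLinear ι F := by
      rw [H42.LinGenSubfield.mem_specialLinear_iff', H49.tr_val, H49.det_trM, horth, add_zero]
    obtain ⟨c, hc, h⟩ := (H42.LinGenSubfield.mem_std F₀ _).1 (Subgroup.mem_inf.1 (hle hmem)).1
    have h1 := h i0 i0
    have h2 := h i0 j0
    simp [H49.tr_val, H49.trM, Matrix.vecMulVec_apply, hne, hne.symm] at h1 h2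
    exact hs (by
      have := div_mem h2 h1
      rwa [mul_div_cancel_left₀ _ hc] at this)
  by_cases heq : M ≤ ((Matrix.GeneralLinearGroup.map (F₀.subtype : F₀ →+* F)).range ⊔
      Cfsg.Geo.scalars ι F) ⊓ Cfsg.Geo.specialLinear ι F
  · exact Or.inl (le_antisymm heq hM)
  refine Or.inr (le_antisymm hMS fun g hg => ?_)
  have hrat : ∀ v φ : ι → F, H38.RatVec F₀ v → H38.RatVec F₀ φ → φ ⬝ᵥ v = 0 → H38.Tv M v φ := by
    intro v φ hv hφ h0
    refine ⟨h0, hM (Subgroup.mem_inf.2 ⟨(H42.LinGenSubfield.mem_std F₀ _).2 ⟨1, one_ne_zero, fun i j => ?_⟩, ?_⟩)⟩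
    · rw [one_mul, H49.tr_val, H49.trM, Matrix.add_apply, Matrix.one_apply, Matrix.vecMulVec_apply]
      refine add_mem ?_ (mul_mem (hv i) (hφ j))
      split
      · exact F₀.one_mem
      · exact F₀.zero_mem
    · rw [H42.LinGenSubfield.mem_specialLinear_iff', H49.tr_val, H49.det_trM, h0, add_zero]
  obtain ⟨u, huM, hu⟩ := SetLike.not_le_iff_exists.1 heq
  have hun : ¬ ∃ c : F, c ≠ 0 ∧ ∀ i j, c * (u : Matrix ι ι F) i j ∈ F₀ := fun h =>
    hu (Subgroup.mem_inf.2 ⟨(H42.LinGenSubfield.mem_std F₀ u).2 h, hMS huM⟩)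
  set A := (u : Matrix ι ι F) with hA
  set B := ((u⁻¹ : GL ι F) : Matrix ι ι F) with hB
  obtain ⟨i, j, k, l, hij, hkl⟩ : ∃ i j k l : ι, i ≠ j ∧ A k i * B j l ∉ F₀ := by
    by_contra hall
    push Not at hall
    have hrow : ∀ j, ∃ l, B j l ≠ 0 := by
      intro j
      by_contra hc
      push Not at hc
      have h1 : B * A = 1 := by rw [hA, hB, ← Units.val_mul, inv_mul_cancel, Units.val_one]
      have := congrFun (congrFun h1 j) j
      simp [Matrix.mul_apply, hc] at this
    have hcol : ∀ i, ∃ k, A k i ≠ 0 := by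
      intro i
      by_contra hc
      push Not at hc
      have h1 : B * A = 1 := by rw [hA, hB, ← Units.val_mul, inv_mul_cancel, Units.val_one]
      have := congrFun (congrFun h1 i) i
      simp [Matrix.mul_apply, hc] at this
    obtain ⟨l0, hl0⟩ := hrow j0
    obtain ⟨l1, hl1⟩ := hrow i0
    obtain ⟨i2, hi2, hi2', -⟩ := H38.exists_notMem_pair (by omega) i0 j0 i0
    obtain ⟨k2, hk2⟩ := hcol i2
    refine hun ⟨B j0 l0, hl0, fun k i => ?_⟩
    rw [mul_comm]
    rcases eq_or_ne i j0 with rfl | hi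
    · -- use another row of the inverse
      have h1 := hall i i0 k l1 hne.symm
      have h2 := hall i2 i k2 l0 hi2'
      have h3 := hall i2 i0 k2 l1 hi2
      have := mul_mem h1 (div_mem h2 h3)
      convert this using 1
      field_simp
    · exact hall i j0 k l0 hi
  have hT := H38.tv_conj huM (hrat (Pi.single i 1) (Pi.single j 1)
    (H38.ratVec_single i F₀.one_mem) (H38.ratVec_single j F₀.one_mem) (by simp [hij]))
  refine sl_le_of_nonrat_tv hr hq h8 hrat ⟨k, l, ?_⟩ hT g ((H42.LinGenSubfield.mem_specialLinear_iff' g).1 hg)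
  simpa [hA, hB, Matrix.mulVec_single, Matrix.single_vecMul] using hkl

/-- The stabiliser is maximal in `SL_n` from dimension six on. -/
theorem maximal {F : Type*} [Field F] [Fintype F] (n : ℕ) (hn : 6 ≤ n) (F₀ : Subfield F) (r : ℕ) (hr : r.Prime) (hcard : Fintype.card F = Nat.card F₀ ^ r) (P : Matrix.GeneralLinearGroup (Fin n) F) : Cfsg.Geo.IsMaximalIn (Cfsg.Geo.specialLinear (Fin n) F) (Cfsg.Geo.subfieldSubgroup F₀ P ⊓ Cfsg.Geo.specialLinear (Fin n) F) := by
  have hstd := std_maximal (ι := Fin n) F₀ hr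
    (by rw [Nat.card_eq_fintype_card (α := F)]; exact hcard) (by rw [Fintype.card_fin]; omega)
  set c := (MulAut.conj P).toMonoidHom with hc
  have hinj : Function.Injective c := (MulAut.conj P).injective
  have hSL : (Cfsg.Geo.specialLinear (Fin n) F).map c = Cfsg.Geo.specialLinear (Fin n) F := by
    haveI : (Cfsg.Geo.specialLinear (Fin n) F).Normal := by
      rw [Cfsg.Geo.specialLinear]; infer_instance
    ext x
    rw [Subgroup.mem_map_equiv, MulAut.conj_symm_apply]
    exact ⟨fun h => by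
      have := Subgroup.Normal.conj_mem (H := Cfsg.Geo.specialLinear (Fin n) F) inferInstance _ h P
      simpa [mul_assoc] using this, fun h => by
      have := Subgroup.Normal.conj_mem (H := Cfsg.Geo.specialLinear (Fin n) F) inferInstance _ h P⁻¹
      simpa [mul_assoc] using this⟩
  have hH : Cfsg.Geo.subfieldSubgroup F₀ P ⊓ Cfsg.Geo.specialLinear (Fin n) F =
      (((Matrix.GeneralLinearGroup.map (F₀.subtype : F₀ →+* F)).range ⊔
        Cfsg.Geo.scalars (Fin n) F) ⊓ Cfsg.Geo.specialLinear (Fin n) F).map c := by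
    rw [Subgroup.map_inf _ _ _ hinj, hSL]; rfl
  rw [hH]
  suffices key : Cfsg.Geo.IsMaximalIn ((Cfsg.Geo.specialLinear (Fin n) F).map c)
      ((((Matrix.GeneralLinearGroup.map (F₀.subtype : F₀ →+* F)).range ⊔
        Cfsg.Geo.scalars (Fin n) F) ⊓ Cfsg.Geo.specialLinear (Fin n) F).map c) by
    rwa [hSL] at key
  refine ⟨?_, fun M h1 h2 => ?_⟩
  · exact lt_of_le_of_ne (Subgroup.map_mono hstd.1.le)
      fun h => hstd.1.ne (Subgroup.map_injective hinj h)
  · have hsurj : Function.Surjective c := (MulAut.conj P).surjective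
    rw [← Subgroup.map_comap_eq_self_of_surjective hsurj M] at h1 h2 ⊢
    rw [Subgroup.map_le_map_iff_of_injective hinj] at h1 h2
    rcases hstd.2 _ h1 h2 with h | h <;> rw [h]
    · exact Or.inl rfl
    · exact Or.inr rfl

end H65.SubfieldSix
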