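import Mathlib
import Cfsg.Agent.H6.Basic

/-!
Kernels of quotient maps preserving the Sylow numbers.
-/

set_option autoImplicit false

namespace H65.SylowKernel

open Subgroup MulAction Function

variable {G : Type*} [Group G] [Finite G]

theorem kernel_normalizes {H : Type*} [Group H] [Finite H] {φ : G →* H} (hφ : Surjective φ)
    {r : ℕ} [Fact r.Prime] (h : Nat.card (Sylow r G) ≤ Nat.card (Sylow r H)) (S : Sylow r G)
    {k : G} (hk : k ∈ φ.ker) : k ∈ normalizer ((S : Subgroup G) : Set G) := by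
  have hbij : Bijective (Sylow.mapSurjective hφ (p := r)) :=
    (Nat.bijective_iff_surjective_and_card _).2 ⟨Sylow.mapSurjective_surjective hφ r,
      le_antisymm h (Nat.card_le_card_of_surjective _ (Sylow.mapSurjective_surjective hφ r))⟩
  have : k • S = S := hbij.1 (Sylow.ext (by
    rw [Sylow.coe_mapSurjective, Sylow.coe_mapSurjective, Sylow.coe_subgroup_smul]
    have he : ∀ x : G, φ (k * x * k⁻¹) = φ x := fun x => by
      rw [map_mul, map_mul, map_inv, MonoidHom.mem_ker.1 hk, one_mul, inv_one, mul_one]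
    ext y
    constructor
    · rintro ⟨_, ⟨s, hs, rfl⟩, rfl⟩
      exact ⟨s, hs, (he s).symm⟩
    · rintro ⟨s, hs, rfl⟩
      exact ⟨k * s * k⁻¹, ⟨s, hs, rfl⟩, he s⟩))
  exact Sylow.smul_eq_iff_mem_normalizer.1 this

theorem card_sylow_le (H : Subgroup G) (r : ℕ) : Nat.card (Sylow r H) ≤ Nat.card (Sylow r G) := by
  choose g hg using fun P : Sylow r H => P.exists_comap_subtype_eq
  exact Nat.card_le_card_of_injective g fun P Q e => Sylow.ext (by rw [← hg P, ← hg Q, e])

/-- A Sylow subgroup of `K` inside a Sylow subgroup normalised by `K`. -/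
theorem exists_normal_sylow (K : Subgroup G) {q : ℕ} [Fact q.Prime]
    (hKT : ∀ T : Sylow q G, K ≤ normalizer ((T : Subgroup G) : Set G)) :
    ∃ (P : Sylow q K) (T : Sylow q G), (T : Subgroup G).subgroupOf K = P ∧ (P : Subgroup K).Normal := by
  obtain ⟨P⟩ : Nonempty (Sylow q K) := inferInstance
  obtain ⟨T, hT⟩ := P.exists_comap_subtype_eq
  refine ⟨P, T, hT, ⟨fun n hn g => ?_⟩⟩
  rw [← hT] at hn ⊢
  exact (mem_normalizer_iff.1 (hKT T g.2) _).1 hn

/-- No prime `r` all of whose Sylow subgroups lie in such a `K`. -/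
theorem no_outside_prime (K : Subgroup G) [K.Normal] {q r : ℕ} [Fact q.Prime] [Fact r.Prime]
    (hSK : ∀ S : Sylow r G, (S : Subgroup G) ≤ K)
    (hKT : ∀ T : Sylow q G, K ≤ normalizer ((T : Subgroup G) : Set G))
    (hq : q ∣ Nat.card (Sylow r G))
    (he : ∀ i : ℕ, q ^ i ∣ Nat.card (Sylow r G) → q ^ i ≡ 1 [MOD r] → i = 0) : False := by
  classical
  obtain ⟨P, T, hTP, hPn⟩ := exists_normal_sylow K hKT
  obtain ⟨S⟩ : Nonempty (Sylow r G) := inferInstance
  haveI : IsPretransitive K (Sylow r G) := ⟨fun A B => by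
    obtain ⟨k, hk⟩ := MulAction.exists_smul_eq K (A.subtype (hSK A)) (B.subtype (hSK B))
    rw [Sylow.smul_subtype] at hk
    exact ⟨k, Sylow.subtype_injective hk⟩⟩
  set W : Set (Sylow r G) := orbit (P : Subgroup K) S with hW
  have hWd : Nat.card W ∣ Nat.card (Sylow r G) := by
    rw [Nat.card_coe_set_eq]
    exact IsBlock.ncard_dvd_card (IsBlock.orbit_of_normal (G := K) (N := (P : Subgroup K)) S) ⟨S, mem_orbit_self S⟩
  obtain ⟨i, hi⟩ : ∃ i, Nat.card W = q ^ i := P.isPGroup'.card_orbit S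
  have hmem : ∀ s ∈ (S : Subgroup G), ∀ w ∈ W, s • w ∈ W := by
    rintro s hs _ ⟨⟨t, ht⟩, rfl⟩
    refine ⟨⟨⟨s, hSK S hs⟩ * t * ⟨s, hSK S hs⟩⁻¹, hPn.conj_mem t ht _⟩, ?_⟩
    show (s * (t : G) * s⁻¹) • S = s • ((t : G) • S)
    rw [mul_smul, mul_smul, show s⁻¹ • S = S from Sylow.smul_eq_iff_mem_normalizer.2
      (inv_mem (le_normalizer hs))]
  letI : MulAction (S : Subgroup G) W :=
    { smul := fun s w => ⟨(s : G) • w.1, hmem s s.2 w.1 w.2⟩
      one_smul := fun w => Subtype.ext (one_smul G w.1)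
      mul_smul := fun a b w => Subtype.ext (mul_smul (a : G) (b : G) w.1) }
  have hmod := S.isPGroup'.card_modEq_card_fixedPoints W
  have hfix : Nat.card (fixedPoints (S : Subgroup G) W) = 1 := by
    refine Nat.card_eq_one_iff_unique.2 ⟨⟨fun a b => Subtype.ext (Subtype.ext ?_)⟩, ⟨⟨⟨S, mem_orbit_self S⟩, ?_⟩⟩⟩
    · have key : ∀ w : W, w ∈ fixedPoints (S : Subgroup G) W → w.1 = S := fun w hw => by
        refine Sylow.ext (S.3 w.1.isPGroup' ?_)
        intro s hs
        have h1 : s ∈ normalizer ((w.1 : Subgroup G) : Set G) :=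
          Sylow.smul_eq_iff_mem_normalizer.1 (congrArg Subtype.val (hw ⟨s, hs⟩))
        have h2 : s ∈ (S : Subgroup G) ⊓ normalizer ((w.1 : Subgroup G) : Set G) := ⟨hs, h1⟩
        exact ((S.isPGroup'.inf_normalizer_sylow w.1).le h2).2
      rw [key a.1 a.2, key b.1 b.2]
    · intro s
      exact Subtype.ext (Sylow.smul_eq_iff_mem_normalizer.2 (le_normalizer s.2))
  rw [hfix, hi] at hmod
  have hi0 := he i (hi ▸ hWd) hmod
  subst hi0
  rw [pow_zero] at hi
  have hle : (P : Subgroup K) ≤ stabilizer K S := fun t ht => by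
    haveI := (Nat.card_eq_one_iff_unique.1 hi).1
    exact congrArg Subtype.val (Subsingleton.elim (⟨t • S, ⟨⟨t, ht⟩, rfl⟩⟩ : W) ⟨S, mem_orbit_self S⟩)
  have h1 := index_dvd_of_le hle
  rw [MulAction.index_stabilizer_of_transitive] at h1
  exact P.not_dvd_index (hq.trans h1)

/-- If `K` normalises every Sylow subgroup, then it meets none of them when the centre is trivial. -/
theorem eq_bot_of_normalizes (K : Subgroup G) [K.Normal] (hZ : center G = ⊥)
    (hKT : ∀ r : ℕ, r.Prime → r ∣ Nat.card G → ∀ T : Sylow r G, K ≤ normalizer ((T : Subgroup G) : Set G)) :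
    K = ⊥ := by
  classical
  by_contra hK
  obtain ⟨q, hq, hqK⟩ := Nat.exists_prime_and_dvd (fun e => hK (Subgroup.card_eq_one.1 e))
  haveI := Fact.mk hq
  have hqG : q ∣ Nat.card G := hqK.trans (card_subgroup_dvd_card K)
  obtain ⟨P, T, hTP, hPn⟩ := exists_normal_sylow K (hKT q hq hqG)
  haveI := hPn
  have huniq : Subsingleton (Sylow q K) := (Sylow.unique_of_normal P hPn).instSubsingleton
  -- `T ∩ K` is normal in `G`
  have hnorm : ∀ x ∈ (T : Subgroup G) ⊓ K, ∀ g : G, g * x * g⁻¹ ∈ (T : Subgroup G) ⊓ K := by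
    intro x hx g
    have hyK : g * x * g⁻¹ ∈ K := ‹K.Normal›.conj_mem x hx.2 g
    obtain ⟨k, hk⟩ := IsPGroup.iff_orderOf.1 T.isPGroup' ⟨x, hx.1⟩
    have hp : IsPGroup q (zpowers (⟨g * x * g⁻¹, hyK⟩ : K)) := IsPGroup.of_card (n := k) (by
      rw [Nat.card_zpowers, Subgroup.orderOf_mk, ← MulAut.conj_apply, MulEquiv.orderOf_eq]
      rw [Subgroup.orderOf_mk] at hk
      exact hk)
    obtain ⟨Q, hQ⟩ := hp.exists_le_sylow
    rw [Subsingleton.elim Q P] at hQ
    have := hQ (mem_zpowers _)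
    rw [← hTP] at this
    exact ⟨this, hyK⟩
  have hne : ((T : Subgroup G) ⊓ K).subgroupOf (T : Subgroup G) ≠ ⊥ := by
    intro e
    refine P.ne_bot_of_dvd_card hqK ((eq_bot_iff_forall _).2 fun x hx => ?_)
    rw [← hTP] at hx
    have h1 : (⟨x.1, hx⟩ : (T : Subgroup G)) ∈ ((T : Subgroup G) ⊓ K).subgroupOf (T : Subgroup G) := ⟨hx, x.2⟩
    rw [e, mem_bot] at h1
    exact Subtype.ext (congrArg (fun t : (T : Subgroup G) => (t : G)) h1)
  haveI : (((T : Subgroup G) ⊓ K).subgroupOf (T : Subgroup G)).Normal :=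
    ⟨fun x hx g => hnorm _ hx g⟩
  obtain ⟨⟨z, hz⟩, hz1⟩ := (Subgroup.ne_bot_iff_exists_ne_one).1 (H6.inf_center_ne_bot T.isPGroup' hne)
  have hzT : (z : G) ∈ (T : Subgroup G) ⊓ K := hz.1
  -- `z` is central
  have hcent : ∀ r : ℕ, r.Prime → r ∣ Nat.card G → ∃ R : Sylow r G, (R : Subgroup G) ≤ centralizer ({(z : G)} : Set G) := by
    intro r hr hrG
    haveI := Fact.mk hr
    by_cases hrq : r = q
    · subst hrq
      refine ⟨T, fun s hs => mem_centralizer_singleton_iff.2 ?_⟩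
      exact congrArg Subtype.val (mem_center_iff.1 hz.2 ⟨s, hs⟩)
    · obtain ⟨R⟩ : Nonempty (Sylow r G) := inferInstance
      refine ⟨R, fun s hs => mem_centralizer_singleton_iff.2 ?_⟩
      have h1 : (z : G) * s * (z : G)⁻¹ ∈ (R : Subgroup G) :=
        (mem_normalizer_iff.1 (hKT r hr hrG R hzT.2) s).1 hs
      have h2 : (z : G) * s * (z : G)⁻¹ * s⁻¹ ∈ (T : Subgroup G) ⊓ (R : Subgroup G) := by
        refine ⟨?_, (R : Subgroup G).mul_mem h1 ((R : Subgroup G).inv_mem hs)⟩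
        rw [show (z : G) * s * (z : G)⁻¹ * s⁻¹ = (z : G) * (s * (z : G)⁻¹ * s⁻¹) by group]
        exact mul_mem hzT.1 (hnorm _ (((T : Subgroup G) ⊓ K).inv_mem hzT) s).1
      rw [(IsPGroup.disjoint_of_ne q r (fun e => hrq e.symm) _ _ T.isPGroup' R.isPGroup').eq_bot, mem_bot,
        mul_inv_eq_one, mul_inv_eq_iff_eq_mul] at h2
      exact h2.symm
  have htop : centralizer ({(z : G)} : Set G) = ⊤ := by
    refine Subgroup.index_eq_one.1 (Nat.eq_one_iff_not_exists_prime_dvd.2 fun r hr hrd => ?_)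
    haveI := Fact.mk hr
    obtain ⟨R, hR⟩ := hcent r hr (hrd.trans (index_dvd_card _))
    exact R.not_dvd_index (hrd.trans (index_dvd_of_le hR))
  have : (z : G) ∈ center G := mem_center_iff.2 fun g =>
    mem_centralizer_singleton_iff.1 (htop ▸ mem_top g)
  rw [hZ, mem_bot] at this
  exact hz1 (Subtype.ext (Subtype.ext this))

end H65.SylowKernel
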