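import Cfsg.Agent.H65.SylowKernel
import Cfsg.Agent.H65.DegreeEighteen
import Cfsg.Agent.H64.SL2Spectrum

/-!
The Sylow numbers of `PSL(2, 17)`.
-/

set_option autoImplicit false

namespace H65.SylowSeventeen

open Subgroup

theorem spectrum {K : Type} [Field K] [Fintype K] (hK : Fintype.card K = 17)
    (g : Matrix.ProjectiveSpecialLinearGroup (Fin 2) K) :
    orderOf g ∣ 17 ∨ orderOf g ∣ 8 ∨ orderOf g ∣ 9 := by
  haveI : Fact (Nat.Prime 17) := ⟨by norm_num⟩
  haveI : CharP K 17 := charP_of_card_eq_prime_pow (f := 1) (by rw [hK, pow_one])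
  have hmem : orderOf g ∈ Set.range (orderOf : Matrix.ProjectiveSpecialLinearGroup (Fin 2) K → ℕ) := ⟨g, rfl⟩
  rw [H64.psl2_spectrum 17, hK] at hmem
  simpa using hmem

variable {L : Type*} [Group L] [Finite L]

/-- Sylow numbers of a group of the order and spectrum of `PSL(2, 17)`. -/
theorem card_sylow_ge (hL : Nat.card L = 2448)
    (hspec : ∀ g : L, orderOf g ∣ 17 ∨ orderOf g ∣ 8 ∨ orderOf g ∣ 9)
    (h9 : ∃ g : L, orderOf g = 9) (h8 : ∃ g : L, orderOf g = 8) :
    136 ≤ Nat.card (Sylow 3 L) ∧ 153 ≤ Nat.card (Sylow 2 L) := by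
  classical
  have hno : ∀ n : ℕ, ¬ n ∣ 17 → ¬ n ∣ 8 → ¬ n ∣ 9 → ∀ g : L, orderOf g ≠ n := fun n a b c g e => by
    rcases hspec g with h | h | h <;> rw [e] at h <;> contradiction
  constructor
  · haveI : Fact (Nat.Prime 3) := ⟨by norm_num⟩
    obtain ⟨x, hx⟩ := h9
    obtain ⟨S, hS⟩ := (IsPGroup.of_card (p := 3) (n := 2) (G := zpowers x)
      (by rw [Nat.card_zpowers, hx]; norm_num)).exists_le_sylow
    have hSc : Nat.card S = 9 := by
      rw [S.card_eq_multiplicity, hL, show (2448 : ℕ) = 9 * 272 by rfl,
        Nat.factorization_mul_apply_of_coprime (by norm_num),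
        show (9 : ℕ) = 3 ^ 2 by rfl, Nat.Prime.factorization_pow (by norm_num),
        Nat.factorization_eq_zero_of_not_dvd (show ¬ 3 ∣ 272 by norm_num)]
      simp
    have hSx : (S : Subgroup L) = zpowers x :=
      (eq_of_le_of_card_ge hS (by rw [Nat.card_zpowers, hx, hSc])).symm
    have hC : centralizer ({x} : Set L) ≤ (S : Subgroup L) := by
      intro c hc
      have hcomm : Commute c x := mem_centralizer_singleton_iff.1 hc
      have hp : IsPGroup 3 (zpowers c) := by
        refine IsPGroup.iff_orderOf.2 fun w => ?_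
        have hw : orderOf (w : L) ∣ orderOf c := orderOf_dvd_of_mem_zpowers w.2
        rw [Subgroup.orderOf_coe] at hw
        have hc9 : orderOf c ∣ 9 := by
          rcases hspec c with e | e | e
          · rcases (Nat.dvd_prime (by norm_num : Nat.Prime 17)).1 e with e1 | e1
            · simp [e1]
            · exact absurd (hcomm.orderOf_mul_eq_mul_orderOf_of_coprime (by rw [e1, hx]; norm_num))
                (by rw [e1, hx]; exact hno _ (by norm_num) (by norm_num) (by norm_num) _)
          · by_contra hne
            have h2 : 2 ∣ orderOf c := by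
              obtain ⟨i, hi, hi'⟩ := (Nat.dvd_prime_pow Nat.prime_two).1 (show orderOf c ∣ 2 ^ 3 from e)
              rw [hi'] at hne ⊢
              rcases i with _ | i
              · simp at hne
              · exact dvd_pow_self 2 (Nat.succ_ne_zero i)
            have h1 : orderOf (c ^ (orderOf c / 2)) = 2 := orderOf_pow_orderOf_div (orderOf_pos c).ne' h2
            exact absurd ((hcomm.pow_left (orderOf c / 2)).orderOf_mul_eq_mul_orderOf_of_coprime
              (by rw [h1, hx]; norm_num))
              (by rw [h1, hx]; exact hno _ (by norm_num) (by norm_num) (by norm_num) _)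
          · exact e
        obtain ⟨i, -, hi⟩ := (Nat.dvd_prime_pow (by norm_num : Nat.Prime 3)).1
          (show orderOf w ∣ 3 ^ 2 from hw.trans hc9)
        exact ⟨i, hi⟩
      have hnc : zpowers c ≤ normalizer ((S : Subgroup L) : Set L) := by
        rw [zpowers_le]
        refine mem_normalizer_iff.2 fun w => ?_
        rw [hSx]
        constructor
        · intro hw
          obtain ⟨i, rfl⟩ := mem_zpowers_iff.1 hw
          rw [(hcomm.zpow_right i).eq, mul_inv_cancel_right]
          exact hw
        · intro hw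
          obtain ⟨i, hi⟩ := mem_zpowers_iff.1 hw
          have : w = c⁻¹ * x ^ i * c := by rw [hi]; group
          rw [this, ((hcomm.zpow_right i).inv_left).eq, inv_mul_cancel_right]
          exact zpow_mem (mem_zpowers x) i
      obtain ⟨R, hR⟩ := (hp.to_sup_of_normal_right' S.isPGroup' hnc).exists_le_sylow
      exact (S.3 R.isPGroup' (le_sup_right.trans hR)) ▸ hR ((le_sup_left : zpowers c ≤ zpowers c ⊔ (S : Subgroup L)) (mem_zpowers c))
    -- the normaliser
    set N := normalizer (S : Set L) with hN
    have hbound : Nat.card N ≤ 9 * 9 - 9 * 3 := by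
      haveI := Fintype.ofFinite L
      let f : N → {v : (S : Subgroup L) // orderOf (v : L) = 9} := fun n => ⟨⟨(n : L) * x * (n : L)⁻¹,
        (mem_normalizer_iff.1 n.2 x).1 (hSx ▸ mem_zpowers x)⟩, by
        show orderOf (MulAut.conj (n : L) x) = 9
        rw [MulEquiv.orderOf_eq, hx]⟩
      have hfib : ∀ v, (Finset.univ.filter fun n : N => f n = v).card ≤ 9 := by
        intro v
        rcases (Finset.univ.filter fun n : N => f n = v).eq_empty_or_nonempty with he | ⟨n₀, hn₀⟩
        · simp [he]
        rw [Finset.mem_filter] at hn₀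
        refine le_trans ?_ (le_of_eq hSc)
        rw [Nat.card_eq_fintype_card, ← Finset.card_univ]
        refine Finset.card_le_card_of_injOn (fun n => if h : (n₀ : L)⁻¹ * (n : L) ∈ (S : Subgroup L) then ⟨_, h⟩ else 1)
          (fun n _ => Finset.mem_univ _) fun n hn n' hn' e => ?_
        have key : ∀ n : N, f n = v → (n₀ : L)⁻¹ * (n : L) ∈ (S : Subgroup L) := fun n hn => hC (by
          refine mem_centralizer_singleton_iff.2 ?_
          have e1 : (n : L) * x * (n : L)⁻¹ = (n₀ : L) * x * (n₀ : L)⁻¹ :=
            congrArg (fun t : {v : (S : Subgroup L) // orderOf (v : L) = 9} => ((t.1 : L))) (hn.trans hn₀.2.symm)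
          calc (n₀ : L)⁻¹ * (n : L) * x = (n₀ : L)⁻¹ * ((n : L) * x * (n : L)⁻¹) * n := by group
            _ = x * ((n₀ : L)⁻¹ * n) := by rw [e1]; group)
        rw [Finset.mem_coe, Finset.mem_filter] at hn hn'
        simp only [dif_pos (key n hn.2), dif_pos (key n' hn'.2), Subtype.mk.injEq] at e
        exact Subtype.ext (mul_left_cancel e)
      have h1 := Finset.card_le_mul_card_image (f := f) (Finset.univ : Finset N) 9
        (fun v _ => by simpa using hfib v)
      have h2 : Fintype.card {v : (S : Subgroup L) // orderOf (v : L) = 9} ≤ 6 := by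
        have hcyc : IsCyclic (S : Subgroup L) := by rw [hSx]; infer_instance
        have h3 := IsCyclic.card_orderOf_eq_totient (α := (S : Subgroup L)) (d := 9)
          (by rw [← Nat.card_eq_fintype_card, hSc])
        rw [Fintype.card_subtype]
        have h4 : Nat.totient 9 = 6 := by decide
        simp only [Subgroup.orderOf_coe]
        omega
      rw [Nat.card_eq_fintype_card, ← Finset.card_univ]
      refine h1.trans ?_
      have := (Finset.card_le_univ ((Finset.univ : Finset N).image f)).trans h2
      omega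
    have hn := S.card_eq_index_normalizer
    rw [← hN] at hn
    have hcard := N.card_mul_index
    rw [hL, ← hn] at hcard
    have hd : Nat.card (Sylow 3 L) ∣ 272 := by
      have h1 := S.card_dvd_index
      have h2 := (S : Subgroup L).card_mul_index
      rw [hSc, hL] at h2
      rwa [show (S : Subgroup L).index = 272 by omega] at h1
    have hmod := card_sylow_modEq_one 3 L
    have hge : 46 ≤ Nat.card (Sylow 3 L) := by
      by_contra hlt
      push Not at hlt
      have := Nat.mul_le_mul hbound (Nat.le_of_lt_succ hlt)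
      omega
    generalize Nat.card (Sylow 3 L) = n at hd hmod hge ⊢
    by_contra hlt
    push Not at hlt
    have : n ∈ Nat.divisors 272 := Nat.mem_divisors.2 ⟨hd, by norm_num⟩
    rw [show Nat.divisors 272 = {1, 2, 4, 8, 16, 17, 34, 68, 136, 272} by decide] at this
    rw [Nat.ModEq] at hmod
    simp only [Finset.mem_insert, Finset.mem_singleton] at this
    omega
  · haveI : Fact (Nat.Prime 2) := ⟨Nat.prime_two⟩
    obtain ⟨z, hz⟩ := h8
    obtain ⟨S, hS⟩ := (IsPGroup.of_card (p := 2) (n := 3) (G := zpowers z)
      (by rw [Nat.card_zpowers, hz]; norm_num)).exists_le_sylow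
    have hSc : Nat.card S = 16 := by
      rw [S.card_eq_multiplicity, hL, show (2448 : ℕ) = 16 * 153 by rfl,
        Nat.factorization_mul_apply_of_coprime (by norm_num),
        show (16 : ℕ) = 2 ^ 4 by rfl, Nat.Prime.factorization_pow (by norm_num),
        Nat.factorization_eq_zero_of_not_dvd (show ¬ 2 ∣ 153 by norm_num)]
      simp
    set t := z ^ 4 with ht
    have ht2 : orderOf t = 2 := by rw [ht, orderOf_pow_of_dvd (by norm_num) (by rw [hz]; norm_num), hz]
    have hidx : ((zpowers z).subgroupOf (S : Subgroup L)).index = 2 := by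
      have h1 := ((zpowers z).subgroupOf (S : Subgroup L)).card_mul_index
      rw [Nat.card_congr (subgroupOfEquivOfLe hS).toEquiv, Nat.card_zpowers, hz, hSc] at h1
      omega
    have hfour : ∀ w ∈ (S : Subgroup L), orderOf w = 8 → w ^ 4 = t := by
      intro w hw ho
      have h1 : (⟨w, hw⟩ : (S : Subgroup L)) ^ 2 ∈ (zpowers z).subgroupOf (S : Subgroup L) :=
        sq_mem_of_index_two hidx _
      have h2 : w ^ 4 ∈ zpowers z := by
        rw [show w ^ 4 = (w ^ 2) ^ 2 by rw [← pow_mul]]
        exact pow_mem (show w ^ 2 ∈ zpowers z from h1) 2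
      obtain ⟨i, hi⟩ := mem_zpowers_iff.1 h2
      have h3 : orderOf (w ^ 4) = 2 := by rw [orderOf_pow_of_dvd (by norm_num) (by rw [ho]; norm_num), ho]
      have h8 : z ^ (i * 2) = 1 := by
        rw [zpow_mul, hi]
        refine (zpow_natCast (w ^ 4) 2).trans ?_
        exact orderOf_dvd_iff_pow_eq_one.1 (h3 ▸ dvd_rfl)
      obtain ⟨j, hj⟩ : (4 : ℤ) ∣ i := by
        have h9 := orderOf_dvd_iff_zpow_eq_one.2 h8
        rw [hz] at h9
        push_cast at h9
        omega
      have hj' : w ^ 4 = t ^ j := by rw [← hi, hj, zpow_mul]; norm_cast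
      obtain ⟨k, hk | hk⟩ := Int.even_or_odd' j
      · exfalso
        rw [hj', hk, zpow_mul, show t ^ (2 : ℤ) = 1 by
          exact_mod_cast orderOf_dvd_iff_pow_eq_one.1 (show orderOf t ∣ 2 from ht2 ▸ dvd_rfl), one_zpow,
          orderOf_one] at h3
        omega
      · rw [hj', hk, zpow_add, zpow_mul, show t ^ (2 : ℤ) = 1 by
          exact_mod_cast orderOf_dvd_iff_pow_eq_one.1 (show orderOf t ∣ 2 from ht2 ▸ dvd_rfl), one_zpow,
          one_mul, zpow_one]
    set N := normalizer (S : Set L) with hN
    have hn := S.card_eq_index_normalizer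
    rw [← hN] at hn
    have hcard := N.card_mul_index
    rw [hL, ← hn] at hcard
    have hNS : ∀ r : ℕ, r.Prime → r ≠ 2 → ¬ r ∣ Nat.card N := by
      intro r hr hr2 hd
      haveI := Fact.mk hr
      obtain ⟨g, hg⟩ := exists_prime_orderOf_dvd_card' r hd
      rw [← Subgroup.orderOf_coe] at hg
      have h1 : (g : L) * z * (g : L)⁻¹ ∈ (S : Subgroup L) :=
        (mem_normalizer_iff.1 g.2 z).1 (hS (mem_zpowers z))
      have h2 := hfour _ h1 (by rw [← MulAut.conj_apply, MulEquiv.orderOf_eq, hz])
      rw [conj_pow, ← ht, mul_inv_eq_iff_eq_mul] at h2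
      have hm := (show Commute (g : L) t from h2).orderOf_mul_eq_mul_orderOf_of_coprime
        (by rw [hg, ht2]; exact (Nat.coprime_primes hr Nat.prime_two).2 hr2)
      rw [hg, ht2] at hm
      refine hno (r * 2) ?_ ?_ ?_ _ hm
      · exact fun e => by have := (dvd_mul_left 2 r).trans e; norm_num at this
      · intro e
        exact hr2 ((Nat.prime_dvd_prime_iff_eq hr Nat.prime_two).1
          (hr.dvd_of_dvd_pow (n := 3) ((dvd_mul_right r 2).trans e)))
      · exact fun e => by have := (dvd_mul_left 2 r).trans e; norm_num at this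
    have h153 : Nat.Coprime (Nat.card N) 153 := by
      refine Nat.coprime_of_dvd fun r hr hrN hr' => hNS r hr ?_ hrN
      rintro rfl
      norm_num at hr'
    have hle : 153 ∣ Nat.card (Sylow 2 L) :=
      h153.symm.dvd_of_dvd_mul_left (by rw [hcard]; norm_num)
    exact Nat.le_of_dvd Nat.card_pos hle

end H65.SylowSeventeen
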