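import Cfsg.Agent.H42.LinGenUnitary

/-!
The unitary similarity group is maximal in `SL n F`, `6 ≤ n`.
-/

set_option autoImplicit false

namespace H65.UnitarySix

open Matrix H61.Unitary
open Cfsg.Geo (IsUnitaryForm)

variable {F : Type*} [Field F] {n : ℕ} {σ : F ≃+* F} {f : (Fin n → F) → (Fin n → F) → F}

section Basic

variable (hf : IsUnitaryForm σ f) [Fintype F]
include hf

/-- An anisotropic vector orthogonal to few vectors. -/
theorem exists_aniso (hn : 6 ≤ n) {k : ℕ} (vs : Fin k → (Fin n → F))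
    (hk : k ≤ 2 ∨ (k = 3 ∧ ∃ i j, f (vs i) (vs j) ≠ 0)) :
    ∃ y, f y y ≠ 0 ∧ ∀ i, f y (vs i) = 0 := by
  classical
  by_contra hc
  push Not at hc
  set P := LinearMap.ker (LinearMap.pi fun i => lf hf (vs i)) with hP
  have hmem : ∀ x, x ∈ P ↔ ∀ i, f x (vs i) = 0 := fun x => by
    rw [hP, LinearMap.mem_ker, funext_iff]
    exact Iff.rfl
  have hiso : ∀ x ∈ P, f x x = 0 := fun x hx => by
    by_contra h
    obtain ⟨i, hi⟩ := hc x h
    exact hi ((hmem x).mp hx i)
  obtain ⟨b, hb⟩ : ∃ b : F, σ b ≠ b := by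
    by_contra h
    push Not at h
    exact hf.ne_refl (RingEquiv.ext h)
  have htot : ∀ x ∈ P, ∀ y ∈ P, f x y = 0 := by
    intro x hx y hy
    have h1 := hiso _ (P.add_mem hx hy)
    rw [hf.add_left, add_right hf, add_right hf, hiso x hx, hiso y hy, zero_add, add_zero] at h1
    have h3 := hiso _ (P.add_mem (P.smul_mem b hx) hy)
    rw [hf.add_left, add_right hf, add_right hf, hf.smul_left, hf.smul_left, smul_right hf, smul_right hf,
      hiso x hx, hiso y hy] at h3
    have : (σ b - b) * f x y = 0 := by linear_combination σ b * h1 - h3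
    exact (mul_eq_zero.mp this).resolve_left (sub_ne_zero.mpr hb)
  -- totally isotropic subspaces are small
  have hdim : n ≤ Module.finrank F P + k := by
    have h1 := LinearMap.finrank_range_add_finrank_ker (LinearMap.pi fun i => lf hf (vs i))
    have h2 := Submodule.finrank_le (LinearMap.range (LinearMap.pi fun i => lf hf (vs i)))
    rw [Module.finrank_fintype_fun_eq_card, Fintype.card_fin] at h1 h2
    rw [← hP] at h1
    omega
  haveI : Finite P.dualAnnihilator := Module.finite_of_finite F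
  let j : P → P.dualAnnihilator := fun p =>
    ⟨lf hf p.1, (Submodule.mem_dualAnnihilator _).mpr fun x hx => htot x hx p.1 p.2⟩
  have hj : Function.Injective j := fun x y h =>
    Subtype.ext (ext_right hf fun z => LinearMap.congr_fun (congrArg Subtype.val h) z)
  have hle := Nat.card_le_card_of_injective j hj
  rw [Module.natCard_eq_pow_finrank (K := F) (V := P),
    Module.natCard_eq_pow_finrank (K := F) (V := P.dualAnnihilator)] at hle
  have hle' := (Nat.pow_le_pow_iff_right (Finite.one_lt_card (α := F))).mp hle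
  have := Subspace.finrank_add_finrank_dualAnnihilator_eq P
  rw [Module.finrank_fintype_fun_eq_card, Fintype.card_fin] at this
  rcases hk with hk | ⟨hk, i, l, hil⟩
  · omega
  have heq : Nat.card P = Nat.card P.dualAnnihilator := by
    rw [Module.natCard_eq_pow_finrank (K := F) (V := P),
      Module.natCard_eq_pow_finrank (K := F) (V := P.dualAnnihilator),
      show Module.finrank F P = Module.finrank F P.dualAnnihilator by omega]
  have hin : ∀ i, vs i ∈ P := fun i => by
    obtain ⟨p, hp⟩ := ((Nat.bijective_iff_injective_and_card j).mpr ⟨hj, heq⟩).2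
      ⟨lf hf (vs i), (Submodule.mem_dualAnnihilator _).mpr fun x hx => (hmem x).mp hx i⟩
    rw [← ext_right hf fun z => LinearMap.congr_fun (congrArg Subtype.val hp) z]
    exact p.2
  exact hil ((hmem _).mp (hin i) l)

/-- Isotropic vectors with prescribed products against at most two vectors. -/
theorem exists_iso (hn : 6 ≤ n) {k : ℕ} (hk : k ≤ 2) (y : Fin n → F) (vs : Fin k → (Fin n → F)) :
    ∃ z, f z z = 0 ∧ ∀ i, f z (vs i) = f y (vs i) := by
  obtain ⟨y', hy', hperp⟩ := H65.UnitarySix.exists_aniso hf hn vs (Or.inl hk)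
  suffices h : ∀ y, f y' y = 0 → ∃ z, f z z = 0 ∧ ∀ i, f z (vs i) = f y (vs i) by
    obtain ⟨z, hz, hz'⟩ := h (y - σ (f y' y / f y' y') • y') (by
      have e := add_right hf (y - σ (f y' y / f y' y') • y') (σ (f y' y / f y' y') • y') y'
      rw [sub_add_cancel, smul_right hf, hf.involutive, div_mul_cancel₀ _ hy'] at e
      linear_combination -e)
    refine ⟨z, hz, fun i => (hz' i).trans ?_⟩
    rw [sub_eq_add_neg, ← neg_smul, hf.add_left, hf.smul_left, hperp i, mul_zero, add_zero]
  intro y hy0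
  obtain ⟨s, hs⟩ := exists_norm hf (t := -f y y / f y' y')
    (by rw [map_div₀, map_neg, self_fixed hf, self_fixed hf])
  refine ⟨y + s • y', ?_, fun i => ?_⟩
  · rw [hf.add_left, add_right hf, add_right hf, hf.smul_left, hf.smul_left, smul_right hf, smul_right hf,
      hy0, symm_zero hf hy0]
    field_simp at hs
    linear_combination hs
  · rw [hf.add_left, hf.smul_left, hperp i, mul_zero, add_zero]

/-- Closure argument: an additive subgroup of a perp, stable under unitary transvections, is everything. -/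
theorem closure_eq_perp (hn : 6 ≤ n) {u : Fin n → F} (hu : u ≠ 0) (P : AddSubgroup (Fin n → F))
    (hstab : ∀ w ∈ P, ∀ z, f z z = 0 → f z u = 0 → ∀ a, σ a = -a → (a * f w z) • z ∈ P)
    {w : Fin n → F} (hw : w ∈ P) (hwu : f w u = 0) (hne : ∀ c : F, w ≠ c • u) :
    ∀ x, f x u = 0 → x ∈ P := by
  have hn' : 6 ≤ n := by omega
  obtain ⟨a0, ha0, hσa0⟩ := exists_skew hf
  -- an isotropic member
  obtain ⟨y, hyu, hyw⟩ := exists_perp_apply_ne hf hu hne
  obtain ⟨z1, hz1, hz1'⟩ := H65.UnitarySix.exists_iso hf hn' (k := 2) (by omega) y ![u, w]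
  have h1u : f z1 u = 0 := by simpa [hyu] using hz1' 0
  have h1w : f z1 w ≠ 0 := by rw [show f z1 w = f y w by simpa using hz1' 1]; exact hyw
  have hw1 : f w z1 ≠ 0 := fun h => h1w (symm_zero hf h)
  obtain ⟨e, he⟩ : ∃ e : Fin n → F, e = (a0 * f w z1) • z1 := ⟨_, rfl⟩
  have heP : e ∈ P := he ▸ hstab w hw z1 hz1 h1u a0 hσa0
  have hee : f e e = 0 := by rw [he, hf.smul_left, smul_right hf, hz1]; ring
  have heu : f e u = 0 := by rw [he, hf.smul_left, h1u, mul_zero]
  have hene : ∀ c : F, e ≠ c • u := by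
    intro c hc
    have h' : f e w = f (c • u) w := by rw [hc]
    rw [hf.smul_left, symm_zero hf hwu, mul_zero, he, hf.smul_left] at h'
    exact h1w ((mul_eq_zero.mp h').resolve_left (mul_ne_zero ha0 hw1))
  -- a partner
  obtain ⟨y2, hy2u, hy2e⟩ := exists_perp_apply_ne hf hu hene
  obtain ⟨z2, hz2, hz2'⟩ := H65.UnitarySix.exists_iso hf hn' (k := 2) (by omega) ((f y2 e)⁻¹ • y2) ![u, e]
  have h2u : f z2 u = 0 := by
    rw [show f z2 u = f ((f y2 e)⁻¹ • y2) u by simpa using hz2' 0, hf.smul_left, hy2u, mul_zero]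
  have h2e : f z2 e = 1 := by
    rw [show f z2 e = f ((f y2 e)⁻¹ • y2) e by simpa using hz2' 1, hf.smul_left, inv_mul_cancel₀ hy2e]
  have he2 : f e z2 = 1 := by rw [hf.herm, h2e, map_one]
  -- a triangle
  obtain ⟨y3, hy3, hy3'⟩ := H65.UnitarySix.exists_aniso hf hn' ![u, e, z2]
    (Or.inr ⟨rfl, 1, 2, by simp [he2]⟩)
  have h3u : f y3 u = 0 := by simpa using hy3' 0
  have h3e : f y3 e = 0 := by simpa using hy3' 1
  have h32 : f y3 z2 = 0 := by simpa using hy3' 2
  obtain ⟨β, hβ⟩ := exists_trace hf (t := -f y3 y3) (by rw [map_neg, self_fixed hf])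
  set z3 := e + β • z2 + y3 with hz3
  have h33 : f z3 z3 = 0 := by
    rw [hz3]
    simp only [hf.add_left, add_right hf, hf.smul_left, smul_right hf, hee, hz2, he2, h2e, h3e, h32,
      symm_zero hf h3e, symm_zero hf h32]
    linear_combination hβ
  have h3u' : f z3 u = 0 := by rw [hz3, hf.add_left, hf.add_left, hf.smul_left, heu, h2u, h3u]; ring
  have h3e' : f z3 e = β := by rw [hz3, hf.add_left, hf.add_left, hf.smul_left, hee, h2e, h3e]; ring
  have h23 : f z2 z3 = 1 := by
    rw [hz3, add_right hf, add_right hf, smul_right hf, h2e, hz2, symm_zero hf h32]; ring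
  -- all multiples of `e`
  have hskew : ∀ t : F, σ t = t → σ (t * a0) = -(t * a0) := fun t ht => by
    rw [map_mul, ht, hσa0]; ring
  have hfix : ∀ t : F, σ t = t → σ (t / (a0 * a0)) = t / (a0 * a0) := fun t ht => by
    rw [map_div₀, map_mul, ht, hσa0, neg_mul_neg]
  have hsq : a0 * a0 ≠ 0 := mul_ne_zero ha0 ha0
  have hbase : ∀ t : F, σ t = t → (t • e) ∈ P := by
    intro t ht
    have p1 := hstab e heP z2 hz2 h2u a0 hσa0
    rw [he2, mul_one] at p1
    have p2 := hstab _ p1 e hee heu _ (hskew _ (hfix t ht))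
    rw [hf.smul_left, h2e] at p2
    rwa [show t / (a0 * a0) * a0 * (a0 * 1) = t by field_simp] at p2
  have hwide : ∀ t : F, σ t = t → ((t * a0 * β) • e) ∈ P := by
    intro t ht
    have p1 := hstab e heP z2 hz2 h2u a0 hσa0
    rw [he2, mul_one] at p1
    have p2 := hstab _ p1 z3 h33 h3u' a0 hσa0
    rw [hf.smul_left, h23, mul_one] at p2
    have p3 := hstab _ p2 e hee heu _ (hskew _ (hfix t ht))
    rw [hf.smul_left, h3e'] at p3
    rwa [show t / (a0 * a0) * a0 * (a0 * a0 * β) = t * a0 * β by field_simp] at p3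
  have hmul : ∀ c : F, c • e ∈ P := by
    intro c
    have hden : a0 * β - σ (a0 * β) ≠ 0 := by
      rw [map_mul, hσa0, show a0 * β - -a0 * σ β = a0 * (β + σ β) by ring, hβ]
      exact mul_ne_zero ha0 (neg_ne_zero.mpr hy3)
    set t := (c - σ c) / (a0 * β - σ (a0 * β)) with ht
    have htfix : σ t = t := by
      rw [ht, map_div₀, map_sub, map_sub, hf.involutive, hf.involutive,
        ← neg_sub c (σ c), ← neg_sub (a0 * β) (σ (a0 * β)), neg_div_neg_eq]
    have hs : σ (c - t * (a0 * β)) = c - t * (a0 * β) := by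
      have e1 : t * (a0 * β - σ (a0 * β)) = c - σ c := by rw [ht, div_mul_cancel₀ _ hden]
      rw [map_sub, map_mul, htfix]
      linear_combination e1
    have := P.add_mem (hbase _ hs) (hwide t htfix)
    rwa [← add_smul, show c - t * (a0 * β) + t * a0 * β = c by ring] at this
  -- everything
  have hhop : ∀ z, f z z = 0 → f z u = 0 → f e z = 1 → ∀ c : F, c • z ∈ P := by
    intro z hz hzu hez c
    have := hstab _ (hmul (c / a0)) z hz hzu a0 hσa0
    rw [hf.smul_left, hez] at this
    rwa [show a0 * (c / a0 * 1) = c by field_simp] at this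
  intro x hx
  set μ := 1 - f x e with hμ
  set x1 := x + μ • z2 with hx1
  have hx1e : f x1 e = 1 := by rw [hx1, hf.add_left, hf.smul_left, h2e, hμ]; ring
  have hex1 : f e x1 = 1 := by rw [hf.herm, hx1e, map_one]
  obtain ⟨γ, hγ⟩ := exists_trace hf (t := -f x1 x1) (by rw [map_neg, self_fixed hf])
  set x2 := x1 + γ • e with hx2
  have h22 : f x2 x2 = 0 := by
    rw [hx2]
    simp only [hf.add_left, add_right hf, hf.smul_left, smul_right hf, hee, hx1e, hex1]
    linear_combination hγ
  have h2u' : f x2 u = 0 := by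
    rw [hx2, hx1, hf.add_left, hf.add_left, hf.smul_left, hf.smul_left, hx, h2u, heu]; ring
  have he22 : f e x2 = 1 := by rw [hx2, add_right hf, smul_right hf, hee, hex1]; ring
  have m2 : x2 ∈ P := by simpa using hhop x2 h22 h2u' he22 1
  have : x = x2 - γ • e - μ • z2 := by rw [hx2, hx1]; abel
  rw [this]
  exact P.sub_mem (P.sub_mem m2 (hmul γ)) (hhop z2 hz2 h2u he2 μ)

end Basic

section Pairs

variable {X : Subgroup (GL (Fin n) F)} (hf : IsUnitaryForm σ f) [Fintype F] (hn : 6 ≤ n) (hU : HasUnitary σ f X)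
include hf hn hU

theorem pair_all_right {u w : Fin n → F} (hu : u ≠ 0) (h : PairH f X u w) (hne : ∀ c : F, w ≠ c • u) :
    ∀ x, f x u = 0 → PairH f X u x := by
  let P : AddSubgroup (Fin n → F) :=
    { carrier := {x | PairH f X u x}
      add_mem' := fun a b => PairH.add_right hf a b
      zero_mem' := pair_zero_right hf u
      neg_mem' := fun a => PairH.neg_right hf a }
  refine H65.UnitarySix.closure_eq_perp hf hn hu P (fun x hx z hz hzu a ha => ?_) h (symm_zero hf h.1) hne
  obtain ⟨T, hT, hTe⟩ := hU z a hz ha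
  have h1 := PairH.conj hf hx hT (w' := x + (a * f x z) • z) (fun y => by
    rw [hTe, hf.add_left, hf.smul_left, H61.Unitary.add_right hf, H61.Unitary.add_right hf,
      smul_right hf, smul_right hf, hz, map_mul, ← hf.herm z x, ha]
    ring)
  rw [hTe, symm_zero hf hzu, mul_zero, zero_smul, add_zero] at h1
  have := P.add_mem h1 (P.neg_mem hx)
  rwa [add_neg_cancel_comm] at this

theorem pair_all_left {u w : Fin n → F} (hw : w ≠ 0) (h : PairH f X u w) (hne : ∀ c : F, u ≠ c • w) :
    ∀ x, f x w = 0 → PairH f X x w := by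
  let P : AddSubgroup (Fin n → F) :=
    { carrier := {x | PairH f X x w}
      add_mem' := fun a b => PairH.add_left hf a b
      zero_mem' := pair_zero_left hf w
      neg_mem' := fun a => PairH.neg_left hf a }
  refine H65.UnitarySix.closure_eq_perp hf hn hw P (fun x hx z hz hzw a ha => ?_) h h.1 hne
  obtain ⟨T, hT, hTe⟩ := hU z a hz ha
  have h1 := PairH.conj hf hx hT (w' := w) (fun y => by
    rw [hTe, hf.add_left, hf.smul_left, hzw]; ring)
  rw [hTe] at h1
  have := P.add_mem h1 (P.neg_mem hx)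
  rwa [add_neg_cancel_comm] at this

theorem pair_all {u w : Fin n → F} (hu : u ≠ 0) (hw : w ≠ 0) (h : PairH f X u w)
    (hne : ∀ c : F, w ≠ c • u) {u' w' : Fin n → F} (hu' : u' ≠ 0) (h' : f u' w' = 0) :
    PairH f X u' w' := by
  have prop : ∀ {a b : Fin n → F}, a ≠ 0 → b ≠ 0 → (∀ c : F, b ≠ c • a) → ∀ c : F, a ≠ c • b := by
    intro a b ha hb hab c hc
    have hc0 : c ≠ 0 := fun e => ha (by rw [hc, e, zero_smul])
    exact hab c⁻¹ (by rw [hc, inv_smul_smul₀ hc0])
  have main : ∀ a b : Fin n → F, a ≠ 0 → b ≠ 0 → f a b = 0 → (∀ c : F, b ≠ c • a) → PairH f X a b := by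
    intro a b ha hb hab hne'
    obtain ⟨y, hy, hperp⟩ := H65.UnitarySix.exists_aniso hf (by omega) ![w, b] (Or.inl (by norm_num))
    have hyw : f y w = 0 := by simpa using hperp 0
    have hyb : f y b = 0 := by simpa using hperp 1
    have hy0 : y ≠ 0 := fun e => hy (by rw [e, zero_left hf])
    have aux : ∀ v, f y v = 0 → v ≠ 0 → ∀ c : F, v ≠ c • y := fun v hv hv0 c hc => by
      rw [hc, smul_right hf] at hv
      exact hv0 (by rw [hc, (RingEquiv.map_eq_zero_iff σ).mp ((mul_eq_zero.mp hv).resolve_right hy),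
        zero_smul])
    have h1 := H65.UnitarySix.pair_all_left hf hn hU hw h (prop hu hw hne) y hyw
    have h2 := H65.UnitarySix.pair_all_right hf hn hU hy0 h1 (aux w hyw hw) b (symm_zero hf hyb)
    exact H65.UnitarySix.pair_all_left hf hn hU hb h2 (prop hy0 hb (aux b hyb hb)) a hab
  by_cases hne' : ∀ c : F, w' ≠ c • u'
  · by_cases hw' : w' = 0
    · rw [hw']; exact pair_zero_right hf u'
    · exact main u' w' hu' hw' h' hne'
  push Not at hne'
  obtain ⟨c, hc⟩ := hne'
  obtain ⟨y, hy, hperp⟩ := H65.UnitarySix.exists_aniso hf (by omega) ![u'] (Or.inl (by norm_num))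
  have hyu : f y u' = 0 := by simpa using hperp 0
  have hy0 : y ≠ 0 := fun e => hy (by rw [e, zero_left hf])
  have hyp : ∀ d : F, y ≠ d • u' := fun d hd => hy (by
    have e : f y y = f y (d • u') := congrArg (f y) hd
    rw [smul_right hf, hyu, mul_zero] at e
    exact e)
  have hyw' : f u' y = 0 := symm_zero hf hyu
  have hsum : ∀ d : F, w' + y ≠ d • u' := fun d hd => hyp (d - c) (by
    rw [sub_smul, ← hd, hc, add_sub_cancel_left])
  have a1 := main u' (w' + y) hu' (fun e => hsum 0 (by rw [e, zero_smul]))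
    (by rw [H61.Unitary.add_right hf, h', hyw', add_zero]) hsum
  have a2 := main u' y hu' hy0 hyw' hyp
  have := PairH.add_right hf a1 (PairH.neg_right hf a2)
  rwa [add_neg_cancel_right] at this

theorem exists_nonprop {g : GL (Fin n) F} (hg : g ∈ X) (hns : g ∉ Cfsg.Geo.similarityGroup f) :
    ∃ u w, u ≠ 0 ∧ w ≠ 0 ∧ PairH f X u w ∧ ∀ c : F, w ≠ c • u := by
  have hn' : 6 ≤ n := by omega
  obtain ⟨a0, ha0, hσa0⟩ := exists_skew hf
  by_contra hcon
  push Not at hcon
  have hunit : ∀ v : Fin n → F, f v v = 0 → PairH f X v (σ a0 • v) := by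
    intro v hv
    obtain ⟨T, hT, hTe⟩ := hU v a0 hv hσa0
    exact ⟨by rw [smul_right hf, hv, mul_zero], T, hT,
      fun x => by rw [hTe, smul_right hf, hf.involutive]⟩
  have htr : ∀ (M : GL (Fin n) F) w, ∃ w', ∀ x, f (M.val *ᵥ x) w' = f x w := by
    intro M w
    obtain ⟨w', hw'⟩ := exists_lf hf ((lf hf w) ∘ₗ Matrix.mulVecLin M⁻¹.val)
    refine ⟨w', fun x => ?_⟩
    have := LinearMap.congr_fun hw' (M.val *ᵥ x)
    simp only [lf, LinearMap.coe_mk, AddHom.coe_mk, LinearMap.comp_apply, Matrix.mulVecLin_apply,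
      H49.gl_inv_mulVec] at this
    exact this
  have hmove : ∀ M ∈ X, ∀ v : Fin n → F, f v v = 0 → v ≠ 0 →
      ∃ c : F, c ≠ 0 ∧ (∀ x, σ c * f (M.val *ᵥ x) (M.val *ᵥ v) = a0 * f x v) ∧
        f (M.val *ᵥ v) (M.val *ᵥ v) = 0 := by
    intro M hM v hv hv0
    obtain ⟨w', hw'⟩ := htr M (σ a0 • v)
    have hp := PairH.conj hf (hunit v hv) hM hw'
    have hMv : M.val *ᵥ v ≠ 0 := fun e => hv0 (H49.gl_mulVec_injective M (by simpa using e))
    obtain ⟨y, hy⟩ := exists_apply_eq_one hf hv0
    have hw0 : w' ≠ 0 := fun e => by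
      have := hw' y
      rw [e, zero_right hf, smul_right hf, hf.involutive, hy, mul_one] at this
      exact ha0 this.symm
    obtain ⟨c, hc⟩ := hcon _ _ hMv hw0 hp
    have hc0 : c ≠ 0 := fun e => hw0 (by rw [hc, e, zero_smul])
    refine ⟨c, hc0, fun x => by rw [← smul_right hf, ← hc, hw', smul_right hf, hf.involutive], ?_⟩
    have := hp.1
    rw [hc, smul_right hf] at this
    exact (mul_eq_zero.mp this).resolve_left (by simpa using hc0)
  -- the multipliers are fixed by `σ`
  have hd : ∀ v : Fin n → F, f v v = 0 → v ≠ 0 →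
      ∃ d : F, σ d = d ∧ d ≠ 0 ∧ ∀ x, f (g.val *ᵥ x) (g.val *ᵥ v) = d * f x v := by
    intro v hv hv0
    obtain ⟨c, hc0, hc, hgv⟩ := hmove g hg v hv hv0
    have hσc : σ c ≠ 0 := by simpa using hc0
    refine ⟨a0 / σ c, ?_, div_ne_zero ha0 hσc, fun x => by
      rw [div_mul_eq_mul_div, eq_div_iff hσc, ← hc x, mul_comm]⟩
    by_contra hbad
    -- a non-unitary transvection moves an isotropic vector to an anisotropic one
    have hb : c + σ c ≠ 0 := by
      intro e
      apply hbad
      rw [map_div₀, hσa0, hf.involutive, show c = -σ c from eq_neg_of_add_eq_zero_left e, neg_div_neg_eq,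
        show σ (-σ c) = -c by rw [map_neg, hf.involutive], show -c = σ c from (eq_neg_of_add_eq_zero_right e).symm]
    set u := g.val *ᵥ v with hu
    have hu0 : u ≠ 0 := fun e => hv0 (H49.gl_mulVec_injective g (by simpa [hu] using e))
    obtain ⟨w', hw'⟩ := htr g (σ a0 • v)
    obtain ⟨-, M, hM, hMe⟩ := PairH.conj hf (hunit v hv) hg hw'
    have hMu : ∀ x, M.val *ᵥ x = x + (σ c * f x u) • u := fun x => by
      rw [hMe]
      have := hw' (g⁻¹.val *ᵥ x)
      rw [H49.gl_mulVec_inv, smul_right hf, hf.involutive, ← hc, H49.gl_mulVec_inv] at this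
      rw [this]
    obtain ⟨y, hy⟩ := exists_apply_eq_one hf hu0
    obtain ⟨z, hz, hz'⟩ := H65.UnitarySix.exists_iso hf hn' (k := 1) (by omega) y ![u]
    have hzu : f z u = 1 := by rw [show f z u = f y u by simpa using hz' 0, hy]
    have huz : f u z = 1 := by rw [hf.herm, hzu, map_one]
    obtain ⟨c', -, -, hiso⟩ := hmove M hM z hz (fun e => by
      rw [e, zero_left hf] at hzu
      exact zero_ne_one hzu)
    apply hb
    rw [hMu, hzu, mul_one] at hiso
    simp only [hf.add_left, add_right hf, hf.smul_left, smul_right hf, hz, huz, hzu, hgv,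
      hf.involutive] at hiso
    linear_combination hiso
  choose! d hd using hd
  have hsame : ∀ v v' : Fin n → F, f v v = 0 → v ≠ 0 → f v' v' = 0 → v' ≠ 0 → f v' v ≠ 0 → d v = d v' := by
    intro v v' a b a' b' h
    have h1 := (hd v a b).2.2 v'
    have h2 := (hd v' a' b').2.2 v
    rw [hf.herm (g.val *ᵥ v'), h2, map_mul, (hd v' a' b').1, ← hf.herm] at h1
    exact (mul_right_cancel₀ h h1).symm
  have hconst : ∀ v v' : Fin n → F, f v v = 0 → v ≠ 0 → f v' v' = 0 → v' ≠ 0 → d v = d v' := by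
    intro v v' a b a' b'
    obtain ⟨y, hy⟩ : ∃ y, f y v ≠ 0 ∧ f y v' ≠ 0 := by
      obtain ⟨y1, h1⟩ := exists_apply_eq_one hf b
      obtain ⟨y2, h2⟩ := exists_apply_eq_one hf b'
      by_cases h3 : f y1 v' = 0
      · by_cases h4 : f y2 v = 0
        · exact ⟨y1 + y2, by simp [hf.add_left, h1, h4], by simp [hf.add_left, h2, h3]⟩
        · exact ⟨y2, h4, by rw [h2]; exact one_ne_zero⟩
      · exact ⟨y1, by rw [h1]; exact one_ne_zero, h3⟩
    obtain ⟨z, hz, hz'⟩ := H65.UnitarySix.exists_iso hf hn' (k := 2) (by omega) y ![v, v']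
    have e1 : f z v = f y v := by simpa using hz' 0
    have e2 : f z v' = f y v' := by simpa using hz' 1
    have hz0 : z ≠ 0 := fun e => hy.1 (by rw [← e1, e, zero_left hf])
    rw [hsame v z a b hz hz0 (e1 ▸ hy.1), hsame v' z a' b' hz hz0 (e2 ▸ hy.2)]
  obtain ⟨v0, hv0, hv00⟩ : ∃ v0, f v0 v0 = 0 ∧ v0 ≠ 0 := by
    have hne : (Pi.single ⟨0, by omega⟩ 1 : Fin n → F) ≠ 0 := by simp
    obtain ⟨y, hy⟩ := exists_apply_eq_one hf hne
    obtain ⟨z, hz, hz'⟩ := H65.UnitarySix.exists_iso hf hn' (k := 1) (by omega) y ![Pi.single ⟨0, by omega⟩ 1]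
    refine ⟨z, hz, fun e => ?_⟩
    have h1 : f z _ = f y _ := hz' 0
    simp only [Matrix.cons_val_zero] at h1
    rw [e, zero_left hf, hy] at h1
    exact zero_ne_one h1
  set D := d v0 with hD
  let S : Submodule F (Fin n → F) :=
    { carrier := {v | ∀ x, f (g.val *ᵥ x) (g.val *ᵥ v) = D * f x v}
      zero_mem' := fun x => by simp [zero_right hf]
      add_mem' := fun {v v'} h h' x => by
        rw [Matrix.mulVec_add, add_right hf, h x, h' x, add_right hf, mul_add]
      smul_mem' := fun c v h x => by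
        rw [Matrix.mulVec_smul, smul_right hf, h x, smul_right hf]; ring }
  have hiso : ∀ v, f v v = 0 → v ∈ S := by
    intro v hv x
    by_cases hv' : v = 0
    · simp [hv', zero_right hf]
    · rw [(hd v hv hv').2.2 x, hconst v v0 hv hv' hv0 hv00]
  refine hns ⟨Units.mk0 D (hd v0 hv0 hv00).2.1, fun x v => ?_⟩
  suffices v ∈ S from this x
  by_cases hv : f v v = 0
  · exact hiso v hv
  obtain ⟨y, hy, hyv⟩ := H65.UnitarySix.exists_aniso hf hn' ![v] (Or.inl (by norm_num))
  have hyv : f y v = 0 := by simpa using hyv 0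
  obtain ⟨s, hs⟩ := exists_norm hf (t := -f v v / f y y)
    (by rw [map_div₀, map_neg, self_fixed hf, self_fixed hf])
  have hs0 : s ≠ 0 := fun e => hv (by
    rw [e, mul_zero, eq_comm, div_eq_zero_iff] at hs
    exact neg_eq_zero.mp (hs.resolve_right hy))
  obtain ⟨l, hl, hl1⟩ := exists_norm_one hf
  have key : ∀ s' : F, σ s' * s' = σ s * s → v + s' • y ∈ S := fun s' hs' => hiso _ (by
    simp only [hf.add_left, add_right hf, hf.smul_left, smul_right hf, hyv, symm_zero hf hyv]
    field_simp at hs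
    linear_combination f y y * hs' + hs)
  have k1 := key s rfl
  have k2 := key (l * s) (by rw [map_mul]; linear_combination σ s * s * hl)
  have k3 : y ∈ S := by
    have := S.smul_mem ((l * s - s)⁻¹) (S.sub_mem k2 k1)
    rw [add_sub_add_left_eq_sub, ← sub_smul, inv_smul_smul₀] at this
    · exact this
    · rw [← sub_one_mul]
      exact mul_ne_zero (sub_ne_zero.mpr hl1) hs0
  simpa using S.sub_mem k1 (S.smul_mem s k3)

/-- A subgroup with all unitary transvections and a non-similarity contains every elementary transvection. -/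
theorem full_of_not_similar {g : GL (Fin n) F} (hg : g ∈ X) (hns : g ∉ Cfsg.Geo.similarityGroup f) :
    ∀ i j (hij : i ≠ j) (c : F), H49.elem i j hij c ∈ X := by
  obtain ⟨u, w, hu, hw, hp, hne⟩ := H65.UnitarySix.exists_nonprop hf hn hU hg hns
  exact full_of_all hf fun hu' h' => H65.UnitarySix.pair_all hf hn hU hu hw hp hne hu' h'

end Pairs

end H65.UnitarySix

open Cfsg

namespace H65.UnitarySix

open scoped Matrix

/-- The stabiliser is maximal in `SL_n` from dimension six on. -/
theorem maximal {F : Type*} [Field F] [Fintype F] (n : ℕ) (hn : 6 ≤ n) (σ : F ≃+* F) (f : (Fin n → F) → (Fin n → F) → F) (hf : Cfsg.Geo.IsUnitaryForm σ f) : Cfsg.Geo.IsMaximalIn (Cfsg.Geo.specialLinear (Fin n) F) (Cfsg.Geo.similarityGroup f ⊓ Cfsg.Geo.specialLinear (Fin n) F) := by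
  haveI : Nontrivial (Fin n) := Fin.nontrivial_iff_two_le.mpr (by omega)
  set N := Cfsg.Geo.similarityGroup f ⊓ Cfsg.Geo.specialLinear (Fin n) F with hN
  have hU : H61.Unitary.HasUnitary σ f N := by
    intro z a hz ha
    have hσσ : σ (σ a) = a := hf.involutive a
    obtain ⟨g, hg, he⟩ := H42.LinGenUnitary.exists_tr hf z (σ a • z) (by rw [H61.Unitary.smul_right hf, hz, mul_zero])
    have he' : ∀ x, g.val *ᵥ x = x + (a * f x z) • z := fun x => by
      rw [he, H61.Unitary.smul_right hf, hσσ]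
    refine ⟨g, Subgroup.mem_inf.mpr ⟨⟨1, fun x y => ?_⟩, hg⟩, he'⟩
    rw [he', he', hf.add_left, hf.smul_left, H61.Unitary.add_right hf, H61.Unitary.add_right hf,
      H61.Unitary.smul_right hf, H61.Unitary.smul_right hf, hz, map_mul, ← hf.herm z y, ha, Units.val_one]
    ring
  refine ⟨lt_of_le_of_ne inf_le_right fun heq => ?_, fun M hle hMS => ?_⟩
  · -- a transvection that is not a similarity
    have hne : (Pi.single ⟨0, by omega⟩ 1 : Fin n → F) ≠ 0 := by simp
    obtain ⟨y0, hy0⟩ := H61.Unitary.exists_apply_eq_one hf hne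
    obtain ⟨u, hu, hu'⟩ := H65.UnitarySix.exists_iso hf (by omega) (k := 1) (by omega) y0
      ![Pi.single ⟨0, by omega⟩ 1]
    have hu0 : u ≠ 0 := fun e => by
      have h1 : f u _ = f y0 _ := hu' 0
      simp only [Matrix.cons_val_zero] at h1
      rw [e, H61.Unitary.zero_left hf, hy0] at h1
      exact zero_ne_one h1
    obtain ⟨w, hw, hwu⟩ := H65.UnitarySix.exists_aniso hf (by omega) ![u] (Or.inl (by norm_num))
    have hwu : f w u = 0 := by simpa using hwu 0
    have huw : f u w = 0 := H61.Unitary.symm_zero hf hwu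
    obtain ⟨g, hg, he⟩ := H42.LinGenUnitary.exists_tr hf u w huw
    have hgN : g ∈ N := by rw [heq]; exact hg
    obtain ⟨⟨c, hc⟩, -⟩ := hgN
    have hexp : ∀ x y, f x y + f x w * f u y + σ (f y w) * f x u = (c : F) * f x y := by
      intro x y
      have h := hc x y
      rw [he, he, hf.add_left, hf.smul_left, H61.Unitary.add_right hf, H61.Unitary.add_right hf,
        H61.Unitary.smul_right hf, H61.Unitary.smul_right hf, hu] at h
      linear_combination h
    obtain ⟨x0, hx0⟩ := H61.Unitary.exists_apply_eq_one hf hu0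
    have hux : f u x0 = 1 := by rw [hf.herm, hx0, map_one]
    have hc1 : (c : F) = 1 := by
      have := hexp u x0
      rw [huw, hu, hux] at this
      linear_combination -this
    obtain ⟨y, hyu, hyw⟩ := H61.Unitary.exists_perp_apply_ne hf (w := w) hu0 fun d hd => hw (by
      have e : f w w = f w (d • u) := congrArg (f w) hd
      rw [H61.Unitary.smul_right hf, hwu, mul_zero] at e
      exact e)
    have := hexp x0 y
    rw [hc1, H61.Unitary.symm_zero hf hyu, hx0] at this
    exact hyw ((RingEquiv.map_eq_zero_iff σ).mp (by linear_combination this))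
  by_cases hs : M ≤ Cfsg.Geo.similarityGroup f
  · exact Or.inl (le_antisymm (le_inf hs hMS) hle)
  obtain ⟨g, hg, hns⟩ := SetLike.not_le_iff_exists.mp hs
  refine Or.inr (le_antisymm hMS fun s hs' => ?_)
  have hUM : H61.Unitary.HasUnitary σ f M := fun z a hz ha => by
    obtain ⟨T, hT, he⟩ := hU z a hz ha
    exact ⟨T, hle hT, he⟩
  exact H49.sl_le_of_elem_mem M (H65.UnitarySix.full_of_not_similar hf hn hUM hg hns) s
    (congrArg Units.val (show Matrix.GeneralLinearGroup.det s = 1 from hs'))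

end H65.UnitarySix
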